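import Mathlib
import Cfsg.Prelude.Def_OddOrderChar
import Cfsg.Agent.Lib.Helper24.CharAlgebra

/-!
# Generalized characters: integer multiplicities, norm one (helper8's shared library)
-/

set_option autoImplicit false

namespace Cfsg.Agent.Helper8

open Cfsg Cfsg.Agent.Helper24
open scoped ComplexConjugate

universe u

section GenChar

variable {G : Type u} [Group G] [Fintype G]

/-- a generalized character is a class function -/
theorem isClassFunction_of_isGeneralizedCharacter {θ : G → ℂ}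
    (h : Cfsg.IsGeneralizedCharacter G θ) : Cfsg.IsClassFunction G θ := by
  obtain ⟨χ, ψ, hχ, hψ, rfl⟩ := h
  intro g x
  simp only [Pi.sub_apply]
  rw [isClassFunction_of_isCharacter hχ g x, isClassFunction_of_isCharacter hψ g x]

/-- the multiplicities of a generalized character are integers -/
theorem genChar_inner_int [Fintype (IrrCharacter G)] {θ : G → ℂ}
    (h : Cfsg.IsGeneralizedCharacter G θ) (μ : IrrCharacter G) :
    ∃ m : ℤ, Cfsg.classInner θ (μ : G → ℂ) = m := by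
  obtain ⟨χ, ψ, hχ, hψ, rfl⟩ := h
  obtain ⟨a, ha⟩ := (isCharacter_decomp hχ).1 μ
  obtain ⟨b, hb⟩ := (isCharacter_decomp hψ).1 μ
  refine ⟨(a : ℤ) - b, ?_⟩
  have : χ - ψ = χ + (-1 : ℂ) • ψ := by
    ext g; simp [sub_eq_add_neg]
  rw [this, Helper24.classInner_add_left, Helper24.classInner_smul_left, ha, hb]
  push_cast
  ring

/-- the inner product of two generalized characters is an integer -/
theorem genChar_inner_genChar_int {θ η : G → ℂ}
    (hθ : Cfsg.IsGeneralizedCharacter G θ) (hη : Cfsg.IsGeneralizedCharacter G η) :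
    ∃ m : ℤ, Cfsg.classInner θ η = m := by
  classical
  letI : Fintype (IrrCharacter G) := irrFintype
  rw [classInner_eq_sum_mul (isClassFunction_of_isGeneralizedCharacter hθ)]
  choose a ha using genChar_inner_int hθ
  choose b hb using genChar_inner_int hη
  refine ⟨∑ μ : IrrCharacter G, a μ * b μ, ?_⟩
  push_cast
  refine Finset.sum_congr rfl fun μ _ => ?_
  rw [ha, hb, map_intCast]

/-- **a generalized character of norm one is `±` an irreducible character** -/
theorem genChar_norm_one {θ : G → ℂ} (hθ : Cfsg.IsGeneralizedCharacter G θ)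
    (h : Cfsg.classInner θ θ = 1) :
    Cfsg.IsIrrCharacter G θ ∨ Cfsg.IsIrrCharacter G (-θ) := by
  classical
  letI : Fintype (IrrCharacter G) := irrFintype
  have hcf := isClassFunction_of_isGeneralizedCharacter hθ
  choose a ha using genChar_inner_int hθ
  rw [classInner_eq_sum_mul hcf] at h
  have hsum : ∑ μ : IrrCharacter G, a μ * a μ = 1 := by
    have : ((∑ μ : IrrCharacter G, a μ * a μ : ℤ) : ℂ) = 1 := by
      rw [← h]
      push_cast
      refine Finset.sum_congr rfl fun μ _ => ?_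
      rw [ha, map_intCast]
    exact_mod_cast this
  obtain ⟨μ₀, -, hμ₀⟩ : ∃ μ ∈ (Finset.univ : Finset (IrrCharacter G)), a μ * a μ ≠ 0 := by
    apply Finset.exists_ne_zero_of_sum_ne_zero
    rw [hsum]
    exact one_ne_zero
  have hsplit := Finset.add_sum_erase Finset.univ (fun μ => a μ * a μ) (Finset.mem_univ μ₀)
  rw [hsum] at hsplit
  have hnonneg : 0 ≤ ∑ x ∈ Finset.univ.erase μ₀, a x * a x :=
    Finset.sum_nonneg fun x _ => mul_self_nonneg (a x)
  have ha0 : a μ₀ ≠ 0 := fun h0 => hμ₀ (by rw [h0]; ring)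
  have hsq : a μ₀ * a μ₀ = 1 := by
    have h1 : 1 ≤ a μ₀ * a μ₀ := by
      have : 0 < a μ₀ * a μ₀ := mul_self_pos.mpr ha0
      omega
    omega
  have hrest : ∑ x ∈ Finset.univ.erase μ₀, a x * a x = 0 := by omega
  have hzero : ∀ μ : IrrCharacter G, μ ≠ μ₀ → a μ = 0 := by
    intro μ hμ
    have := (Finset.sum_eq_zero_iff_of_nonneg (fun x _ => mul_self_nonneg (a x))).mp hrest μ
      (Finset.mem_erase.mpr ⟨hμ, Finset.mem_univ _⟩)
    exact mul_self_eq_zero.mp this
  have hexp : θ = ((a μ₀ : ℤ) : ℂ) • (μ₀ : G → ℂ) := by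
    conv_lhs => rw [classFunction_expansion hcf]
    rw [Finset.sum_eq_single μ₀]
    · rw [ha]
    · intro μ _ hμ
      rw [ha, hzero μ hμ]
      simp
    · intro hn
      exact absurd (Finset.mem_univ _) hn
  have h1 : a μ₀ = 1 ∨ a μ₀ = -1 := by
    have : (a μ₀ - 1) * (a μ₀ + 1) = 0 := by
      have e : (a μ₀ - 1) * (a μ₀ + 1) = a μ₀ * a μ₀ - 1 := by ring
      rw [e, hsq]; ring
    rcases mul_eq_zero.mp this with h | h
    · left; omega
    · right; omega
  rcases h1 with h1 | h1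
  · left
    rw [hexp, h1]
    simpa using μ₀.2
  · right
    rw [hexp, h1]
    simpa using μ₀.2



/-- **a generalized character of norm two vanishing at `1` is a difference of two distinct
irreducible characters** -/
theorem genChar_norm_two {θ : G → ℂ} (hθ : Cfsg.IsGeneralizedCharacter G θ)
    (h : Cfsg.classInner θ θ = 2) (h1 : θ 1 = 0) :
    ∃ μ₁ μ₂ : G → ℂ, Cfsg.IsIrrCharacter G μ₁ ∧ Cfsg.IsIrrCharacter G μ₂ ∧ μ₁ ≠ μ₂ ∧
      θ = μ₁ - μ₂ := by
  classical
  letI : Fintype (IrrCharacter G) := irrFintype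
  have hcf := isClassFunction_of_isGeneralizedCharacter hθ
  choose a ha using genChar_inner_int hθ
  rw [classInner_eq_sum_mul hcf] at h
  have hsum : ∑ μ : IrrCharacter G, a μ * a μ = 2 := by
    have : ((∑ μ : IrrCharacter G, a μ * a μ : ℤ) : ℂ) = 2 := by
      rw [← h]
      push_cast
      refine Finset.sum_congr rfl fun μ _ => ?_
      rw [ha, map_intCast]
    exact_mod_cast this
  -- first constituent
  obtain ⟨μ₁, -, hμ₁⟩ : ∃ μ ∈ (Finset.univ : Finset (IrrCharacter G)), a μ * a μ ≠ 0 := by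
    apply Finset.exists_ne_zero_of_sum_ne_zero
    rw [hsum]
    norm_num
  have hsplit := Finset.add_sum_erase Finset.univ (fun μ => a μ * a μ) (Finset.mem_univ μ₁)
  rw [hsum] at hsplit
  have hnonneg : 0 ≤ ∑ x ∈ Finset.univ.erase μ₁, a x * a x :=
    Finset.sum_nonneg fun x _ => mul_self_nonneg (a x)
  have ha0 : a μ₁ ≠ 0 := fun h0 => hμ₁ (by rw [h0]; ring)
  have hsq1 : a μ₁ * a μ₁ = 1 := by
    have hpos : 0 < a μ₁ * a μ₁ := mul_self_pos.mpr ha0
    have hle : a μ₁ * a μ₁ ≤ 2 := by omega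
    by_contra hne
    have h2 : a μ₁ * a μ₁ = 2 := by omega
    -- no integer squares to two
    have : a μ₁ ≤ 1 ∧ -1 ≤ a μ₁ := by
      constructor <;> nlinarith
    have hcases : a μ₁ = -1 ∨ a μ₁ = 0 ∨ a μ₁ = 1 := by omega
    rcases hcases with hc | hc | hc <;> rw [hc] at h2 <;> norm_num at h2
  have hrest : ∑ x ∈ Finset.univ.erase μ₁, a x * a x = 1 := by omega
  -- second constituent
  obtain ⟨μ₂, hμ₂mem, hμ₂⟩ : ∃ μ ∈ Finset.univ.erase μ₁, a μ * a μ ≠ 0 := by
    apply Finset.exists_ne_zero_of_sum_ne_zero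
    rw [hrest]
    norm_num
  have hne12 : μ₂ ≠ μ₁ := (Finset.mem_erase.mp hμ₂mem).1
  have hsplit2 := Finset.add_sum_erase (Finset.univ.erase μ₁) (fun μ => a μ * a μ) hμ₂mem
  rw [hrest] at hsplit2
  have hnonneg2 : 0 ≤ ∑ x ∈ (Finset.univ.erase μ₁).erase μ₂, a x * a x :=
    Finset.sum_nonneg fun x _ => mul_self_nonneg (a x)
  have hb0 : a μ₂ ≠ 0 := fun h0 => hμ₂ (by rw [h0]; ring)
  have hsq2 : a μ₂ * a μ₂ = 1 := by
    have hpos : 0 < a μ₂ * a μ₂ := mul_self_pos.mpr hb0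
    omega
  have hrest2 : ∑ x ∈ (Finset.univ.erase μ₁).erase μ₂, a x * a x = 0 := by omega
  have hzero : ∀ μ : IrrCharacter G, μ ≠ μ₁ → μ ≠ μ₂ → a μ = 0 := by
    intro μ hμ1 hμ2
    have := (Finset.sum_eq_zero_iff_of_nonneg (fun x _ => mul_self_nonneg (a x))).mp hrest2 μ
      (Finset.mem_erase.mpr ⟨hμ2, Finset.mem_erase.mpr ⟨hμ1, Finset.mem_univ _⟩⟩)
    exact mul_self_eq_zero.mp this
  have hexp : θ = ((a μ₁ : ℤ) : ℂ) • (μ₁ : G → ℂ) + ((a μ₂ : ℤ) : ℂ) • (μ₂ : G → ℂ) := by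
    conv_lhs => rw [classFunction_expansion hcf]
    rw [← Finset.add_sum_erase Finset.univ _ (Finset.mem_univ μ₁),
      ← Finset.add_sum_erase (Finset.univ.erase μ₁) _ hμ₂mem, ha, ha]
    rw [Finset.sum_eq_zero, add_zero]
    intro μ hμ
    obtain ⟨hμ2, hμ'⟩ := Finset.mem_erase.mp hμ
    obtain ⟨hμ1, -⟩ := Finset.mem_erase.mp hμ'
    rw [ha, hzero μ hμ1 hμ2]
    simp
  have hpm : ∀ x : ℤ, x * x = 1 → x = 1 ∨ x = -1 := by
    intro x hx
    have : (x - 1) * (x + 1) = 0 := by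
      have e : (x - 1) * (x + 1) = x * x - 1 := by ring
      rw [e, hx]; ring
    rcases mul_eq_zero.mp this with h | h
    · left; omega
    · right; omega
  obtain ⟨d₁, hd₁pos, hd₁⟩ := irr_one_eq μ₁.2
  obtain ⟨d₂, hd₂pos, hd₂⟩ := irr_one_eq μ₂.2
  have hval : ((a μ₁ : ℤ) : ℂ) * d₁ + ((a μ₂ : ℤ) : ℂ) * d₂ = 0 := by
    have := congrFun hexp 1
    rw [h1] at this
    simp only [Pi.add_apply, Pi.smul_apply, smul_eq_mul, hd₁, hd₂] at this
    exact this.symm
  have hvalZ : a μ₁ * d₁ + a μ₂ * d₂ = 0 := by exact_mod_cast hval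
  have hne' : (μ₁ : G → ℂ) ≠ (μ₂ : G → ℂ) := fun h => hne12 (Subtype.ext h.symm)
  rcases hpm _ hsq1 with e1 | e1 <;> rcases hpm _ hsq2 with e2 | e2
  · exfalso
    rw [e1, e2] at hvalZ
    have : (0 : ℤ) < d₁ := by exact_mod_cast hd₁pos
    have : (0 : ℤ) < d₂ := by exact_mod_cast hd₂pos
    omega
  · refine ⟨μ₁, μ₂, μ₁.2, μ₂.2, hne', ?_⟩
    rw [hexp, e1, e2]
    ext g
    simp [sub_eq_add_neg]
  · refine ⟨μ₂, μ₁, μ₂.2, μ₁.2, fun h => hne' h.symm, ?_⟩
    rw [hexp, e1, e2]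
    ext g
    simp [sub_eq_add_neg, add_comm]
  · exfalso
    rw [e1, e2] at hvalZ
    have : (0 : ℤ) < d₁ := by exact_mod_cast hd₁pos
    have : (0 : ℤ) < d₂ := by exact_mod_cast hd₂pos
    omega

end GenChar

end Cfsg.Agent.Helper8
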