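import Mathlib
import Cfsg.Prelude.Def_OddOrderChar
import Cfsg.Agent.Lib.Helper8.CharExtra

/-!
# More linearity lemmas for `classInner` (helper8's shared library)
-/

set_option autoImplicit false

namespace Cfsg.Agent.Helper8

open Cfsg Cfsg.Agent.Helper24
open scoped ComplexConjugate

universe u

section Inner

variable {X : Type u} [Group X] [Fintype X]

theorem classInner_neg_left (a b : X → ℂ) : Cfsg.classInner (-a) b = -Cfsg.classInner a b := by
  have : -a = (-1 : ℂ) • a := by ext; simp
  rw [this, Helper24.classInner_smul_left]; ring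

theorem classInner_neg_right (a b : X → ℂ) : Cfsg.classInner a (-b) = -Cfsg.classInner a b := by
  have : -b = (-1 : ℂ) • b := by ext; simp
  rw [this, Helper24.classInner_smul_right]; simp

theorem classInner_sub_left (a b c : X → ℂ) :
    Cfsg.classInner (a - b) c = Cfsg.classInner a c - Cfsg.classInner b c := by
  rw [sub_eq_add_neg, Helper24.classInner_add_left, classInner_neg_left]; ring

theorem classInner_sub_right (a b c : X → ℂ) :
    Cfsg.classInner a (b - c) = Cfsg.classInner a b - Cfsg.classInner a c := by
  rw [sub_eq_add_neg, Helper24.classInner_add_right, classInner_neg_right]; ring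

theorem classInner_conjFun_conjFun (a b : X → ℂ) :
    Cfsg.classInner (Cfsg.conjFun a) (Cfsg.conjFun b) = conj (Cfsg.classInner a b) := by
  simp only [Cfsg.classInner, Cfsg.conjFun, map_mul, map_inv₀, map_natCast, map_sum]

theorem classInner_conjFun_left (a b : X → ℂ) :
    Cfsg.classInner (Cfsg.conjFun a) b = conj (Cfsg.classInner a (Cfsg.conjFun b)) := by
  simp only [Cfsg.classInner, Cfsg.conjFun, map_mul, map_inv₀, map_natCast, map_sum,
    Complex.conj_conj]

theorem classInner_zsmul_left (n : ℤ) (a b : X → ℂ) :
    Cfsg.classInner (n • a) b = n * Cfsg.classInner a b := by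
  have : n • a = (n : ℂ) • a := by ext; simp
  rw [this, Helper24.classInner_smul_left]

theorem classInner_zsmul_right (n : ℤ) (a b : X → ℂ) :
    Cfsg.classInner a (n • b) = n * Cfsg.classInner a b := by
  have : n • b = (n : ℂ) • b := by ext; simp
  rw [this, Helper24.classInner_smul_right]; simp

theorem isIrr_conjFun {a : X → ℂ} (h : Cfsg.IsIrrCharacter X a) :
    Cfsg.IsIrrCharacter X (Cfsg.conjFun a) := by
  letI : Fintype (Cfsg.IrrCharacter X) := irrFintype
  exact isIrrCharacter_conj h

omit [Fintype X] in
theorem isGen_of_isCharacter {a : X → ℂ} (h : Cfsg.IsCharacter X a) :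
    Cfsg.IsGeneralizedCharacter X a :=
  ⟨a, 0, h, isCharacter_zero, by simp⟩

omit [Fintype X] in
theorem isGen_neg_of_isCharacter {a : X → ℂ} (h : Cfsg.IsCharacter X a) :
    Cfsg.IsGeneralizedCharacter X (-a) :=
  ⟨0, a, isCharacter_zero, h, by simp⟩

/-- the inner product of two characters is a natural number -/
theorem char_inner_char_nat {a b : X → ℂ} (ha : Cfsg.IsCharacter X a) (hb : Cfsg.IsCharacter X b) :
    ∃ m : ℤ, Cfsg.classInner a b = m :=
  genChar_inner_genChar_int (isGen_of_isCharacter ha) (isGen_of_isCharacter hb)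

end Inner

end Cfsg.Agent.Helper8
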