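import Mathlib

set_option autoImplicit false

namespace Cfsg.Agent.Helper8

open MulAction in
/-- In a finite `p`-group a nontrivial normal subgroup contains a nontrivial central element. -/
theorem exists_mem_center_of_normal_ne_bot {G : Type*} [Group G] [Finite G] {p : ℕ} [Fact p.Prime]
    (hG : IsPGroup p G) (N : Subgroup G) [N.Normal] (hN : N ≠ ⊥) :
    ∃ z ∈ N, z ∈ Subgroup.center G ∧ z ≠ 1 := by
  have hNp : IsPGroup p N := hG.to_subgroup N
  have hnt : Nontrivial N := (Subgroup.nontrivial_iff_ne_bot N).mpr hN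
  have dvd : p ∣ Nat.card N := by
    obtain ⟨n, hn0, hn⟩ := hNp.nontrivial_iff_card.mp hnt
    exact hn.symm ▸ dvd_pow_self _ (ne_of_gt hn0)
  have h1 : (1 : N) ∈ fixedPoints (ConjAct G) N := by
    intro g
    exact smul_one g
  obtain ⟨b, hb, hb1⟩ :=
    (hG.of_equiv ConjAct.toConjAct).exists_fixed_point_of_prime_dvd_card_of_fixed_point N dvd h1
  refine ⟨b, b.2, ?_, ?_⟩
  · rw [Subgroup.mem_center_iff]
    intro g
    have := hb (ConjAct.toConjAct g)
    have h2 : ((ConjAct.toConjAct g • b : N) : G) = (b : G) := by rw [this]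
    rw [ConjAct.Subgroup.val_conj_smul, ConjAct.toConjAct_smul] at h2
    calc g * b = g * b * g⁻¹ * g := by group
      _ = b * g := by rw [h2]
  · intro h
    apply hb1
    exact (Subtype.ext h).symm

/-- A finite `p`-group has a normal abelian subgroup containing its own centralizer. -/
theorem exists_normal_abelian_self_centralizing {R : Type*} [Group R] [Finite R] {p : ℕ}
    [Fact p.Prime] (hR : IsPGroup p R) :
    ∃ A : Subgroup R, A.Normal ∧ IsMulCommutative A ∧ Subgroup.centralizer (A : Set R) ≤ A := by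
  classical
  have hfin : (Set.univ : Set (Subgroup R)).Finite := Set.finite_univ
  let S : Set (Subgroup R) := {A | A.Normal ∧ IsMulCommutative A}
  have hSfin : S.Finite := Set.toFinite S
  have hSne : S.Nonempty := ⟨⊥, inferInstance, inferInstance⟩
  obtain ⟨A, hAmax⟩ := hSfin.exists_maximal hSne
  obtain ⟨⟨hAn, hAc⟩, hmax⟩ := hAmax
  refine ⟨A, hAn, hAc, ?_⟩
  by_contra hnot
  -- C = centralizer of A, normal, contains A
  set C : Subgroup R := Subgroup.centralizer (A : Set R) with hC
  have hAC : A ≤ C := by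
    intro a ha
    rw [hC, Subgroup.mem_centralizer_iff]
    intro b hb
    have := hAc.is_comm.comm (⟨b, hb⟩ : A) ⟨a, ha⟩
    exact congrArg Subtype.val this
  have hCn : C.Normal := Subgroup.normal_centralizer
  -- image of C in R ⧸ A
  let Cbar : Subgroup (R ⧸ A) := C.map (QuotientGroup.mk' A)
  have hCbarN : Cbar.Normal := Subgroup.Normal.map hCn _ (QuotientGroup.mk'_surjective A)
  have hCbar : Cbar ≠ ⊥ := by
    intro h
    apply hnot
    intro c hc
    have : QuotientGroup.mk' A c ∈ Cbar := Subgroup.mem_map_of_mem _ hc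
    rw [h, Subgroup.mem_bot] at this
    exact (QuotientGroup.eq_one_iff c).mp this
  have hQ : IsPGroup p (R ⧸ A) := hR.to_quotient A
  obtain ⟨z, hzC, hzZ, hz1⟩ := exists_mem_center_of_normal_ne_bot hQ Cbar hCbar
  obtain ⟨x, hxC, rfl⟩ := hzC
  have hxA : x ∉ A := by
    intro h
    apply hz1
    exact (QuotientGroup.eq_one_iff x).mpr h
  -- B = closure (A ∪ {x})
  let B : Subgroup R := Subgroup.closure ((A : Set R) ∪ {x})
  have hxB : x ∈ B := Subgroup.subset_closure (Or.inr rfl)
  have hAB : A ≤ B := fun a ha => Subgroup.subset_closure (Or.inl ha)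
  have hxcomm : ∀ a ∈ A, a * x = x * a := by
    intro a ha
    have hxC' : x ∈ Subgroup.centralizer (A : Set R) := hxC
    rw [Subgroup.mem_centralizer_iff] at hxC'
    exact hxC' a ha
  have hBc : IsMulCommutative B := by
    apply Subgroup.isMulCommutative_closure
    rintro a (ha | ha) b (hb | hb)
    · exact congrArg Subtype.val (hAc.is_comm.comm (⟨a, ha⟩ : A) ⟨b, hb⟩)
    · rw [Set.mem_singleton_iff] at hb; subst hb; exact hxcomm a ha
    · rw [Set.mem_singleton_iff] at ha; subst ha; exact (hxcomm b hb).symm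
    · rw [Set.mem_singleton_iff] at ha hb; subst ha; subst hb; rfl
  have hBn : B.Normal := by
    constructor
    intro n hn g
    have hmap : B.map (MulAut.conj g).toMonoidHom ≤ B := by
      rw [MonoidHom.map_closure, Subgroup.closure_le]
      rintro _ ⟨y, hy | hy, rfl⟩
      · exact hAB (hAn.conj_mem y hy g)
      · rw [Set.mem_singleton_iff] at hy
        subst hy
        simp only [MulEquiv.coe_toMonoidHom, MulAut.conj_apply]
        -- y central mod A
        have hcomm := Subgroup.mem_center_iff.mp hzZ (QuotientGroup.mk' A g)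
        have hmem : y⁻¹ * (g * y * g⁻¹) ∈ A := by
          rw [← QuotientGroup.eq_one_iff]
          have e : ((y⁻¹ * (g * y * g⁻¹) : R) : R ⧸ A)
              = (QuotientGroup.mk' A y)⁻¹ * (QuotientGroup.mk' A g * QuotientGroup.mk' A y) * (QuotientGroup.mk' A g)⁻¹ := by
            simp [mul_assoc]
          rw [e, hcomm]
          group
        have : g * y * g⁻¹ = y * (y⁻¹ * (g * y * g⁻¹)) := by group
        rw [this]
        exact B.mul_mem hxB (hAB hmem)
    exact hmap ⟨n, hn, rfl⟩
  exact hxA (hmax ⟨hBn, hBc⟩ hAB hxB)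

end Cfsg.Agent.Helper8
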