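import Mathlib
import Cfsg.Prelude.Def_Characters
import Cfsg.Agent.Lib.Helper24.CharBasic

/-!
# Bounds for character values (helper8's shared library)
-/

set_option autoImplicit false

namespace Cfsg.Agent.Helper8

open Cfsg Cfsg.Agent.Helper24
open scoped ComplexConjugate

universe u

/-- a complex number of norm at most `n` with real part `n` equals `n` -/
theorem eq_of_re_eq_of_norm_le {z : ℂ} {n : ℝ} (hre : z.re = n) (hn : ‖z‖ ≤ n) : z = n := by
  have h0 : 0 ≤ n := le_trans (norm_nonneg z) hn
  have h1 : ‖z‖ ^ 2 ≤ n ^ 2 := by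
    have := norm_nonneg z
    nlinarith
  rw [Complex.sq_norm, Complex.normSq_apply, hre] at h1
  have him : z.im = 0 := by nlinarith [mul_self_nonneg z.im]
  apply Complex.ext
  · simp [hre]
  · simp [him]

/-- the value of a character at `1` is a natural number bounding all its values; a value whose real
part reaches the bound equals the value at `1` -/
theorem char_bound {X : Type u} [Group X] [Finite X] {θ : X → ℂ} (h : Cfsg.IsCharacter X θ) :
    ∃ n : ℕ, θ 1 = n ∧ (∀ g, ‖θ g‖ ≤ n) ∧ ∀ g, (θ g).re = n → θ g = n := by
  obtain ⟨n, ρ, rfl⟩ := h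
  have hfin : Module.finrank ℂ (Fin n → ℂ) = n := Module.finrank_fin_fun ℂ
  refine ⟨n, ?_, ?_, ?_⟩
  · rw [Representation.char_one, hfin]
  · intro g
    have := norm_char_le ρ g
    rwa [hfin] at this
  · intro g hg
    have h1 := norm_char_le ρ g
    rw [hfin] at h1
    have := eq_of_re_eq_of_norm_le hg h1
    simpa using this

end Cfsg.Agent.Helper8
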