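import Mathlib
import Cfsg.Prelude.Def_OddOrderChar
import Cfsg.Agent.Lib.Helper8.CharBound
import Cfsg.Agent.Lib.Helper8.InnerExtra
import Cfsg.Agent.Lib.Helper24.CharHom

/-!
# Irreducible constituents of characters (helper8's shared library)
-/

set_option autoImplicit false

namespace Cfsg.Agent.Helper8

open Cfsg Cfsg.Agent.Helper24
open scoped ComplexConjugate

universe u

section Constituent

variable {X : Type u} [Group X] [Fintype X]

/-- the value of a character as the sum over its constituents -/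
theorem char_apply_eq_sum [Fintype (IrrCharacter X)] {φ : X → ℂ} (hφ : Cfsg.IsCharacter X φ)
    (g : X) :
    φ g = ∑ χ : IrrCharacter X, Cfsg.classInner φ (χ : X → ℂ) * (χ : X → ℂ) g := by
  have h := congrFun (isCharacter_decomp hφ).2 g
  rw [Finset.sum_apply] at h
  simpa using h

/-- a character which does not vanish at `1` has an irreducible constituent -/
theorem exists_constituent {φ : X → ℂ} (hφ : Cfsg.IsCharacter X φ) (h1 : φ 1 ≠ 0) :
    ∃ θ : X → ℂ, Cfsg.IsIrrCharacter X θ ∧ Cfsg.classInner φ θ ≠ 0 := by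
  classical
  letI : Fintype (IrrCharacter X) := irrFintype
  by_contra hcon
  push Not at hcon
  apply h1
  rw [char_apply_eq_sum hφ 1]
  refine Finset.sum_eq_zero fun χ _ => ?_
  rw [hcon χ.1 χ.2, zero_mul]

/-- the multiplicity of an irreducible constituent is a positive natural number -/
theorem constituent_mult {φ θ : X → ℂ} (hφ : Cfsg.IsCharacter X φ)
    (hθ : Cfsg.IsIrrCharacter X θ) (h : Cfsg.classInner φ θ ≠ 0) :
    ∃ m : ℕ, 0 < m ∧ Cfsg.classInner φ θ = m := by
  classical
  letI : Fintype (IrrCharacter X) := irrFintype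
  obtain ⟨m, hm⟩ := (isCharacter_decomp hφ).1 ⟨θ, hθ⟩
  refine ⟨m, ?_, hm⟩
  rcases Nat.eq_zero_or_pos m with h0 | h0
  · exfalso; apply h; rw [hm, h0]; simp
  · exact h0

/-- removing an irreducible constituent from a character leaves a character -/
theorem isCharacter_sub_constituent {φ θ : X → ℂ} (hφ : Cfsg.IsCharacter X φ)
    (hθ : Cfsg.IsIrrCharacter X θ) (h : Cfsg.classInner φ θ ≠ 0) :
    Cfsg.IsCharacter X (φ - θ) := by
  classical
  letI : Fintype (IrrCharacter X) := irrFintype
  obtain ⟨hm, hexp⟩ := isCharacter_decomp hφ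
  choose m hm using hm
  obtain ⟨k, hk, hkeq⟩ := constituent_mult hφ hθ h
  have hmθ : m ⟨θ, hθ⟩ = k := by
    have := hm ⟨θ, hθ⟩
    rw [hkeq] at this
    exact_mod_cast this.symm
  -- new multiplicities
  let m' : IrrCharacter X → ℕ := fun χ => if χ = ⟨θ, hθ⟩ then k - 1 else m χ
  have hnew : φ - θ = ∑ χ : IrrCharacter X, (m' χ : ℂ) • (χ : X → ℂ) := by
    have hθsum : θ = ∑ χ : IrrCharacter X,
        ((if χ = ⟨θ, hθ⟩ then (1 : ℂ) else 0)) • (χ : X → ℂ) := by
      rw [Finset.sum_eq_single (⟨θ, hθ⟩ : IrrCharacter X)]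
      · simp
      · intro χ _ hne
        simp [hne]
      · intro hh; exact absurd (Finset.mem_univ _) hh
    conv_lhs => rw [hexp, hθsum]
    rw [← Finset.sum_sub_distrib]
    refine Finset.sum_congr rfl fun χ _ => ?_
    rw [← sub_smul, hm χ]
    congr 1
    by_cases hχ : χ = ⟨θ, hθ⟩
    · simp only [m', hχ, if_true, hmθ]
      rw [Nat.cast_sub hk]
      simp
    · simp [m', hχ]
  rw [hnew]
  refine isCharacter_sum _ _ fun χ _ => ?_
  exact isCharacter_natCast_smul _ (isCharacter_of_isIrrCharacter χ.2)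

/-- the degree of a constituent is at most the degree of the character -/
theorem constituent_degree_le {φ θ : X → ℂ} (hφ : Cfsg.IsCharacter X φ)
    (hθ : Cfsg.IsIrrCharacter X θ) (h : Cfsg.classInner φ θ ≠ 0) :
    (θ 1).re ≤ (φ 1).re := by
  have hsub := isCharacter_sub_constituent hφ hθ h
  obtain ⟨n, hn, -, -⟩ := char_bound hsub
  have : φ 1 = θ 1 + n := by
    rw [← hn]; simp
  rw [this]
  simp

/-- a constituent of a character is trivial wherever the character is -/
theorem constituent_ker {φ θ : X → ℂ} (hφ : Cfsg.IsCharacter X φ)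
    (hθ : Cfsg.IsIrrCharacter X θ) (h : Cfsg.classInner φ θ ≠ 0) {b : X} (hb : φ b = φ 1) :
    θ b = θ 1 := by
  have hsub := isCharacter_sub_constituent hφ hθ h
  obtain ⟨n, hn, hnle, -⟩ := char_bound hsub
  obtain ⟨k, hk, hkle, hkeq⟩ := char_bound (isCharacter_of_isIrrCharacter hθ)
  -- `φ = θ + (φ - θ)`
  have h1 : θ b + (φ - θ) b = (k : ℂ) + n := by
    rw [← hk, ← hn]
    simp only [Pi.sub_apply]
    rw [add_sub_cancel, hb]; ring
  have h2 := congrArg Complex.re h1
  simp only [Complex.add_re, Complex.natCast_re] at h2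
  have h3 : (θ b).re ≤ k := le_trans (Complex.re_le_norm _) (hkle b)
  have h4 : ((φ - θ) b).re ≤ n := le_trans (Complex.re_le_norm _) (hnle b)
  have h5 : (θ b).re = k := by linarith
  rw [hkeq b h5, hk]

end Constituent

section Schur

variable {X : Type u} [Group X] [Fintype X]

/-- **Schur**: an element which is central modulo the kernel of an irreducible character has a
character value of absolute value the degree -/
theorem norm_eq_of_central_mod_ker {θ : X → ℂ} (hθ : Cfsg.IsIrrCharacter X θ) (d : X)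
    (hd : ∀ c : X, θ (d * c * d⁻¹ * c⁻¹) = θ 1) : ‖θ d‖ = (θ 1).re := by
  obtain ⟨n, σ, hσ, rfl⟩ := hθ
  have hfin : Module.finrank ℂ (Fin n → ℂ) = n := Module.finrank_fin_fun ℂ
  have hcomm : ∀ c : X, σ d ∘ₗ σ c = σ c ∘ₗ σ d := by
    intro c
    have h1 := hd c
    rw [Representation.char_one, char_eq_finrank_iff] at h1
    have h2 : σ d * σ c = σ (d * c * d⁻¹ * c⁻¹) * (σ c * σ d) := by
      rw [← map_mul, ← map_mul, ← map_mul]
      congr 1
      group
    rw [h1, one_mul] at h2
    exact h2
  obtain ⟨lam, hlam⟩ := exists_scalar_of_comm σ hσ (σ d) hcomm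
  have hnt : Nontrivial (Fin n → ℂ) := ((isIrreducible_iff σ).1 hσ).1
  have hnpos : 0 < n := by
    rw [← hfin]; exact Module.finrank_pos
  have hpow : lam ^ Nat.card X = 1 := by
    have h1 : (σ d) ^ Nat.card X = 1 := by
      rw [← map_pow, pow_card_eq_one', map_one]
    rw [hlam, smul_pow, one_pow] at h1
    have h2 := congrArg (LinearMap.trace ℂ (Fin n → ℂ)) h1
    rw [map_smul, LinearMap.trace_one, hfin, smul_eq_mul] at h2
    have hn0 : (n : ℂ) ≠ 0 := by exact_mod_cast hnpos.ne'
    have h3 : lam ^ Nat.card X * (n : ℂ) = 1 * n := by rw [h2]; simp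
    exact mul_right_cancel₀ hn0 h3
  have hnorm : ‖lam‖ = 1 := Complex.norm_eq_one_of_pow_eq_one hpow Nat.card_pos.ne'
  have hval : σ.character d = lam * n := by
    rw [Representation.character, hlam, map_smul, LinearMap.trace_one, hfin, smul_eq_mul]
  rw [hval, Representation.char_one, hfin, norm_mul, hnorm, one_mul]
  simp

end Schur

end Cfsg.Agent.Helper8
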