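import Mathlib
import Cfsg.Prelude.Def_OddOrderChar
import Cfsg.Agent.Lib.Helper8.Constituent
import Cfsg.Agent.Lib.Helper24.CharInduced
import Cfsg.Agent.Lib.Helper24.CharConj

/-!
# Clifford theory at the level of characters (helper8's shared library)
-/

set_option autoImplicit false

namespace Cfsg.Agent.Helper8

open Cfsg Cfsg.Agent.Helper24
open scoped ComplexConjugate

universe u

section Transport

variable {X Y : Type*} [Group X] [Group Y] [Fintype X] [Fintype Y]

/-- the inner product is invariant under group isomorphisms -/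
theorem classInner_comp_equiv (e : X ≃* Y) (a b : Y → ℂ) :
    Cfsg.classInner (a ∘ e) (b ∘ e) = Cfsg.classInner a b := by
  unfold Cfsg.classInner
  have hcard : Nat.card X = Nat.card Y := Nat.card_congr e.toEquiv
  rw [hcard]
  congr 1
  exact Equiv.sum_comp e.toEquiv (fun y => a y * conj (b y))

omit [Fintype X] [Fintype Y] in
theorem isIrrCharacter_comp_equiv (e : X ≃* Y) {a : Y → ℂ} (ha : Cfsg.IsIrrCharacter Y a) :
    Cfsg.IsIrrCharacter X (a ∘ e) :=
  isIrrCharacter_comp_of_surjective e.toMonoidHom e.surjective ha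

end Transport

section Normal

variable {G : Type u} [Group G] [Fintype G] (N : Subgroup G) [N.Normal]

/-- the restriction to the normal subgroup `N` of a function induced from `N` is the averaged sum
of its conjugates -/
theorem indFun_restrict_normal (φ : N → ℂ) (n : N) :
    Cfsg.indFun N φ (n : G) = (Nat.card N : ℂ)⁻¹ * ∑ x : G, Helper24.conjFun N x φ n := by
  rw [Helper24.indFun_apply]
  congr 1
  refine Finset.sum_congr rfl fun x _ => ?_
  have hmem : x⁻¹ * (n : G) * x ∈ N := by
    have := ‹N.Normal›.conj_mem n n.2 x⁻¹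
    simpa using this
  rw [Helper24.extendByZero_of_mem N φ hmem, conjFun_apply]
  congr 1
  apply Subtype.ext
  simp

omit [Fintype G] in
/-- the restriction of a class function of `G` to `N` is invariant under conjugation -/
theorem conjFun_restrict {χ : G → ℂ} (hχ : Cfsg.IsClassFunction G χ) (x : G) :
    Helper24.conjFun N x (fun n : N => χ n) = fun n : N => χ n := by
  ext n
  rw [conjFun_apply]
  show χ ((MulAut.conjNormal x⁻¹ n : N) : G) = χ n
  rw [MulAut.conjNormal_apply]
  exact hχ n x⁻¹

omit [Fintype G] in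
/-- conjugation preserves the inner product of functions on `N` -/
theorem classInner_conjFun [Fintype N] (x : G) (a b : N → ℂ) :
    Cfsg.classInner (Helper24.conjFun N x a) (Helper24.conjFun N x b) = Cfsg.classInner a b :=
  classInner_comp_equiv (MulAut.conjNormal x⁻¹ : N ≃* N) a b

omit [Fintype G] in
/-- the multiplicities of the restriction of a class function are constant on conjugacy orbits -/
theorem classInner_restrict_conjFun [Fintype N] {χ : G → ℂ} (hχ : Cfsg.IsClassFunction G χ)
    (x : G) (φ : N → ℂ) :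
    Cfsg.classInner (fun n : N => χ n) (Helper24.conjFun N x φ) =
      Cfsg.classInner (fun n : N => χ n) φ := by
  conv_lhs => rw [← conjFun_restrict N hχ x]
  exact classInner_conjFun N x _ φ

/-- **Clifford**: two irreducible constituents of the restriction of an irreducible character to a
normal subgroup are conjugate -/
theorem clifford_conj [Fintype N] {ξ : G → ℂ} (hξ : Cfsg.IsIrrCharacter G ξ) {φ φ' : N → ℂ}
    (hφ : Cfsg.IsIrrCharacter N φ) (hφ' : Cfsg.IsIrrCharacter N φ')
    (h : Cfsg.classInner (fun n : N => ξ n) φ ≠ 0)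
    (h' : Cfsg.classInner (fun n : N => ξ n) φ' ≠ 0) :
    ∃ x : G, φ' = Helper24.conjFun N x φ := by
  classical
  letI : Fintype (Cfsg.IrrCharacter N) := irrFintype
  by_contra hcon
  push Not at hcon
  have hξc : Cfsg.IsCharacter G ξ := isCharacter_of_isIrrCharacter hξ
  have hξcf : Cfsg.IsClassFunction G ξ := isClassFunction_of_isCharacter hξc
  have hφc : Cfsg.IsCharacter N φ := isCharacter_of_isIrrCharacter hφ
  have hind : Cfsg.IsCharacter G (Cfsg.indFun N φ) := isCharacter_indFun N hφc
  have hfrob : Cfsg.classInner (Cfsg.indFun N φ) ξ ≠ 0 := by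
    rw [frobenius_reciprocity N φ hξcf]
    intro h0
    apply h
    rw [← Helper24.classInner_conj_symm, h0, map_zero]
  have hD : Cfsg.IsCharacter G (Cfsg.indFun N φ - ξ) := isCharacter_sub_constituent hind hξ hfrob
  have hDN : Cfsg.IsCharacter N (fun n : N => (Cfsg.indFun N φ - ξ) n) := isCharacter_restrict N hD
  have hξN : Cfsg.IsCharacter N (fun n : N => ξ n) := isCharacter_restrict N hξc
  have hφ'c : Cfsg.IsCharacter N φ' := isCharacter_of_isIrrCharacter hφ'
  obtain ⟨a, ha⟩ := classInner_char_nat hDN hφ'c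
  obtain ⟨b, hb⟩ := classInner_char_nat hξN hφ'c
  -- the restriction of the induced character is orthogonal to `φ'`
  have hzero : Cfsg.classInner (fun n : N => Cfsg.indFun N φ n) φ' = 0 := by
    have hres : (fun n : N => Cfsg.indFun N φ (n : G)) =
        ∑ x : G, ((Nat.card N : ℂ)⁻¹ : ℂ) • Helper24.conjFun N x φ := by
      ext n
      rw [indFun_restrict_normal N φ n, Finset.sum_apply, Finset.mul_sum]
      rfl
    rw [hres, Helper24.classInner_sum_left]
    refine Finset.sum_eq_zero fun x _ => ?_
    rw [Helper24.classInner_smul_left, irr_orthogonality (isIrrCharacter_conjFun N x hφ) hφ',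
      if_neg (fun he => hcon x he.symm), mul_zero]
  have hsplit : (fun n : N => Cfsg.indFun N φ (n : G)) =
      (fun n : N => (Cfsg.indFun N φ - ξ) n) + fun n : N => ξ n := by
    ext n
    simp
  rw [hsplit, Helper24.classInner_add_left, ha, hb] at hzero
  have hb0 : b = 0 := by
    have : ((a + b : ℕ) : ℂ) = 0 := by push_cast; exact hzero
    have : a + b = 0 := by exact_mod_cast this
    omega
  apply h'
  rw [hb, hb0]
  simp

end Normal

end Cfsg.Agent.Helper8

namespace Cfsg.Agent.Helper8

open Cfsg Cfsg.Agent.Helper24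
open scoped ComplexConjugate

universe u

section Degree

variable {X : Type u} [Group X] [Fintype X]

/-- a character with the same degree as one of its irreducible constituents equals it -/
theorem eq_of_constituent_of_degree_eq {Φ χ : X → ℂ} (hΦ : Cfsg.IsCharacter X Φ)
    (hχ : Cfsg.IsIrrCharacter X χ) (h : Cfsg.classInner Φ χ ≠ 0) (h1 : Φ 1 = χ 1) : Φ = χ := by
  have hsub := isCharacter_sub_constituent hΦ hχ h
  obtain ⟨n, hn, hnle, -⟩ := char_bound hsub
  have hn0 : n = 0 := by
    have : (n : ℂ) = 0 := by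
      rw [← hn]; simp [h1]
    exact_mod_cast this
  ext g
  have := hnle g
  rw [hn0] at this
  have h0 : (Φ - χ) g = 0 := by
    rw [← norm_le_zero_iff]
    simpa using this
  simpa [sub_eq_zero] using h0

/-- the multiplicity of `η` in the restriction of a character dominates that in the restriction of
an irreducible constituent -/
theorem mult_restrict_ge (K : Subgroup X) [Fintype K] {Φ ψ : X → ℂ} {η : K → ℂ}
    (hΦ : Cfsg.IsCharacter X Φ) (hψ : Cfsg.IsIrrCharacter X ψ) (h : Cfsg.classInner Φ ψ ≠ 0)
    (hη : Cfsg.IsCharacter K η) :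
    (Cfsg.classInner (fun k : K => ψ k) η).re ≤ (Cfsg.classInner (fun k : K => Φ k) η).re := by
  classical
  letI : Fintype (Cfsg.IrrCharacter K) := irrFintype
  have hsub := isCharacter_sub_constituent hΦ hψ h
  have hsubK : Cfsg.IsCharacter K (fun k : K => (Φ - ψ) k) := isCharacter_restrict K hsub
  obtain ⟨a, ha⟩ := classInner_char_nat hsubK hη
  have hsplit : (fun k : K => Φ k) = (fun k : K => (Φ - ψ) k) + fun k : K => ψ k := by
    ext k; simp
  rw [hsplit, Helper24.classInner_add_left, ha]
  simp

/-- the same for two distinct irreducible constituents -/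
theorem mult_restrict_ge_two (K : Subgroup X) [Fintype K] {Φ ψ ψ' : X → ℂ} {η : K → ℂ}
    (hΦ : Cfsg.IsCharacter X Φ) (hψ : Cfsg.IsIrrCharacter X ψ) (hψ' : Cfsg.IsIrrCharacter X ψ')
    (hne : ψ ≠ ψ') (h : Cfsg.classInner Φ ψ ≠ 0) (h' : Cfsg.classInner Φ ψ' ≠ 0)
    (hη : Cfsg.IsCharacter K η) :
    (Cfsg.classInner (fun k : K => ψ k) η).re + (Cfsg.classInner (fun k : K => ψ' k) η).re ≤
      (Cfsg.classInner (fun k : K => Φ k) η).re := by
  have hsub := isCharacter_sub_constituent hΦ hψ h
  have h2 : Cfsg.classInner (Φ - ψ) ψ' ≠ 0 := by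
    rw [classInner_sub_left, irr_orthogonality hψ hψ', if_neg hne, sub_zero]
    exact h'
  have hle := mult_restrict_ge K hsub hψ' h2 hη
  have hsplit : (fun k : K => Φ k) = (fun k : K => (Φ - ψ) k) + fun k : K => ψ k := by
    ext k; simp
  rw [hsplit, Helper24.classInner_add_left, Complex.add_re]
  linarith

end Degree

section Orbit

variable {G : Type u} [Group G] [Fintype G] (N : Subgroup G) [N.Normal] [Fintype N]

/-- **Clifford, degree bound**: if `T` contains the stabiliser of the irreducible character `θ` of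
the normal subgroup `N`, then `|G| ⟨χ_N, θ⟩ θ(1) ≤ |T| χ(1)` for every character `χ` of `G` -/
theorem clifford_degree_ge (T : Subgroup G) {θ : N → ℂ} (hθ : Cfsg.IsIrrCharacter N θ)
    (hT : ∀ y : G, Helper24.conjFun N y θ = θ → y ∈ T) {χ : G → ℂ} (hχ : Cfsg.IsCharacter G χ) :
    (Nat.card G : ℝ) * ((Cfsg.classInner (fun n : N => χ n) θ).re * (θ 1).re) ≤
      (Nat.card T : ℝ) * (χ 1).re := by
  classical
  letI : Fintype (Cfsg.IrrCharacter N) := irrFintype
  have hχcf : Cfsg.IsClassFunction G χ := isClassFunction_of_isCharacter hχ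
  have hχN : Cfsg.IsCharacter N (fun n : N => χ n) := isCharacter_restrict N hχ
  let σ : G → Cfsg.IrrCharacter N := fun x => ⟨Helper24.conjFun N x θ, isIrrCharacter_conjFun N x hθ⟩
  let g : Cfsg.IrrCharacter N → ℝ := fun φ =>
    (Cfsg.classInner (fun n : N => χ n) (φ : N → ℂ)).re * ((φ : N → ℂ) 1).re
  have hg0 : ∀ φ, 0 ≤ g φ := by
    intro φ
    obtain ⟨a, ha⟩ := classInner_char_nat hχN (isCharacter_of_isIrrCharacter φ.2)
    obtain ⟨b, -, hb⟩ := irr_one_eq φ.2
    simp only [g, ha, hb, Complex.natCast_re]
    positivity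
  -- the degree of `χ` as a sum
  have hdeg : (χ 1).re = ∑ φ : Cfsg.IrrCharacter N, g φ := by
    have h1 := char_apply_eq_sum hχN 1
    have h2 := congrArg Complex.re h1
    rw [Complex.re_sum] at h2
    simp only [Subgroup.coe_one] at h2
    rw [h2]
    refine Finset.sum_congr rfl fun φ _ => ?_
    obtain ⟨a, ha⟩ := classInner_char_nat hχN (isCharacter_of_isIrrCharacter φ.2)
    obtain ⟨b, -, hb⟩ := irr_one_eq φ.2
    simp only [g, ha, hb, ← Nat.cast_mul, Complex.natCast_re]
  -- every conjugate contributes the same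
  have hgσ : ∀ x : G, g (σ x) = (Cfsg.classInner (fun n : N => χ n) θ).re * (θ 1).re := by
    intro x
    simp only [g, σ]
    rw [classInner_restrict_conjFun N hχcf x θ, conjFun_apply, map_one]
  -- fibres of `σ` have at most `|T|` elements
  have hfib : ∀ φ : Cfsg.IrrCharacter N, Fintype.card {x : G // σ x = φ} ≤ Nat.card T := by
    intro φ
    by_cases hne : Nonempty {x : G // σ x = φ}
    · obtain ⟨⟨x₀, hx₀⟩⟩ := hne
      rw [Nat.card_eq_fintype_card]
      refine Fintype.card_le_of_injective
        (fun x : {x : G // σ x = φ} => (⟨x₀⁻¹ * x.1, ?_⟩ : T)) ?_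
      · apply hT
        have h1 : Helper24.conjFun N x.1 θ = Helper24.conjFun N x₀ θ := by
          have := x.2.trans hx₀.symm
          exact congrArg Subtype.val this
        rw [conjFun_mul, h1, ← conjFun_mul, inv_mul_cancel, conjFun_one]
      · intro x y hxy
        apply Subtype.ext
        have := congrArg (fun z : T => (z : G)) hxy
        simpa using this
    · rw [not_nonempty_iff] at hne
      rw [Fintype.card_eq_zero]
      exact Nat.zero_le _
  have hsum : ∑ x : G, g (σ x) = ∑ φ : Cfsg.IrrCharacter N,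
      (Fintype.card {x : G // σ x = φ} : ℝ) * g φ := by
    rw [← Fintype.sum_fiberwise' σ g]
    refine Finset.sum_congr rfl fun φ _ => ?_
    rw [Finset.sum_const, Finset.card_univ, nsmul_eq_mul]
  calc (Nat.card G : ℝ) * ((Cfsg.classInner (fun n : N => χ n) θ).re * (θ 1).re)
      = ∑ x : G, g (σ x) := by
        rw [Finset.sum_congr rfl (fun x _ => hgσ x), Finset.sum_const, Finset.card_univ,
          nsmul_eq_mul, Nat.card_eq_fintype_card]
    _ = ∑ φ : Cfsg.IrrCharacter N, (Fintype.card {x : G // σ x = φ} : ℝ) * g φ := hsum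
    _ ≤ ∑ φ : Cfsg.IrrCharacter N, (Nat.card T : ℝ) * g φ := by
        refine Finset.sum_le_sum fun φ _ => ?_
        have : (Fintype.card {x : G // σ x = φ} : ℝ) ≤ (Nat.card T : ℝ) := by
          exact_mod_cast hfib φ
        exact mul_le_mul_of_nonneg_right this (hg0 φ)
    _ = (Nat.card T : ℝ) * (χ 1).re := by rw [← Finset.mul_sum, hdeg]

end Orbit

end Cfsg.Agent.Helper8
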