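import Mathlib

/-!
# Linear characters of a finite abelian group, relative to two subgroups (helper8's shared library)

`A` is a finite group with a commutativity hypothesis `hA` (so that the statements apply
verbatim to subgroup types that only carry a `Group` structure).
-/

set_option autoImplicit false

namespace Cfsg.Agent.Helper8

section Dual

variable {A : Type*} [Group A]

/-- the subgroup of the linear characters of `A` that are trivial on `H` -/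
def trivOn (H : Subgroup A) : Subgroup (A →* ℂˣ) where
  carrier := {φ | ∀ y ∈ H, φ y = 1}
  mul_mem' := by
    intro a b ha hb y hy
    rw [MonoidHom.mul_apply, ha y hy, hb y hy, one_mul]
  one_mem' := by
    intro y _
    rfl
  inv_mem' := by
    intro a ha y hy
    rw [MonoidHom.inv_apply, ha y hy, inv_one]

theorem mem_trivOn {H : Subgroup A} {φ : A →* ℂˣ} : φ ∈ trivOn H ↔ ∀ y ∈ H, φ y = 1 := Iff.rfl

variable [Finite A]

/-- enough characters: an element outside `H` is moved by a character trivial on `H` -/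
theorem exists_hom_ne_one_of_not_mem (hA : ∀ x y : A, x * y = y * x) (H : Subgroup A) {x : A}
    (hx : x ∉ H) : ∃ φ : A →* ℂˣ, (∀ y ∈ H, φ y = 1) ∧ φ x ≠ 1 := by
  let _ : CommGroup A := { ‹Group A› with mul_comm := hA }
  by_contra hcon
  push Not at hcon
  exact hx ((CommGroup.forall_monoidHom_apply_eq_one_iff ℂ H x).mp hcon)

theorem card_hom (hA : ∀ x y : A, x * y = y * x) : Nat.card (A →* ℂˣ) = Nat.card A := by
  let _ : CommGroup A := { ‹Group A› with mul_comm := hA }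
  exact CommGroup.card_monoidHom_of_hasEnoughRootsOfUnity A ℂ

theorem finite_hom (hA : ∀ x y : A, x * y = y * x) : Finite (A →* ℂˣ) := by
  apply Nat.finite_of_card_ne_zero
  rw [card_hom hA]
  exact Nat.card_pos.ne'

theorem card_trivOn (hA : ∀ x y : A, x * y = y * x) (H : Subgroup A) :
    Nat.card ↥(trivOn H) = H.index := by
  let _ : CommGroup A := { ‹Group A› with mul_comm := hA }
  have := CommGroup.card_domRestrictHom_ker ℂ H
  rw [Subgroup.index, ← this]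
  apply Nat.card_congr
  refine Equiv.subtypeEquivRight ?_
  intro φ
  simp [MonoidHom.mem_ker, mem_trivOn]

theorem card_trivOn_pos (hA : ∀ x y : A, x * y = y * x) (H : Subgroup A) :
    0 < Nat.card ↥(trivOn H) := by
  haveI := finite_hom hA
  exact Nat.card_pos

/-- orthogonality for the characters trivial on `H` -/
theorem sum_trivOn (hA : ∀ x y : A, x * y = y * x) (H : Subgroup A) [Fintype ↥(trivOn H)]
    (x : A) [Decidable (x ∈ H)] :
    ∑ φ : ↥(trivOn H), (((φ : A →* ℂˣ) x : ℂˣ) : ℂ)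
      = if x ∈ H then (Nat.card ↥(trivOn H) : ℂ) else 0 := by
  classical
  split_ifs with hx
  · have h1 : ∀ φ : ↥(trivOn H), (((φ : A →* ℂˣ) x : ℂˣ) : ℂ) = 1 := fun φ => by
      rw [φ.2 x hx]; rfl
    simp [h1, Nat.card_eq_fintype_card]
  · obtain ⟨φ₀, hφ₀, hne⟩ := exists_hom_ne_one_of_not_mem hA H hx
    let ev : ↥(trivOn H) →* ℂ :=
      (Units.coeHom ℂ).comp ((MonoidHom.eval x).comp (trivOn H).subtype)
    have hev : ev ≠ 1 := by
      intro h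
      have := DFunLike.congr_fun h ⟨φ₀, hφ₀⟩
      apply hne
      apply Units.ext
      simpa [ev] using this
    have := sum_hom_units_eq_zero ev hev
    simpa [ev] using this

/-- the delta function at a point outside `A₁ ∪ A₂` as a combination of the functions
`(1 - φ)(1 - ψ)` -/
theorem delta_expansion (hA : ∀ x y : A, x * y = y * x) (A₁ A₂ : Subgroup A)
    (hinf : A₁ ⊓ A₂ = ⊥) [Fintype ↥(trivOn A₂)] [Fintype ↥(trivOn A₁)] (w₀ : A)
    (h1 : w₀ ∉ A₁) (h2 : w₀ ∉ A₂) (w : A) [Decidable (w = w₀)] :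
    ∑ φ : ↥(trivOn A₂), ∑ ψ : ↥(trivOn A₁),
      (((φ : A →* ℂˣ) w₀⁻¹ : ℂˣ) : ℂ) * (((ψ : A →* ℂˣ) w₀⁻¹ : ℂˣ) : ℂ) *
        (1 - (((φ : A →* ℂˣ) w : ℂˣ) : ℂ) - (((ψ : A →* ℂˣ) w : ℂˣ) : ℂ)
          + (((φ : A →* ℂˣ) w : ℂˣ) : ℂ) * (((ψ : A →* ℂˣ) w : ℂˣ) : ℂ))
      = if w = w₀ then (Nat.card ↥(trivOn A₂) : ℂ) * (Nat.card ↥(trivOn A₁) : ℂ) else 0 := by
  classical
  have e : ∀ (φ : ↥(trivOn A₂)) (ψ : ↥(trivOn A₁)),
      (((φ : A →* ℂˣ) w₀⁻¹ : ℂˣ) : ℂ) * (((ψ : A →* ℂˣ) w₀⁻¹ : ℂˣ) : ℂ) *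
        (1 - (((φ : A →* ℂˣ) w : ℂˣ) : ℂ) - (((ψ : A →* ℂˣ) w : ℂˣ) : ℂ)
          + (((φ : A →* ℂˣ) w : ℂˣ) : ℂ) * (((ψ : A →* ℂˣ) w : ℂˣ) : ℂ))
      = ((((φ : A →* ℂˣ) w₀⁻¹ : ℂˣ) : ℂ) - (((φ : A →* ℂˣ) (w₀⁻¹ * w) : ℂˣ) : ℂ)) *
        ((((ψ : A →* ℂˣ) w₀⁻¹ : ℂˣ) : ℂ) - (((ψ : A →* ℂˣ) (w₀⁻¹ * w) : ℂˣ) : ℂ)) := by
    intro φ ψ
    rw [map_mul, map_mul, Units.val_mul, Units.val_mul]
    ring
  simp only [e]
  rw [← Finset.sum_mul_sum, Finset.sum_sub_distrib, Finset.sum_sub_distrib,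
    sum_trivOn hA, sum_trivOn hA, sum_trivOn hA, sum_trivOn hA]
  have h1' : w₀⁻¹ ∉ A₁ := fun h => h1 (by simpa using A₁.inv_mem h)
  have h2' : w₀⁻¹ ∉ A₂ := fun h => h2 (by simpa using A₂.inv_mem h)
  rw [if_neg h1', if_neg h2']
  by_cases hw : w = w₀
  · subst hw
    rw [if_pos rfl, inv_mul_cancel, if_pos A₂.one_mem, if_pos A₁.one_mem]
    ring
  · rw [if_neg hw]
    by_cases ha : w₀⁻¹ * w ∈ A₂
    · have hb : w₀⁻¹ * w ∉ A₁ := by
        intro hb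
        have : w₀⁻¹ * w ∈ A₁ ⊓ A₂ := Subgroup.mem_inf.mpr ⟨hb, ha⟩
        rw [hinf, Subgroup.mem_bot] at this
        apply hw
        rw [inv_mul_eq_one] at this
        exact this.symm
      rw [if_neg hb]
      ring
    · rw [if_neg ha]
      ring

/-- `trivOn A₂ × trivOn A₁ → Hom(A, ℂˣ)`, `(φ, ψ) ↦ φ ψ` -/
def mulPair (A₁ A₂ : Subgroup A) (p : ↥(trivOn A₂) × ↥(trivOn A₁)) : A →* ℂˣ :=
  (p.1 : A →* ℂˣ) * (p.2 : A →* ℂˣ)

theorem mulPair_injective (A₁ A₂ : Subgroup A) (hsup : A₁ ⊔ A₂ = ⊤) :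
    Function.Injective (mulPair A₁ A₂) := by
  intro p q h
  have hw : ∀ w, (p.1 : A →* ℂˣ) w * (p.2 : A →* ℂˣ) w
      = (q.1 : A →* ℂˣ) w * (q.2 : A →* ℂˣ) w := fun w => by
    have := DFunLike.congr_fun h w
    simpa only [mulPair, MonoidHom.mul_apply] using this
  have k1 : A₁ ⊔ A₂ ≤ MonoidHom.eqLocus (p.1 : A →* ℂˣ) (q.1 : A →* ℂˣ) := by
    refine sup_le (fun a ha => ?_) (fun a ha => ?_)
    · have := hw a
      rw [p.2.2 a ha, q.2.2 a ha, mul_one, mul_one] at this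
      exact this
    · change (p.1 : A →* ℂˣ) a = (q.1 : A →* ℂˣ) a
      rw [p.1.2 a ha, q.1.2 a ha]
  have k2 : A₁ ⊔ A₂ ≤ MonoidHom.eqLocus (p.2 : A →* ℂˣ) (q.2 : A →* ℂˣ) := by
    refine sup_le (fun a ha => ?_) (fun a ha => ?_)
    · change (p.2 : A →* ℂˣ) a = (q.2 : A →* ℂˣ) a
      rw [p.2.2 a ha, q.2.2 a ha]
    · have := hw a
      rw [p.1.2 a ha, q.1.2 a ha, one_mul, one_mul] at this
      exact this
  rw [hsup] at k1 k2
  apply Prod.ext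
  · apply Subtype.ext
    ext x
    have : (p.1 : A →* ℂˣ) x = (q.1 : A →* ℂˣ) x := k1 (Subgroup.mem_top x)
    rw [this]
  · apply Subtype.ext
    ext x
    have : (p.2 : A →* ℂˣ) x = (q.2 : A →* ℂˣ) x := k2 (Subgroup.mem_top x)
    rw [this]

/-- two homs agreeing on `A₁` and on `A₂` agree on `A₁ ⊔ A₂ = ⊤` -/
theorem hom_eq_of_eqOn_sup (A₁ A₂ : Subgroup A) (hsup : A₁ ⊔ A₂ = ⊤) (f g : A →* ℂˣ)
    (h1 : ∀ a ∈ A₁, f a = g a) (h2 : ∀ a ∈ A₂, f a = g a) : f = g := by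
  have k : A₁ ⊔ A₂ ≤ MonoidHom.eqLocus f g := sup_le (fun a ha => h1 a ha) (fun a ha => h2 a ha)
  rw [hsup] at k
  ext x
  have : f x = g x := k (Subgroup.mem_top x)
  rw [this]

theorem isComplement'_of_comm (hA : ∀ x y : A, x * y = y * x) (A₁ A₂ : Subgroup A)
    (hinf : A₁ ⊓ A₂ = ⊥) (hsup : A₁ ⊔ A₂ = ⊤) : Subgroup.IsComplement' A₁ A₂ := by
  haveI : A₂.Normal := ⟨fun n hn g => by
    rw [hA g n, mul_assoc, mul_inv_cancel, mul_one]; exact hn⟩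
  apply Subgroup.isComplement'_of_disjoint_and_mul_eq_univ (disjoint_iff.mpr hinf)
  rw [← Subgroup.mul_normal, hsup, Subgroup.coe_top]

theorem card_trivOn_of_compl (hA : ∀ x y : A, x * y = y * x) (A₁ A₂ : Subgroup A)
    (hinf : A₁ ⊓ A₂ = ⊥) (hsup : A₁ ⊔ A₂ = ⊤) :
    Nat.card ↥(trivOn A₂) = Nat.card A₁ ∧ Nat.card ↥(trivOn A₁) = Nat.card A₂ := by
  have hc := isComplement'_of_comm hA A₁ A₂ hinf hsup
  refine ⟨?_, ?_⟩
  · rw [card_trivOn hA, hc.index_eq_card]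
  · rw [card_trivOn hA, hc.symm.index_eq_card]

theorem mulPair_bijective (hA : ∀ x y : A, x * y = y * x) (A₁ A₂ : Subgroup A)
    (hinf : A₁ ⊓ A₂ = ⊥) (hsup : A₁ ⊔ A₂ = ⊤) : Function.Bijective (mulPair A₁ A₂) := by
  haveI := finite_hom hA
  rw [Nat.bijective_iff_injective_and_card]
  refine ⟨mulPair_injective A₁ A₂ hsup, ?_⟩
  obtain ⟨h1, h2⟩ := card_trivOn_of_compl hA A₁ A₂ hinf hsup
  rw [Nat.card_prod, h1, h2, card_hom hA, (isComplement'_of_comm hA A₁ A₂ hinf hsup).card_mul_card]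

end Dual

end Cfsg.Agent.Helper8
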