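import Mathlib
import Cfsg.Prelude.Def_OddOrderChar
import Cfsg.Agent.Lib.Helper8.Clifford
import Cfsg.Agent.Lib.Helper8.Dual

/-!
# Clifford theory II: transitivity of induction, invariant characters with abelian quotient
(helper8's shared library)
-/

set_option autoImplicit false

namespace Cfsg.Agent.Helper8

open Cfsg Cfsg.Agent.Helper24
open scoped ComplexConjugate

universe u

section Trans

variable {G : Type u} [Group G] [Fintype G]

/-- two class functions with the same inner products against all irreducible characters agree -/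
theorem classFunction_ext {f g : G → ℂ} (hf : Cfsg.IsClassFunction G f)
    (hg : Cfsg.IsClassFunction G g)
    (h : ∀ χ : G → ℂ, Cfsg.IsIrrCharacter G χ → Cfsg.classInner f χ = Cfsg.classInner g χ) :
    f = g := by
  have hfg : Cfsg.IsClassFunction G (f - g) := by
    intro a b
    simp only [Pi.sub_apply]
    rw [hf a b, hg a b]
  have := classFunction_eq_zero_of_orthogonal hfg (fun χ hχ => by
    rw [classInner_sub_left, h χ hχ, sub_self])
  exact sub_eq_zero.1 this

/-- **transitivity of induction** -/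
theorem indFun_trans (H T : Subgroup G) (hHT : H ≤ T) [Fintype T] (θ : H → ℂ) :
    Cfsg.indFun T (Cfsg.indFun (H.subgroupOf T) (θ ∘ (Subgroup.subgroupOfEquivOfLe hHT))) =
      Cfsg.indFun H θ := by
  classical
  haveI : Fintype H := Fintype.ofFinite H
  haveI : Fintype (H.subgroupOf T) := Fintype.ofFinite _
  apply classFunction_ext (isClassFunction_indFun T _) (isClassFunction_indFun H _)
  intro χ hχ
  have hχcf : Cfsg.IsClassFunction G χ := isClassFunction_of_isIrrCharacter hχ
  have hχT : Cfsg.IsClassFunction T (fun t : T => χ t) := by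
    intro a b
    exact hχcf a b
  rw [frobenius_reciprocity T _ hχcf, frobenius_reciprocity _ _ hχT,
    frobenius_reciprocity H θ hχcf]
  exact classInner_comp_equiv (Subgroup.subgroupOfEquivOfLe hHT) θ (fun h : H => χ h)

end Trans

section Dual

variable {A : Type*} [Group A] [Finite A]

/-- orthogonality for the characters of a finite abelian group -/
theorem sum_hom_apply (hA : ∀ x y : A, x * y = y * x) [Fintype (A →* ℂˣ)] (a : A)
    [Decidable (a = 1)] :
    ∑ φ : A →* ℂˣ, ((φ a : ℂˣ) : ℂ) = if a = 1 then (Nat.card A : ℂ) else 0 := by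
  classical
  split_ifs with ha
  · subst ha
    simp only [map_one, Units.val_one, Finset.sum_const, Finset.card_univ, nsmul_eq_mul, mul_one]
    rw [← Nat.card_eq_fintype_card, card_hom hA]
  · have hx : a ∉ (⊥ : Subgroup A) := by
      rw [Subgroup.mem_bot]; exact ha
    obtain ⟨φ₀, -, hne⟩ := exists_hom_ne_one_of_not_mem hA ⊥ hx
    let ev : (A →* ℂˣ) →* ℂ := (Units.coeHom ℂ).comp (MonoidHom.eval a)
    have hev : ev ≠ 1 := by
      intro h
      have := DFunLike.congr_fun h φ₀
      apply hne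
      apply Units.ext
      simpa [ev] using this
    have := sum_hom_units_eq_zero ev hev
    simpa [ev] using this

end Dual

section Invariant

variable {X : Type u} [Group X] [Fintype X] (N : Subgroup X) [N.Normal] [Fintype N]

/-- the restriction to `N` of an irreducible character lying over an invariant irreducible
character `θ` is a multiple of `θ` -/
theorem restrict_eq_smul_of_invariant {θ : N → ℂ} (hθ : Cfsg.IsIrrCharacter N θ)
    (hinv : ∀ x : X, Helper24.conjFun N x θ = θ) {ψ : X → ℂ} (hψ : Cfsg.IsIrrCharacter X ψ)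
    (h : Cfsg.classInner (fun n : N => ψ n) θ ≠ 0) :
    (fun n : N => ψ n) = Cfsg.classInner (fun n : N => ψ n) θ • θ := by
  classical
  letI : Fintype (Cfsg.IrrCharacter N) := irrFintype
  have hψN : Cfsg.IsCharacter N (fun n : N => ψ n) :=
    isCharacter_restrict N (isCharacter_of_isIrrCharacter hψ)
  ext n
  rw [char_apply_eq_sum hψN n, Finset.sum_eq_single (⟨θ, hθ⟩ : Cfsg.IrrCharacter N)]
  · rfl
  · intro φ _ hne
    have h0 : Cfsg.classInner (fun n : N => ψ n) (φ : N → ℂ) = 0 := by
      by_contra hne0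
      obtain ⟨s, hs⟩ := clifford_conj N hψ hθ φ.2 h hne0
      rw [hinv s] at hs
      exact hne (Subtype.ext hs)
    rw [h0, zero_mul]
  · intro hh; exact absurd (Finset.mem_univ _) hh

/-- the function induced from the restriction of a class function to a normal subgroup -/
theorem indFun_restrict_self {ψ : X → ℂ} (hψ : Cfsg.IsClassFunction X ψ) (t : X)
    [Decidable (t ∈ N)] :
    Cfsg.indFun N (fun n : N => ψ n) t = if t ∈ N then (N.index : ℂ) * ψ t else 0 := by
  rw [Helper24.indFun_apply]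
  have hcardN : (Nat.card N : ℂ) ≠ 0 := by
    exact_mod_cast (Nat.card_pos (α := N)).ne'
  split_ifs with ht
  · have : ∀ x : X, Cfsg.extendByZero N (fun n : N => ψ n) (x⁻¹ * t * x) = ψ t := by
      intro x
      have hmem : x⁻¹ * t * x ∈ N := by
        have := ‹N.Normal›.conj_mem t ht x⁻¹
        simpa using this
      rw [Helper24.extendByZero_of_mem N _ hmem]
      have := hψ t x⁻¹
      simpa using this
    rw [Finset.sum_congr rfl (fun x _ => this x), Finset.sum_const, Finset.card_univ,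
      nsmul_eq_mul, ← Nat.card_eq_fintype_card, ← Subgroup.card_mul_index N]
    push_cast
    field_simp
  · have : ∀ x : X, Cfsg.extendByZero N (fun n : N => ψ n) (x⁻¹ * t * x) = 0 := by
      intro x
      apply Helper24.extendByZero_of_not_mem
      intro hmem
      apply ht
      have := ‹N.Normal›.conj_mem _ hmem x
      simpa [mul_assoc] using this
    rw [Finset.sum_congr rfl (fun x _ => this x)]
    simp

end Invariant

end Cfsg.Agent.Helper8

namespace Cfsg.Agent.Helper8

open Cfsg Cfsg.Agent.Helper24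
open scoped ComplexConjugate

universe u

section Abelian

variable {X : Type u} [Group X] [Fintype X] (N : Subgroup X) [N.Normal]

/-- the linear character of `X` attached to a homomorphism of `X ⧸ N` -/
noncomputable def liftLin (lam : (X ⧸ N) →* ℂˣ) : X → ℂ :=
  fun t => ((lam (QuotientGroup.mk t) : ℂˣ) : ℂ)

omit [Fintype X] in
theorem liftLin_isCharacter (lam : (X ⧸ N) →* ℂˣ) : Cfsg.IsCharacter X (liftLin N lam) :=
  isCharacter_of_isIrrCharacter (isIrrCharacter_of_monoidHom (lam.comp (QuotientGroup.mk' N)))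

omit [Fintype X] in
theorem liftLin_of_mem (lam : (X ⧸ N) →* ℂˣ) {t : X} (ht : t ∈ N) : liftLin N lam t = 1 := by
  unfold liftLin
  rw [(QuotientGroup.eq_one_iff t).2 ht, map_one, Units.val_one]

omit [Fintype X] in
theorem liftLin_one (lam : (X ⧸ N) →* ℂˣ) : liftLin N lam 1 = 1 :=
  liftLin_of_mem N lam N.one_mem

omit [Fintype X] in
theorem quotient_comm (hab : ∀ x y : X, x * y * x⁻¹ * y⁻¹ ∈ N) (a b : X ⧸ N) : a * b = b * a := by
  induction a using QuotientGroup.induction_on with
  | H x =>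
    induction b using QuotientGroup.induction_on with
    | H y =>
      rw [← QuotientGroup.mk_mul, ← QuotientGroup.mk_mul, QuotientGroup.eq]
      have := hab y⁻¹ x⁻¹
      simpa [mul_assoc] using this

theorem sum_liftLin (hab : ∀ x y : X, x * y * x⁻¹ * y⁻¹ ∈ N) [Fintype ((X ⧸ N) →* ℂˣ)] (t : X)
    [Decidable (t ∈ N)] :
    ∑ lam : (X ⧸ N) →* ℂˣ, liftLin N lam t = if t ∈ N then (N.index : ℂ) else 0 := by
  classical
  have h := sum_hom_apply (quotient_comm N hab) (QuotientGroup.mk t : X ⧸ N)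
  unfold liftLin
  rw [h, Subgroup.index_eq_card]
  by_cases ht : t ∈ N
  · rw [if_pos ht, if_pos ((QuotientGroup.eq_one_iff t).2 ht)]
  · rw [if_neg ht, if_neg (fun h1 => ht ((QuotientGroup.eq_one_iff t).1 h1))]

variable [Fintype N]

/-- two irreducible characters over the same invariant character of `N`, with `X ⧸ N` abelian,
differ by a linear character of `X ⧸ N` -/
theorem exists_liftLin_mul (hab : ∀ x y : X, x * y * x⁻¹ * y⁻¹ ∈ N) {θ : N → ℂ}
    (hθ : Cfsg.IsIrrCharacter N θ) (hinv : ∀ x : X, Helper24.conjFun N x θ = θ) {ψ ψ' : X → ℂ}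
    (hψ : Cfsg.IsIrrCharacter X ψ) (hψ' : Cfsg.IsIrrCharacter X ψ')
    (h : Cfsg.classInner (fun n : N => ψ n) θ ≠ 0)
    (h' : Cfsg.classInner (fun n : N => ψ' n) θ ≠ 0) :
    ∃ lam : (X ⧸ N) →* ℂˣ, ψ' = ψ * liftLin N lam := by
  classical
  haveI : Finite ((X ⧸ N) →* ℂˣ) := finite_hom (quotient_comm N hab)
  haveI : Fintype ((X ⧸ N) →* ℂˣ) := Fintype.ofFinite _
  have hψcf : Cfsg.IsClassFunction X ψ := isClassFunction_of_isIrrCharacter hψ
  have hψ'cf : Cfsg.IsClassFunction X ψ' := isClassFunction_of_isIrrCharacter hψ'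
  have hres := restrict_eq_smul_of_invariant N hθ hinv hψ h
  -- the induced function of the restriction, in two ways
  have hind1 : Cfsg.indFun N (fun n : N => ψ n) =
      Cfsg.classInner (fun n : N => ψ n) θ • Cfsg.indFun N θ := by
    conv_lhs => rw [hres]
    exact indFun_smul N _ θ
  have hind2 : Cfsg.indFun N (fun n : N => ψ n) = ∑ lam : (X ⧸ N) →* ℂˣ, ψ * liftLin N lam := by
    ext t
    rw [indFun_restrict_self N hψcf t, Finset.sum_apply]
    simp only [Pi.mul_apply]
    rw [← Finset.mul_sum, sum_liftLin N hab t]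
    split_ifs <;> ring
  have hne : Cfsg.classInner (Cfsg.indFun N (fun n : N => ψ n)) ψ' ≠ 0 := by
    rw [hind1, Helper24.classInner_smul_left, frobenius_reciprocity N θ hψ'cf]
    refine mul_ne_zero h ?_
    intro h0
    apply h'
    rw [← Helper24.classInner_conj_symm, h0, map_zero]
  rw [hind2, Helper24.classInner_sum_left] at hne
  obtain ⟨lam, -, hlam⟩ := Finset.exists_ne_zero_of_sum_ne_zero hne
  refine ⟨lam, ?_⟩
  have hirr : Cfsg.IsIrrCharacter X (ψ * liftLin N lam) := by
    letI : Fintype (Cfsg.IrrCharacter X) := irrFintype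
    exact isIrrCharacter_mul_linear hψ (liftLin_isCharacter N lam) (liftLin_one N lam)
  rw [irr_orthogonality hirr hψ'] at hlam
  by_contra hcon
  rw [if_neg (fun he => hcon he.symm)] at hlam
  exact hlam rfl

/-- **induction of an invariant character with abelian quotient** -/
theorem induced_invariant_abelian (hab : ∀ x y : X, x * y * x⁻¹ * y⁻¹ ∈ N) {θ : N → ℂ}
    (hθ : Cfsg.IsIrrCharacter N θ) (hinv : ∀ x : X, Helper24.conjFun N x θ = θ) :
    ∃ (e : ℕ) (C : Finset (Cfsg.IrrCharacter X)), 0 < e ∧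
      Cfsg.indFun N θ = (e : ℂ) • ∑ ψ ∈ C, (ψ : X → ℂ) ∧
      (∀ ψ ∈ C, (fun n : N => (ψ : X → ℂ) n) = (e : ℂ) • θ) ∧
      e ^ 2 * C.card = N.index ∧
      (∀ ψ ∈ C, Cfsg.classInner (Cfsg.indFun N θ) (ψ : X → ℂ) ≠ 0) := by
  classical
  letI : Fintype (Cfsg.IrrCharacter X) := irrFintype
  have hθc : Cfsg.IsCharacter N θ := isCharacter_of_isIrrCharacter hθ
  have hind : Cfsg.IsCharacter X (Cfsg.indFun N θ) := isCharacter_indFun N hθc
  obtain ⟨d, hdpos, hd⟩ := irr_one_eq hθ
  have hipos : 0 < N.index := Nat.pos_of_ne_zero Subgroup.index_ne_zero_of_finite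
  have hind1 : Cfsg.indFun N θ 1 = ((N.index * d : ℕ) : ℂ) := by
    rw [Helper24.indFun_one, hd]; push_cast; ring
  have hind1_ne : Cfsg.indFun N θ 1 ≠ 0 := by
    rw [hind1, Nat.cast_ne_zero]
    positivity
  obtain ⟨ψ₀, hψ₀, hψ₀ne⟩ := exists_constituent hind hind1_ne
  -- passing between the two forms of "lying over `θ`"
  have hfrob : ∀ ψ : X → ℂ, Cfsg.IsIrrCharacter X ψ →
      (Cfsg.classInner (Cfsg.indFun N θ) ψ ≠ 0 ↔ Cfsg.classInner (fun n : N => ψ n) θ ≠ 0) := by
    intro ψ hψ
    rw [frobenius_reciprocity N θ (isClassFunction_of_isIrrCharacter hψ),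
      ← Helper24.classInner_conj_symm]
    simp
  have h₀ := (hfrob ψ₀ hψ₀).1 hψ₀ne
  obtain ⟨e, hepos, he⟩ := constituent_mult
    (isCharacter_restrict N (isCharacter_of_isIrrCharacter hψ₀)) hθ h₀
  let C : Finset (Cfsg.IrrCharacter X) :=
    Finset.univ.filter fun ψ => Cfsg.classInner (Cfsg.indFun N θ) (ψ : X → ℂ) ≠ 0
  have hCres : ∀ ψ ∈ C, (fun n : N => (ψ : X → ℂ) n) = (e : ℂ) • θ := by
    intro ψ hψC
    have hψne : Cfsg.classInner (Cfsg.indFun N θ) (ψ : X → ℂ) ≠ 0 := (Finset.mem_filter.1 hψC).2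
    have h1 := (hfrob ψ.1 ψ.2).1 hψne
    obtain ⟨lam, hlam⟩ := exists_liftLin_mul N hab hθ hinv hψ₀ ψ.2 h₀ h1
    have hres₀ := restrict_eq_smul_of_invariant N hθ hinv hψ₀ h₀
    rw [he] at hres₀
    rw [← hres₀]
    ext n
    rw [hlam, Pi.mul_apply, liftLin_of_mem N lam n.2, mul_one]
  have hCmult : ∀ ψ ∈ C, Cfsg.classInner (Cfsg.indFun N θ) (ψ : X → ℂ) = e := by
    intro ψ hψC
    rw [frobenius_reciprocity N θ (isClassFunction_of_isIrrCharacter ψ.2), hCres ψ hψC,
      Helper24.classInner_smul_right, irr_orthogonality hθ hθ, if_pos rfl]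
    simp
  have hexp : Cfsg.indFun N θ = (e : ℂ) • ∑ ψ ∈ C, (ψ : X → ℂ) := by
    conv_lhs => rw [(isCharacter_decomp hind).2]
    rw [Finset.smul_sum, ← Finset.sum_filter_add_sum_filter_not Finset.univ
      (fun ψ : Cfsg.IrrCharacter X => Cfsg.classInner (Cfsg.indFun N θ) (ψ : X → ℂ) ≠ 0)]
    have hz : ∑ ψ ∈ Finset.univ.filter (fun ψ : Cfsg.IrrCharacter X =>
        ¬ Cfsg.classInner (Cfsg.indFun N θ) (ψ : X → ℂ) ≠ 0),
        Cfsg.classInner (Cfsg.indFun N θ) (ψ : X → ℂ) • (ψ : X → ℂ) = 0 := by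
      refine Finset.sum_eq_zero fun ψ hψ => ?_
      have := (Finset.mem_filter.1 hψ).2
      push Not at this
      rw [this, zero_smul]
    rw [hz, add_zero]
    refine Finset.sum_congr rfl fun ψ hψ => ?_
    rw [hCmult ψ hψ]
  refine ⟨e, C, hepos, hexp, hCres, ?_, fun ψ hψ => (Finset.mem_filter.1 hψ).2⟩
  -- counting degrees
  have hdeg : ∀ ψ ∈ C, (ψ : X → ℂ) 1 = ((e * d : ℕ) : ℂ) := by
    intro ψ hψC
    have := congrFun (hCres ψ hψC) 1
    simp only [Subgroup.coe_one, Pi.smul_apply, smul_eq_mul, hd] at this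
    rw [this]; push_cast; ring
  have h1 := congrFun hexp 1
  rw [hind1, Pi.smul_apply, Finset.sum_apply, Finset.sum_congr rfl hdeg, Finset.sum_const,
    smul_eq_mul, nsmul_eq_mul] at h1
  have h2 : N.index * d = e * (C.card * (e * d)) := by exact_mod_cast h1
  have h3 : N.index * d = (e ^ 2 * C.card) * d := by rw [h2]; ring
  exact (Nat.eq_of_mul_eq_mul_right hdpos h3).symm

end Abelian

end Cfsg.Agent.Helper8
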