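import Mathlib
import Cfsg.Prelude.Def_Characters

set_option autoImplicit false

namespace Cfsg.Agent.Helper8

open scoped ComplexConjugate

variable {G : Type*} [Group G]

theorem extendByZero_of_mem (H : Subgroup G) (θ : H → ℂ) (y : G) (hy : y ∈ H) :
    Cfsg.extendByZero H θ y = θ ⟨y, hy⟩ := by
  unfold Cfsg.extendByZero
  exact Function.Injective.extend_apply Subtype.val_injective θ 0 ⟨y, hy⟩

theorem extendByZero_of_not_mem (H : Subgroup G) (θ : H → ℂ) (y : G) (hy : y ∉ H) :
    Cfsg.extendByZero H θ y = 0 := by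
  unfold Cfsg.extendByZero
  rw [Function.extend_apply']
  · rfl
  · rintro ⟨a, rfl⟩
    exact hy a.2

theorem extendByZero_coe (H : Subgroup G) (θ : H → ℂ) (y : H) :
    Cfsg.extendByZero H θ (y : G) = θ y :=
  extendByZero_of_mem H θ y y.2

theorem indFun_apply [Fintype G] (H : Subgroup G) (θ : H → ℂ) (g : G) :
    Cfsg.indFun H θ g = (Nat.card H : ℂ)⁻¹ * ∑ x : G, Cfsg.extendByZero H θ (x⁻¹ * g * x) := rfl

/-- An induced function is a class function. -/
theorem indFun_isClassFunction [Fintype G] (H : Subgroup G) (θ : H → ℂ) :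
    Cfsg.IsClassFunction G (Cfsg.indFun H θ) := by
  intro g h
  rw [indFun_apply, indFun_apply]
  congr 1
  apply Fintype.sum_equiv (Equiv.mulLeft h⁻¹)
  intro x
  simp only [Equiv.coe_mulLeft]
  congr 1
  group

/-- Summing a function of `f x` over a finite group, for a surjective homomorphism `f`. -/
theorem sum_comp_surjective_hom {Q : Type*} [Group Q] [Fintype G] [Fintype Q] (f : G →* Q)
    (hf : Function.Surjective f) (F : Q → ℂ) :
    ∑ x : G, F (f x) = (Nat.card f.ker : ℂ) * ∑ q : Q, F q := by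
  classical
  rw [← Fintype.sum_fiberwise' (fun x : G => f x) F, Finset.mul_sum]
  apply Finset.sum_congr rfl
  intro q _
  rw [Finset.sum_const, Finset.card_univ, nsmul_eq_mul]
  congr 2
  rw [← Nat.card_eq_fintype_card]
  exact Nat.card_congr (MonoidHom.fiberEquivKerOfSurjective hf q)

theorem classInner_def [Fintype G] (φ ψ : G → ℂ) :
    Cfsg.classInner φ ψ = (Nat.card G : ℂ)⁻¹ * ∑ g : G, φ g * conj (ψ g) := rfl

theorem classInner_conj_symm [Fintype G] (φ ψ : G → ℂ) :
    Cfsg.classInner φ ψ = conj (Cfsg.classInner ψ φ) := by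
  rw [classInner_def, classInner_def, map_mul, map_inv₀, Complex.conj_natCast, map_sum]
  congr 1
  apply Finset.sum_congr rfl
  intro g _
  rw [map_mul, Complex.conj_conj, mul_comm]

/-- Sum over `G` of a function weighted by an extension by zero from `H`. -/
theorem sum_extendByZero_mul [Fintype G] (H : Subgroup G) [Fintype H] (α : H → ℂ) (F : G → ℂ) :
    ∑ g : G, Cfsg.extendByZero H α g * F g = ∑ h : H, α h * F h := by
  symm
  apply Fintype.sum_of_injective (fun h : H => (h : G)) Subtype.val_injective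
  · intro g hg
    rw [extendByZero_of_not_mem, zero_mul]
    intro hgH
    exact hg ⟨⟨g, hgH⟩, rfl⟩
  · intro h
    rw [extendByZero_coe]

/-- Frobenius reciprocity for `indFun`. -/
theorem classInner_indFun_left [Fintype G] (H : Subgroup G) [Fintype H] (α : H → ℂ) (χ : G → ℂ)
    (hχ : Cfsg.IsClassFunction G χ) :
    Cfsg.classInner (Cfsg.indFun H α) χ = Cfsg.classInner α (fun h : H => χ h) := by
  rw [classInner_def, classInner_def]
  have h1 : ∑ g : G, Cfsg.indFun H α g * conj (χ g)
      = (Nat.card H : ℂ)⁻¹ * ∑ x : G, ∑ g : G, Cfsg.extendByZero H α (x⁻¹ * g * x) * conj (χ (x⁻¹ * g * x)) := by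
    rw [Finset.sum_comm, Finset.mul_sum]
    apply Finset.sum_congr rfl
    intro g _
    rw [indFun_apply, mul_assoc, Finset.sum_mul]
    congr 1
    apply Finset.sum_congr rfl
    intro x _
    have : χ (x⁻¹ * g * x) = χ g := by
      have := hχ g x⁻¹
      simpa using this
    rw [this]
  have h2 : ∀ x : G, ∑ g : G, Cfsg.extendByZero H α (x⁻¹ * g * x) * conj (χ (x⁻¹ * g * x))
      = ∑ h : H, α h * conj (χ h) := by
    intro x
    rw [← sum_extendByZero_mul H α (fun g => conj (χ g))]
    apply Fintype.sum_equiv (MulAut.conj x⁻¹).toEquiv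
    intro g
    simp [MulAut.conj_apply]
  rw [h1]
  simp only [h2, Finset.sum_const, Finset.card_univ, nsmul_eq_mul]
  have hG : (Nat.card G : ℂ) ≠ 0 := by
    have : 0 < Nat.card G := Nat.card_pos
    exact_mod_cast this.ne'
  rw [← Nat.card_eq_fintype_card]
  field_simp

theorem classInner_indFun_right [Fintype G] (H : Subgroup G) [Fintype H] (α : H → ℂ) (χ : G → ℂ)
    (hχ : Cfsg.IsClassFunction G χ) :
    Cfsg.classInner χ (Cfsg.indFun H α) = Cfsg.classInner (fun h : H => χ h) α := by
  rw [classInner_conj_symm, classInner_indFun_left H α χ hχ, ← classInner_conj_symm]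

end Cfsg.Agent.Helper8
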