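import Mathlib
import Cfsg.Prelude.Def_OddOrderChar
import Cfsg.Agent.Lib.Helper8.InnerExtra

/-!
# Integer spans of class functions and linear isometries on them (helper8's shared library)
-/

set_option autoImplicit false

namespace Cfsg.Agent.Helper8

open Cfsg Cfsg.Agent.Helper24
open scoped ComplexConjugate

universe u v

section GenChar

variable {X : Type u} [Group X]

theorem isGen_zero : Cfsg.IsGeneralizedCharacter X (0 : X → ℂ) :=
  ⟨0, 0, isCharacter_zero, isCharacter_zero, by simp⟩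

theorem isGen_add {a b : X → ℂ} (ha : Cfsg.IsGeneralizedCharacter X a)
    (hb : Cfsg.IsGeneralizedCharacter X b) : Cfsg.IsGeneralizedCharacter X (a + b) := by
  obtain ⟨χ₁, ψ₁, h₁, h₁', rfl⟩ := ha
  obtain ⟨χ₂, ψ₂, h₂, h₂', rfl⟩ := hb
  exact ⟨χ₁ + χ₂, ψ₁ + ψ₂, isCharacter_add h₁ h₂, isCharacter_add h₁' h₂', by abel⟩

theorem isGen_neg {a : X → ℂ} (ha : Cfsg.IsGeneralizedCharacter X a) :
    Cfsg.IsGeneralizedCharacter X (-a) := by
  obtain ⟨χ₁, ψ₁, h₁, h₁', rfl⟩ := ha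
  exact ⟨ψ₁, χ₁, h₁', h₁, by abel⟩

theorem isGen_sub {a b : X → ℂ} (ha : Cfsg.IsGeneralizedCharacter X a)
    (hb : Cfsg.IsGeneralizedCharacter X b) : Cfsg.IsGeneralizedCharacter X (a - b) := by
  rw [sub_eq_add_neg]
  exact isGen_add ha (isGen_neg hb)

theorem isGen_nsmul (n : ℕ) {a : X → ℂ} (ha : Cfsg.IsGeneralizedCharacter X a) :
    Cfsg.IsGeneralizedCharacter X (n • a) := by
  obtain ⟨χ₁, ψ₁, h₁, h₁', rfl⟩ := ha
  exact ⟨n • χ₁, n • ψ₁, isCharacter_nsmul n h₁, isCharacter_nsmul n h₁', by rw [smul_sub]⟩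

theorem isGen_zsmul (n : ℤ) {a : X → ℂ} (ha : Cfsg.IsGeneralizedCharacter X a) :
    Cfsg.IsGeneralizedCharacter X (n • a) := by
  rcases Int.eq_nat_or_neg n with ⟨k, rfl | rfl⟩
  · rw [natCast_zsmul]; exact isGen_nsmul k ha
  · rw [neg_smul, natCast_zsmul]; exact isGen_neg (isGen_nsmul k ha)

theorem isGen_sum {ι : Type*} (s : Finset ι) (f : ι → X → ℂ)
    (h : ∀ i ∈ s, Cfsg.IsGeneralizedCharacter X (f i)) :
    Cfsg.IsGeneralizedCharacter X (∑ i ∈ s, f i) := by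
  classical
  induction s using Finset.induction_on with
  | empty => simpa using isGen_zero
  | insert a s ha ih =>
    rw [Finset.sum_insert ha]
    exact isGen_add (h a (Finset.mem_insert_self a s))
      (ih fun i hi => h i (Finset.mem_insert_of_mem hi))

end GenChar

section Zspan

variable {X : Type u}

theorem zspan_mono {S T : Set (X → ℂ)} (h : S ⊆ T) : Cfsg.zspan S ⊆ Cfsg.zspan T :=
  Submodule.span_mono h

theorem mem_zspan_of_mem {S : Set (X → ℂ)} {a : X → ℂ} (h : a ∈ S) : a ∈ Cfsg.zspan S :=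
  Submodule.subset_span h

theorem zspan_add_mem {S : Set (X → ℂ)} {a b : X → ℂ} (ha : a ∈ Cfsg.zspan S)
    (hb : b ∈ Cfsg.zspan S) : a + b ∈ Cfsg.zspan S :=
  Submodule.add_mem _ ha hb

theorem zspan_sub_mem {S : Set (X → ℂ)} {a b : X → ℂ} (ha : a ∈ Cfsg.zspan S)
    (hb : b ∈ Cfsg.zspan S) : a - b ∈ Cfsg.zspan S :=
  Submodule.sub_mem _ ha hb

theorem zspan_zsmul_mem {S : Set (X → ℂ)} {a : X → ℂ} (n : ℤ) (ha : a ∈ Cfsg.zspan S) :
    n • a ∈ Cfsg.zspan S :=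
  Submodule.smul_mem _ n ha

theorem zspan_zero_mem (S : Set (X → ℂ)) : (0 : X → ℂ) ∈ Cfsg.zspan S :=
  Submodule.zero_mem _

theorem zspan_neg_mem {S : Set (X → ℂ)} {a : X → ℂ} (ha : a ∈ Cfsg.zspan S) :
    -a ∈ Cfsg.zspan S :=
  Submodule.neg_mem _ ha

/-- induction principle for `zspan` -/
theorem zspan_induction {S : Set (X → ℂ)} {p : (X → ℂ) → Prop} (hmem : ∀ a ∈ S, p a) (h0 : p 0)
    (hadd : ∀ a b, a ∈ Cfsg.zspan S → b ∈ Cfsg.zspan S → p a → p b → p (a + b))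
    (hsmul : ∀ (n : ℤ) a, a ∈ Cfsg.zspan S → p a → p (n • a)) {a : X → ℂ}
    (ha : a ∈ Cfsg.zspan S) : p a := by
  have : ∀ (a : X → ℂ) (_ : a ∈ Submodule.span ℤ S), a ∈ Cfsg.zspan S ∧ p a := by
    intro a ha
    induction ha using Submodule.span_induction with
    | mem x hx => exact ⟨Submodule.subset_span hx, hmem x hx⟩
    | zero => exact ⟨Submodule.zero_mem _, h0⟩
    | add x y _ _ hx hy => exact ⟨Submodule.add_mem _ hx.1 hy.1, hadd x y hx.1 hy.1 hx.2 hy.2⟩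
    | smul n x _ hx => exact ⟨Submodule.smul_mem _ n hx.1, hsmul n x hx.1 hx.2⟩
  exact (this a ha).2

/-- the union of two sets spans the sum of the spans -/
theorem zspan_union_decomp {S T : Set (X → ℂ)} {a : X → ℂ} (ha : a ∈ Cfsg.zspan (S ∪ T)) :
    ∃ b ∈ Cfsg.zspan S, ∃ c ∈ Cfsg.zspan T, a = b + c := by
  have h : a ∈ Submodule.span ℤ (S ∪ T) := ha
  rw [Submodule.span_union, Submodule.mem_sup] at h
  obtain ⟨b, hb, c, hc, rfl⟩ := h
  exact ⟨b, hb, c, hc, rfl⟩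

end Zspan

section Isometry

variable {L : Type u} [Group L] [Fintype L] {G : Type v} [Group G] [Fintype G]

/-- orthogonal sets have orthogonal integer spans -/
theorem classInner_zspan_orth {S T : Set (L → ℂ)}
    (h : ∀ a ∈ S, ∀ b ∈ T, Cfsg.classInner a b = 0) {a b : L → ℂ} (ha : a ∈ Cfsg.zspan S)
    (hb : b ∈ Cfsg.zspan T) : Cfsg.classInner a b = 0 := by
  refine zspan_induction (p := fun a => Cfsg.classInner a b = 0) ?_ ?_ ?_ ?_ ha
  · intro a haS
    refine zspan_induction (p := fun b => Cfsg.classInner a b = 0) ?_ ?_ ?_ ?_ hb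
    · exact fun b hbT => h a haS b hbT
    · exact Helper24.classInner_zero_right a
    · intro x y _ _ hx hy
      rw [Helper24.classInner_add_right, hx, hy, add_zero]
    · intro n x _ hx
      rw [classInner_zsmul_right, hx, mul_zero]
  · exact Helper24.classInner_zero_left b
  · intro x y _ _ hx hy
    rw [Helper24.classInner_add_left, hx, hy, add_zero]
  · intro n x _ hx
    rw [classInner_zsmul_left, hx, mul_zero]

/-- an element of two orthogonal integer spans vanishes -/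
theorem eq_zero_of_mem_zspan_orth {S T : Set (L → ℂ)}
    (h : ∀ a ∈ S, ∀ b ∈ T, Cfsg.classInner a b = 0) {a : L → ℂ} (ha : a ∈ Cfsg.zspan S)
    (hb : a ∈ Cfsg.zspan T) : a = 0 :=
  Helper24.classInner_self_eq_zero (classInner_zspan_orth h ha hb)

variable {S : Set (L → ℂ)} {σ : (L → ℂ) → (G → ℂ)}

theorem lio_zero (hσ : Cfsg.IsLinearIsometryOn (Cfsg.zspan S) σ) : σ 0 = 0 := by
  have := hσ.2.1 0 (zspan_zero_mem S) 0
  simpa using this

theorem lio_add (hσ : Cfsg.IsLinearIsometryOn (Cfsg.zspan S) σ) {a b : L → ℂ}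
    (ha : a ∈ Cfsg.zspan S) (hb : b ∈ Cfsg.zspan S) : σ (a + b) = σ a + σ b :=
  hσ.1 a ha b hb

theorem lio_zsmul (hσ : Cfsg.IsLinearIsometryOn (Cfsg.zspan S) σ) {a : L → ℂ}
    (ha : a ∈ Cfsg.zspan S) (n : ℤ) : σ (n • a) = n • σ a :=
  hσ.2.1 a ha n

theorem lio_neg (hσ : Cfsg.IsLinearIsometryOn (Cfsg.zspan S) σ) {a : L → ℂ}
    (ha : a ∈ Cfsg.zspan S) : σ (-a) = -σ a := by
  have := lio_zsmul hσ ha (-1)
  simpa using this

theorem lio_sub (hσ : Cfsg.IsLinearIsometryOn (Cfsg.zspan S) σ) {a b : L → ℂ}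
    (ha : a ∈ Cfsg.zspan S) (hb : b ∈ Cfsg.zspan S) : σ (a - b) = σ a - σ b := by
  rw [sub_eq_add_neg, lio_add hσ ha (zspan_neg_mem hb), lio_neg hσ hb, sub_eq_add_neg]

theorem lio_inner (hσ : Cfsg.IsLinearIsometryOn (Cfsg.zspan S) σ) {a b : L → ℂ}
    (ha : a ∈ Cfsg.zspan S) (hb : b ∈ Cfsg.zspan S) :
    Cfsg.classInner (σ a) (σ b) = Cfsg.classInner a b :=
  hσ.2.2.1 a ha b hb

theorem lio_gen (hσ : Cfsg.IsLinearIsometryOn (Cfsg.zspan S) σ) {a : L → ℂ}
    (ha : a ∈ Cfsg.zspan S) : Cfsg.IsGeneralizedCharacter G (σ a) :=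
  hσ.2.2.2 a ha

/-- if the images of the generators are orthogonal, so are the images of the spans -/
theorem classInner_lio_orth {T : Set (L → ℂ)} {τ : (L → ℂ) → (G → ℂ)}
    (hσ : Cfsg.IsLinearIsometryOn (Cfsg.zspan S) σ)
    (hτ : Cfsg.IsLinearIsometryOn (Cfsg.zspan T) τ)
    (h : ∀ a ∈ S, ∀ b ∈ T, Cfsg.classInner (σ a) (τ b) = 0) {a b : L → ℂ}
    (ha : a ∈ Cfsg.zspan S) (hb : b ∈ Cfsg.zspan T) : Cfsg.classInner (σ a) (τ b) = 0 := by
  refine zspan_induction (p := fun a => Cfsg.classInner (σ a) (τ b) = 0) ?_ ?_ ?_ ?_ ha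
  · intro a haS
    refine zspan_induction (p := fun b => Cfsg.classInner (σ a) (τ b) = 0) ?_ ?_ ?_ ?_ hb
    · exact fun b hbT => h a haS b hbT
    · rw [lio_zero hτ]; exact Helper24.classInner_zero_right _
    · intro x y hx' hy' hx hy
      rw [lio_add hτ hx' hy', Helper24.classInner_add_right, hx, hy, add_zero]
    · intro n x hx' hx
      rw [lio_zsmul hτ hx', classInner_zsmul_right, hx, mul_zero]
  · rw [lio_zero hσ]; exact Helper24.classInner_zero_left _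
  · intro x y hx' hy' hx hy
    rw [lio_add hσ hx' hy', Helper24.classInner_add_left, hx, hy, add_zero]
  · intro n x hx' hx
    rw [lio_zsmul hσ hx', classInner_zsmul_left, hx, mul_zero]

omit [Fintype L] in
/-- integrality of the degree on an integer span -/
theorem zspan_apply_int {S : Set (L → ℂ)} (g : L) (h : ∀ φ ∈ S, ∃ n : ℤ, φ g = n) {a : L → ℂ}
    (ha : a ∈ Cfsg.zspan S) : ∃ t : ℤ, a g = t := by
  refine zspan_induction (p := fun a => ∃ t : ℤ, a g = t) h ⟨0, by simp⟩ ?_ ?_ ha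
  · rintro x y _ _ ⟨s, hs⟩ ⟨t, ht⟩
    exact ⟨s + t, by simp [hs, ht]⟩
  · rintro n x _ ⟨s, hs⟩
    exact ⟨n * s, by simp [hs]⟩

end Isometry

end Cfsg.Agent.Helper8
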