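import Mathlib
import Cfsg.Prelude.Def_OddOrderChar
import Cfsg.Agent.Lib.Helper8.Zspan

/-!
# Projections on orthonormal families of class functions (helper8's shared library)
-/

set_option autoImplicit false

namespace Cfsg.Agent.Helper8

open Cfsg Cfsg.Agent.Helper24
open scoped ComplexConjugate

universe u

section Proj

variable {G : Type u} [Group G] [Fintype G]

/-- the norm of a function has nonnegative real part and vanishing imaginary part -/
theorem classInner_self_re_nonneg (f : G → ℂ) : 0 ≤ (Cfsg.classInner f f).re := by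
  unfold Cfsg.classInner
  have h : ∑ g : G, f g * conj (f g) = ((∑ g : G, ‖f g‖ ^ 2 : ℝ) : ℂ) := by
    push_cast
    refine Finset.sum_congr rfl fun g _ => ?_
    rw [Complex.mul_conj, Complex.normSq_eq_norm_sq]
    push_cast; rfl
  rw [h, ← Complex.ofReal_natCast, ← Complex.ofReal_inv, ← Complex.ofReal_mul, Complex.ofReal_re]
  positivity

theorem classInner_self_eq_zero_of_re {f : G → ℂ} (h : (Cfsg.classInner f f).re = 0) : f = 0 := by
  apply Helper24.classInner_self_eq_zero
  unfold Cfsg.classInner at h ⊢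
  have h2 : ∑ g : G, f g * conj (f g) = ((∑ g : G, ‖f g‖ ^ 2 : ℝ) : ℂ) := by
    push_cast
    refine Finset.sum_congr rfl fun g _ => ?_
    rw [Complex.mul_conj, Complex.normSq_eq_norm_sq]
    push_cast; rfl
  rw [h2, ← Complex.ofReal_natCast, ← Complex.ofReal_inv, ← Complex.ofReal_mul] at h ⊢
  rw [Complex.ofReal_re] at h
  rw [h]; simp

/-- the orthogonal projection on the span of a finite family -/
noncomputable def proj (F : Finset (G → ℂ)) (X : G → ℂ) : G → ℂ :=
  ∑ α ∈ F, Cfsg.classInner X α • α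

variable {F : Finset (G → ℂ)}

theorem classInner_proj_of_mem
    (ho : ∀ α ∈ F, ∀ β ∈ F, Cfsg.classInner α β = if α = β then 1 else 0) (X : G → ℂ)
    {β : G → ℂ} (hβ : β ∈ F) : Cfsg.classInner (proj F X) β = Cfsg.classInner X β := by
  classical
  unfold proj
  rw [Helper24.classInner_sum_left, Finset.sum_eq_single β]
  · rw [Helper24.classInner_smul_left, ho β hβ β hβ, if_pos rfl, mul_one]
  · intro α hα hne
    rw [Helper24.classInner_smul_left, ho α hα β hβ, if_neg hne, mul_zero]
  · intro h; exact absurd hβ h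

theorem classInner_proj_right (X Z : G → ℂ) :
    Cfsg.classInner Z (proj F X) =
      ∑ α ∈ F, conj (Cfsg.classInner X α) * Cfsg.classInner Z α := by
  unfold proj
  rw [Helper24.classInner_sum_right]
  refine Finset.sum_congr rfl fun α _ => ?_
  rw [Helper24.classInner_smul_right]

theorem classInner_proj_left (X Z : G → ℂ) :
    Cfsg.classInner (proj F X) Z = ∑ α ∈ F, Cfsg.classInner X α * Cfsg.classInner α Z := by
  unfold proj
  rw [Helper24.classInner_sum_left]
  refine Finset.sum_congr rfl fun α _ => ?_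
  rw [Helper24.classInner_smul_left]

/-- a function orthogonal to the family is orthogonal to projections -/
theorem classInner_proj_of_orth (X : G → ℂ) {Z : G → ℂ}
    (hZ : ∀ α ∈ F, Cfsg.classInner α Z = 0) : Cfsg.classInner (proj F X) Z = 0 := by
  rw [classInner_proj_left]
  refine Finset.sum_eq_zero fun α hα => ?_
  rw [hZ α hα, mul_zero]

theorem classInner_self_proj (X : G → ℂ) :
    Cfsg.classInner X (proj F X) = ((∑ α ∈ F, ‖Cfsg.classInner X α‖ ^ 2 : ℝ) : ℂ) := by
  rw [classInner_proj_right]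
  push_cast
  refine Finset.sum_congr rfl fun α _ => ?_
  rw [mul_comm, Complex.mul_conj, Complex.normSq_eq_norm_sq]
  push_cast; rfl

theorem classInner_proj_proj
    (ho : ∀ α ∈ F, ∀ β ∈ F, Cfsg.classInner α β = if α = β then 1 else 0) (X : G → ℂ) :
    Cfsg.classInner (proj F X) (proj F X) =
      ((∑ α ∈ F, ‖Cfsg.classInner X α‖ ^ 2 : ℝ) : ℂ) := by
  rw [classInner_proj_right]
  push_cast
  refine Finset.sum_congr rfl fun α hα => ?_
  rw [classInner_proj_of_mem ho X hα, mul_comm, Complex.mul_conj, Complex.normSq_eq_norm_sq]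
  push_cast; rfl

/-- **Bessel** for two mutually orthogonal orthonormal families: the norm of the residual -/
theorem bessel_two {F₁ F₂ : Finset (G → ℂ)}
    (ho₁ : ∀ α ∈ F₁, ∀ β ∈ F₁, Cfsg.classInner α β = if α = β then 1 else 0)
    (ho₂ : ∀ α ∈ F₂, ∀ β ∈ F₂, Cfsg.classInner α β = if α = β then 1 else 0)
    (h₁₂ : ∀ α ∈ F₁, ∀ β ∈ F₂, Cfsg.classInner α β = 0) (X : G → ℂ) :
    (Cfsg.classInner (X - proj F₁ X - proj F₂ X) (X - proj F₁ X - proj F₂ X)).re =
      (Cfsg.classInner X X).re - ∑ α ∈ F₁, ‖Cfsg.classInner X α‖ ^ 2 -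
        ∑ α ∈ F₂, ‖Cfsg.classInner X α‖ ^ 2 := by
  have h₂₁ : ∀ β ∈ F₂, ∀ α ∈ F₁, Cfsg.classInner β α = 0 := by
    intro β hβ α hα
    rw [← Helper24.classInner_conj_symm, h₁₂ α hα β hβ, map_zero]
  have e12 : Cfsg.classInner (proj F₁ X) (proj F₂ X) = 0 := by
    apply classInner_proj_of_orth
    intro α hα
    rw [← Helper24.classInner_conj_symm, classInner_proj_of_orth X (h₂₁ · · α hα), map_zero]
  have e21 : Cfsg.classInner (proj F₂ X) (proj F₁ X) = 0 := by
    rw [← Helper24.classInner_conj_symm, e12, map_zero]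
  have e1X : Cfsg.classInner (proj F₁ X) X = ((∑ α ∈ F₁, ‖Cfsg.classInner X α‖ ^ 2 : ℝ) : ℂ) := by
    rw [← Helper24.classInner_conj_symm, classInner_self_proj, Complex.conj_ofReal]
  have e2X : Cfsg.classInner (proj F₂ X) X = ((∑ α ∈ F₂, ‖Cfsg.classInner X α‖ ^ 2 : ℝ) : ℂ) := by
    rw [← Helper24.classInner_conj_symm, classInner_self_proj, Complex.conj_ofReal]
  simp only [classInner_sub_left, classInner_sub_right, e12, e21, e1X, e2X, classInner_self_proj,
    classInner_proj_proj ho₁, classInner_proj_proj ho₂]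
  simp only [Complex.sub_re, Complex.ofReal_re, Complex.zero_re]
  ring

end Proj

end Cfsg.Agent.Helper8
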