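import Mathlib
import Cfsg.Agent.Lib.Helper24.CharCentral

/-!
# The class multiplication relation for two conjugates of one element (helper8)

`|C_G(x)| * #{y : s * (y s y⁻¹) ~ x} = |G| * ∑_χ χ(s)² conj(χ(x)) / χ(1)`.
-/

set_option autoImplicit false

namespace Cfsg.Agent.Helper8.ClassRel

open Cfsg Cfsg.Agent.Helper24
open scoped ComplexConjugate

universe u

variable {G : Type u} [Group G] [Fintype G] [Fintype (IrrCharacter G)]

theorem class_rel (s x : G) :
    (Nat.card (Subgroup.centralizer ({x} : Set G)) : ℂ) *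
        (Nat.card {y : G // IsConj (s * (y * s * y⁻¹)) x} : ℂ) =
      (Nat.card G : ℂ) *
        ∑ χ : IrrCharacter G, (χ : G → ℂ) s ^ 2 * conj ((χ : G → ℂ) x) / (χ : G → ℂ) 1 := by
  classical
  have h1 : ∀ χ : IrrCharacter G, ∑ y : G, (χ : G → ℂ) (s * (y * s * y⁻¹)) * conj ((χ : G → ℂ) x) =
      (Nat.card G : ℂ) * ((χ : G → ℂ) s ^ 2 * conj ((χ : G → ℂ) x) / (χ : G → ℂ) 1) := by
    intro χ
    rw [← Finset.sum_mul, sum_char_mul_conj χ.2]
    ring
  have h2 : ∑ y : G, ∑ χ : IrrCharacter G,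
      (χ : G → ℂ) (s * (y * s * y⁻¹)) * conj ((χ : G → ℂ) x) =
      (Nat.card G : ℂ) *
        ∑ χ : IrrCharacter G, (χ : G → ℂ) s ^ 2 * conj ((χ : G → ℂ) x) / (χ : G → ℂ) 1 := by
    rw [Finset.sum_comm, Finset.mul_sum]
    exact Finset.sum_congr rfl fun χ _ => h1 χ
  rw [← h2]
  have h3 : ∀ y : G, ∑ χ : IrrCharacter G,
      (χ : G → ℂ) (s * (y * s * y⁻¹)) * conj ((χ : G → ℂ) x) =
      if IsConj x (s * (y * s * y⁻¹)) then
        (Nat.card (Subgroup.centralizer ({x} : Set G)) : ℂ) else 0 := fun y =>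
    second_orthogonality' (s * (y * s * y⁻¹)) x
  rw [Finset.sum_congr rfl fun y _ => h3 y, ← Finset.sum_filter, Finset.sum_const, nsmul_eq_mul,
    mul_comm]
  congr 1
  rw [Nat.card_eq_fintype_card, Fintype.card_subtype]
  congr 2
  ext y
  simp only [Finset.mem_filter, Finset.mem_univ, true_and]
  exact ⟨fun h => h.symm, fun h => h.symm⟩

end Cfsg.Agent.Helper8.ClassRel
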