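import Mathlib
import Cfsg.Agent.Lib.Helper8.ClassRel
import Cfsg.Agent.Lib.Helper8.TI2b
import Cfsg.Agent.Lib.Helper20.InvCount

/-!
# Involutions inverting a self-centralizing subgroup of prime order (helper8)

General lemmas for the class multiplication method: character values at involutions, faithfulness
of characters of simple groups, existence of an inverting involution, and the class multiplication
relation `p * |C(t)|² = |G| * ∑_χ χ(t)² conj(χ(x)) / χ(1)`.
-/

set_option autoImplicit false
set_option linter.unusedVariables false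
set_option linter.unusedSectionVars false
set_option linter.style.haveILetI false

namespace Cfsg.Agent.Helper8.InvTI

open Cfsg Cfsg.Agent.Helper24 Cfsg.Agent.Helper5 Cfsg.Agent.Helper8
open Cfsg.Agent.Helper5.PrimeTI
open scoped ComplexConjugate

universe u

section Basic

variable {G : Type u} [Group G]

/-- the value of a character at an involution -/
theorem char_involution {χ : G → ℂ} (hχ : IsCharacter G χ) {g : G} (hg : g * g = 1) :
    ∃ j : ℕ, j ≤ charDegree χ ∧ χ g = (charDegree χ : ℂ) - 2 * (j : ℂ) := by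
  classical
  obtain ⟨n, ρ, rfl⟩ := hχ
  have hf : (ρ g) ^ 2 = 1 := by rw [← map_pow, pow_two, hg, map_one]
  obtain ⟨k, b, μ, hμ, hb⟩ := exists_eigenbasis_of_pow_eq_one (ρ g) two_pos hf
  have htr : ρ.character g = ∑ i, μ i := trace_eq_sum_of_eigenbasis b μ (ρ g) hb
  have hk : charDegree ρ.character = k := by
    have h1 : ρ.character 1 = (k : ℂ) := by
      rw [Representation.char_one, finrank_eq_of_basis b]
    exact charDegree_natCast k h1
  refine ⟨(Finset.univ.filter fun i => μ i = -1).card, ?_, ?_⟩
  · rw [hk]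
    exact (Finset.card_le_univ _).trans (by simp)
  · rw [htr, hk]
    have hμi : ∀ i, μ i = 1 - 2 * (if μ i = -1 then 1 else 0) := by
      intro i
      have h1 : (μ i - 1) * (μ i + 1) = 0 := by linear_combination hμ i
      rcases mul_eq_zero.1 h1 with h2 | h2
      · have h3 : μ i = 1 := by linear_combination h2
        rw [h3]; norm_num
      · have h3 : μ i = -1 := by linear_combination h2
        rw [h3]; norm_num
    rw [Finset.sum_congr rfl (fun i _ => hμi i), Finset.sum_sub_distrib, ← Finset.mul_sum,
      Finset.sum_boole]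
    simp

/-- an involution has no nonidentity conjugate in a subgroup of odd prime order -/
theorem no_conj_of_involution (P : Subgroup G) {p : ℕ} (hp : p.Prime) (hp2 : p ≠ 2)
    (hcard : Nat.card P = p) {s : G} (hs : s * s = 1) :
    ∀ y : G, y⁻¹ * s * y ∈ P → y⁻¹ * s * y = 1 := by
  intro y hy
  set w := y⁻¹ * s * y with hw
  have hww : w * w = 1 := by
    rw [hw]
    calc y⁻¹ * s * y * (y⁻¹ * s * y) = y⁻¹ * (s * s) * y := by group
      _ = 1 := by rw [hs]; group
  have hwp : w ^ p = 1 := by
    have h1 : (⟨w, hy⟩ : P) ^ Nat.card P = 1 := pow_card_eq_one'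
    rw [hcard] at h1
    have := congrArg Subtype.val h1
    simpa using this
  obtain ⟨m, hm⟩ := hp.odd_of_ne_two hp2
  rw [hm, pow_succ, pow_mul, pow_two, hww, one_pow, one_mul] at hwp
  exact hwp

/-- conjugate elements have centralizers of the same order -/
theorem card_centralizer_of_isConj {s t : G} (h : IsConj s t) :
    Nat.card (Subgroup.centralizer ({s} : Set G)) = Nat.card (Subgroup.centralizer ({t} : Set G)) := by
  obtain ⟨c, hc⟩ := isConj_iff.mp h
  apply Nat.card_congr
  refine ⟨fun g => ⟨c * g.1 * c⁻¹, ?_⟩, fun g => ⟨c⁻¹ * g.1 * c, ?_⟩, ?_, ?_⟩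
  · have hg := g.2
    rw [Subgroup.mem_centralizer_iff] at hg ⊢
    intro y hy
    rw [Set.mem_singleton_iff] at hy
    subst hy
    have h1 : s * g.1 = g.1 * s := hg s (Set.mem_singleton s)
    rw [← hc]
    calc c * s * c⁻¹ * (c * g.1 * c⁻¹) = c * (s * g.1) * c⁻¹ := by group
      _ = c * (g.1 * s) * c⁻¹ := by rw [h1]
      _ = c * g.1 * c⁻¹ * (c * s * c⁻¹) := by group
  · have hg := g.2
    rw [Subgroup.mem_centralizer_iff] at hg ⊢
    intro y hy
    rw [Set.mem_singleton_iff] at hy
    subst hy
    have h1 : t * g.1 = g.1 * t := hg t (Set.mem_singleton t)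
    have hs : y = c⁻¹ * t * c := by rw [← hc]; group
    rw [hs]
    calc c⁻¹ * t * c * (c⁻¹ * g.1 * c) = c⁻¹ * (t * g.1) * c := by group
      _ = c⁻¹ * (g.1 * t) * c := by rw [h1]
      _ = c⁻¹ * g.1 * c * (c⁻¹ * t * c) := by group
  · intro g
    apply Subtype.ext
    simp only
    group
  · intro g
    apply Subtype.ext
    simp only
    group

/-- an involution of the normalizer inverts a self-centralizing subgroup of odd prime order -/
theorem exists_inverting_involution [Finite G] (P : Subgroup G) {p : ℕ} (hp : p.Prime)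
    (hp2 : p ≠ 2) (hcard : Nat.card P = p)
    (hcent : Subgroup.centralizer (P : Set G) ≤ P)
    (h2 : 2 ∣ Nat.card (Subgroup.normalizer (P : Set G))) :
    ∃ t : G, t * t = 1 ∧ t ≠ 1 ∧ ∀ x ∈ P, t * x * t⁻¹ = x⁻¹ := by
  haveI : Fact (Nat.Prime 2) := ⟨Nat.prime_two⟩
  obtain ⟨u, hu⟩ := exists_prime_orderOf_dvd_card' 2 h2
  have hu2 : u ^ 2 = 1 := by rw [← hu]; exact pow_orderOf_eq_one u
  have hu1 : u ≠ 1 := by
    intro h
    rw [h, orderOf_one] at hu
    omega
  set t : G := (u : G) with ht
  have htt : t * t = 1 := by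
    have := congrArg Subtype.val hu2
    simpa [pow_two] using this
  have ht1 : t ≠ 1 := fun h => hu1 (Subtype.ext h)
  have htinv : t⁻¹ = t := inv_eq_of_mul_eq_one_left htt
  have htN : ∀ h : G, h ∈ P ↔ t * h * t⁻¹ ∈ P := Subgroup.mem_normalizer_iff.mp u.2
  refine ⟨t, htt, ht1, ?_⟩
  intro x hx
  have hx' : t * x * t⁻¹ ∈ P := (htN x).mp hx
  set y := x * (t * x * t⁻¹) with hy
  have hyP : y ∈ P := P.mul_mem hx hx'
  have hty : t * y * t⁻¹ = y := by
    rw [hy, htinv]
    calc t * (x * (t * x * t)) * t = (t * x * t) * (x * (t * t)) := by group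
      _ = (t * x * t) * x := by rw [htt, mul_one]
      _ = x * (t * x * t) := by
        have := comm_of_prime P hp hcard _ hx' _ hx
        rw [htinv] at this
        exact this
  by_cases hy1 : y = 1
  · rw [hy] at hy1
    exact (eq_inv_of_mul_eq_one_right hy1)
  · exfalso
    have htc : t ∈ Subgroup.centralizer ({y} : Set G) := by
      rw [Subgroup.mem_centralizer_iff]
      intro z hz
      rw [Set.mem_singleton_iff] at hz
      rw [hz]
      calc y * t = (t * y * t⁻¹) * t := by rw [hty]
        _ = t * y := by group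
    have htP : t ∈ P := centralizer_singleton_le P hp hcard hcent y hyP hy1 htc
    have h1 : (⟨t, htP⟩ : P) ^ Nat.card P = 1 := pow_card_eq_one'
    rw [hcard] at h1
    have htp : t ^ p = 1 := by
      have := congrArg Subtype.val h1
      simpa using this
    obtain ⟨m, hm⟩ := hp.odd_of_ne_two hp2
    rw [hm, pow_succ, pow_mul, pow_two, htt, one_pow, one_mul] at htp
    exact ht1 htp

end Basic

end Cfsg.Agent.Helper8.InvTI
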