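import Mathlib
import Cfsg.Prelude.Def_OddOrderChar
import Cfsg.Agent.Lib.Helper8.Zspan
import Cfsg.Agent.S1531

/-!
# Gluing two partial coherent extensions (helper8's shared library)
-/

set_option autoImplicit false

namespace Cfsg.Agent.Helper8.Coh

open Cfsg Cfsg.Agent.Helper8 Cfsg.Agent.Helper24 Cfsg.Agent.S1531
open scoped ComplexConjugate

/-- Gluing: if `σ` on `ℤ[X]` and `τ` on `ℤ[Y]` both extend `α` (on the members vanishing at `1`),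
their images are orthogonal to each other and one mixed relation holds, then `X ∪ Y` is coherent. -/
theorem coherent_union {G : Type*} [Group G] [Fintype G] (N : Subgroup G) [Fintype N]
    (S X Y : Set (N → ℂ)) (hirr : ∀ ξ ∈ S, Cfsg.IsIrrCharacter N ξ) (hXS : X ⊆ S) (hYS : Y ⊆ S)
    (hXY : Disjoint X Y) (α : (N → ℂ) → (G → ℂ))
    (hα : Cfsg.IsLinearIsometryOn (Cfsg.zspanOn S {1}ᶜ) α)
    (σ τ : (N → ℂ) → (G → ℂ)) (hσ : Cfsg.IsLinearIsometryOn (Cfsg.zspan X) σ)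
    (hσα : ∀ θ ∈ Cfsg.zspanOn X {1}ᶜ, σ θ = α θ) (hτ : Cfsg.IsLinearIsometryOn (Cfsg.zspan Y) τ)
    (hτα : ∀ θ ∈ Cfsg.zspanOn Y {1}ᶜ, τ θ = α θ)
    (hcross : ∀ χ ∈ X, ∀ η ∈ Y, Cfsg.classInner (σ χ) (τ η) = 0)
    (hkey' : ∃ χ₀ ∈ X, ∃ η₀ ∈ Y, α (χ₀ 1 • η₀ - η₀ 1 • χ₀) = χ₀ 1 • τ η₀ - η₀ 1 • σ χ₀) :
    Cfsg.IsCoherent (X ∪ Y) {1}ᶜ α := by
  classical
  obtain ⟨χ₀, hχ₀, η₀, hη₀, hkey⟩ := hkey'
  have horth := orthXY N S X Y hirr hXS hYS hXY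
  have hcross' : ∀ {a b : N → ℂ}, a ∈ Cfsg.zspan X → b ∈ Cfsg.zspan Y →
      Cfsg.classInner (σ a) (τ b) = 0 := fun ha hb => classInner_lio_orth hσ hτ hcross ha hb
  -- the combined isometry
  have hdec : ∀ θ : N → ℂ, θ ∈ Cfsg.zspan (X ∪ Y) → ∃ p : (N → ℂ) × (N → ℂ),
      p.1 ∈ Cfsg.zspan X ∧ p.2 ∈ Cfsg.zspan Y ∧ θ = p.1 + p.2 := by
    intro θ h
    obtain ⟨b, hb, c, hc, rfl⟩ := zspan_union_decomp h
    exact ⟨(b, c), hb, hc, rfl⟩
  let τ₁ : (N → ℂ) → (G → ℂ) := fun θ =>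
    if h : θ ∈ Cfsg.zspan (X ∪ Y) then
      σ (Classical.choose (hdec θ h)).1 + τ (Classical.choose (hdec θ h)).2
    else 0
  have hτ₁ : ∀ {b c : N → ℂ}, b ∈ Cfsg.zspan X → c ∈ Cfsg.zspan Y → τ₁ (b + c) = σ b + τ c := by
    intro b c hb hc
    have hmem : b + c ∈ Cfsg.zspan (X ∪ Y) :=
      zspan_add_mem (zspan_mono Set.subset_union_left hb) (zspan_mono Set.subset_union_right hc)
    simp only [τ₁, dif_pos hmem]
    obtain ⟨hb', hc', heq⟩ := Classical.choose_spec (hdec (b + c) hmem)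
    generalize Classical.choose (hdec (b + c) hmem) = p at hb' hc' heq ⊢
    obtain ⟨b', c'⟩ := p
    simp only at hb' hc' heq ⊢
    have hdiff : b - b' = c' - c := by
      rw [sub_eq_sub_iff_add_eq_add, heq, add_comm]
    have h0 : b - b' = 0 := by
      apply eq_zero_of_mem_zspan_orth horth (zspan_sub_mem hb hb')
      rw [hdiff]
      exact zspan_sub_mem hc' hc
    have hbb' : b = b' := sub_eq_zero.1 h0
    have hcc' : c = c' := by
      rw [h0] at hdiff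
      exact (sub_eq_zero.1 hdiff.symm).symm
    rw [← hbb', ← hcc']
  have hlio : Cfsg.IsLinearIsometryOn (Cfsg.zspan (X ∪ Y)) τ₁ := by
    refine ⟨?_, ?_, ?_, ?_⟩
    · intro θ hθ θ' hθ'
      obtain ⟨b, hb, c, hc, rfl⟩ := zspan_union_decomp hθ
      obtain ⟨b', hb', c', hc', rfl⟩ := zspan_union_decomp hθ'
      have : b + c + (b' + c') = (b + b') + (c + c') := by abel
      rw [this, hτ₁ (zspan_add_mem hb hb') (zspan_add_mem hc hc'), hτ₁ hb hc, hτ₁ hb' hc',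
        lio_add hσ hb hb', lio_add hτ hc hc']
      abel
    · intro θ hθ n
      obtain ⟨b, hb, c, hc, rfl⟩ := zspan_union_decomp hθ
      rw [smul_add, hτ₁ (zspan_zsmul_mem n hb) (zspan_zsmul_mem n hc), hτ₁ hb hc,
        lio_zsmul hσ hb, lio_zsmul hτ hc, smul_add]
    · intro θ hθ θ' hθ'
      obtain ⟨b, hb, c, hc, rfl⟩ := zspan_union_decomp hθ
      obtain ⟨b', hb', c', hc', rfl⟩ := zspan_union_decomp hθ'
      rw [hτ₁ hb hc, hτ₁ hb' hc']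
      simp only [Helper24.classInner_add_left, Helper24.classInner_add_right]
      rw [lio_inner hσ hb hb', lio_inner hτ hc hc', hcross' hb hc',
        classInner_zspan_orth horth hb hc']
      have e1 : Cfsg.classInner (τ c) (σ b') = 0 := by
        rw [← Helper24.classInner_conj_symm, hcross' hb' hc, map_zero]
      have e2 : Cfsg.classInner c b' = 0 := by
        rw [← Helper24.classInner_conj_symm, classInner_zspan_orth horth hb' hc, map_zero]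
      rw [e1, e2]
    · intro θ hθ
      obtain ⟨b, hb, c, hc, rfl⟩ := zspan_union_decomp hθ
      rw [hτ₁ hb hc]
      exact isGen_add (lio_gen hσ hb) (lio_gen hτ hc)
  -- degrees
  have iχ₀ := hirr χ₀ (hXS hχ₀)
  have iη₀ := hirr η₀ (hYS hη₀)
  obtain ⟨c, hc, hc1⟩ := irr_one_eq iχ₀
  obtain ⟨e, he, he1⟩ := irr_one_eq iη₀
  have mχ₀ := mem_zspan_of_mem hχ₀
  have mη₀ := mem_zspan_of_mem hη₀
  have hconv : ∀ (n : ℕ) (f : N → ℂ), ((n : ℂ)) • f = ((n : ℤ)) • f := by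
    intro n f; ext x; simp
  have hconv' : ∀ (n : ℕ) (f : G → ℂ), ((n : ℂ)) • f = ((n : ℤ)) • f := by
    intro n f; ext x; simp
  rw [hc1, he1, hconv, hconv, hconv', hconv'] at hkey
  set key : N → ℂ := (c : ℤ) • η₀ - (e : ℤ) • χ₀ with hkeydef
  have hkeyXY : key ∈ Cfsg.zspan (X ∪ Y) :=
    zspan_sub_mem (zspan_zsmul_mem _ (zspan_mono Set.subset_union_right mη₀))
      (zspan_zsmul_mem _ (zspan_mono Set.subset_union_left mχ₀))
  have hkey1 : key 1 = 0 := by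
    simp only [hkeydef, Pi.sub_apply, Pi.smul_apply, hc1, he1]
    simp; ring
  have hXYS : X ∪ Y ⊆ S := Set.union_subset hXS hYS
  have hvan : ∀ {a : N → ℂ}, a 1 = 0 → ∀ x : N, x ∉ ({1}ᶜ : Set N) → a x = 0 := by
    intro a h1 x hx
    have : x = 1 := by
      by_contra hne
      exact hx hne
    rw [this, h1]
  have hkeyS : key ∈ Cfsg.zspanOn S {1}ᶜ := ⟨zspan_mono hXYS hkeyXY, hvan hkey1⟩
  refine ⟨⟨key, ⟨hkeyXY, hvan hkey1⟩, ?_⟩, τ₁, hlio, ?_⟩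
  · intro h0
    have h1 : Cfsg.classInner key η₀ = c := by
      rw [hkeydef, classInner_sub_left, classInner_zsmul_left, classInner_zsmul_left,
        irr_orthogonality iη₀ iη₀, if_pos rfl, horth χ₀ hχ₀ η₀ hη₀]
      simp
    rw [h0, Helper24.classInner_zero_left] at h1
    have : (c : ℂ) ≠ 0 := by exact_mod_cast hc.ne'
    exact this h1.symm
  · rintro θ ⟨hθ, hθv⟩
    obtain ⟨a, ha, b, hb, rfl⟩ := zspan_union_decomp hθ
    have hθ1 : (a + b) 1 = 0 := hθv 1 (by simp)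
    -- the degree of `a`
    obtain ⟨t, ht⟩ := zspan_apply_int (S := X) 1 (fun φ hφ => by
      obtain ⟨n, -, hn⟩ := irr_one_eq (hirr φ (hXS hφ))
      exact ⟨n, by rw [hn]; simp⟩) ha
    have hb1 : b 1 = -(t : ℂ) := by
      have : a 1 + b 1 = 0 := hθ1
      rw [ht] at this
      linear_combination this
    set a₀ : N → ℂ := (c : ℤ) • a - t • χ₀ with ha₀
    set b₀ : N → ℂ := (e : ℤ) • b + t • η₀ with hb₀
    have ha₀X : a₀ ∈ Cfsg.zspan X := zspan_sub_mem (zspan_zsmul_mem _ ha) (zspan_zsmul_mem _ mχ₀)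
    have hb₀Y : b₀ ∈ Cfsg.zspan Y := zspan_add_mem (zspan_zsmul_mem _ hb) (zspan_zsmul_mem _ mη₀)
    have ha₀1 : a₀ 1 = 0 := by
      simp only [ha₀, Pi.sub_apply, Pi.smul_apply, ht, hc1]
      simp; ring
    have hb₀1 : b₀ 1 = 0 := by
      simp only [hb₀, Pi.add_apply, Pi.smul_apply, hb1, he1]
      simp; ring
    have ha₀X' : a₀ ∈ Cfsg.zspanOn X {1}ᶜ := ⟨ha₀X, hvan ha₀1⟩
    have hb₀Y' : b₀ ∈ Cfsg.zspanOn Y {1}ᶜ := ⟨hb₀Y, hvan hb₀1⟩
    have ha₀S : a₀ ∈ Cfsg.zspanOn S {1}ᶜ := ⟨zspan_mono hXS ha₀X, hvan ha₀1⟩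
    have hb₀S : b₀ ∈ Cfsg.zspanOn S {1}ᶜ := ⟨zspan_mono hYS hb₀Y, hvan hb₀1⟩
    have hθS : a + b ∈ Cfsg.zspanOn S {1}ᶜ := ⟨zspan_mono hXYS hθ, hθv⟩
    -- closure properties of `zspanOn S {1}ᶜ`
    have hSadd : ∀ {u v : N → ℂ}, u ∈ Cfsg.zspanOn S {1}ᶜ → v ∈ Cfsg.zspanOn S {1}ᶜ →
        u + v ∈ Cfsg.zspanOn S {1}ᶜ := by
      intro u v hu hv
      refine ⟨zspan_add_mem hu.1 hv.1, fun x hx => ?_⟩
      rw [Pi.add_apply, hu.2 x hx, hv.2 x hx, add_zero]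
    have hSsmul : ∀ (n : ℤ) {u : N → ℂ}, u ∈ Cfsg.zspanOn S {1}ᶜ →
        n • u ∈ Cfsg.zspanOn S {1}ᶜ := by
      intro n u hu
      refine ⟨zspan_zsmul_mem n hu.1, fun x hx => ?_⟩
      rw [Pi.smul_apply, hu.2 x hx, smul_zero]
    -- the identity `ce θ = e a₀ + c b₀ - t key`
    have hid : ((c : ℤ) * (e : ℤ)) • (a + b) =
        ((e : ℤ) • a₀ + (c : ℤ) • b₀) + (-t) • key := by
      simp only [ha₀, hb₀, hkeydef]
      ext x
      simp only [Pi.add_apply, Pi.sub_apply, Pi.smul_apply]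
      simp only [zsmul_eq_mul]
      push_cast
      ring
    have hα_id : α (((c : ℤ) * (e : ℤ)) • (a + b)) = ((c : ℤ) * (e : ℤ)) • α (a + b) :=
      hα.2.1 _ hθS _
    have hα_rhs : α (((e : ℤ) • a₀ + (c : ℤ) • b₀) + (-t) • key) =
        ((e : ℤ) • α a₀ + (c : ℤ) • α b₀) + (-t) • α key := by
      rw [hα.1 _ (hSadd (hSsmul _ ha₀S) (hSsmul _ hb₀S)) _ (hSsmul _ hkeyS),
        hα.1 _ (hSsmul _ ha₀S) _ (hSsmul _ hb₀S), hα.2.1 _ ha₀S, hα.2.1 _ hb₀S, hα.2.1 _ hkeyS]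
    have hσa₀ : α a₀ = (c : ℤ) • σ a - t • σ χ₀ := by
      rw [← hσα a₀ ha₀X', ha₀, lio_sub hσ (zspan_zsmul_mem _ ha) (zspan_zsmul_mem _ mχ₀),
        lio_zsmul hσ ha, lio_zsmul hσ mχ₀]
    have hτb₀ : α b₀ = (e : ℤ) • τ b + t • τ η₀ := by
      rw [← hτα b₀ hb₀Y', hb₀, lio_add hτ (zspan_zsmul_mem _ hb) (zspan_zsmul_mem _ mη₀),
        lio_zsmul hτ hb, lio_zsmul hτ mη₀]
    have hfinal : ((c : ℤ) * (e : ℤ)) • α (a + b) = ((c : ℤ) * (e : ℤ)) • τ₁ (a + b) := by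
      rw [← hα_id, hid, hα_rhs, hσa₀, hτb₀, hkey, hτ₁ ha hb]
      ext x
      simp only [Pi.add_apply, Pi.sub_apply, Pi.smul_apply]
      simp only [zsmul_eq_mul]
      push_cast
      ring
    have hce : ((c : ℤ) * (e : ℤ)) ≠ 0 := by
      have : 0 < (c : ℤ) * (e : ℤ) := by positivity
      exact this.ne'
    ext x
    have := congrFun hfinal x
    simp only [Pi.smul_apply, zsmul_eq_mul] at this
    have hce' : (((c : ℤ) * (e : ℤ) : ℤ) : ℂ) ≠ 0 := by exact_mod_cast hce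
    exact (mul_left_cancel₀ hce' this).symm

/-- Gluing, general form: no irreducibility is needed, only orthogonality of `X` and `Y`,
integrality of the degrees on `X` and positivity of the two degrees used in the mixed relation. -/
theorem coherent_union' {L : Type*} [Group L] [Fintype L] {G : Type*} [Group G] [Fintype G]
    (S X Y : Set (L → ℂ)) (hXS : X ⊆ S) (hYS : Y ⊆ S)
    (horth : ∀ a ∈ X, ∀ b ∈ Y, Cfsg.classInner a b = 0)
    (hdegX : ∀ φ ∈ X, ∃ t : ℤ, φ 1 = t)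
    (α : (L → ℂ) → (G → ℂ)) (hα : Cfsg.IsLinearIsometryOn (Cfsg.zspanOn S {1}ᶜ) α)
    (σ τ : (L → ℂ) → (G → ℂ)) (hσ : Cfsg.IsLinearIsometryOn (Cfsg.zspan X) σ)
    (hσα : ∀ θ ∈ Cfsg.zspanOn X {1}ᶜ, σ θ = α θ) (hτ : Cfsg.IsLinearIsometryOn (Cfsg.zspan Y) τ)
    (hτα : ∀ θ ∈ Cfsg.zspanOn Y {1}ᶜ, τ θ = α θ)
    (hcross : ∀ χ ∈ X, ∀ η ∈ Y, Cfsg.classInner (σ χ) (τ η) = 0)
    (χ₀ η₀ : L → ℂ) (hχ₀ : χ₀ ∈ X) (hη₀ : η₀ ∈ Y) (c e : ℕ) (hc : 0 < c) (he : 0 < e)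
    (hc1 : χ₀ 1 = c) (he1 : η₀ 1 = e)
    (hkey : α ((c : ℤ) • η₀ - (e : ℤ) • χ₀) = (c : ℤ) • τ η₀ - (e : ℤ) • σ χ₀) :
    Cfsg.IsCoherent (X ∪ Y) {1}ᶜ α := by
  classical
  have hcross' : ∀ {a b : L → ℂ}, a ∈ Cfsg.zspan X → b ∈ Cfsg.zspan Y →
      Cfsg.classInner (σ a) (τ b) = 0 := fun ha hb => classInner_lio_orth hσ hτ hcross ha hb
  -- the combined isometry
  have hdec : ∀ θ : L → ℂ, θ ∈ Cfsg.zspan (X ∪ Y) → ∃ p : (L → ℂ) × (L → ℂ),
      p.1 ∈ Cfsg.zspan X ∧ p.2 ∈ Cfsg.zspan Y ∧ θ = p.1 + p.2 := by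
    intro θ h
    obtain ⟨b, hb, c, hc, rfl⟩ := zspan_union_decomp h
    exact ⟨(b, c), hb, hc, rfl⟩
  let τ₁ : (L → ℂ) → (G → ℂ) := fun θ =>
    if h : θ ∈ Cfsg.zspan (X ∪ Y) then
      σ (Classical.choose (hdec θ h)).1 + τ (Classical.choose (hdec θ h)).2
    else 0
  have hτ₁ : ∀ {b c : L → ℂ}, b ∈ Cfsg.zspan X → c ∈ Cfsg.zspan Y → τ₁ (b + c) = σ b + τ c := by
    intro b c hb hc
    have hmem : b + c ∈ Cfsg.zspan (X ∪ Y) :=
      zspan_add_mem (zspan_mono Set.subset_union_left hb) (zspan_mono Set.subset_union_right hc)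
    simp only [τ₁, dif_pos hmem]
    obtain ⟨hb', hc', heq⟩ := Classical.choose_spec (hdec (b + c) hmem)
    generalize Classical.choose (hdec (b + c) hmem) = p at hb' hc' heq ⊢
    obtain ⟨b', c'⟩ := p
    simp only at hb' hc' heq ⊢
    have hdiff : b - b' = c' - c := by
      rw [sub_eq_sub_iff_add_eq_add, heq, add_comm]
    have h0 : b - b' = 0 := by
      apply eq_zero_of_mem_zspan_orth horth (zspan_sub_mem hb hb')
      rw [hdiff]
      exact zspan_sub_mem hc' hc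
    have hbb' : b = b' := sub_eq_zero.1 h0
    have hcc' : c = c' := by
      rw [h0] at hdiff
      exact (sub_eq_zero.1 hdiff.symm).symm
    rw [← hbb', ← hcc']
  have hlio : Cfsg.IsLinearIsometryOn (Cfsg.zspan (X ∪ Y)) τ₁ := by
    refine ⟨?_, ?_, ?_, ?_⟩
    · intro θ hθ θ' hθ'
      obtain ⟨b, hb, c, hc, rfl⟩ := zspan_union_decomp hθ
      obtain ⟨b', hb', c', hc', rfl⟩ := zspan_union_decomp hθ'
      have : b + c + (b' + c') = (b + b') + (c + c') := by abel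
      rw [this, hτ₁ (zspan_add_mem hb hb') (zspan_add_mem hc hc'), hτ₁ hb hc, hτ₁ hb' hc',
        lio_add hσ hb hb', lio_add hτ hc hc']
      abel
    · intro θ hθ n
      obtain ⟨b, hb, c, hc, rfl⟩ := zspan_union_decomp hθ
      rw [smul_add, hτ₁ (zspan_zsmul_mem n hb) (zspan_zsmul_mem n hc), hτ₁ hb hc,
        lio_zsmul hσ hb, lio_zsmul hτ hc, smul_add]
    · intro θ hθ θ' hθ'
      obtain ⟨b, hb, c, hc, rfl⟩ := zspan_union_decomp hθ
      obtain ⟨b', hb', c', hc', rfl⟩ := zspan_union_decomp hθ'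
      rw [hτ₁ hb hc, hτ₁ hb' hc']
      simp only [Helper24.classInner_add_left, Helper24.classInner_add_right]
      rw [lio_inner hσ hb hb', lio_inner hτ hc hc', hcross' hb hc',
        classInner_zspan_orth horth hb hc']
      have e1 : Cfsg.classInner (τ c) (σ b') = 0 := by
        rw [← Helper24.classInner_conj_symm, hcross' hb' hc, map_zero]
      have e2 : Cfsg.classInner c b' = 0 := by
        rw [← Helper24.classInner_conj_symm, classInner_zspan_orth horth hb' hc, map_zero]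
      rw [e1, e2]
    · intro θ hθ
      obtain ⟨b, hb, c, hc, rfl⟩ := zspan_union_decomp hθ
      rw [hτ₁ hb hc]
      exact isGen_add (lio_gen hσ hb) (lio_gen hτ hc)
  have mχ₀ := mem_zspan_of_mem hχ₀
  have mη₀ := mem_zspan_of_mem hη₀
  set key : L → ℂ := (c : ℤ) • η₀ - (e : ℤ) • χ₀ with hkeydef
  have hkeyXY : key ∈ Cfsg.zspan (X ∪ Y) :=
    zspan_sub_mem (zspan_zsmul_mem _ (zspan_mono Set.subset_union_right mη₀))
      (zspan_zsmul_mem _ (zspan_mono Set.subset_union_left mχ₀))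
  have hkey1 : key 1 = 0 := by
    simp only [hkeydef, Pi.sub_apply, Pi.smul_apply, hc1, he1]
    simp; ring
  have hXYS : X ∪ Y ⊆ S := Set.union_subset hXS hYS
  have hvan : ∀ {a : L → ℂ}, a 1 = 0 → ∀ x : L, x ∉ ({1}ᶜ : Set L) → a x = 0 := by
    intro a h1 x hx
    have : x = 1 := by
      by_contra hne
      exact hx hne
    rw [this, h1]
  have hkeyS : key ∈ Cfsg.zspanOn S {1}ᶜ := ⟨zspan_mono hXYS hkeyXY, hvan hkey1⟩
  refine ⟨⟨key, ⟨hkeyXY, hvan hkey1⟩, ?_⟩, τ₁, hlio, ?_⟩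
  · intro h0
    have h1 : Cfsg.classInner key η₀ = c * Cfsg.classInner η₀ η₀ := by
      rw [hkeydef, classInner_sub_left, classInner_zsmul_left, classInner_zsmul_left,
        horth χ₀ hχ₀ η₀ hη₀]
      simp
    rw [h0, Helper24.classInner_zero_left] at h1
    have hcne : (c : ℂ) ≠ 0 := by exact_mod_cast hc.ne'
    rcases mul_eq_zero.1 h1.symm with h | h
    · exact hcne h
    · have h2 := Helper24.classInner_self_eq_zero h
      rw [h2] at he1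
      have : (e : ℂ) = 0 := by rw [← he1]; rfl
      have : e = 0 := by exact_mod_cast this
      omega
  · rintro θ ⟨hθ, hθv⟩
    obtain ⟨a, ha, b, hb, rfl⟩ := zspan_union_decomp hθ
    have hθ1 : (a + b) 1 = 0 := hθv 1 (by simp)
    -- the degree of `a`
    obtain ⟨t, ht⟩ := zspan_apply_int (S := X) 1 hdegX ha
    have hb1 : b 1 = -(t : ℂ) := by
      have : a 1 + b 1 = 0 := hθ1
      rw [ht] at this
      linear_combination this
    set a₀ : L → ℂ := (c : ℤ) • a - t • χ₀ with ha₀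
    set b₀ : L → ℂ := (e : ℤ) • b + t • η₀ with hb₀
    have ha₀X : a₀ ∈ Cfsg.zspan X := zspan_sub_mem (zspan_zsmul_mem _ ha) (zspan_zsmul_mem _ mχ₀)
    have hb₀Y : b₀ ∈ Cfsg.zspan Y := zspan_add_mem (zspan_zsmul_mem _ hb) (zspan_zsmul_mem _ mη₀)
    have ha₀1 : a₀ 1 = 0 := by
      simp only [ha₀, Pi.sub_apply, Pi.smul_apply, ht, hc1]
      simp; ring
    have hb₀1 : b₀ 1 = 0 := by
      simp only [hb₀, Pi.add_apply, Pi.smul_apply, hb1, he1]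
      simp; ring
    have ha₀X' : a₀ ∈ Cfsg.zspanOn X {1}ᶜ := ⟨ha₀X, hvan ha₀1⟩
    have hb₀Y' : b₀ ∈ Cfsg.zspanOn Y {1}ᶜ := ⟨hb₀Y, hvan hb₀1⟩
    have ha₀S : a₀ ∈ Cfsg.zspanOn S {1}ᶜ := ⟨zspan_mono hXS ha₀X, hvan ha₀1⟩
    have hb₀S : b₀ ∈ Cfsg.zspanOn S {1}ᶜ := ⟨zspan_mono hYS hb₀Y, hvan hb₀1⟩
    have hθS : a + b ∈ Cfsg.zspanOn S {1}ᶜ := ⟨zspan_mono hXYS hθ, hθv⟩
    -- closure properties of `zspanOn S {1}ᶜ`
    have hSadd : ∀ {u v : L → ℂ}, u ∈ Cfsg.zspanOn S {1}ᶜ → v ∈ Cfsg.zspanOn S {1}ᶜ →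
        u + v ∈ Cfsg.zspanOn S {1}ᶜ := by
      intro u v hu hv
      refine ⟨zspan_add_mem hu.1 hv.1, fun x hx => ?_⟩
      rw [Pi.add_apply, hu.2 x hx, hv.2 x hx, add_zero]
    have hSsmul : ∀ (n : ℤ) {u : L → ℂ}, u ∈ Cfsg.zspanOn S {1}ᶜ →
        n • u ∈ Cfsg.zspanOn S {1}ᶜ := by
      intro n u hu
      refine ⟨zspan_zsmul_mem n hu.1, fun x hx => ?_⟩
      rw [Pi.smul_apply, hu.2 x hx, smul_zero]
    -- the identity `ce θ = e a₀ + c b₀ - t key`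
    have hid : ((c : ℤ) * (e : ℤ)) • (a + b) =
        ((e : ℤ) • a₀ + (c : ℤ) • b₀) + (-t) • key := by
      simp only [ha₀, hb₀, hkeydef]
      ext x
      simp only [Pi.add_apply, Pi.sub_apply, Pi.smul_apply]
      simp only [zsmul_eq_mul]
      push_cast
      ring
    have hα_id : α (((c : ℤ) * (e : ℤ)) • (a + b)) = ((c : ℤ) * (e : ℤ)) • α (a + b) :=
      hα.2.1 _ hθS _
    have hα_rhs : α (((e : ℤ) • a₀ + (c : ℤ) • b₀) + (-t) • key) =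
        ((e : ℤ) • α a₀ + (c : ℤ) • α b₀) + (-t) • α key := by
      rw [hα.1 _ (hSadd (hSsmul _ ha₀S) (hSsmul _ hb₀S)) _ (hSsmul _ hkeyS),
        hα.1 _ (hSsmul _ ha₀S) _ (hSsmul _ hb₀S), hα.2.1 _ ha₀S, hα.2.1 _ hb₀S, hα.2.1 _ hkeyS]
    have hσa₀ : α a₀ = (c : ℤ) • σ a - t • σ χ₀ := by
      rw [← hσα a₀ ha₀X', ha₀, lio_sub hσ (zspan_zsmul_mem _ ha) (zspan_zsmul_mem _ mχ₀),
        lio_zsmul hσ ha, lio_zsmul hσ mχ₀]
    have hτb₀ : α b₀ = (e : ℤ) • τ b + t • τ η₀ := by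
      rw [← hτα b₀ hb₀Y', hb₀, lio_add hτ (zspan_zsmul_mem _ hb) (zspan_zsmul_mem _ mη₀),
        lio_zsmul hτ hb, lio_zsmul hτ mη₀]
    have hfinal : ((c : ℤ) * (e : ℤ)) • α (a + b) = ((c : ℤ) * (e : ℤ)) • τ₁ (a + b) := by
      rw [← hα_id, hid, hα_rhs, hσa₀, hτb₀, hkey, hτ₁ ha hb]
      ext x
      simp only [Pi.add_apply, Pi.sub_apply, Pi.smul_apply]
      simp only [zsmul_eq_mul]
      push_cast
      ring
    have hce : ((c : ℤ) * (e : ℤ)) ≠ 0 := by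
      have : 0 < (c : ℤ) * (e : ℤ) := by positivity
      exact this.ne'
    ext x
    have := congrFun hfinal x
    simp only [Pi.smul_apply, zsmul_eq_mul] at this
    have hce' : (((c : ℤ) * (e : ℤ) : ℤ) : ℂ) ≠ 0 := by exact_mod_cast hce
    exact (mul_left_cancel₀ hce' this).symm

end Cfsg.Agent.Helper8.Coh
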