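import Mathlib
import Cfsg.Prelude.Def_OddOrderChar
import Cfsg.Agent.Lib.Helper8.Zspan
import Cfsg.Agent.Lib.Helper8.Constituent
import Cfsg.Agent.Lib.Helper8.IndFun
import Cfsg.Agent.Lib.Helper8.InnerExtra
import Cfsg.Agent.Lib.Helper24.CharQuotient
import Cfsg.Agent.Lib.Helper24.CharInduced
import Cfsg.Agent.Lib.Helper24.CharAbelian
import Cfsg.Agent.Lib.Helper24.CharLinear
import Cfsg.Agent.S1516

/-!
# Coherence for sets of induced characters (helper8's shared library)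

Basic tools around `Cfsg.inducedIrrAbove K A`: monotonicity, finiteness, closure under complex
conjugation, a linear member of degree `[L:K]`, the degree bound for members trivial on `B` when
`D/B` is central in `C/B`, the weighted degree sum, subsets of coherent sets, and the extension of
a coherent set by all members satisfying the numerical criterion of `S1516`.
-/

set_option autoImplicit false

namespace Cfsg.Agent.Helper8.Coh6

open Cfsg Cfsg.Agent.Helper8 Cfsg.Agent.Helper24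
open scoped ComplexConjugate

universe u v

section Subset

variable {L : Type u} [Group L] [Fintype L] {G : Type v} [Group G] [Fintype G]

theorem zspanOn_mono {S T : Set (L → ℂ)} {A : Set L} (h : S ⊆ T) :
    Cfsg.zspanOn S A ⊆ Cfsg.zspanOn T A := fun _ hα => ⟨zspan_mono h hα.1, hα.2⟩

/-- a subset of a coherent set is coherent as soon as it carries a nonzero combination vanishing
off `A` -/
theorem coherent_subset {S₁ T : Set (L → ℂ)} {A : Set L} {τ : (L → ℂ) → (G → ℂ)}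
    (h : Cfsg.IsCoherent S₁ A τ) (hT : T ⊆ S₁) (hne : ∃ α ∈ Cfsg.zspanOn T A, α ≠ 0) :
    Cfsg.IsCoherent T A τ := by
  obtain ⟨-, τ₁, hτ₁, hag⟩ := h
  refine ⟨hne, τ₁, ⟨?_, ?_, ?_, ?_⟩, fun α hα => hag α (zspanOn_mono hT hα)⟩
  · exact fun α hα β hβ => hτ₁.1 α (zspan_mono hT hα) β (zspan_mono hT hβ)
  · exact fun α hα n => hτ₁.2.1 α (zspan_mono hT hα) n
  · exact fun α hα β hβ => hτ₁.2.2.1 α (zspan_mono hT hα) β (zspan_mono hT hβ)
  · exact fun α hα => hτ₁.2.2.2 α (zspan_mono hT hα)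

theorem conjFun_conjFun (φ : L → ℂ) : Cfsg.conjFun (Cfsg.conjFun φ) = φ := by
  ext x; simp [Cfsg.conjFun]

theorem vanish_of_one {α : L → ℂ} (h : α 1 = 0) : ∀ x, x ∉ ({1}ᶜ : Set L) → α x = 0 := by
  intro x hx
  rw [Set.mem_compl_iff, Set.mem_singleton_iff, not_not] at hx
  rw [hx, h]

theorem sub_conj_mem_zspanOn {T : Set (L → ℂ)} {φ : L → ℂ} (hφ : φ ∈ T)
    (hc : Cfsg.conjFun φ ∈ T) (h1 : Cfsg.conjFun φ 1 = φ 1) :
    φ - Cfsg.conjFun φ ∈ Cfsg.zspanOn T {1}ᶜ := by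
  refine ⟨zspan_sub_mem (mem_zspan_of_mem hφ) (mem_zspan_of_mem hc), vanish_of_one ?_⟩
  rw [Pi.sub_apply, h1, sub_self]

end Subset

section Extend

variable {L : Type u} [Group L] [Fintype L] {G : Type v} [Group G] [Fintype G]

/-- **Maximal coherent subsets**: a coherent finite conjugation-closed `S₀` inside a finite
coherence system extends to a coherent set containing every `χ` that passes the numerical
criterion of Peterfalvi (5.7) against `S₀`. -/
theorem extend_coherent (S : Set (L → ℂ)) (τ : (L → ℂ) → (G → ℂ))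
    (R : (L → ℂ) → Finset (G → ℂ)) (hS : Cfsg.IsCoherenceSystem S τ R) (hfin : S.Finite)
    (d n : (L → ℂ) → ℕ) (hd : ∀ φ ∈ S, φ 1 = (d φ : ℂ))
    (hn : ∀ φ ∈ S, Cfsg.classInner φ φ = (n φ : ℂ))
    (S₀ : Finset (L → ℂ)) (hS₀ : ↑S₀ ⊆ S) (hS₀c : ∀ φ ∈ S₀, Cfsg.conjFun φ ∈ S₀)
    (hcoh : Cfsg.IsCoherent (↑S₀ : Set (L → ℂ)) {1}ᶜ τ)
    (χ₁ : L → ℂ) (hχ₁ : χ₁ ∈ S₀) (T : Set (L → ℂ)) (hT : T ⊆ S)
    (hdvd : ∀ χ ∈ T, d χ₁ ∣ d χ)
    (hineq : ∀ χ ∈ T, (2 * d χ * d χ₁ : ℝ) < ∑ φ ∈ S₀, ((d φ : ℝ) ^ 2 / (n φ : ℝ))) :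
    ∃ S₁ : Finset (L → ℂ), S₀ ⊆ S₁ ∧ (↑S₁ : Set (L → ℂ)) ⊆ S ∧ T ⊆ ↑S₁ ∧
      (∀ φ ∈ S₁, Cfsg.conjFun φ ∈ S₁) ∧
      Cfsg.IsCoherent (↑S₁ : Set (L → ℂ)) {1}ᶜ τ := by
  classical
  have key : ∀ m : ℕ, ∀ S₁ : Finset (L → ℂ), (hfin.toFinset \ S₁).card = m → S₀ ⊆ S₁ →
      (↑S₁ : Set (L → ℂ)) ⊆ S → (∀ φ ∈ S₁, Cfsg.conjFun φ ∈ S₁) →
      Cfsg.IsCoherent (↑S₁ : Set (L → ℂ)) {1}ᶜ τ →
      ∃ S₂ : Finset (L → ℂ), S₀ ⊆ S₂ ∧ (↑S₂ : Set (L → ℂ)) ⊆ S ∧ T ⊆ ↑S₂ ∧
        (∀ φ ∈ S₂, Cfsg.conjFun φ ∈ S₂) ∧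
        Cfsg.IsCoherent (↑S₂ : Set (L → ℂ)) {1}ᶜ τ := by
    intro m
    induction m using Nat.strong_induction_on with
    | _ m ih =>
      intro S₁ hm h0 h1 h2 h3
      by_cases hTS : T ⊆ ↑S₁
      · exact ⟨S₁, h0, h1, hTS, h2, h3⟩
      · obtain ⟨χ, hχT, hχS₁⟩ := Set.not_subset.1 hTS
        have hχS₁' : χ ∉ S₁ := fun h => hχS₁ (Finset.mem_coe.2 h)
        have hχc : Cfsg.conjFun χ ∉ S₁ := fun h => hχS₁' (by
          have := h2 _ h
          rwa [conjFun_conjFun] at this)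
        have hsum : ∑ φ ∈ S₀, ((d φ : ℝ) ^ 2 / (n φ : ℝ)) ≤
            ∑ φ ∈ S₁, ((d φ : ℝ) ^ 2 / (n φ : ℝ)) :=
          Finset.sum_le_sum_of_subset_of_nonneg h0 (fun φ _ _ => by positivity)
        have hnew := Cfsg.Agent.S1516.result S τ R hS d n hd hn S₁ h1 h2 h3 χ (hT hχT) hχS₁' hχc
          χ₁ (h0 hχ₁) (hdvd χ hχT) (lt_of_lt_of_le (hineq χ hχT) hsum)
        have hcoe : (↑(S₁ ∪ {χ, Cfsg.conjFun χ}) : Set (L → ℂ)) = ↑S₁ ∪ {χ, Cfsg.conjFun χ} := by
          rw [Finset.coe_union, Finset.coe_insert, Finset.coe_singleton]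
        have hχS : χ ∈ S := hT hχT
        have hlt : (hfin.toFinset \ (S₁ ∪ {χ, Cfsg.conjFun χ})).card < m := by
          rw [← hm]
          apply Finset.card_lt_card
          refine ⟨?_, ?_⟩
          · intro x hx
            rw [Finset.mem_sdiff] at hx ⊢
            exact ⟨hx.1, fun h => hx.2 (Finset.mem_union_left _ h)⟩
          · intro hsub
            have hmem : χ ∈ hfin.toFinset \ S₁ := by
              rw [Finset.mem_sdiff]
              exact ⟨(Set.Finite.mem_toFinset hfin).2 hχS, hχS₁'⟩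
            have := hsub hmem
            rw [Finset.mem_sdiff] at this
            exact this.2 (Finset.mem_union_right _ (by simp))
        refine ih _ hlt (S₁ ∪ {χ, Cfsg.conjFun χ}) rfl ?_ ?_ ?_ ?_
        · exact fun x hx => Finset.mem_union_left _ (h0 hx)
        · rw [hcoe]
          intro x hx
          rcases hx with hx | hx
          · exact h1 hx
          · rcases hx with rfl | hx
            · exact hχS
            · rw [Set.mem_singleton_iff] at hx
              rw [hx]; exact hS.conj_mem χ hχS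
        · intro φ hφ
          rw [Finset.mem_union] at hφ ⊢
          rcases hφ with hφ | hφ
          · exact Or.inl (h2 φ hφ)
          · right
            rw [Finset.mem_insert, Finset.mem_singleton] at hφ ⊢
            rcases hφ with rfl | rfl
            · exact Or.inr rfl
            · left; rw [conjFun_conjFun]
        · rw [hcoe]; exact hnew
  exact key _ S₀ rfl (Finset.Subset.refl _) hS₀ hS₀c hcoh

end Extend

section Induced

variable {L : Type u} [Group L] [Fintype L] (K : Subgroup L)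

theorem extendByZero_conjFun (θ : K → ℂ) (y : L) :
    Cfsg.extendByZero K (Cfsg.conjFun θ) y = conj (Cfsg.extendByZero K θ y) := by
  by_cases hy : y ∈ K
  · rw [Helper24.extendByZero_of_mem K _ hy, Helper24.extendByZero_of_mem K _ hy]
    rfl
  · rw [Helper24.extendByZero_of_not_mem K _ hy, Helper24.extendByZero_of_not_mem K _ hy, map_zero]

theorem conjFun_indFun (θ : K → ℂ) :
    Cfsg.conjFun (Cfsg.indFun K θ) = Cfsg.indFun K (Cfsg.conjFun θ) := by
  ext g
  simp only [Cfsg.conjFun, Cfsg.indFun, map_mul, map_inv₀, map_natCast, map_sum]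
  congr 1
  refine Finset.sum_congr rfl fun x _ => ?_
  exact (extendByZero_conjFun K θ _).symm

theorem inducedIrrAbove_anti {A A' : Subgroup L} (h : A ≤ A') :
    Cfsg.inducedIrrAbove K A' ⊆ Cfsg.inducedIrrAbove K A := by
  rintro φ ⟨θ, hθ, hne, hA, rfl⟩
  exact ⟨θ, hθ, hne, fun a ha => hA a (h ha), rfl⟩

theorem inducedIrrAbove_subset_bot (A : Subgroup L) :
    Cfsg.inducedIrrAbove K A ⊆ Cfsg.inducedIrrAbove K ⊥ := inducedIrrAbove_anti K bot_le

theorem inducedIrrAbove_finite (A : Subgroup L) : (Cfsg.inducedIrrAbove K A).Finite := by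
  haveI : Fintype K := Fintype.ofFinite K
  haveI : Finite (IrrCharacter K) := irr_finite
  refine Set.Finite.subset (Set.finite_range (fun θ : IrrCharacter K => Cfsg.indFun K θ.1)) ?_
  rintro φ ⟨θ, hθ, -, -, rfl⟩
  exact ⟨⟨θ, hθ⟩, rfl⟩

theorem inducedIrrAbove_conj {A : Subgroup L} {φ : L → ℂ} (h : φ ∈ Cfsg.inducedIrrAbove K A) :
    Cfsg.conjFun φ ∈ Cfsg.inducedIrrAbove K A := by
  obtain ⟨θ, hθ, hne, hA, rfl⟩ := h
  haveI : Fintype K := Fintype.ofFinite K
  refine ⟨Cfsg.conjFun θ, isIrr_conjFun hθ, ?_, ?_, conjFun_indFun K θ⟩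
  · intro h1
    apply hne
    ext x
    have := congrFun h1 x
    simp only [Cfsg.conjFun] at this
    have h2 := congrArg (starRingEnd ℂ) this
    simpa using h2
  · intro a ha
    simp only [Cfsg.conjFun, hA a ha]

theorem inducedIrrAbove_isCharacter {A : Subgroup L} {φ : L → ℂ}
    (h : φ ∈ Cfsg.inducedIrrAbove K A) : Cfsg.IsCharacter L φ := by
  obtain ⟨θ, hθ, -, -, rfl⟩ := h
  exact isCharacter_indFun K (isCharacter_of_isIrrCharacter hθ)

/-- a nontrivial solvable section `K/A` carries a nonprincipal linear character -/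
theorem exists_linear (hsolv : Group.IsSolvable K) {A : Subgroup L} [A.Normal] (hAK : A < K) :
    ∃ θ : K → ℂ, Cfsg.IsIrrCharacter K θ ∧ θ ≠ (fun _ => 1) ∧
      (∀ a : K, (a : L) ∈ A → θ a = θ 1) ∧ θ 1 = 1 := by
  classical
  haveI := hsolv
  obtain ⟨k, hkK, hkA⟩ := Set.exists_of_ssubset hAK
  haveI : Nontrivial (K ⧸ A.subgroupOf K) := by
    refine ⟨⟨((⟨k, hkK⟩ : K) : K ⧸ A.subgroupOf K), 1, ?_⟩⟩
    intro h
    rw [QuotientGroup.eq_one_iff, Subgroup.mem_subgroupOf] at h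
    exact hkA h
  have hlt := Group.IsSolvable.commutator_lt_top_of_nontrivial (G := K ⧸ A.subgroupOf K)
  have hidx : (commutator (K ⧸ A.subgroupOf K)).index ≠ 1 := by
    intro h
    rw [Subgroup.index_eq_one] at h
    exact hlt.ne h
  have hcard : Nat.card ((K ⧸ A.subgroupOf K) →* ℂˣ) = (commutator (K ⧸ A.subgroupOf K)).index :=
    card_monoidHom_units
  have hpos : (commutator (K ⧸ A.subgroupOf K)).index ≠ 0 := Subgroup.index_ne_zero_of_finite
  have h2 : 1 < Nat.card ((K ⧸ A.subgroupOf K) →* ℂˣ) := by omega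
  haveI : Finite ((K ⧸ A.subgroupOf K) →* ℂˣ) := Nat.finite_of_card_ne_zero (by omega)
  haveI : Nontrivial ((K ⧸ A.subgroupOf K) →* ℂˣ) := Finite.one_lt_card_iff_nontrivial.1 h2
  obtain ⟨f, hf⟩ := exists_ne (1 : (K ⧸ A.subgroupOf K) →* ℂˣ)
  refine ⟨fun x => ((f.comp (QuotientGroup.mk' (A.subgroupOf K)) x : ℂˣ) : ℂ),
    isIrrCharacter_of_monoidHom _, ?_, ?_, ?_⟩
  · intro h1
    apply hf
    ext q
    have := congrFun h1 q
    simpa using this
  · intro a ha
    have h1 : (QuotientGroup.mk' (A.subgroupOf K)) a = 1 := by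
      rw [QuotientGroup.mk'_apply, QuotientGroup.eq_one_iff, Subgroup.mem_subgroupOf]
      exact ha
    simp only [MonoidHom.comp_apply, h1, map_one]
  · simp

end Induced

section Degree

variable {X : Type u} [Group X] [Fintype X]

/-- an irreducible character whose values on a subgroup `Z` have absolute value the degree has
squared degree at most the index of `Z` -/
theorem degree_sq_le_index {ψ : X → ℂ} (hψ : Cfsg.IsIrrCharacter X ψ) (Z : Subgroup X)
    (hZ : ∀ z ∈ Z, ‖ψ z‖ = (ψ 1).re) : (ψ 1).re ^ 2 ≤ (Z.index : ℝ) := by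
  classical
  have h1 := irr_orthogonality hψ hψ
  rw [if_pos rfl, classInner_def] at h1
  have hX : (Nat.card X : ℂ) ≠ 0 := by
    have : 0 < Nat.card X := Nat.card_pos
    exact_mod_cast this.ne'
  have h2 : ∑ g : X, ψ g * conj (ψ g) = (Nat.card X : ℂ) := by
    field_simp at h1
    rw [h1]
  have h3 : ∑ g : X, ‖ψ g‖ ^ 2 = (Nat.card X : ℝ) := by
    have h4 : ((∑ g : X, ‖ψ g‖ ^ 2 : ℝ) : ℂ) = (Nat.card X : ℂ) := by
      rw [← h2]
      push_cast
      refine Finset.sum_congr rfl fun g _ => ?_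
      rw [Complex.mul_conj, Complex.normSq_eq_norm_sq]
      push_cast; rfl
    exact_mod_cast h4
  have h5 : ∑ g ∈ Finset.univ.filter (fun g : X => g ∈ Z), ‖ψ g‖ ^ 2 ≤ ∑ g : X, ‖ψ g‖ ^ 2 :=
    Finset.sum_le_sum_of_subset_of_nonneg (Finset.filter_subset _ _) (fun g _ _ => by positivity)
  have h6 : ∑ g ∈ Finset.univ.filter (fun g : X => g ∈ Z), ‖ψ g‖ ^ 2 =
      (Nat.card Z : ℝ) * (ψ 1).re ^ 2 := by
    rw [Finset.sum_congr rfl (fun g hg => by rw [hZ g (Finset.mem_filter.1 hg).2]),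
      Finset.sum_const, nsmul_eq_mul]
    congr 2
    rw [Nat.card_eq_fintype_card, Fintype.card_subtype]
  rw [h6, h3, ← Z.card_mul_index] at h5
  push_cast at h5
  have hZpos : (0 : ℝ) < Nat.card Z := by exact_mod_cast Nat.card_pos
  exact le_of_mul_le_mul_left h5 hZpos

end Degree

section DegreeBound

variable {L : Type u} [Group L] [Fintype L] (K : Subgroup L)

/-- Peterfalvi (6.3), degree estimate: an irreducible character of `K` trivial on `B`, where `D/B`
is central in `C/B`, has degree at most `[K:C] √[C:D]`. -/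
theorem degree_bound {B C D : Subgroup L} (hCK : C ≤ K)
    (hcent : ∀ x ∈ D, ∀ y ∈ C, x * y * x⁻¹ * y⁻¹ ∈ B) {θ : K → ℂ}
    (hθ : Cfsg.IsIrrCharacter K θ) (hB : ∀ a : K, (a : L) ∈ B → θ a = θ 1) :
    (θ 1).re ^ 2 ≤ ((C.relIndex K : ℝ)) ^ 2 * (D.relIndex C : ℝ) := by
  classical
  haveI : Fintype K := Fintype.ofFinite K
  haveI : Fintype (C.subgroupOf K) := Fintype.ofFinite _
  have hθc := isCharacter_of_isIrrCharacter hθ
  have hres : Cfsg.IsCharacter (C.subgroupOf K) (fun c : C.subgroupOf K => θ c) :=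
    isCharacter_restrict (C.subgroupOf K) hθc
  obtain ⟨t, ht0, ht⟩ := irr_one_eq hθ
  have h1 : (fun c : C.subgroupOf K => θ c) 1 ≠ 0 := by
    show θ ((1 : C.subgroupOf K) : K) ≠ 0
    rw [Subgroup.coe_one, ht]
    exact_mod_cast ht0.ne'
  obtain ⟨ψ, hψ, hψne⟩ := exists_constituent hres h1
  have hψB : ∀ b : C.subgroupOf K, ((b : K) : L) ∈ B → ψ b = ψ 1 := by
    intro b hb
    refine constituent_ker hres hψ hψne ?_
    show θ (b : K) = θ ((1 : C.subgroupOf K) : K)
    rw [Subgroup.coe_one]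
    exact hB _ hb
  have hZ : ∀ z ∈ (D.subgroupOf K).subgroupOf (C.subgroupOf K), ‖ψ z‖ = (ψ 1).re := by
    intro z hz
    apply norm_eq_of_central_mod_ker hψ
    intro c
    apply hψB
    have hzD : ((z : K) : L) ∈ D := hz
    have hcC : ((c : K) : L) ∈ C := c.2
    have := hcent _ hzD _ hcC
    simpa using this
  have hdeg := degree_sq_le_index hψ _ hZ
  have hZidx : ((D.subgroupOf K).subgroupOf (C.subgroupOf K)).index = D.relIndex C :=
    Subgroup.relIndex_subgroupOf hCK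
  rw [hZidx] at hdeg
  have hind : Cfsg.IsCharacter K (Cfsg.indFun (C.subgroupOf K) ψ) :=
    isCharacter_indFun _ (isCharacter_of_isIrrCharacter hψ)
  have hne2 : Cfsg.classInner (Cfsg.indFun (C.subgroupOf K) ψ) θ ≠ 0 := by
    rw [classInner_indFun_left (C.subgroupOf K) ψ θ (isClassFunction_of_isCharacter hθc),
      Helper8.classInner_conj_symm]
    intro h
    apply hψne
    have := congrArg (starRingEnd ℂ) h
    simpa using this
  have hle := constituent_degree_le hind hθ hne2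
  rw [Helper24.indFun_one] at hle
  obtain ⟨s, hs0, hs⟩ := irr_one_eq hψ
  rw [hs] at hle hdeg
  rw [ht] at hle ⊢
  have hle' : (t : ℝ) ≤ (C.relIndex K : ℝ) * (s : ℝ) := by
    have : (((C.subgroupOf K).index : ℂ) * (s : ℂ)).re = ((C.subgroupOf K).index : ℝ) * (s : ℝ) := by
      simp
    rw [this] at hle
    have hrel : (C.subgroupOf K).index = C.relIndex K := rfl
    rw [hrel] at hle
    simpa using hle
  have hdeg' : (s : ℝ) ^ 2 ≤ (D.relIndex C : ℝ) := by simpa using hdeg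
  have ht' : (0 : ℝ) ≤ t := by positivity
  calc ((t : ℂ)).re ^ 2 = (t : ℝ) ^ 2 := by simp
    _ ≤ ((C.relIndex K : ℝ) * (s : ℝ)) ^ 2 := pow_le_pow_left₀ ht' hle' 2
    _ = (C.relIndex K : ℝ) ^ 2 * (s : ℝ) ^ 2 := by ring
    _ ≤ (C.relIndex K : ℝ) ^ 2 * (D.relIndex C : ℝ) :=
        mul_le_mul_of_nonneg_left hdeg' (by positivity)

end DegreeBound

section SumBound

variable {L : Type u} [Group L] [Fintype L] (K : Subgroup L)

/-- the sum of squares of degrees of the nonprincipal irreducible characters of `K` trivial on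
`A` -/
theorem sum_sq_nonprincipal (A : Subgroup L) [A.Normal] [Fintype K]
    [Fintype (IrrCharacter K)] [DecidableEq (IrrCharacter K)]
    (Θ : Finset (IrrCharacter K))
    (hΘ : ∀ θ : IrrCharacter K, θ ∈ Θ ↔ ((θ : K → ℂ) ≠ (fun _ => 1) ∧
      ∀ a : K, (a : L) ∈ A → (θ : K → ℂ) a = (θ : K → ℂ) 1)) :
    ∑ θ ∈ Θ, (charDegree (θ : K → ℂ)) ^ 2 + 1 = A.relIndex K := by
  classical
  have h := sum_charDegree_sq_of_le_ker (A.subgroupOf K)
  have hidx : Nat.card (K ⧸ A.subgroupOf K) = A.relIndex K := rfl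
  rw [hidx] at h
  rw [← h]
  have hins : ∀ θ : IrrCharacter K, θ ∈ insert (principalChar K) Θ ↔
      (∀ n ∈ A.subgroupOf K, (θ : K → ℂ) n = (θ : K → ℂ) 1) := by
    intro θ
    rw [Finset.mem_insert, hΘ]
    constructor
    · rintro (rfl | ⟨-, h2⟩)
      · intro n _; rfl
      · intro n hn; exact h2 n hn
    · intro h2
      by_cases h1 : (θ : K → ℂ) = (fun _ => 1)
      · left; exact Subtype.ext h1
      · right; exact ⟨h1, fun a ha => h2 a ha⟩
  rw [← Finset.sum_subtype (insert (principalChar K) Θ) hins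
    (fun θ => (charDegree (θ : K → ℂ)) ^ 2)]
  have hnot : principalChar K ∉ Θ := by
    intro hmem
    exact ((hΘ _).1 hmem).1 rfl
  rw [Finset.sum_insert hnot, add_comm]
  congr 1
  have : charDegree ((principalChar K : IrrCharacter K) : K → ℂ) = 1 :=
    charDegree_natCast 1 (by simp [principalChar])
  rw [this, one_pow]

/-- Peterfalvi (6.2): the weighted sum of squared degrees over the characters induced from the
nonprincipal irreducible characters of `K/A` is at least `[L:K]([K:A] - 1)`. -/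
theorem sum_bound (A : Subgroup L) [A.Normal] (d n : (L → ℂ) → ℕ)
    (hd : ∀ φ ∈ Cfsg.inducedIrrAbove K A, φ 1 = (d φ : ℂ))
    (hn : ∀ φ ∈ Cfsg.inducedIrrAbove K A, Cfsg.classInner φ φ = (n φ : ℂ))
    (SA : Finset (L → ℂ)) (hSA : (↑SA : Set (L → ℂ)) = Cfsg.inducedIrrAbove K A) :
    ((K.index : ℝ) * ((A.relIndex K : ℝ) - 1)) ≤ ∑ φ ∈ SA, ((d φ : ℝ) ^ 2 / (n φ : ℝ)) := by
  classical
  haveI : Fintype K := Fintype.ofFinite K
  letI : Fintype (IrrCharacter K) := irrFintype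
  have he : 0 < K.index := Nat.pos_of_ne_zero Subgroup.index_ne_zero_of_finite
  set Θ : Finset (IrrCharacter K) := Finset.univ.filter (fun θ : IrrCharacter K =>
    (θ : K → ℂ) ≠ (fun _ => 1) ∧ ∀ a : K, (a : L) ∈ A → (θ : K → ℂ) a = (θ : K → ℂ) 1) with hΘdef
  have hΘ : ∀ θ : IrrCharacter K, θ ∈ Θ ↔ ((θ : K → ℂ) ≠ (fun _ => 1) ∧
      ∀ a : K, (a : L) ∈ A → (θ : K → ℂ) a = (θ : K → ℂ) 1) := by
    intro θ; rw [hΘdef, Finset.mem_filter]; simp
  set F : IrrCharacter K → (L → ℂ) := fun θ => Cfsg.indFun K θ.1 with hFdef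
  have hF : ∀ θ ∈ Θ, F θ ∈ SA := by
    intro θ hθ
    rw [← Finset.mem_coe, hSA]
    obtain ⟨h1, h2⟩ := (hΘ θ).1 hθ
    exact ⟨θ.1, θ.2, h1, h2, rfl⟩
  have hSAmem : ∀ φ ∈ SA, φ ∈ Cfsg.inducedIrrAbove K A := fun φ hφ => by
    rw [← hSA]; exact Finset.mem_coe.2 hφ
  have hdF : ∀ θ ∈ Θ, d (F θ) = K.index * charDegree θ.1 := by
    intro θ hθ
    have h1 := hd (F θ) (hSAmem _ (hF θ hθ))
    rw [show F θ 1 = (K.index : ℂ) * θ.1 1 from Helper24.indFun_one K θ.1,
      irr_one_eq_charDegree θ.2] at h1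
    exact_mod_cast h1.symm
  have htotal := sum_sq_nonprincipal K A Θ hΘ
  -- the fibre bound
  have hfib : ∀ φ ∈ SA, (Θ.filter (fun θ => F θ = φ)).card * n φ ≤ K.index := by
    intro φ hφ
    have hφS := hSAmem φ hφ
    have hφc : Cfsg.IsCharacter L φ := inducedIrrAbove_isCharacter K hφS
    have hφcf := isClassFunction_of_isCharacter hφc
    have hRc : Cfsg.IsCharacter K (fun k : K => φ k) := isCharacter_restrict K hφc
    choose m hm using (isCharacter_decomp hRc).1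
    have hdsum : d φ = ∑ χ : IrrCharacter K, m χ * charDegree χ.1 := by
      have h1 := char_apply_eq_sum hRc 1
      have h2 : φ ((1 : K) : L) = (d φ : ℂ) := by
        rw [Subgroup.coe_one]; exact hd φ hφS
      rw [h2] at h1
      have h3 : ∑ χ : IrrCharacter K, Cfsg.classInner (fun k : K => φ k) (χ : K → ℂ) *
          (χ : K → ℂ) 1 = ((∑ χ : IrrCharacter K, m χ * charDegree χ.1 : ℕ) : ℂ) := by
        push_cast
        refine Finset.sum_congr rfl fun χ _ => ?_
        rw [hm χ, irr_one_eq_charDegree χ.2]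
      rw [h3] at h1
      exact_mod_cast h1
    have hmfib : ∀ χ ∈ Θ.filter (fun θ => F θ = φ), m χ = n φ := by
      intro χ hχ
      have hFχ : F χ = φ := (Finset.mem_filter.1 hχ).2
      have h1 := classInner_indFun_right K χ.1 φ hφcf
      rw [show Cfsg.indFun K χ.1 = φ from hFχ, hn φ hφS, hm χ] at h1
      exact_mod_cast h1.symm
    have hdfib : ∀ χ ∈ Θ.filter (fun θ => F θ = φ), K.index * charDegree χ.1 = d φ := by
      intro χ hχ
      have hFχ : F χ = φ := (Finset.mem_filter.1 hχ).2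
      rw [← hdF χ (Finset.mem_filter.1 hχ).1, hFχ]
    -- `d φ > 0`
    by_cases hemp : Θ.filter (fun θ => F θ = φ) = ∅
    · rw [hemp]; simp
    · obtain ⟨χ₀, hχ₀⟩ := Finset.nonempty_iff_ne_empty.2 hemp
      have hdpos : 0 < d φ := by
        rw [← hdfib χ₀ hχ₀]
        exact Nat.mul_pos he (charDegree_pos χ₀.2)
      have h1 : ∑ χ ∈ Θ.filter (fun θ => F θ = φ), m χ * charDegree χ.1 ≤ d φ := by
        rw [hdsum]
        exact Finset.sum_le_sum_of_subset_of_nonneg (Finset.subset_univ _)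
          (fun _ _ _ => Nat.zero_le _)
      have h2 : (Θ.filter (fun θ => F θ = φ)).card * n φ * d φ =
          K.index * ∑ χ ∈ Θ.filter (fun θ => F θ = φ), m χ * charDegree χ.1 := by
        rw [Finset.mul_sum, Finset.card_eq_sum_ones, Finset.sum_mul, Finset.sum_mul]
        refine Finset.sum_congr rfl fun χ hχ => ?_
        rw [hmfib χ hχ, ← hdfib χ hχ]; ring
      have h3 : (Θ.filter (fun θ => F θ = φ)).card * n φ * d φ ≤ K.index * d φ := by
        rw [h2]; exact Nat.mul_le_mul_left _ h1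
      exact Nat.le_of_mul_le_mul_right h3 hdpos
  -- `n φ > 0`
  have hnpos : ∀ φ ∈ SA, 0 < n φ := by
    intro φ hφ
    have hφS := hSAmem φ hφ
    obtain ⟨θ, hθ, -, -, rfl⟩ := hφS
    rcases Nat.eq_zero_or_pos (n (Cfsg.indFun K θ)) with h0 | h0
    · exfalso
      have h1 := hn _ (hSAmem _ hφ)
      rw [h0] at h1
      have hz := Helper24.classInner_self_eq_zero (by simpa using h1)
      have h2 := congrFun hz 1
      rw [Helper24.indFun_one] at h2
      obtain ⟨t, ht0, ht⟩ := irr_one_eq hθ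
      rw [ht] at h2
      have : (K.index : ℂ) * (t : ℂ) ≠ 0 := by
        have : K.index * t ≠ 0 := Nat.mul_ne_zero he.ne' ht0.ne'
        exact_mod_cast this
      exact this (by simpa using h2)
    · exact h0
  -- combine
  have hrel : ((A.relIndex K : ℝ) - 1) = ∑ θ ∈ Θ, ((charDegree (θ : K → ℂ) : ℝ)) ^ 2 := by
    have : ((∑ θ ∈ Θ, (charDegree (θ : K → ℂ)) ^ 2 + 1 : ℕ) : ℝ) = (A.relIndex K : ℝ) := by
      rw [htotal]
    push_cast at this
    linarith
  rw [hrel, ← Finset.sum_fiberwise_of_maps_to hF, Finset.mul_sum]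
  refine Finset.sum_le_sum fun φ hφ => ?_
  have hnφ : (0 : ℝ) < n φ := by exact_mod_cast hnpos φ hφ
  have heR : (0 : ℝ) < K.index := by exact_mod_cast he
  have h1 : ∀ θ ∈ Θ.filter (fun θ => F θ = φ),
      ((charDegree (θ : K → ℂ) : ℝ)) ^ 2 = (d φ : ℝ) ^ 2 / (K.index : ℝ) ^ 2 := by
    intro θ hθ
    have hFθ : F θ = φ := (Finset.mem_filter.1 hθ).2
    have := hdF θ (Finset.mem_filter.1 hθ).1
    rw [hFθ] at this
    rw [this]
    push_cast
    field_simp
  rw [Finset.sum_congr rfl h1, Finset.sum_const, nsmul_eq_mul]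
  have h2 : ((Θ.filter (fun θ => F θ = φ)).card : ℝ) * (n φ : ℝ) ≤ (K.index : ℝ) := by
    exact_mod_cast hfib φ hφ
  rw [le_div_iff₀ hnφ]
  have h3 : (K.index : ℝ) * (((Θ.filter (fun θ => F θ = φ)).card : ℝ) *
      ((d φ : ℝ) ^ 2 / (K.index : ℝ) ^ 2)) * (n φ : ℝ) =
      (((Θ.filter (fun θ => F θ = φ)).card : ℝ) * (n φ : ℝ)) * ((d φ : ℝ) ^ 2 / (K.index : ℝ)) := by
    field_simp
  rw [h3]
  calc (((Θ.filter (fun θ => F θ = φ)).card : ℝ) * (n φ : ℝ)) * ((d φ : ℝ) ^ 2 / (K.index : ℝ))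
      ≤ (K.index : ℝ) * ((d φ : ℝ) ^ 2 / (K.index : ℝ)) :=
        mul_le_mul_of_nonneg_right h2 (by positivity)
    _ = (d φ : ℝ) ^ 2 := by field_simp

end SumBound

end Cfsg.Agent.Helper8.Coh6
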