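import Mathlib

/-!
# Sums of invariant functions over free orbits
-/

set_option autoImplicit false

namespace Cfsg.Agent.Helper8.FreeSum

/-- If a finite group `Γ` acts (through `a`) on `X`, freely on the invariant finite set `S`, and `f`
is invariant, then the sum of `f` over `S` is `|Γ|` times the sum over a set of representatives. -/
theorem sum_free_action {Γ X : Type*} [Group Γ] [Fintype Γ] [DecidableEq X] (a : Γ → X → X)
    (h1 : ∀ x, a 1 x = x) (hmul : ∀ γ γ' x, a (γ * γ') x = a γ (a γ' x))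
    (f : X → ℂ) (hf : ∀ γ x, f (a γ x) = f x) :
    ∀ (S : Finset X), (∀ γ, ∀ x ∈ S, a γ x ∈ S) → (∀ x ∈ S, ∀ γ, a γ x = x → γ = 1) →
      ∃ T : Finset X, T ⊆ S ∧ ∑ x ∈ S, f x = (Fintype.card Γ : ℂ) * ∑ x ∈ T, f x := by
  intro S
  induction S using Finset.strongInduction with
  | H S ih =>
    intro hinv hfree
    rcases S.eq_empty_or_nonempty with rfl | ⟨x₀, hx₀⟩
    · exact ⟨∅, Finset.Subset.refl _, by simp⟩
    have hinvmul : ∀ γ x, a γ⁻¹ (a γ x) = x := by
      intro γ x
      rw [← hmul, inv_mul_cancel, h1]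
    set O : Finset X := Finset.univ.image (fun γ => a γ x₀) with hO
    have hOS : O ⊆ S := by
      intro y hy
      obtain ⟨γ, -, rfl⟩ := Finset.mem_image.mp hy
      exact hinv γ x₀ hx₀
    have hx₀O : x₀ ∈ O := Finset.mem_image.mpr ⟨1, Finset.mem_univ _, h1 x₀⟩
    have hlt : S \ O ⊂ S := by
      refine Finset.ssubset_iff_subset_ne.mpr ⟨Finset.sdiff_subset, ?_⟩
      intro heq
      have : x₀ ∈ S \ O := by rw [heq]; exact hx₀
      exact (Finset.mem_sdiff.mp this).2 hx₀O
    have hinv' : ∀ γ, ∀ x ∈ S \ O, a γ x ∈ S \ O := by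
      intro γ x hx
      obtain ⟨hxS, hxO⟩ := Finset.mem_sdiff.mp hx
      refine Finset.mem_sdiff.mpr ⟨hinv γ x hxS, ?_⟩
      intro hmem
      obtain ⟨γ', -, hγ'⟩ := Finset.mem_image.mp hmem
      apply hxO
      refine Finset.mem_image.mpr ⟨γ⁻¹ * γ', Finset.mem_univ _, ?_⟩
      show a (γ⁻¹ * γ') x₀ = x
      rw [hmul, hγ', hinvmul]
    have hfree' : ∀ x ∈ S \ O, ∀ γ, a γ x = x → γ = 1 := fun x hx =>
      hfree x (Finset.mem_sdiff.mp hx).1
    obtain ⟨T', hT'S, hsum⟩ := ih (S \ O) hlt hinv' hfree'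
    have hx₀T' : x₀ ∉ T' := fun h => (Finset.mem_sdiff.mp (hT'S h)).2 hx₀O
    refine ⟨insert x₀ T', ?_, ?_⟩
    · intro y hy
      rcases Finset.mem_insert.mp hy with rfl | hy
      · exact hx₀
      · exact (Finset.mem_sdiff.mp (hT'S hy)).1
    · rw [← Finset.sum_sdiff hOS, hsum, Finset.sum_insert hx₀T', mul_add]
      have hinj : Set.InjOn (fun γ => a γ x₀) (Finset.univ : Finset Γ) := by
        intro γ _ γ' _ hγ
        have h2 : a (γ'⁻¹ * γ) x₀ = x₀ := by
          rw [hmul]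
          show a γ'⁻¹ (a γ x₀) = x₀
          have : a γ x₀ = a γ' x₀ := hγ
          rw [this, hinvmul]
        have := hfree x₀ hx₀ _ h2
        exact (inv_mul_eq_one.mp this).symm
      have hOsum : ∑ x ∈ O, f x = (Fintype.card Γ : ℂ) * f x₀ := by
        rw [hO, Finset.sum_image hinj]
        simp only [hf]
        rw [Finset.sum_const, Finset.card_univ, nsmul_eq_mul]
      rw [hOsum]
      ring

end Cfsg.Agent.Helper8.FreeSum
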