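import Mathlib
import Cfsg.Prelude.Def_OddOrderLocal
import Cfsg.Agent.Lib.Helper8.FreeSum
import Cfsg.Agent.Lib.Helper24.CharCentral
import Cfsg.Agent.Lib.Helper24.CharAlgebra

/-!
# Characters constant on `Z#` for a central subgroup `Z` of a TI Sylow subgroup with odd normalizer
-/

set_option autoImplicit false
set_option linter.style.haveILetI false
set_option linter.unusedSectionVars false

namespace Cfsg.Agent.Helper8.TISylow

open Cfsg Cfsg.Agent.Helper24
open scoped ComplexConjugate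

/-- An algebraic integer with a nonzero integer multiple that is an integer is an integer. -/
theorem int_of_isIntegral_of_mul_eq {c : ℂ} (hc : IsIntegral ℤ c) {k r : ℤ} (hk : k ≠ 0)
    (h : c * (k : ℂ) = (r : ℂ)) : ∃ n : ℤ, c = (n : ℂ) := by
  have hk' : (k : ℂ) ≠ 0 := by exact_mod_cast hk
  have h1 : c = algebraMap ℚ ℂ ((r : ℚ) / (k : ℚ)) := by
    simp only [map_div₀, eq_ratCast, Rat.cast_intCast]
    rw [eq_div_iff hk']
    exact h
  rw [h1, isIntegral_algebraMap_iff (algebraMap ℚ ℂ).injective] at hc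
  obtain ⟨m, hm⟩ := IsIntegrallyClosed.isIntegral_iff.mp hc
  refine ⟨m, ?_⟩
  rw [h1, ← hm]
  simp

variable {G : Type*} [Group G] [Finite G]

/-- A `p`-element normalizing a Sylow `p`-subgroup lies in it. -/
theorem mem_sylow_of_mem_normalizer {p : ℕ} [Fact p.Prime] (P : Sylow p G) {x : G}
    (hx : ∃ k : ℕ, x ^ p ^ k = 1) (hn : x ∈ Subgroup.normalizer ((P : Subgroup G) : Set G)) :
    x ∈ (P : Subgroup G) := by
  have hZ : IsPGroup p (Subgroup.zpowers x) := by
    obtain ⟨k, hk⟩ := hx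
    rintro ⟨y, hy⟩
    obtain ⟨n, rfl⟩ := Subgroup.mem_zpowers_iff.mp hy
    refine ⟨k, Subtype.ext ?_⟩
    simp only [Subgroup.coe_pow, Subgroup.coe_one]
    rw [← zpow_natCast, ← zpow_mul, mul_comm, zpow_mul, zpow_natCast, hk, one_zpow]
  have hle : Subgroup.zpowers x ≤ Subgroup.normalizer ((P : Subgroup G) : Set G) :=
    Subgroup.zpowers_le.2 hn
  have hsup : IsPGroup p (Subgroup.zpowers x ⊔ (P : Subgroup G) : Subgroup G) :=
    hZ.to_sup_of_normal_right' P.2 hle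
  have := P.is_maximal' hsup le_sup_right
  rw [← this]
  exact le_sup_left (a := Subgroup.zpowers x) (Subgroup.mem_zpowers x)

/-- In a group of odd order no nontrivial element is conjugate to its inverse. -/
theorem conj_ne_inv_of_odd (N : Subgroup G) (hodd : Odd (Nat.card N)) {x z : G} (hx : x ∈ N)
    (hz : z ∈ N) (hz1 : z ≠ 1) : x * z * x⁻¹ ≠ z⁻¹ := by
  intro h
  -- `x ^ 2` commutes with `z`
  have h2 : x ^ 2 * z = z * x ^ 2 := by
    have e1 : x * z = z⁻¹ * x := by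
      calc x * z = (x * z * x⁻¹) * x := by group
        _ = z⁻¹ * x := by rw [h]
    have e2 : x * z⁻¹ = z * x := by
      have : x * z⁻¹ * x⁻¹ = z := by
        calc x * z⁻¹ * x⁻¹ = (x * z * x⁻¹)⁻¹ := by group
          _ = z := by rw [h, inv_inv]
      calc x * z⁻¹ = (x * z⁻¹ * x⁻¹) * x := by group
        _ = z * x := by rw [this]
    calc x ^ 2 * z = x * (x * z) := by rw [pow_two, mul_assoc]
      _ = x * (z⁻¹ * x) := by rw [e1]
      _ = (x * z⁻¹) * x := by rw [mul_assoc]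
      _ = z * x * x := by rw [e2]
      _ = z * x ^ 2 := by rw [pow_two, mul_assoc]
  have hox : Odd (orderOf x) := by
    have : orderOf x ∣ Nat.card N := by
      have := orderOf_dvd_natCard (⟨x, hx⟩ : N)
      rwa [Subgroup.orderOf_mk] at this
    exact Odd.of_dvd_nat hodd this
  obtain ⟨k, hk⟩ := hox
  -- `x = (x ^ 2) ^ (k + 1)`
  have hxpow : x = (x ^ 2) ^ (k + 1) := by
    rw [← pow_mul]
    have : 2 * (k + 1) = orderOf x + 1 := by omega
    rw [this, pow_succ, pow_orderOf_eq_one, one_mul]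
  have hcomm : x * z = z * x := by
    have h3 : ∀ n : ℕ, (x ^ 2) ^ n * z = z * (x ^ 2) ^ n := by
      intro n
      induction n with
      | zero => simp
      | succ n ih => rw [pow_succ, mul_assoc, h2, ← mul_assoc, ih, mul_assoc]
    have := h3 (k + 1)
    rwa [← hxpow] at this
  have hzz : z = z⁻¹ := by
    rw [← h, hcomm]; group
  have hz2 : z ^ 2 = 1 := by
    rw [pow_two]
    nth_rewrite 2 [hzz]
    exact mul_inv_cancel z
  have hoz : orderOf z ∣ 2 := orderOf_dvd_of_pow_eq_one hz2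
  have hoz' : Odd (orderOf z) := by
    have : orderOf z ∣ Nat.card N := by
      have := orderOf_dvd_natCard (⟨z, hz⟩ : N)
      rwa [Subgroup.orderOf_mk] at this
    exact Odd.of_dvd_nat hodd this
  have : orderOf z = 1 := by
    rcases (Nat.dvd_prime Nat.prime_two).mp hoz with h1 | h1
    · exact h1
    · rw [h1] at hoz'; exact absurd hoz' (by decide)
  exact hz1 (orderOf_eq_one_iff.mp this)

/-- A character constant on `Z#` takes an integer value there. -/
theorem const_value_int (Z : Subgroup G) (hZ1 : Z ≠ ⊥) {ψ : G → ℂ} (hψ : IsCharacter G ψ)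
    {z : G} (hz : z ∈ Z) (hconst : ∀ z' ∈ Z, z' ≠ 1 → ψ z' = ψ z) : ∃ n : ℤ, ψ z = n := by
  classical
  haveI := Fintype.ofFinite G
  haveI : Fintype ↥Z := Fintype.ofFinite _
  haveI : Finite (IrrCharacter ↥Z) := irr_finite
  haveI : Fintype (IrrCharacter ↥Z) := Fintype.ofFinite _
  have hres : IsCharacter ↥Z (fun k : Z => ψ k) := isCharacter_restrict Z hψ
  obtain ⟨a, ha⟩ := classInner_char_nat hres (isCharacter_one (G := ↥Z))
  obtain ⟨d, hd⟩ : ∃ d : ℕ, ψ 1 = d := by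
    obtain ⟨n, ρ, rfl⟩ := hψ
    exact ⟨_, Representation.char_one ρ⟩
  rw [classInner] at ha
  have hsum : ∑ k : Z, ψ k = (Nat.card Z : ℂ) * ψ z + (ψ 1 - ψ z) := by
    have h1 : ∀ k : Z, ψ k = ψ z + (if k = 1 then (ψ 1 - ψ z) else 0) := by
      intro k
      by_cases hk : k = 1
      · rw [if_pos hk, hk]; simp
      · rw [if_neg hk, add_zero]
        exact hconst k k.2 (fun h => hk (Subtype.ext h))
    rw [Finset.sum_congr rfl (fun k _ => h1 k), Finset.sum_add_distrib, Finset.sum_const,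
      Finset.card_univ, nsmul_eq_mul, Finset.sum_ite_eq' Finset.univ (1 : Z), if_pos (Finset.mem_univ _),
      Nat.card_eq_fintype_card]
  have hZpos : 0 < Nat.card Z := Nat.card_pos
  have hZ2 : 2 ≤ Nat.card Z := by
    by_contra hlt
    have : Nat.card Z = 1 := by omega
    exact hZ1 (Subgroup.card_eq_one.mp this)
  have hcard : (Nat.card Z : ℂ) ≠ 0 := by exact_mod_cast hZpos.ne'
  simp only [map_one, mul_one] at ha
  rw [hsum, hd] at ha
  have hkey : ψ z * (((Nat.card Z : ℤ) - 1 : ℤ) : ℂ) =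
      (((Nat.card Z : ℤ) * (a : ℤ) - (d : ℤ) : ℤ) : ℂ) := by
    push_cast
    field_simp at ha
    linear_combination ha
  refine int_of_isIntegral_of_mul_eq (isIntegral_of_isCharacter hψ z) ?_ hkey
  omega

/-- The congruence `ψ 1 ≡ ψ z (mod |P|)` for an irreducible character constant on `Z#`. -/
theorem main (p : ℕ) [Fact p.Prime] (P : Sylow p G)
    (hTI : Cfsg.IsTISubset ((P : Subgroup G) : Set G))
    (hodd : Odd (Nat.card (Subgroup.normalizer ((P : Subgroup G) : Set G))))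
    (Z : Subgroup G) (hZ1 : Z ≠ ⊥) (hZP : Z ≤ P)
    (hZn : ∀ x ∈ Subgroup.normalizer ((P : Subgroup G) : Set G), ∀ z ∈ Z, x * z * x⁻¹ ∈ Z)
    (hZc : ∀ z ∈ Z, ∀ y ∈ (P : Subgroup G), z * y = y * z)
    (ψ : G → ℂ) (hψ : Cfsg.IsIrrCharacter G ψ)
    (hconst : ∀ z ∈ Z, ∀ z' ∈ Z, z ≠ 1 → z' ≠ 1 → ψ z = ψ z') (z : G) (hz : z ∈ Z)
    (hz1 : z ≠ 1) :
    ∃ n d : ℤ, ψ z = n ∧ ψ 1 = d ∧ (Nat.card (P : Subgroup G) : ℤ) ∣ d - n := by
  classical
  haveI := Fintype.ofFinite G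
  set N := Subgroup.normalizer ((P : Subgroup G) : Set G) with hN
  have hψc := isCharacter_of_isIrrCharacter hψ
  have hcf := isClassFunction_of_isIrrCharacter hψ
  obtain ⟨dn, hdn, hd⟩ := irr_one_eq hψ
  obtain ⟨n, hn⟩ := const_value_int Z hZ1 hψc hz (fun z' hz' hz'1 => hconst z' hz' z hz hz'1 hz1)
  have hPN : (P : Subgroup G) ≤ N := Subgroup.le_normalizer
  have hzP : z ∈ (P : Subgroup G) := hZP hz
  have hzN : z ∈ N := hPN hzP
  have hzi : z⁻¹ ∈ Z := Z.inv_mem hz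
  have hzi1 : z⁻¹ ≠ 1 := fun h => hz1 (inv_eq_one.mp h)
  -- fusion control
  have hF1 : ∀ g x : G, x ∈ (P : Subgroup G) → x ≠ 1 → g * x * g⁻¹ ∈ (P : Subgroup G) → g ∈ N := by
    intro g x hx hx1 hgx
    by_contra hg
    exact hx1 (hTI g hg x hx hgx)
  set C := Subgroup.centralizer ({z} : Set G) with hC
  have hCN : C ≤ N := by
    intro w hw
    apply hF1 w z hzP hz1
    have : w * z = z * w := Subgroup.mem_centralizer_singleton_iff.mp hw
    have h2 : w * z * w⁻¹ = z := by rw [this]; group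
    rw [h2]; exact hzP
  have hCcomm : ∀ w ∈ C, w * z = z * w := fun w hw =>
    Subgroup.mem_centralizer_singleton_iff.mp hw
  have hCcomm' : ∀ w ∈ C, w * z⁻¹ = z⁻¹ * w := by
    intro w hw
    have := hCcomm w hw
    calc w * z⁻¹ = z⁻¹ * (z * w) * z⁻¹ := by group
      _ = z⁻¹ * (w * z) * z⁻¹ := by rw [this]
      _ = z⁻¹ * w := by group
  -- the two sums agree
  have hE1 := sum_char_mul_conj hψ z z
  have hE2 := sum_char_mul_conj hψ z z⁻¹
  have hzz : ψ z⁻¹ = ψ z := hconst z⁻¹ hzi z hz hzi1 hz1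
  rw [hzz] at hE2
  have hsum0 : ∑ y : G, (ψ (z * (y * z⁻¹ * y⁻¹)) - ψ (z * (y * z * y⁻¹))) = 0 := by
    rw [Finset.sum_sub_distrib, hE1, hE2, sub_self]
  -- the action
  let a : (↥(P : Subgroup G) × ↥C) → G → G := fun γ y => (γ.1 : G) * y * (γ.2 : G)⁻¹
  have ha1 : ∀ y, a 1 y = y := by intro y; simp [a]
  have hamul : ∀ γ γ' y, a (γ * γ') y = a γ (a γ' y) := by
    intro γ γ' y
    simp only [a, Prod.fst_mul, Prod.snd_mul, Subgroup.coe_mul, mul_inv_rev]
    group
  set f : G → ℂ := fun y => ψ (z * (y * z⁻¹ * y⁻¹)) - ψ (z * (y * z * y⁻¹)) with hf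
  have hinvar : ∀ (b : G), (∀ w ∈ C, w * b = b * w) → ∀ (γ : ↥(P : Subgroup G) × ↥C) (y : G),
      ψ (z * (a γ y * b * (a γ y)⁻¹)) = ψ (z * (y * b * y⁻¹)) := by
    intro b hb γ y
    have hu := hZc z hz γ.1 γ.1.2
    have hw := hb γ.2 γ.2.2
    have e1 : a γ y * b * (a γ y)⁻¹ = (γ.1 : G) * (y * b * y⁻¹) * (γ.1 : G)⁻¹ := by
      simp only [a, mul_inv_rev, inv_inv]
      have : (γ.2 : G)⁻¹ * b * (γ.2 : G) = b := by
        calc (γ.2 : G)⁻¹ * b * (γ.2 : G) = (γ.2 : G)⁻¹ * (b * (γ.2 : G)) := by group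
          _ = (γ.2 : G)⁻¹ * ((γ.2 : G) * b) := by rw [hw]
          _ = b := by group
      calc (γ.1 : G) * y * (γ.2 : G)⁻¹ * b * ((γ.2 : G) * (y⁻¹ * (γ.1 : G)⁻¹))
          = (γ.1 : G) * y * ((γ.2 : G)⁻¹ * b * (γ.2 : G)) * y⁻¹ * (γ.1 : G)⁻¹ := by group
        _ = (γ.1 : G) * (y * b * y⁻¹) * (γ.1 : G)⁻¹ := by rw [this]; group
    have e2 : z * ((γ.1 : G) * (y * b * y⁻¹) * (γ.1 : G)⁻¹) =
        (γ.1 : G) * (z * (y * b * y⁻¹)) * (γ.1 : G)⁻¹ := by
      calc z * ((γ.1 : G) * (y * b * y⁻¹) * (γ.1 : G)⁻¹)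
          = (z * (γ.1 : G)) * (y * b * y⁻¹) * (γ.1 : G)⁻¹ := by group
        _ = ((γ.1 : G) * z) * (y * b * y⁻¹) * (γ.1 : G)⁻¹ := by rw [hu]
        _ = (γ.1 : G) * (z * (y * b * y⁻¹)) * (γ.1 : G)⁻¹ := by group
    rw [e1, e2, hcf]
  have hfinv : ∀ γ y, f (a γ y) = f y := by
    intro γ y
    simp only [hf]
    rw [hinvar z⁻¹ hCcomm' γ y, hinvar z hCcomm γ y]
  set S : Finset G := Finset.univ.filter (fun y => y ∉ N) with hS
  have hSinv : ∀ γ, ∀ y ∈ S, a γ y ∈ S := by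
    intro γ y hy
    rw [hS, Finset.mem_filter] at hy ⊢
    refine ⟨Finset.mem_univ _, fun hmem => hy.2 ?_⟩
    have h1 : (γ.1 : G) ∈ N := hPN γ.1.2
    have h2 : (γ.2 : G) ∈ N := hCN γ.2.2
    have : y = (γ.1 : G)⁻¹ * (a γ y) * (γ.2 : G) := by simp only [a]; group
    rw [this]
    exact N.mul_mem (N.mul_mem (N.inv_mem h1) hmem) h2
  have hSfree : ∀ y ∈ S, ∀ γ, a γ y = y → γ = 1 := by
    intro y hy γ hγ
    rw [hS, Finset.mem_filter] at hy
    have hw : (γ.2 : G) = y⁻¹ * (γ.1 : G) * y := by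
      have : (γ.1 : G) * y * (γ.2 : G)⁻¹ = y := hγ
      calc (γ.2 : G) = ((γ.1 : G) * y * (γ.2 : G)⁻¹)⁻¹ * ((γ.1 : G) * y) := by group
        _ = y⁻¹ * ((γ.1 : G) * y) := by rw [this]
        _ = y⁻¹ * (γ.1 : G) * y := by group
    have hu1 : (γ.1 : G) = 1 := by
      by_contra hu1
      apply hy.2
      have hwN : (γ.2 : G) ∈ N := hCN γ.2.2
      have hwp : ∃ k : ℕ, (γ.2 : G) ^ p ^ k = 1 := by
        obtain ⟨k, hk⟩ := P.2 γ.1
        refine ⟨k, ?_⟩
        have hk' : (γ.1 : G) ^ p ^ k = 1 := by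
          have := congrArg Subtype.val hk
          simpa using this
        have e : y⁻¹ * (γ.1 : G) * y = y⁻¹ * (γ.1 : G) * y⁻¹⁻¹ := by rw [inv_inv]
        rw [hw, e, conj_pow, hk']; group
      have hwP : (γ.2 : G) ∈ (P : Subgroup G) := mem_sylow_of_mem_normalizer P hwp hwN
      have hyinv : y⁻¹ ∈ N := by
        apply hF1 y⁻¹ (γ.1 : G) γ.1.2 hu1
        rw [inv_inv, ← hw]; exact hwP
      have := N.inv_mem hyinv
      rwa [inv_inv] at this
    have hw1 : (γ.2 : G) = 1 := by rw [hw, hu1]; group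
    exact Prod.ext (Subtype.ext hu1) (Subtype.ext hw1)
  obtain ⟨T, -, hT⟩ := FreeSum.sum_free_action a ha1 hamul f hfinv S hSinv hSfree
  -- the sum over `N`
  have hsplit := Finset.sum_filter_add_sum_filter_not Finset.univ (fun y => y ∈ N) f
  rw [hsum0] at hsplit
  have hNsum : ∑ y ∈ Finset.univ.filter (fun y => y ∈ N), f y =
      (Fintype.card ↥C : ℂ) * (ψ 1 - ψ z) := by
    have h1 : ∀ y ∈ Finset.univ.filter (fun y => y ∈ N), f y =
        if y ∈ C then (ψ 1 - ψ z) else 0 := by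
      intro y hy
      have hyN : y ∈ N := (Finset.mem_filter.mp hy).2
      have hc1 : ψ (z * (y * z * y⁻¹)) = ψ z := by
        have h2 : y * z * y⁻¹ ∈ Z := hZn y hyN z hz
        have h3 : z * (y * z * y⁻¹) ≠ 1 := by
          intro h4
          apply conj_ne_inv_of_odd N hodd hyN hzN hz1
          exact (eq_inv_of_mul_eq_one_right h4)
        exact hconst _ (Z.mul_mem hz h2) z hz h3 hz1
      simp only [hf]
      rw [hc1]
      by_cases hyC : y ∈ C
      · rw [if_pos hyC]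
        have : y * z⁻¹ * y⁻¹ = z⁻¹ := by
          rw [hCcomm' y hyC]; group
        rw [this, mul_inv_cancel]
      · rw [if_neg hyC]
        have h2 : y * z⁻¹ * y⁻¹ ∈ Z := hZn y hyN z⁻¹ hzi
        have h3 : z * (y * z⁻¹ * y⁻¹) ≠ 1 := by
          intro h4
          apply hyC
          rw [hC, Subgroup.mem_centralizer_singleton_iff]
          have h5 : y * z⁻¹ * y⁻¹ = z⁻¹ := eq_inv_of_mul_eq_one_right h4
          have h6 : y * z * y⁻¹ = z := by
            calc y * z * y⁻¹ = (y * z⁻¹ * y⁻¹)⁻¹ := by group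
              _ = z := by rw [h5, inv_inv]
          calc y * z = (y * z * y⁻¹) * y := by group
            _ = z * y := by rw [h6]
        rw [hconst _ (Z.mul_mem hz h2) z hz h3 hz1, sub_self]
    rw [Finset.sum_congr rfl h1, Finset.sum_ite, Finset.sum_const_zero, add_zero, Finset.sum_const,
      nsmul_eq_mul]
    congr 2
    rw [Fintype.card_subtype]
    congr 1
    ext y
    simp only [Finset.mem_filter, Finset.mem_univ, true_and]
    exact ⟨fun h => h.2, fun h => ⟨hCN h, h⟩⟩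
  rw [hNsum] at hsplit
  have hS' : ∑ y ∈ Finset.univ.filter (fun y => ¬ y ∈ N), f y = ∑ y ∈ S, f y := rfl
  rw [hS', hT, Fintype.card_prod] at hsplit
  -- integrality
  set β : ℂ := ∑ y ∈ T, f y with hβ
  have hβint : IsIntegral ℤ β := by
    refine IsIntegral.sum _ fun y _ => ?_
    exact IsIntegral.sub (isIntegral_of_isCharacter hψc _) (isIntegral_of_isCharacter hψc _)
  have hCpos : (Fintype.card ↥C : ℂ) ≠ 0 := by
    have : 0 < Fintype.card ↥C := Fintype.card_pos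
    exact_mod_cast this.ne'
  have hrel : ψ 1 - ψ z = - ((Fintype.card ↥(P : Subgroup G) : ℂ) * β) := by
    have : (Fintype.card ↥C : ℂ) * ((ψ 1 - ψ z) + (Fintype.card ↥(P : Subgroup G) : ℂ) * β) = 0 := by
      push_cast at hsplit
      linear_combination hsplit
    rcases mul_eq_zero.mp this with h0 | h0
    · exact absurd h0 hCpos
    · linear_combination h0
  have hPpos : 0 < Fintype.card ↥(P : Subgroup G) := Fintype.card_pos
  have hkey : β * (((Fintype.card ↥(P : Subgroup G) : ℤ)) : ℂ) = (((n : ℤ) - (dn : ℤ) : ℤ) : ℂ) := by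
    rw [hd, hn] at hrel
    push_cast
    linear_combination hrel
  obtain ⟨m, hm⟩ := int_of_isIntegral_of_mul_eq hβint (by exact_mod_cast hPpos.ne') hkey
  refine ⟨n, dn, hn, by rw [hd]; simp, ?_⟩
  refine ⟨-m, ?_⟩
  rw [hm] at hkey
  have h4 : (m : ℤ) * (Fintype.card ↥(P : Subgroup G) : ℤ) = (n : ℤ) - (dn : ℤ) := by
    exact_mod_cast hkey
  rw [Nat.card_eq_fintype_card]
  linarith

end Cfsg.Agent.Helper8.TISylow
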