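import Mathlib
import Cfsg.Prelude.Def_OddOrderChar
import Cfsg.Agent.Lib.Helper5.FrobKer
import Cfsg.Agent.Lib.Helper8.Coh6
import Cfsg.Agent.S0161
import Cfsg.Agent.S1514
import Cfsg.Agent.Lib.Helper8.TISylow

/-!
# Frobenius groups and coherence, part 1 (helper8)

`L` a finite group, `K` a normal subgroup with `C_L(k) ≤ K` for `1 ≠ k ∈ K`
(hypothesis `hF`, in the form used by `Helper5.FrobKer`).
-/

set_option autoImplicit false

namespace Cfsg.Agent.Helper8.FrobCoh

open Cfsg Cfsg.Agent.Helper8 Cfsg.Agent.Helper24 Cfsg.Agent.Helper5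
open scoped ComplexConjugate

universe u v

section Abstract

variable {L : Type u} [Group L] [Fintype L] (K : Subgroup L) [hK : K.Normal]
  (hF : ∀ k ∈ K, k ≠ 1 → ∀ x : L, x * k = k * x → x ∈ K)

include hF in
/-- the set of induced characters is the set of irreducible characters not containing `K`
in their kernel -/
theorem inducedIrrAbove_bot_eq :
    Cfsg.inducedIrrAbove K ⊥ = {χ : L → ℂ | Cfsg.IsIrrCharacter L χ ∧ FrobKer.Rel K χ} := by
  ext χ
  constructor
  · rintro ⟨θ, hθ, hne, -, rfl⟩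
    exact ⟨FrobKer.isIrr_indFun K hF hθ hne, FrobKer.rel_indFun K hF hθ hne⟩
  · rintro ⟨hχ, hr⟩
    obtain ⟨φ, hφ, hne, rfl⟩ := FrobKer.exists_eq_indFun K hF hχ hr
    refine ⟨φ, hφ, hne, fun a ha => ?_, rfl⟩
    rw [Subgroup.mem_bot] at ha
    have : a = 1 := Subtype.ext ha
    rw [this]

include hF in
theorem isIrr_of_mem {χ : L → ℂ} (h : χ ∈ Cfsg.inducedIrrAbove K ⊥) : Cfsg.IsIrrCharacter L χ := by
  rw [inducedIrrAbove_bot_eq K hF] at h
  exact h.1

include hF in
theorem vanish_off_of_mem {χ : L → ℂ} (h : χ ∈ Cfsg.inducedIrrAbove K ⊥) {x : L} (hx : x ∉ K) :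
    χ x = 0 := by
  rw [inducedIrrAbove_bot_eq K hF] at h
  exact FrobKer.vanish_off K hF h.1 h.2 hx

include hF in
/-- for `x ∉ K` the map `g ↦ x g x⁻¹ g⁻¹` is injective on `K` -/
theorem comm_injOn {x : L} (hxK : x ∉ K) :
    ∀ g ∈ K, ∀ g' ∈ K, x * g * x⁻¹ * g⁻¹ = x * g' * x⁻¹ * g'⁻¹ → g = g' := by
  intro g hg g' hg' h
  by_contra hne
  have h1 : g'⁻¹ * g ≠ 1 := by
    intro h1
    apply hne
    have := eq_of_inv_mul_eq_one h1
    exact this.symm
  have h2 : x * (g'⁻¹ * g) = (g'⁻¹ * g) * x := by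
    have e1 : x * g * x⁻¹ = x * g' * x⁻¹ * g'⁻¹ * g := by
      rw [← h]; group
    have e2 : x * g = x * g' * x⁻¹ * g'⁻¹ * g * x := by
      calc x * g = (x * g * x⁻¹) * x := by group
        _ = x * g' * x⁻¹ * g'⁻¹ * g * x := by rw [e1]
    have e3 : g = g' * x⁻¹ * g'⁻¹ * g * x := by
      calc g = x⁻¹ * (x * g) := by group
        _ = x⁻¹ * (x * g' * x⁻¹ * g'⁻¹ * g * x) := by rw [← e2]
        _ = g' * x⁻¹ * g'⁻¹ * g * x := by group
    calc x * (g'⁻¹ * g) = x * (g'⁻¹ * (g' * x⁻¹ * g'⁻¹ * g * x)) := by rw [← e3]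
      _ = (g'⁻¹ * g) * x := by group
  exact hxK (hF _ (K.mul_mem (K.inv_mem hg') hg) h1 x h2)

include hF in
/-- the Frobenius condition passes to the quotient by a normal subgroup `M ≤ K` of `L` -/
theorem quot_frob (M : Subgroup L) [hM : M.Normal] (hMK : M ≤ K) :
    ∀ k ∈ K, k ∉ M → ∀ x : L, x * k * x⁻¹ * k⁻¹ ∈ M → x ∈ K := by
  classical
  intro k hk hkM x hx
  by_contra hxK
  have hinj := comm_injOn K hF hxK
  -- count
  set A : Finset L := Finset.univ.filter (fun g => g ∈ K ∧ x * g * x⁻¹ * g⁻¹ ∈ M) with hA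
  set B : Finset L := Finset.univ.filter (fun g => g ∈ M) with hB
  have hAB : A.card ≤ B.card := by
    apply Finset.card_le_card_of_injOn (fun g => x * g * x⁻¹ * g⁻¹)
    · intro g hg
      have := (Finset.mem_filter.1 (Finset.mem_coe.1 hg)).2
      exact Finset.mem_coe.2 (Finset.mem_filter.2 ⟨Finset.mem_univ _, this.2⟩)
    · intro g hg g' hg' h
      have h1 := (Finset.mem_filter.1 (Finset.mem_coe.1 hg)).2
      have h2 := (Finset.mem_filter.1 (Finset.mem_coe.1 hg')).2
      exact hinj g h1.1 g' h2.1 h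
  have hBA : insert k B ⊆ A := by
    intro g hg
    rcases Finset.mem_insert.1 hg with rfl | hg
    · exact Finset.mem_filter.2 ⟨Finset.mem_univ _, hk, hx⟩
    · have hgM := (Finset.mem_filter.1 hg).2
      refine Finset.mem_filter.2 ⟨Finset.mem_univ _, hMK hgM, ?_⟩
      exact M.mul_mem (hM.conj_mem g hgM x) (M.inv_mem hgM)
  have hkB : k ∉ B := fun h => hkM (Finset.mem_filter.1 h).2
  have := Finset.card_le_card hBA
  rw [Finset.card_insert_of_notMem hkB] at this
  omega

include hF in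
/-- an involution outside `K` inverts `K`, so that `K` is abelian -/
theorem comm_of_involution {t : L} (htK : t ∉ K) (ht : t * t = 1) :
    ∀ a ∈ K, ∀ b ∈ K, a * b = b * a := by
  classical
  have hinj := comm_injOn K hF htK
  have htinv : t⁻¹ = t := inv_eq_of_mul_eq_one_left ht
  -- the map `g ↦ t g t⁻¹ g⁻¹` is a bijection of `K`
  set KK : Finset L := Finset.univ.filter (fun g => g ∈ K) with hKK
  have himg : KK.image (fun g => t * g * t⁻¹ * g⁻¹) = KK := by
    apply Finset.eq_of_subset_of_card_le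
    · intro y hy
      obtain ⟨g, hg, rfl⟩ := Finset.mem_image.1 hy
      have hgK := (Finset.mem_filter.1 hg).2
      exact Finset.mem_filter.2 ⟨Finset.mem_univ _,
        K.mul_mem (hK.conj_mem g hgK t) (K.inv_mem hgK)⟩
    · rw [Finset.card_image_of_injOn]
      intro g hg g' hg' h
      exact hinj g (Finset.mem_filter.1 (Finset.mem_coe.1 hg)).2 g'
        (Finset.mem_filter.1 (Finset.mem_coe.1 hg')).2 h
  have hinvert : ∀ x ∈ K, t * x * t⁻¹ = x⁻¹ := by
    intro x hx
    have hxKK : x ∈ KK := Finset.mem_filter.2 ⟨Finset.mem_univ _, hx⟩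
    rw [← himg] at hxKK
    obtain ⟨g, -, rfl⟩ := Finset.mem_image.1 hxKK
    have e : t * (t * g * t⁻¹ * g⁻¹) * t⁻¹ = (t * t) * g * t⁻¹ * g⁻¹ * t⁻¹ := by group
    rw [e, ht, htinv]
    have e2 : (t * g * t * g⁻¹)⁻¹ = g * t⁻¹ * g⁻¹ * t⁻¹ := by group
    rw [e2, htinv]; group
  intro a ha b hb
  have h1 := hinvert (a * b) (K.mul_mem ha hb)
  have h2 : t * (a * b) * t⁻¹ = (t * a * t⁻¹) * (t * b * t⁻¹) := by group
  rw [h2, hinvert a ha, hinvert b hb, mul_inv_rev] at h1
  have h3 : (a⁻¹ * b⁻¹)⁻¹ = (b⁻¹ * a⁻¹)⁻¹ := by rw [h1]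
  rw [mul_inv_rev, mul_inv_rev, inv_inv, inv_inv] at h3
  exact h3.symm

include hF in
/-- if `K` has odd order and is not abelian then `L` has odd order -/
theorem odd_of_not_comm (hKodd : Odd (Nat.card K)) (hna : ¬ ∀ a ∈ K, ∀ b ∈ K, a * b = b * a) :
    Odd (Nat.card L) := by
  by_contra hne
  rw [Nat.not_odd_iff_even] at hne
  have h2 : 2 ∣ Nat.card L := even_iff_two_dvd.1 hne
  haveI : Fact (Nat.Prime 2) := ⟨Nat.prime_two⟩
  obtain ⟨t, ht⟩ := exists_prime_orderOf_dvd_card' 2 h2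
  have htK : t ∉ K := by
    intro h
    have h1 := Subgroup.orderOf_dvd_natCard K h
    rw [ht] at h1
    obtain ⟨m, hm⟩ := hKodd
    omega
  have htt : t * t = 1 := by
    have := pow_orderOf_eq_one t
    rw [ht, pow_two] at this
    exact this
  exact hna (comm_of_involution K hF htK htt)

include hF in
/-- in odd order no member is real -/
theorem conj_ne (hodd : Odd (Nat.card L)) {χ : L → ℂ} (h : χ ∈ Cfsg.inducedIrrAbove K ⊥) :
    Cfsg.conjFun χ ≠ χ := by
  intro hc
  rw [inducedIrrAbove_bot_eq K hF] at h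
  obtain ⟨hχ, k, hk, hne⟩ := h
  have hreal : ∀ g : L, (χ g).im = 0 := by
    intro g
    have := congrFun hc g
    simp only [Cfsg.conjFun] at this
    exact Complex.conj_eq_iff_im.1 this
  have := Cfsg.Agent.S0161.result hodd ⟨χ, hχ⟩ hreal
  apply hne
  have h1 := congrFun this k
  have h2 := congrFun this 1
  simp only at h1 h2
  rw [h1, h2]

include hF in
/-- existence of a coherence system in odd order -/
theorem exists_system {G : Type v} [Group G] [Fintype G] (hodd : Odd (Nat.card L)) (hK1 : K ≠ ⊥)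
    (hsolv : Group.IsSolvable K)
    (τ : (L → ℂ) → (G → ℂ))
    (hτ : Cfsg.IsLinearIsometryOn (Cfsg.zspanOn (Cfsg.inducedIrrAbove K ⊥) {1}ᶜ) τ)
    (hτ1 : ∀ α ∈ Cfsg.zspanOn (Cfsg.inducedIrrAbove K ⊥) {1}ᶜ, τ α 1 = 0) :
    ∃ R : (L → ℂ) → Finset (G → ℂ), Cfsg.IsCoherenceSystem (Cfsg.inducedIrrAbove K ⊥) τ R := by
  have hlt : (⊥ : Subgroup L) < K := bot_lt_iff_ne_bot.2 hK1
  obtain ⟨θ, hθ, hne, hθA, -⟩ := Coh6.exists_linear K hsolv hlt
  refine Cfsg.Agent.S1514.result (Cfsg.inducedIrrAbove K ⊥)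
    ⟨Cfsg.indFun K θ, θ, hθ, hne, hθA, rfl⟩ (fun χ hχ => isIrr_of_mem K hF hχ)
    (fun χ hχ => ⟨Coh6.inducedIrrAbove_conj K hχ, conj_ne K hF hodd hχ⟩) τ hτ hτ1

end Abstract

section Complement

variable {L : Type u} [Group L] [Fintype L] (K W : Subgroup L) [hK : K.Normal]

/-- a normal subgroup with a complement acting fixed point freely satisfies the Frobenius
condition -/
theorem frob_of_complement (hsup : K ⊔ W = ⊤)
    (hfpf : ∀ w ∈ W, w ≠ 1 → ∀ h ∈ K, w * h = h * w → h = 1) :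
    ∀ k ∈ K, k ≠ 1 → ∀ x : L, x * k = k * x → x ∈ K := by
  classical
  intro k hk hk1 x hx
  have hxmem : x ∈ (↑(K ⊔ W) : Set L) := by rw [hsup]; trivial
  rw [Subgroup.normal_mul] at hxmem
  obtain ⟨h, hh, w, hw, rfl⟩ := Set.mem_mul.1 hxmem
  by_cases hw1 : w = 1
  · rw [hw1, mul_one]; exact hh
  exfalso
  -- the map `g ↦ g⁻¹ w g w⁻¹` is a bijection of `K`
  have hinj : ∀ g ∈ K, ∀ g' ∈ K, g⁻¹ * w * g * w⁻¹ = g'⁻¹ * w * g' * w⁻¹ → g = g' := by
    intro g hg g' hg' he
    have h1 : w * (g' * g⁻¹) = (g' * g⁻¹) * w := by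
      have e1 : g⁻¹ * w * g = g'⁻¹ * w * g' := by
        have := congrArg (fun t => t * w) he
        simpa [mul_assoc] using this
      calc w * (g' * g⁻¹) = g' * (g'⁻¹ * w * g') * g⁻¹ := by group
        _ = g' * (g⁻¹ * w * g) * g⁻¹ := by rw [e1]
        _ = (g' * g⁻¹) * w := by group
    have h2 := hfpf w hw hw1 (g' * g⁻¹) (K.mul_mem hg' (K.inv_mem hg)) h1
    have h3 : g' = g := by
      have := mul_inv_eq_one.1 h2
      exact this
    exact h3.symm
  set KK : Finset L := Finset.univ.filter (fun g => g ∈ K) with hKK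
  have himg : KK.image (fun g => g⁻¹ * w * g * w⁻¹) = KK := by
    apply Finset.eq_of_subset_of_card_le
    · intro y hy
      obtain ⟨g, hg, rfl⟩ := Finset.mem_image.1 hy
      have hgK := (Finset.mem_filter.1 hg).2
      refine Finset.mem_filter.2 ⟨Finset.mem_univ _, ?_⟩
      have : g⁻¹ * w * g * w⁻¹ = g⁻¹ * (w * g * w⁻¹) := by group
      rw [this]
      exact K.mul_mem (K.inv_mem hgK) (hK.conj_mem g hgK w)
    · rw [Finset.card_image_of_injOn]
      intro g hg g' hg' he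
      exact hinj g (Finset.mem_filter.1 (Finset.mem_coe.1 hg)).2 g'
        (Finset.mem_filter.1 (Finset.mem_coe.1 hg')).2 he
  have hhKK : h ∈ KK := Finset.mem_filter.2 ⟨Finset.mem_univ _, hh⟩
  rw [← himg] at hhKK
  obtain ⟨g, hg, hgh⟩ := Finset.mem_image.1 hhKK
  have hgK := (Finset.mem_filter.1 hg).2
  have hxeq : h * w = g⁻¹ * w * g := by rw [← hgh]; group
  rw [hxeq] at hx
  have hcomm : w * (g * k * g⁻¹) = (g * k * g⁻¹) * w := by
    calc w * (g * k * g⁻¹) = g * ((g⁻¹ * w * g) * k) * g⁻¹ := by group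
      _ = g * (k * (g⁻¹ * w * g)) * g⁻¹ := by rw [hx]
      _ = (g * k * g⁻¹) * w := by group
  have h1 := hfpf w hw hw1 (g * k * g⁻¹) (hK.conj_mem k hk g) hcomm
  apply hk1
  have : k = g⁻¹ * (g * k * g⁻¹) * g := by group
  rw [this, h1]; group

end Complement

section Orbit

variable {L : Type u} [Group L] [Fintype L] (K : Subgroup L) [hK : K.Normal]
  (hF : ∀ k ∈ K, k ≠ 1 → ∀ x : L, x * k = k * x → x ∈ K)

include hF in
/-- the conjugacy class of a nonidentity element of `K` that is central in `K` has exactly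
`[L:K]` elements -/
theorem card_conj_image [DecidableEq L] {z : L} (hz : z ∈ K) (hz1 : z ≠ 1)
    (hzc : ∀ k ∈ K, z * k = k * z) :
    (Finset.univ.image (fun x : L => x * z * x⁻¹)).card = K.index := by
  classical
  have h1 := Finset.card_eq_sum_card_image (fun x : L => x * z * x⁻¹) (Finset.univ : Finset L)
  have hfib : ∀ y ∈ Finset.univ.image (fun x : L => x * z * x⁻¹),
      (Finset.univ.filter (fun x : L => x * z * x⁻¹ = y)).card = Nat.card K := by
    intro y hy
    obtain ⟨x₀, -, rfl⟩ := Finset.mem_image.1 hy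
    have hset : Finset.univ.filter (fun x : L => x * z * x⁻¹ = x₀ * z * x₀⁻¹) =
        (Finset.univ.filter (fun k : L => k ∈ K)).image (fun k => x₀ * k) := by
      ext x
      simp only [Finset.mem_filter, Finset.mem_univ, true_and, Finset.mem_image]
      constructor
      · intro h
        refine ⟨x₀⁻¹ * x, ?_, by group⟩
        apply hF z hz hz1
        have e : x₀⁻¹ * (x * z * x⁻¹) * x₀ = z := by rw [h]; group
        calc x₀⁻¹ * x * z = (x₀⁻¹ * (x * z * x⁻¹) * x₀) * (x₀⁻¹ * x) := by group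
          _ = z * (x₀⁻¹ * x) := by rw [e]
      · rintro ⟨k, hk, rfl⟩
        have := hzc k hk
        calc x₀ * k * z * (x₀ * k)⁻¹ = x₀ * (k * z) * k⁻¹ * x₀⁻¹ := by group
          _ = x₀ * (z * k) * k⁻¹ * x₀⁻¹ := by rw [this]
          _ = x₀ * z * x₀⁻¹ := by group
    rw [hset, Finset.card_image_of_injective _ (mul_right_injective x₀), Nat.card_eq_fintype_card,
      Fintype.card_subtype]
  rw [Finset.sum_congr rfl hfib, Finset.sum_const, smul_eq_mul, Finset.card_univ,
    ← Nat.card_eq_fintype_card, ← K.card_mul_index] at h1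
  have hpos : 0 < Nat.card K := Nat.card_pos
  have : Nat.card K * K.index = Nat.card K * (Finset.univ.image (fun x : L => x * z * x⁻¹)).card := by
    rw [h1]; ring
  exact (Nat.eq_of_mul_eq_mul_left hpos this).symm

include hF in
/-- in odd order, a nontrivial normal subgroup `Z` of `L` central in `K` has order at least
`2 [L:K] + 1` -/
theorem two_index_le (hodd : Odd (Nat.card L)) (Z : Subgroup L) [hZn : Z.Normal] (hZ1 : Z ≠ ⊥)
    (hZK : Z ≤ K) (hZc : ∀ z ∈ Z, ∀ k ∈ K, z * k = k * z) :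
    2 * K.index + 1 ≤ Nat.card Z := by
  classical
  obtain ⟨z, hz⟩ := (Subgroup.ne_bot_iff_exists_ne_one.1 hZ1)
  have hzZ : (z : L) ∈ Z := z.2
  have hz1' : (z : L) ≠ 1 := fun h => hz (Subtype.ext h)
  set O₁ : Finset L := Finset.univ.image (fun x : L => x * (z : L) * x⁻¹) with hO₁
  set O₂ : Finset L := Finset.univ.image (fun x : L => x * (z : L)⁻¹ * x⁻¹) with hO₂
  have hc1 : O₁.card = K.index := card_conj_image K hF (hZK hzZ) hz1' (hZc _ hzZ)
  have hc2 : O₂.card = K.index :=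
    card_conj_image K hF (hZK (Z.inv_mem hzZ)) (inv_ne_one.2 hz1') (hZc _ (Z.inv_mem hzZ))
  have hdisj : Disjoint O₁ O₂ := by
    rw [Finset.disjoint_left]
    intro y hy1 hy2
    obtain ⟨a, -, rfl⟩ := Finset.mem_image.1 hy1
    obtain ⟨b, -, hb⟩ := Finset.mem_image.1 hy2
    have htop : Odd (Nat.card (⊤ : Subgroup L)) := by rw [Subgroup.card_top]; exact hodd
    apply TISylow.conj_ne_inv_of_odd (⊤ : Subgroup L) htop (x := b⁻¹ * a) (z := (z : L))
      (Subgroup.mem_top _) (Subgroup.mem_top _) hz1'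
    calc b⁻¹ * a * (z : L) * (b⁻¹ * a)⁻¹ = b⁻¹ * (a * (z : L) * a⁻¹) * b := by group
      _ = b⁻¹ * (b * (z : L)⁻¹ * b⁻¹) * b := by rw [hb]
      _ = (z : L)⁻¹ := by group
  have hsub : O₁ ∪ O₂ ⊆ (Finset.univ.filter (fun x : L => x ∈ Z)).erase 1 := by
    intro y hy
    rw [Finset.mem_erase, Finset.mem_filter]
    rcases Finset.mem_union.1 hy with h | h
    · obtain ⟨a, -, rfl⟩ := Finset.mem_image.1 h
      refine ⟨fun h1 => hz1' ?_, Finset.mem_univ _, hZn.conj_mem _ hzZ a⟩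
      have : (z : L) = a⁻¹ * (a * (z : L) * a⁻¹) * a := by group
      rw [this, h1]; group
    · obtain ⟨a, -, rfl⟩ := Finset.mem_image.1 h
      refine ⟨fun h1 => hz1' ?_, Finset.mem_univ _, hZn.conj_mem _ (Z.inv_mem hzZ) a⟩
      have : (z : L)⁻¹ = a⁻¹ * (a * (z : L)⁻¹ * a⁻¹) * a := by group
      rw [h1] at this
      have h2 : (z : L)⁻¹ = 1 := by rw [this]; group
      exact inv_eq_one.1 h2
  have hcard := Finset.card_le_card hsub
  rw [Finset.card_union_of_disjoint hdisj, hc1, hc2, Finset.card_erase_of_mem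
    (Finset.mem_filter.2 ⟨Finset.mem_univ _, Z.one_mem⟩)] at hcard
  have hZcard : (Finset.univ.filter (fun x : L => x ∈ Z)).card = Nat.card Z := by
    rw [Nat.card_eq_fintype_card, Fintype.card_subtype]
  rw [hZcard] at hcard
  have hpos : 0 < Nat.card Z := Nat.card_pos
  omega

end Orbit

section Diff

variable {X : Type u} [Group X] [Fintype X]

/-- A class function whose multiplicities on the characters nontrivial on `Z` are proportional
to the degrees takes at a nonidentity element of `Z` the value `δ 1 - c |X|`. -/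
theorem diff_const [Fintype (IrrCharacter X)] (Z : Subgroup X) {δ : X → ℂ}
    (hδ : IsClassFunction X δ) (c : ℂ)
    (h : ∀ η : X → ℂ, IsIrrCharacter X η → FrobKer.Rel Z η → classInner δ η = c * η 1)
    {a : X} (ha : a ∈ Z) (ha1 : a ≠ 1) : δ 1 - δ a = c * (Nat.card X : ℂ) := by
  classical
  have hexp := classFunction_expansion hδ
  have e1 : ∀ x : X, δ x = ∑ η : IrrCharacter X, classInner δ (η : X → ℂ) * (η : X → ℂ) x := by
    intro x
    conv_lhs => rw [hexp]
    simp only [Finset.sum_apply, Pi.smul_apply, smul_eq_mul]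
  have key : ∀ η : IrrCharacter X,
      classInner δ (η : X → ℂ) * (η : X → ℂ) 1 - classInner δ (η : X → ℂ) * (η : X → ℂ) a =
      c * ((η : X → ℂ) 1 * (η : X → ℂ) 1) - c * ((η : X → ℂ) 1 * (η : X → ℂ) a) := by
    intro η
    by_cases hr : FrobKer.Rel Z (η : X → ℂ)
    · rw [h _ η.2 hr]; ring
    · rw [FrobKer.not_rel hr ha]; ring
  rw [e1 1, e1 a, ← Finset.sum_sub_distrib, Finset.sum_congr rfl (fun η _ => key η),
    Finset.sum_sub_distrib, ← Finset.mul_sum, ← Finset.mul_sum, FrobKer.sum_deg_sq,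
    FrobKer.sum_deg_mul ha1]
  ring

end Diff

end Cfsg.Agent.Helper8.FrobCoh
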