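import Mathlib
import Cfsg.Agent.Lib.Helper8.FrobCoh1

/-!
# Auxiliary group theory for the Feit-Sibley theorem (helper8)
-/

set_option autoImplicit false

namespace Cfsg.Agent.Helper8.FeitCoh

open Cfsg.Agent.Helper8.FrobCoh

universe u

section Center

variable {L : Type u} [Group L] [Fintype L] (K : Subgroup L) [hK : K.Normal]
  (hF : ∀ k ∈ K, k ≠ 1 → ∀ x : L, x * k = k * x → x ∈ K)

include hF in
/-- a nilpotent Frobenius kernel of order `[L:K] + 1` is abelian -/
theorem comm_of_card_eq (hnil : Group.IsNilpotent ↥K) (hK1 : K ≠ ⊥)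
    (hcard : Nat.card K = K.index + 1) : ∀ a ∈ K, ∀ b ∈ K, a * b = b * a := by
  classical
  set Z : Subgroup L := K ⊓ Subgroup.centralizer (K : Set L) with hZdef
  haveI hZn : Z.Normal := Subgroup.normal_inf_normal _ _
  have hZK : Z ≤ K := inf_le_left
  have hZc : ∀ z ∈ Z, ∀ k ∈ K, z * k = k * z := by
    intro z hz k hk
    exact (Subgroup.mem_centralizer_iff.1 (Subgroup.mem_inf.1 hz).2 k hk).symm
  -- a nonidentity element of the centre
  haveI : Nontrivial ↥K := (Subgroup.nontrivial_iff_ne_bot _).2 hK1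
  haveI := hnil
  have hcne : Subgroup.center ↥K ≠ ⊥ := Group.IsNilpotent.center_ne_bot ↥K
  obtain ⟨c, hc⟩ := Subgroup.ne_bot_iff_exists_ne_one.1 hcne
  have hzZ : ((c : ↥K) : L) ∈ Z := by
    refine Subgroup.mem_inf.2 ⟨(c : ↥K).2, ?_⟩
    rw [Subgroup.mem_centralizer_iff]
    intro k hk
    have := Subgroup.mem_center_iff.1 c.2 ⟨k, hk⟩
    exact congrArg Subtype.val this
  have hz1 : ((c : ↥K) : L) ≠ 1 := by
    intro h
    apply hc
    apply Subtype.ext
    apply Subtype.ext
    exact h
  set z : L := ((c : ↥K) : L) with hzdef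
  have hc1 := card_conj_image K hF (hZK hzZ) hz1 (hZc z hzZ)
  have hsub : Finset.univ.image (fun x : L => x * z * x⁻¹) ⊆
      (Finset.univ.filter (fun x : L => x ∈ Z)).erase 1 := by
    intro y hy
    obtain ⟨a, -, rfl⟩ := Finset.mem_image.1 hy
    rw [Finset.mem_erase, Finset.mem_filter]
    refine ⟨fun h1 => hz1 ?_, Finset.mem_univ _, hZn.conj_mem _ hzZ a⟩
    have : z = a⁻¹ * (a * z * a⁻¹) * a := by group
    rw [this, h1]; group
  have hle := Finset.card_le_card hsub
  rw [hc1, Finset.card_erase_of_mem (Finset.mem_filter.2 ⟨Finset.mem_univ _, Z.one_mem⟩)] at hle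
  have hZcard : (Finset.univ.filter (fun x : L => x ∈ Z)).card = Nat.card Z := by
    rw [Nat.card_eq_fintype_card, Fintype.card_subtype]
  rw [hZcard] at hle
  have hZeq : Z = K := by
    apply Subgroup.eq_of_le_of_card_ge hZK
    have hpos : 0 < Nat.card Z := Nat.card_pos
    omega
  intro a ha b hb
  rw [← hZeq] at ha
  exact hZc a ha b hb

include hF in
/-- if the kernel is not abelian then the index is odd -/
theorem odd_index_of_not_comm (hna : ¬ ∀ a ∈ K, ∀ b ∈ K, a * b = b * a) : Odd K.index := by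
  classical
  by_contra hne
  rw [Nat.not_odd_iff_even] at hne
  have h2 : 2 ∣ Nat.card (L ⧸ K) := by
    have : K.index = Nat.card (L ⧸ K) := Subgroup.index_eq_card K
    rw [← this]
    exact even_iff_two_dvd.1 hne
  haveI : Fact (Nat.Prime 2) := ⟨Nat.prime_two⟩
  obtain ⟨q, hq⟩ := exists_prime_orderOf_dvd_card' 2 h2
  obtain ⟨t, rfl⟩ := QuotientGroup.mk_surjective q
  have htK : t ∉ K := by
    intro h
    have : (QuotientGroup.mk t : L ⧸ K) = 1 := (QuotientGroup.eq_one_iff t).2 h
    rw [this, orderOf_one] at hq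
    omega
  have htt : t * t ∈ K := by
    have h1 := pow_orderOf_eq_one (QuotientGroup.mk t : L ⧸ K)
    rw [hq, pow_two, ← QuotientGroup.mk_mul] at h1
    exact (QuotientGroup.eq_one_iff _).1 h1
  have htt1 : t * t = 1 := by
    by_contra hne1
    exact htK (hF (t * t) htt hne1 t (by group))
  exact hna (comm_of_involution K hF htK htt1)

end Center

section Index

/-- the index of the commutator subgroup is invariant under isomorphism -/
theorem index_commutator_congr {A B : Type*} [Group A] [Group B] (f : A ≃* B) :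
    (commutator A).index = (commutator B).index := by
  rw [Subgroup.index_eq_card, Subgroup.index_eq_card]
  exact Nat.card_congr (MulEquiv.abelianizationCongr f).toEquiv

theorem commutator_subgroupOf_self {X : Type*} [Group X] (H : Subgroup X) :
    (⁅H, H⁆ : Subgroup X).subgroupOf H = commutator ↥H := by
  rw [← Subgroup.map_subtype_commutator]
  exact Subgroup.comap_map_eq_self_of_injective H.subtype_injective _

/-- the index `[K:K']` computed inside a subgroup containing `K` -/
theorem index_commutator_subgroupOf {X : Type*} [Group X] (K M : Subgroup X) (hKM : K ≤ M) :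
    ((⁅K.subgroupOf M, K.subgroupOf M⁆ : Subgroup ↥M).subgroupOf (K.subgroupOf M)).index =
      ((⁅K, K⁆ : Subgroup X).subgroupOf K).index := by
  rw [commutator_subgroupOf_self, commutator_subgroupOf_self]
  exact index_commutator_congr (Subgroup.subgroupOfEquivOfLe hKM)

end Index

section Arith

theorem two_pow_lt {e a j : ℕ} (he : Odd e) (he2 : 2 ≤ e) (ha : a = 2 ^ j)
    (hle : a ≤ 4 * e ^ 2 + 1) : a < 4 * e ^ 2 := by
  by_contra hlt
  push Not at hlt
  have hcases : a = 4 * e ^ 2 ∨ a = 4 * e ^ 2 + 1 := by omega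
  rcases hcases with h | h
  · -- `2^j = 4 e²` with `e` odd
    have hdvd : e ^ 2 ∣ 2 ^ j := by rw [← ha, h]; exact Dvd.intro_left _ rfl
    have hcop : Nat.Coprime (e ^ 2) (2 ^ j) :=
      Nat.Coprime.pow 2 j (Nat.coprime_two_right.2 he)
    have h1 : e ^ 2 = 1 := Nat.Coprime.eq_one_of_dvd hcop hdvd
    nlinarith
  · rcases j with _ | j
    · rw [pow_zero] at ha
      nlinarith
    · rw [pow_succ] at ha
      omega

end Arith

end Cfsg.Agent.Helper8.FeitCoh
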