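import Mathlib
import Cfsg.Prelude.Def_OddOrderChar
import Cfsg.Agent.Lib.Helper8.Coh6
import Cfsg.Agent.S1517

/-!
# Coherence for sets of induced characters, part 2 (helper8's shared library)

Sub-coherence-systems, coherence of the characters induced from the linear characters of `K`,
and the Frobenius congruence `[L:K] ∣ [N:H₁] - 1`.
-/

set_option autoImplicit false

namespace Cfsg.Agent.Helper8.Coh6

open Cfsg Cfsg.Agent.Helper8 Cfsg.Agent.Helper24
open scoped ComplexConjugate
open scoped commutatorElement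

universe u v

section Subsystem

variable {L : Type u} [Group L] [Fintype L] {G : Type v} [Group G] [Fintype G]

/-- a nonempty conjugation-closed subset of a coherence system is a coherence system -/
theorem subsystem {S T : Set (L → ℂ)} {τ : (L → ℂ) → (G → ℂ)} {R : (L → ℂ) → Finset (G → ℂ)}
    (hS : Cfsg.IsCoherenceSystem S τ R) (hT : T ⊆ S) (hne : T.Nonempty)
    (hc : ∀ χ ∈ T, Cfsg.conjFun χ ∈ T) : Cfsg.IsCoherenceSystem T τ R where
  nonempty := hne
  isCharacter := fun χ hχ => hS.isCharacter χ (hT hχ)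
  conj_mem := hc
  conj_ne := fun χ hχ => hS.conj_ne χ (hT hχ)
  isometry := Cfsg.Agent.S1517.lio_restrict (zspanOn_mono hT) hS.isometry
  map_one := fun α hα => hS.map_one α (zspanOn_mono hT hα)
  orthogonal := fun χ hχ φ hφ => hS.orthogonal χ (hT hχ) φ (hT hφ)
  orthonormal := fun χ hχ => hS.orthonormal χ (hT hχ)
  virtual := fun χ hχ => hS.virtual χ (hT hχ)
  sum_eq := fun χ hχ => hS.sum_eq χ (hT hχ)
  disjoint := fun χ hχ φ hφ => hS.disjoint χ (hT hχ) φ (hT hφ)

variable (K : Subgroup L)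

/-- the characters induced from the linear characters of `K` trivial on `A` form a coherent set -/
theorem coh_linear (hsolv : Group.IsSolvable K) {τ : (L → ℂ) → (G → ℂ)}
    {R : (L → ℂ) → Finset (G → ℂ)}
    (hS : Cfsg.IsCoherenceSystem (Cfsg.inducedIrrAbove K ⊥) τ R) (A : Subgroup L) [A.Normal]
    (hAK : A < K) (hKK : ⁅K, K⁆ ≤ A) :
    Cfsg.IsCoherent (Cfsg.inducedIrrAbove K A) {1}ᶜ τ := by
  classical
  obtain ⟨θ₁, hθ₁, hθ₁ne, hθ₁A, -⟩ := exists_linear K hsolv hAK
  have hsub : Cfsg.IsCoherenceSystem (Cfsg.inducedIrrAbove K A) τ R :=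
    subsystem hS (inducedIrrAbove_subset_bot K A) ⟨_, ⟨θ₁, hθ₁, hθ₁ne, hθ₁A, rfl⟩⟩
      (fun χ hχ => inducedIrrAbove_conj K hχ)
  refine Cfsg.Agent.S1517.result _ τ R hsub ?_
  have hdeg : ∀ φ ∈ Cfsg.inducedIrrAbove K A, φ 1 = (K.index : ℂ) := by
    rintro φ ⟨θ, hθ, -, hθA, rfl⟩
    rw [Helper24.indFun_one]
    have hb := degree_bound K (B := A) (C := K) (D := K) le_rfl (fun x hx y hy => by
      have : ⁅x, y⁆ ∈ ⁅K, K⁆ := Subgroup.commutator_mem_commutator hx hy
      rw [commutatorElement_def] at this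
      exact hKK this) hθ hθA
    obtain ⟨t, ht0, ht⟩ := irr_one_eq hθ
    rw [ht] at hb ⊢
    have h1 : K.relIndex K = 1 := Subgroup.relIndex_eq_one.2 le_rfl
    rw [h1] at hb
    simp only [Complex.natCast_re, Nat.cast_one, one_pow, one_mul] at hb
    have h2 : (t : ℝ) ≤ 1 := by
      by_contra hcon
      push Not at hcon
      nlinarith
    have h3 : t ≤ 1 := by exact_mod_cast h2
    have h4 : t = 1 := by omega
    rw [h4]; simp
  intro φ hφ ψ hψ
  rw [hdeg φ hφ, hdeg ψ hψ]

end Subsystem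

section FrobAbstract

variable {Q : Type u} [Group Q] [Fintype Q]

/-- **Frobenius congruence**, abstract form: if the abelian normal subgroup `Kb` contains the
centraliser of each of its non-identity elements then `[Q:Kb]` divides `|Nb| - 1` for every normal
subgroup `Nb ≤ Kb`. -/
theorem frob_abstract (Kb Nb : Subgroup Q) [Nb.Normal] (hNK : Nb ≤ Kb)
    (hab : ∀ a ∈ Kb, ∀ b ∈ Kb, a * b = b * a)
    (hcen : ∀ n ∈ Kb, n ≠ 1 → ∀ g : Q, g * n = n * g → g ∈ Kb) :
    Kb.index ∣ Nat.card Nb - 1 := by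
  classical
  set cls : Q → Finset Q := fun n => Finset.univ.image (fun g : Q => g * n * g⁻¹) with hcls
  set Y : Finset Q := Finset.univ.filter (fun n => n ∈ Nb ∧ n ≠ 1) with hY
  have hmemcls : ∀ n m : Q, m ∈ cls n ↔ ∃ g : Q, g * n * g⁻¹ = m := by
    intro n m; simp [hcls]
  have hself : ∀ n : Q, n ∈ cls n := fun n => (hmemcls n n).2 ⟨1, by simp⟩
  have hcls_eq : ∀ n m : Q, m ∈ cls n → cls m = cls n := by
    intro n m hm
    obtain ⟨g₀, rfl⟩ := (hmemcls n m).1 hm
    ext x
    rw [hmemcls, hmemcls]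
    constructor
    · rintro ⟨g, rfl⟩; exact ⟨g * g₀, by group⟩
    · rintro ⟨g, rfl⟩; exact ⟨g * g₀⁻¹, by group⟩
  have hYsub : ∀ n ∈ Y, ∀ m ∈ cls n, m ∈ Y := by
    intro n hn m hm
    obtain ⟨g, rfl⟩ := (hmemcls n m).1 hm
    obtain ⟨hnN, hn1⟩ := (Finset.mem_filter.1 hn).2
    refine Finset.mem_filter.2 ⟨Finset.mem_univ _, ‹Nb.Normal›.conj_mem n hnN g, ?_⟩
    intro h
    apply hn1
    have : n = g⁻¹ * (g * n * g⁻¹) * g := by group
    rw [this, h]; group
  -- the size of a class
  have hclscard : ∀ n ∈ Y, (cls n).card * Nat.card Kb = Nat.card Q := by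
    intro n hn
    obtain ⟨hnN, hn1⟩ := (Finset.mem_filter.1 hn).2
    have h1 := Finset.card_eq_sum_card_image (fun g : Q => g * n * g⁻¹) Finset.univ
    have h2 : ∀ m ∈ Finset.univ.image (fun g : Q => g * n * g⁻¹),
        (Finset.univ.filter (fun g : Q => g * n * g⁻¹ = m)).card = Nat.card Kb := by
      intro m hm
      obtain ⟨g₀, -, rfl⟩ := Finset.mem_image.1 hm
      have : Finset.univ.filter (fun g : Q => g * n * g⁻¹ = g₀ * n * g₀⁻¹) =
          (Finset.univ.filter (fun k : Q => k ∈ Kb)).image (fun k => g₀ * k) := by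
        ext g
        simp only [Finset.mem_filter, Finset.mem_univ, true_and, Finset.mem_image]
        constructor
        · intro hg
          refine ⟨g₀⁻¹ * g, ?_, by group⟩
          apply hcen n (hNK hnN) hn1
          have : g₀⁻¹ * g * n = g₀⁻¹ * (g * n * g⁻¹) * g := by group
          rw [this, hg]; group
        · rintro ⟨k, hk, rfl⟩
          have := hab k hk n (hNK hnN)
          calc g₀ * k * n * (g₀ * k)⁻¹ = g₀ * (k * n) * k⁻¹ * g₀⁻¹ := by group
            _ = g₀ * (n * k) * k⁻¹ * g₀⁻¹ := by rw [this]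
            _ = g₀ * n * g₀⁻¹ := by group
      rw [this, Finset.card_image_of_injective _ (mul_right_injective g₀),
        Nat.card_eq_fintype_card, Fintype.card_subtype]
    rw [Finset.sum_congr rfl h2, Finset.sum_const, smul_eq_mul, Finset.card_univ,
      ← Nat.card_eq_fintype_card] at h1
    exact h1.symm
  -- the partition
  have h3 := Finset.card_eq_sum_card_image cls Y
  have h4 : ∀ S ∈ Y.image cls, (Y.filter (fun n => cls n = S)).card * Nat.card Kb =
      Nat.card Q := by
    intro S hS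
    obtain ⟨n₀, hn₀, rfl⟩ := Finset.mem_image.1 hS
    have : Y.filter (fun n => cls n = cls n₀) = cls n₀ := by
      ext n
      rw [Finset.mem_filter]
      constructor
      · rintro ⟨-, h⟩; rw [← h]; exact hself n
      · intro h; exact ⟨hYsub n₀ hn₀ n h, hcls_eq n₀ n h⟩
    rw [this]; exact hclscard n₀ hn₀
  have hKpos : 0 < Nat.card Kb := Nat.card_pos
  have h5 : ∀ S ∈ Y.image cls, (Y.filter (fun n => cls n = S)).card = Kb.index := by
    intro S hS
    have := h4 S hS
    rw [← Kb.card_mul_index, mul_comm] at this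
    exact Nat.eq_of_mul_eq_mul_left hKpos this
  rw [Finset.sum_congr rfl h5, Finset.sum_const, smul_eq_mul] at h3
  have hYcard : Y.card = Nat.card Nb - 1 := by
    have : Y = (Finset.univ.filter (fun n : Q => n ∈ Nb)).erase 1 := by
      ext n
      simp only [hY, Finset.mem_filter, Finset.mem_univ, true_and, Finset.mem_erase]
      tauto
    rw [this, Finset.card_erase_of_mem (by simp [Nb.one_mem]), Nat.card_eq_fintype_card,
      Fintype.card_subtype]
  rw [← hYcard, h3]
  exact Dvd.intro_left _ rfl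

end FrobAbstract

section FrobCongr

variable {L : Type u} [Group L] [Finite L]

/-- **Frobenius congruence**: if `K/H₁` is abelian and every element of `K` outside `H₁` is
centralised modulo `H₁` only from inside `K`, then `[L:K]` divides `[N:H₁] - 1` for every normal
subgroup `N` of `L` between `H₁` and `K`. -/
theorem frob_congr (K H₁ N : Subgroup L) [K.Normal] [H₁.Normal] [N.Normal] (hH₁N : H₁ ≤ N)
    (hNK : N ≤ K) (hKK : ⁅K, K⁆ ≤ H₁)
    (hfrob : ∀ k ∈ K, k ∉ H₁ → ∀ x : L, x * k * x⁻¹ * k⁻¹ ∈ H₁ → x ∈ K) :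
    K.index ∣ H₁.relIndex N - 1 := by
  classical
  haveI : Fintype L := Fintype.ofFinite L
  haveI : Fintype (L ⧸ H₁) := Fintype.ofFinite _
  have hsurj : Function.Surjective (QuotientGroup.mk' H₁) := QuotientGroup.mk'_surjective H₁
  have hker : (QuotientGroup.mk' H₁).ker = H₁ := QuotientGroup.ker_mk' H₁
  haveI : (N.map (QuotientGroup.mk' H₁)).Normal := Subgroup.Normal.map inferInstance _ hsurj
  have h := frob_abstract (K.map (QuotientGroup.mk' H₁)) (N.map (QuotientGroup.mk' H₁))
    (Subgroup.map_mono hNK) ?_ ?_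
  · have hKidx : (K.map (QuotientGroup.mk' H₁)).index = K.index :=
      Subgroup.index_map_eq _ hsurj (by rw [hker]; exact le_trans hH₁N hNK)
    have hNidx : (N.map (QuotientGroup.mk' H₁)).index = N.index :=
      Subgroup.index_map_eq _ hsurj (by rw [hker]; exact hH₁N)
    have hcard : Nat.card (N.map (QuotientGroup.mk' H₁)) = H₁.relIndex N := by
      have h1 := (N.map (QuotientGroup.mk' H₁)).card_mul_index
      rw [hNidx] at h1
      have h2 : Nat.card (L ⧸ H₁) = H₁.index := rfl
      rw [h2, ← Subgroup.relIndex_mul_index hH₁N] at h1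
      have hpos : 0 < N.index := Nat.pos_of_ne_zero Subgroup.index_ne_zero_of_finite
      exact Nat.eq_of_mul_eq_mul_right hpos h1
    rw [hKidx, hcard] at h
    exact h
  · rintro a ⟨x, hx, rfl⟩ b ⟨y, hy, rfl⟩
    rw [← map_mul, ← map_mul, QuotientGroup.mk'_apply, QuotientGroup.mk'_apply, QuotientGroup.eq]
    have : ⁅x⁻¹, y⁻¹⁆ ∈ ⁅K, K⁆ :=
      Subgroup.commutator_mem_commutator (K.inv_mem hx) (K.inv_mem hy)
    have h2 : (x * y)⁻¹ * (y * x) = ⁅x⁻¹, y⁻¹⁆⁻¹ := by
      rw [commutatorElement_def]; group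
    rw [h2]
    exact H₁.inv_mem (hKK this)
  · rintro n ⟨k, hk, rfl⟩ hn1 g hg
    obtain ⟨x, rfl⟩ := hsurj g
    have hkH : k ∉ H₁ := by
      intro hkH
      apply hn1
      rw [QuotientGroup.mk'_apply, QuotientGroup.eq_one_iff]; exact hkH
    have h1 : (QuotientGroup.mk' H₁) (x * k * x⁻¹ * k⁻¹) = 1 := by
      rw [map_mul, map_mul, map_mul, hg, map_inv, map_inv]; group
    rw [QuotientGroup.mk'_apply, QuotientGroup.eq_one_iff] at h1
    exact Subgroup.mem_map_of_mem _ (hfrob k hk hkH x h1)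

/-- in odd order, a section congruent to `1` modulo `e` and larger than `1` has at least `2e+1`
elements -/
theorem two_e {e r : ℕ} (he : Odd e) (hr : Odd r) (h1 : 1 < r) (hdvd : e ∣ r - 1) :
    2 * e + 1 ≤ r := by
  obtain ⟨j, hj⟩ := hdvd
  have hj0 : j ≠ 0 := by
    rintro rfl
    simp at hj
    omega
  have hjeven : Even j := by
    by_contra hodd
    rw [Nat.not_even_iff_odd] at hodd
    have : Odd (e * j) := he.mul hodd
    rw [← hj] at this
    obtain ⟨a, ha⟩ := hr
    have h3 : r - 1 = 2 * a := by omega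
    rw [h3] at this
    exact (Nat.not_even_iff_odd.2 this) (even_two_mul a)
  obtain ⟨i, hi⟩ := hjeven
  have : 1 ≤ i := by omega
  have h2 : r - 1 = e * (i + i) := by rw [hj, hi]
  have h3 : e * 2 ≤ e * (i + i) := Nat.mul_le_mul_left _ (by omega)
  omega

end FrobCongr

end Cfsg.Agent.Helper8.Coh6
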