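import Mathlib
import Cfsg.Prelude.Def_OddOrderChar
import Cfsg.Prelude.Def_OddOrderLocal
import Cfsg.Agent.Lib.Helper8.FrobCoh1
import Cfsg.Agent.Lib.Helper5.TIFN
import Cfsg.Agent.Lib.Helper18.GenChar
import Cfsg.Agent.S1522

/-!
# Frobenius groups and coherence, part 2: a TI kernel (helper8)

`K ≤ G` a TI-subgroup, properly contained in its normaliser `N`, containing the centraliser of
each of its nonidentity elements.  Induction from `N` to `G` is a linear isometry on the integer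
combinations, vanishing at `1`, of the irreducible characters of `N` not containing `K` in their
kernel.
-/

set_option autoImplicit false

namespace Cfsg.Agent.Helper8.FrobCoh

open Cfsg Cfsg.Agent.Helper8 Cfsg.Agent.Helper24 Cfsg.Agent.Helper5 Cfsg.Agent.Helper18
open scoped ComplexConjugate

universe u

section TI

variable {G : Type u} [Group G] [Fintype G] (K : Subgroup G)

local notation "𝒩" => Subgroup.normalizer (K : Set G)

variable (hTI : Cfsg.IsTISubset (K : Set G))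
  (hlt : K < Subgroup.normalizer (K : Set G))
  (hC : ∀ k ∈ K, k ≠ 1 → Subgroup.centralizer ({k} : Set G) ≤ K)

theorem normal_subgroupOf : (K.subgroupOf 𝒩).Normal := Subgroup.normal_in_normalizer

include hC in
theorem mem_zspan_props [Fintype ↥𝒩] {α : ↥𝒩 → ℂ}
    (hα : α ∈ Cfsg.zspan (Cfsg.inducedIrrAbove (K.subgroupOf 𝒩) ⊥)) :
    IsClassFunction ↥𝒩 α ∧ IsGeneralizedCharacter ↥𝒩 α ∧ ∀ x : ↥𝒩, (x : G) ∉ K → α x = 0 := by
  haveI : (K.subgroupOf 𝒩).Normal := Subgroup.normal_in_normalizer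
  have hF := TIFN.fpf K hC
  refine zspan_induction (p := fun α => IsClassFunction ↥𝒩 α ∧ IsGeneralizedCharacter ↥𝒩 α ∧
    ∀ x : ↥𝒩, (x : G) ∉ K → α x = 0) ?_ ?_ ?_ ?_ hα
  · intro a ha
    have hirr := isIrr_of_mem (K.subgroupOf 𝒩) hF ha
    refine ⟨isClassFunction_of_isIrrCharacter hirr,
      isGenChar_of_isCharacter (isCharacter_of_isIrrCharacter hirr), fun x hx => ?_⟩
    exact vanish_off_of_mem (K.subgroupOf 𝒩) hF ha (fun h => hx (Subgroup.mem_subgroupOf.1 h))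
  · exact ⟨fun g h => rfl, isGenChar_zero, fun x _ => rfl⟩
  · rintro a b - - ⟨ha1, ha2, ha3⟩ ⟨hb1, hb2, hb3⟩
    refine ⟨fun g h => ?_, isGenChar_add ha2 hb2, fun x hx => ?_⟩
    · simp only [Pi.add_apply, ha1 g h, hb1 g h]
    · simp only [Pi.add_apply, ha3 x hx, hb3 x hx, add_zero]
  · rintro n a - ⟨ha1, ha2, ha3⟩
    refine ⟨fun g h => ?_, isGen_zsmul n ha2, fun x hx => ?_⟩
    · simp only [Pi.smul_apply, ha1 g h]
    · simp only [Pi.smul_apply, ha3 x hx, smul_zero]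

include hTI hlt hC in
/-- induction restricts back to the identity on the combinations vanishing at `1` -/
theorem ind_restrict [Fintype ↥𝒩] {α : ↥𝒩 → ℂ}
    (hα : α ∈ Cfsg.zspanOn (Cfsg.inducedIrrAbove (K.subgroupOf 𝒩) ⊥) {1}ᶜ) (x : ↥𝒩) :
    Cfsg.indFun 𝒩 α x = α x := by
  obtain ⟨h1, -, h3⟩ := mem_zspan_props K hC hα.1
  refine (Cfsg.Agent.S0850.result K hTI hlt hC).2 α h1 h3 (hα.2 1 ?_) x
  simp

include hTI hlt hC in
/-- induction is a linear isometry -/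
theorem lio_ind [Fintype ↥𝒩] : Cfsg.IsLinearIsometryOn
    (Cfsg.zspanOn (Cfsg.inducedIrrAbove (K.subgroupOf 𝒩) ⊥) {1}ᶜ)
    (fun α : ↥𝒩 → ℂ => Cfsg.indFun 𝒩 α) := by
  refine ⟨fun α _ β _ => indFun_add _ α β, fun α _ n => ?_, fun α hα β hβ => ?_, fun α hα => ?_⟩
  · simp only
    rw [← Int.cast_smul_eq_zsmul ℂ n α, indFun_smul, Int.cast_smul_eq_zsmul]
  · simp only
    rw [frobenius_reciprocity 𝒩 α (isClassFunction_indFun 𝒩 β)]
    congr 1
    funext x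
    exact ind_restrict K hTI hlt hC hβ x
  · exact isGenChar_indFun 𝒩 (mem_zspan_props K hC hα.1).2.1

theorem ind_one [Fintype ↥𝒩] {α : ↥𝒩 → ℂ}
    (hα : α ∈ Cfsg.zspanOn (Cfsg.inducedIrrAbove (K.subgroupOf 𝒩) ⊥) {1}ᶜ) :
    Cfsg.indFun 𝒩 α 1 = 0 := by
  rw [Helper24.indFun_one, hα.2 1 (by simp), mul_zero]

include hTI hlt hC in
/-- a coherence system when the normaliser has odd order -/
theorem exists_system_TI [Fintype ↥𝒩] (hK1 : K ≠ ⊥) (hsolv : Group.IsSolvable ↥(K.subgroupOf 𝒩))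
    (hodd : Odd (Nat.card ↥𝒩)) :
    ∃ R : (↥𝒩 → ℂ) → Finset (G → ℂ),
      Cfsg.IsCoherenceSystem (Cfsg.inducedIrrAbove (K.subgroupOf 𝒩) ⊥)
        (fun α : ↥𝒩 → ℂ => Cfsg.indFun 𝒩 α) R := by
  haveI : (K.subgroupOf 𝒩).Normal := Subgroup.normal_in_normalizer
  have hF := TIFN.fpf K hC
  have hK1' : K.subgroupOf 𝒩 ≠ ⊥ := by
    intro h
    apply hK1
    rw [Subgroup.subgroupOf_eq_bot] at h
    rw [eq_bot_iff]
    intro x hx
    have : x ∈ K ⊓ 𝒩 := ⟨hx, hlt.le hx⟩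
    rw [disjoint_iff.1 h] at this
    exact this
  exact exists_system (K.subgroupOf 𝒩) hF hodd hK1' hsolv _ (lio_ind K hTI hlt hC)
    (fun α hα => ind_one K hα)

theorem commutator_le_self {X : Type u} [Group X] (H : Subgroup X) : ⁅H, H⁆ ≤ H := by
  rw [Subgroup.commutator_le]
  intro a ha b hb
  rw [commutatorElement_def]
  exact H.mul_mem (H.mul_mem (H.mul_mem ha hb) (H.inv_mem ha)) (H.inv_mem hb)

theorem commutator_lt {X : Type u} [Group X] (H : Subgroup X) (hH1 : H ≠ ⊥)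
    (hsolv : Group.IsSolvable ↥H) : ⁅H, H⁆ < H := by
  refine lt_of_le_of_ne (commutator_le_self H) ?_
  intro h
  haveI : Nontrivial ↥H := (Subgroup.nontrivial_iff_ne_bot H).2 hH1
  have hlt := Group.IsSolvable.commutator_lt_top_of_nontrivial (G := ↥H)
  apply hlt.ne
  have h1 : (commutator ↥H).map H.subtype = (⊤ : Subgroup ↥H).map H.subtype := by
    rw [Subgroup.map_subtype_commutator, h, ← MonoidHom.range_eq_map, Subgroup.range_subtype]
  exact Subgroup.map_injective H.subtype_injective h1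

include hTI hlt hC in
/-- the characters nontrivial on a central subgroup form a coherent set (from `S1522`) -/
theorem coherent_central [Fintype ↥𝒩] (hK1 : K ≠ ⊥) (hnil : Group.IsNilpotent ↥(K.subgroupOf 𝒩))
    (hodd : Odd (Nat.card ↥𝒩)) (Z : Subgroup ↥𝒩) [Z.Normal] (hZ1 : Z ≠ ⊥)
    (hZK : Z ≤ K.subgroupOf 𝒩) (hZc : ∀ z ∈ Z, ∀ k ∈ K.subgroupOf 𝒩, z * k = k * z) :
    Cfsg.inducedIrrAbove (K.subgroupOf 𝒩) ⊥ \ Cfsg.inducedIrrAbove (K.subgroupOf 𝒩) Z =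
      {χ | Cfsg.IsIrrCharacter ↥𝒩 χ ∧ ∃ z ∈ Z, χ z ≠ χ 1} ∧
    Cfsg.IsCoherent
      (Cfsg.inducedIrrAbove (K.subgroupOf 𝒩) ⊥ \ Cfsg.inducedIrrAbove (K.subgroupOf 𝒩) Z) {1}ᶜ
      (fun α : ↥𝒩 → ℂ => Cfsg.indFun 𝒩 α) := by
  haveI : (K.subgroupOf 𝒩).Normal := Subgroup.normal_in_normalizer
  have hF := TIFN.fpf K hC
  haveI := hnil
  have hsolv : Group.IsSolvable ↥(K.subgroupOf 𝒩) := inferInstance
  obtain ⟨R, hS⟩ := exists_system_TI K hTI hlt hC hK1 hsolv hodd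
  have hK1' : K.subgroupOf 𝒩 ≠ ⊥ := by
    intro h
    apply hK1
    rw [Subgroup.subgroupOf_eq_bot] at h
    rw [eq_bot_iff]
    intro x hx
    have : x ∈ K ⊓ 𝒩 := ⟨hx, hlt.le hx⟩
    rw [disjoint_iff.1 h] at this
    exact this
  have hKtop : K.subgroupOf 𝒩 < ⊤ := by
    refine lt_of_le_of_ne le_top ?_
    intro h
    rw [Subgroup.subgroupOf_eq_top] at h
    exact hlt.not_ge h
  haveI : (⁅K.subgroupOf 𝒩, K.subgroupOf 𝒩⁆).Normal := Subgroup.commutator_normal _ _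
  exact Cfsg.Agent.S1522.result (K.subgroupOf 𝒩) hsolv _ R hS hodd hnil
    (commutator_lt _ hK1' hsolv) hKtop
    (quot_frob (K.subgroupOf 𝒩) hF _ (commutator_le_self _)) Z hZ1 hZK hZc
    (fun χ hχ => isIrr_of_mem (K.subgroupOf 𝒩) hF hχ.1)

end TI

end Cfsg.Agent.Helper8.FrobCoh
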