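import Mathlib
import Cfsg.Prelude.Def_OddOrderChar
import Cfsg.Agent.Lib.Helper8.Coherence
import Cfsg.Agent.Lib.Helper8.CharExtra
import Cfsg.Agent.Lib.Helper8.Proj
import Cfsg.Agent.Lib.Helper18.GenChar
import Cfsg.Agent.S1530

/-!
# Adding a character of small degree to a coherent set (helper8)

`coherent_insert_glue` : the gluing step.
`coherent_insert_small` : a coherent finite set `S₀` of irreducible characters can be enlarged by an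
irreducible character `χ` whose degree divides the smallest degree `ψ 1 = b χ 1` of `S₀`, provided
the multiplicities of `τ (b χ - ψ)` on the irreducible characters orthogonal to the image of `S₀`
are all divisible by `b`.
-/

set_option autoImplicit false

namespace Cfsg.Agent.Helper8.FrobCoh

open Cfsg Cfsg.Agent.Helper8 Cfsg.Agent.Helper24
open scoped ComplexConjugate

universe u v

variable {L : Type u} [Group L] [Fintype L] {G : Type v} [Group G] [Fintype G]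

/-- gluing step -/
theorem coherent_insert_glue (S₀ : Finset (L → ℂ)) (χ : L → ℂ)
    (hirr : ∀ ξ ∈ S₀, Cfsg.IsIrrCharacter L ξ) (hχ : Cfsg.IsIrrCharacter L χ) (hχS : χ ∉ S₀)
    (τ : (L → ℂ) → (G → ℂ))
    (hτ : Cfsg.IsLinearIsometryOn (Cfsg.zspanOn (↑(insert χ S₀) : Set (L → ℂ)) {1}ᶜ) τ)
    (σ : (L → ℂ) → (G → ℂ)) (hσ : Cfsg.IsLinearIsometryOn (Cfsg.zspan (↑S₀ : Set (L → ℂ))) σ)
    (hσα : ∀ θ ∈ Cfsg.zspanOn (↑S₀ : Set (L → ℂ)) {1}ᶜ, σ θ = τ θ)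
    (ψ : L → ℂ) (hψ : ψ ∈ S₀) (b : ℕ) (hb : ψ 1 = (b : ℂ) * χ 1)
    (Θ₀ : G → ℂ) (gΘ : Cfsg.IsGeneralizedCharacter G Θ₀) (nΘ : Cfsg.classInner Θ₀ Θ₀ = 1)
    (hΘσ : ∀ ξ ∈ S₀, Cfsg.classInner (σ ξ) Θ₀ = 0)
    (hdec : τ ((b : ℤ) • χ - ψ) = (b : ℤ) • Θ₀ - σ ψ) :
    Cfsg.IsCoherent (↑(insert χ S₀) : Set (L → ℂ)) {1}ᶜ τ := by
  classical
  set S : Set (L → ℂ) := (↑(insert χ S₀) : Set (L → ℂ)) with hSdef
  have hS₀S : (↑S₀ : Set (L → ℂ)) ⊆ S := by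
    intro x hx
    rw [hSdef, Finset.coe_insert]
    exact Set.mem_insert_of_mem _ hx
  have hχmem : χ ∈ S := by
    rw [hSdef, Finset.coe_insert]
    exact Set.mem_insert _ _
  have hψS : ψ ∈ S := hS₀S hψ
  obtain ⟨dχ, hdχpos, hdχ⟩ := irr_one_eq hχ
  obtain ⟨dψ, hdψpos, hdψ⟩ := irr_one_eq (hirr ψ hψ)
  have hdb : dψ = b * dχ := by
    rw [hdψ, hdχ] at hb
    exact_mod_cast hb
  have oχχ : Cfsg.classInner χ χ = 1 := by rw [irr_orthogonality hχ hχ, if_pos rfl]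
  have oξχ : ∀ ξ ∈ S₀, Cfsg.classInner ξ χ = 0 := by
    intro ξ hξ
    rw [irr_orthogonality (hirr ξ hξ) hχ, if_neg]
    rintro rfl; exact hχS hξ
  set β : L → ℂ := (b : ℤ) • χ - ψ with hβ
  have mχ : χ ∈ Cfsg.zspan S := mem_zspan_of_mem hχmem
  have mψ : ψ ∈ Cfsg.zspan S := mem_zspan_of_mem hψS
  have hβS : β ∈ Cfsg.zspan S := zspan_sub_mem (zspan_zsmul_mem _ mχ) mψ
  have hβ1 : β 1 = 0 := by
    simp only [hβ, Pi.sub_apply, Pi.smul_apply, hdχ, hdψ, hdb]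
    simp
  have hβZ : β ∈ Cfsg.zspanOn S {1}ᶜ := ⟨hβS, Cfsg.Agent.S1530.vanish_of_one hβ1⟩
  have hτ0 : τ 0 = 0 := by
    have h0 : (0 : L → ℂ) ∈ Cfsg.zspanOn S {1}ᶜ := ⟨zspan_zero_mem S, fun _ _ => rfl⟩
    have := hτ.2.1 0 h0 0
    simpa using this
  have hagree : ∀ θ ∈ Cfsg.zspanOn ({χ} : Set (L → ℂ)) {1}ᶜ,
      (fun θ => Cfsg.classInner θ χ • Θ₀) θ = τ θ := by
    rintro θ ⟨hθ, hθ1⟩
    obtain ⟨s, rfl⟩ := Submodule.mem_span_singleton.1 hθ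
    have h1 : (s • χ) 1 = 0 := hθ1 1 (by simp)
    rw [Pi.smul_apply, hdχ, zsmul_eq_mul] at h1
    have hs : s = 0 := by
      rcases mul_eq_zero.1 h1 with h | h
      · exact_mod_cast h
      · exfalso
        have : dχ = 0 := by exact_mod_cast h
        omega
    subst hs
    simp only [zero_smul, hτ0]
    rw [Helper24.classInner_zero_left, zero_smul]
  have hcross : ∀ ξ ∈ (↑S₀ : Set (L → ℂ)), ∀ η ∈ ({χ} : Set (L → ℂ)),
      Cfsg.classInner (σ ξ) ((fun θ => Cfsg.classInner θ χ • Θ₀) η) = 0 := by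
    intro ξ hξ η hη
    rw [Set.mem_singleton_iff] at hη
    subst hη
    simp only
    rw [oχχ, one_smul]
    exact hΘσ ξ hξ
  have horth : ∀ a ∈ (↑S₀ : Set (L → ℂ)), ∀ c ∈ ({χ} : Set (L → ℂ)), Cfsg.classInner a c = 0 := by
    intro a ha c hc
    rw [Set.mem_singleton_iff] at hc
    subst hc
    exact oξχ a ha
  have hdegX : ∀ φ ∈ (↑S₀ : Set (L → ℂ)), ∃ t : ℤ, φ 1 = t := by
    intro φ hφ
    obtain ⟨n, -, hn⟩ := irr_one_eq (hirr φ hφ)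
    exact ⟨n, by rw [hn]; simp⟩
  have hkey : τ ((dψ : ℤ) • χ - (dχ : ℤ) • ψ) =
      (dψ : ℤ) • (fun θ => Cfsg.classInner θ χ • Θ₀) χ - (dχ : ℤ) • σ ψ := by
    simp only
    rw [oχχ, one_smul]
    have e1 : (dψ : ℤ) • χ - (dχ : ℤ) • ψ = (dχ : ℤ) • β := by
      ext x
      simp only [hβ, hdb, Pi.sub_apply, Pi.smul_apply]
      simp only [zsmul_eq_mul]
      push_cast; ring
    have e2 : (dψ : ℤ) • Θ₀ - (dχ : ℤ) • σ ψ = (dχ : ℤ) • τ β := by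
      rw [hdec]
      ext x
      simp only [hdb, Pi.sub_apply, Pi.smul_apply]
      simp only [zsmul_eq_mul]
      push_cast; ring
    rw [e1, e2, hτ.2.1 β hβZ]
  have hglue := Coh.coherent_union' S (↑S₀) {χ} hS₀S
    (Set.singleton_subset_iff.2 hχmem) horth hdegX τ hτ σ (fun θ => Cfsg.classInner θ χ • Θ₀)
    hσ hσα (Cfsg.Agent.S1530.lio_single oχχ gΘ nΘ) hagree hcross ψ χ hψ rfl dψ dχ hdψpos hdχpos
    hdψ hdχ hkey
  have hSeq : ((↑S₀ : Set (L → ℂ)) ∪ {χ}) = S := by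
    rw [hSdef, Finset.coe_insert, Set.union_singleton]
  rw [hSeq] at hglue
  exact hglue

/-- For a coherent pair of irreducible characters of the same degree, the reflected extension. -/
theorem reflect_pair {ψ ψ' : L → ℂ} (hψ : Cfsg.IsIrrCharacter L ψ)
    (hψ' : Cfsg.IsIrrCharacter L ψ') (hne : ψ ≠ ψ') (hdeg : ψ 1 = ψ' 1)
    (σ : (L → ℂ) → (G → ℂ))
    (hσ : Cfsg.IsLinearIsometryOn (Cfsg.zspan ({ψ, ψ'} : Set (L → ℂ))) σ) :
    ∃ σ' : (L → ℂ) → (G → ℂ), Cfsg.IsLinearIsometryOn (Cfsg.zspan ({ψ, ψ'} : Set (L → ℂ))) σ' ∧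
      (∀ θ ∈ Cfsg.zspanOn ({ψ, ψ'} : Set (L → ℂ)) {1}ᶜ, σ' θ = σ θ) ∧
      σ' ψ = -σ ψ' ∧ σ' ψ' = -σ ψ := by
  classical
  have o11 : Cfsg.classInner ψ ψ = 1 := by rw [irr_orthogonality hψ hψ, if_pos rfl]
  have o22 : Cfsg.classInner ψ' ψ' = 1 := by rw [irr_orthogonality hψ' hψ', if_pos rfl]
  have o12 : Cfsg.classInner ψ ψ' = 0 := by rw [irr_orthogonality hψ hψ', if_neg hne]
  have o21 : Cfsg.classInner ψ' ψ = 0 := by rw [irr_orthogonality hψ' hψ, if_neg (Ne.symm hne)]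
  have m1 : ψ ∈ Cfsg.zspan ({ψ, ψ'} : Set (L → ℂ)) := mem_zspan_of_mem (by simp)
  have m2 : ψ' ∈ Cfsg.zspan ({ψ, ψ'} : Set (L → ℂ)) := mem_zspan_of_mem (by simp)
  have s11 : Cfsg.classInner (σ ψ) (σ ψ) = 1 := by rw [lio_inner hσ m1 m1, o11]
  have s22 : Cfsg.classInner (σ ψ') (σ ψ') = 1 := by rw [lio_inner hσ m2 m2, o22]
  have s12 : Cfsg.classInner (σ ψ) (σ ψ') = 0 := by rw [lio_inner hσ m1 m2, o12]
  have s21 : Cfsg.classInner (σ ψ') (σ ψ) = 0 := by rw [lio_inner hσ m2 m1, o21]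
  have hmem : ∀ θ ∈ Cfsg.zspan ({ψ, ψ'} : Set (L → ℂ)), ∃ a a' : ℤ, θ = a • ψ + a' • ψ' := by
    intro θ hθ
    obtain ⟨a, a', h⟩ := Submodule.mem_span_pair.1 hθ
    exact ⟨a, a', h.symm⟩
  have hval : ∀ a a' : ℤ, Cfsg.classInner (a • ψ + a' • ψ') ψ = a ∧
      Cfsg.classInner (a • ψ + a' • ψ') ψ' = a' := by
    intro a a'
    constructor
    · rw [Helper24.classInner_add_left, classInner_zsmul_left, classInner_zsmul_left, o11, o21]
      ring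
    · rw [Helper24.classInner_add_left, classInner_zsmul_left, classInner_zsmul_left, o12, o22]
      ring
  set σ' : (L → ℂ) → (G → ℂ) := fun θ =>
    -(Cfsg.classInner θ ψ • σ ψ' + Cfsg.classInner θ ψ' • σ ψ) with hσ'
  have hσ'val : ∀ a a' : ℤ, σ' (a • ψ + a' • ψ') = -(a • σ ψ' + a' • σ ψ) := by
    intro a a'
    simp only [hσ', (hval a a').1, (hval a a').2]
    ext g
    simp
  refine ⟨σ', ⟨?_, ?_, ?_, ?_⟩, ?_, ?_, ?_⟩
  · intro α _ β _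
    simp only [hσ', Helper24.classInner_add_left, add_smul]
    ext g
    simp only [Pi.neg_apply, Pi.add_apply, Pi.smul_apply, smul_eq_mul]
    ring
  · intro α _ n
    simp only [hσ', classInner_zsmul_left]
    ext g
    simp only [Pi.neg_apply, Pi.add_apply, Pi.smul_apply, smul_eq_mul, zsmul_eq_mul]
    ring
  · intro α hα β hβ
    obtain ⟨a, a', rfl⟩ := hmem α hα
    obtain ⟨c, c', rfl⟩ := hmem β hβ
    rw [hσ'val, hσ'val, classInner_neg_left, classInner_neg_right]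
    simp only [Helper24.classInner_add_left, Helper24.classInner_add_right,
      classInner_zsmul_left, classInner_zsmul_right, s11, s22, s12, s21, o11, o22, o12, o21]
    ring
  · intro α hα
    obtain ⟨a, a', rfl⟩ := hmem α hα
    rw [hσ'val]
    exact isGen_neg (isGen_add (isGen_zsmul _ (lio_gen hσ m2)) (isGen_zsmul _ (lio_gen hσ m1)))
  · rintro θ ⟨hθ, hθ1⟩
    obtain ⟨a, a', rfl⟩ := hmem θ hθ
    have h1 : (a • ψ + a' • ψ') 1 = 0 := hθ1 1 (by simp)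
    obtain ⟨n, hn, hn1⟩ := irr_one_eq hψ
    have hn1' : ψ' 1 = n := by rw [← hdeg, hn1]
    rw [Pi.add_apply, Pi.smul_apply, Pi.smul_apply, hn1, hn1', zsmul_eq_mul, zsmul_eq_mul] at h1
    have h2 : ((a + a' : ℤ) : ℂ) * (n : ℂ) = 0 := by push_cast; linear_combination h1
    have h3 : a + a' = 0 := by
      rcases mul_eq_zero.1 h2 with h | h
      · exact_mod_cast h
      · exfalso
        have : n = 0 := by exact_mod_cast h
        omega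
    have ha' : a' = -a := by omega
    subst ha'
    rw [hσ'val, lio_add hσ (zspan_zsmul_mem _ m1) (zspan_zsmul_mem _ m2), lio_zsmul hσ m1,
      lio_zsmul hσ m2]
    ext g
    simp only [Pi.neg_apply, Pi.add_apply, Pi.smul_apply]
    simp only [zsmul_eq_mul]
    push_cast
    ring
  · have := hσ'val 1 0
    simpa using this
  · have := hσ'val 0 1
    simpa using this

/-- Enlarging a coherent set by a character of small degree. -/
theorem coherent_insert_small (S₀ : Finset (L → ℂ)) (χ : L → ℂ)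
    (hirr : ∀ ξ ∈ S₀, Cfsg.IsIrrCharacter L ξ) (hχ : Cfsg.IsIrrCharacter L χ) (hχS : χ ∉ S₀)
    (d : (L → ℂ) → ℕ) (hd : ∀ ξ ∈ insert χ S₀, ξ 1 = (d ξ : ℂ))
    (τ : (L → ℂ) → (G → ℂ))
    (hτ : Cfsg.IsLinearIsometryOn (Cfsg.zspanOn (↑(insert χ S₀) : Set (L → ℂ)) {1}ᶜ) τ)
    (hτ1 : ∀ α ∈ Cfsg.zspanOn (↑(insert χ S₀) : Set (L → ℂ)) {1}ᶜ, τ α 1 = 0)
    (σ : (L → ℂ) → (G → ℂ)) (hσ : Cfsg.IsLinearIsometryOn (Cfsg.zspan (↑S₀ : Set (L → ℂ))) σ)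
    (hσα : ∀ θ ∈ Cfsg.zspanOn (↑S₀ : Set (L → ℂ)) {1}ᶜ, σ θ = τ θ)
    (ψ : L → ℂ) (hψ : ψ ∈ S₀) (b : ℕ) (hb : d ψ = b * d χ) (hdvd : ∀ ξ ∈ S₀, d ψ ∣ d ξ)
    (hC : 2 * d ψ ^ 2 ≤ ∑ ξ ∈ S₀, d ξ ^ 2)
    (hdiv : ∀ ζ : G → ℂ, Cfsg.IsIrrCharacter G ζ → (∀ ξ ∈ S₀, Cfsg.classInner (σ ξ) ζ = 0) →
      ∃ k : ℤ, Cfsg.classInner (τ ((b : ℤ) • χ - ψ)) ζ = (b : ℂ) * k) :
    Cfsg.IsCoherent (↑(insert χ S₀) : Set (L → ℂ)) {1}ᶜ τ := by
  classical
  letI : Fintype (IrrCharacter G) := irrFintype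
  set S : Set (L → ℂ) := (↑(insert χ S₀) : Set (L → ℂ)) with hSdef
  have hS₀S : (↑S₀ : Set (L → ℂ)) ⊆ S := by
    intro x hx
    rw [hSdef, Finset.coe_insert]
    exact Set.mem_insert_of_mem _ hx
  have hχmem : χ ∈ S := by
    rw [hSdef, Finset.coe_insert]
    exact Set.mem_insert _ _
  have hirrS : ∀ ξ ∈ S, Cfsg.IsIrrCharacter L ξ := by
    intro ξ hξ
    rw [hSdef, Finset.coe_insert] at hξ
    rcases hξ with rfl | hξ
    · exact hχ
    · exact hirr ξ hξ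
  have hψS : ψ ∈ S := hS₀S hψ
  -- degrees
  have hdpos : ∀ ξ ∈ insert χ S₀, 0 < d ξ := by
    intro ξ hξ
    obtain ⟨n, hn, hn1⟩ := irr_one_eq (hirrS ξ (by rw [hSdef]; exact_mod_cast hξ))
    have h := hd ξ hξ
    rw [hn1] at h
    have : n = d ξ := by exact_mod_cast h
    rw [← this]; exact hn
  have hdψ := hd ψ (Finset.mem_insert_of_mem hψ)
  have hdχ := hd χ (Finset.mem_insert_self _ _)
  have hdψpos := hdpos ψ (Finset.mem_insert_of_mem hψ)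
  have hdχpos := hdpos χ (Finset.mem_insert_self _ _)
  have hbpos : 0 < b := by
    rcases Nat.eq_zero_or_pos b with h | h
    · rw [h, zero_mul] at hb; omega
    · exact h
  have hbC : (b : ℂ) ≠ 0 := by exact_mod_cast hbpos.ne'
  choose! c hc using hdvd
  have hcψ : c ψ = 1 := by
    have := hc ψ hψ
    have h2 : d ψ * 1 = d ψ * c ψ := by rw [mul_one]; exact this
    exact (Nat.eq_of_mul_eq_mul_left hdψpos h2).symm
  have hcpos : ∀ ξ ∈ S₀, 1 ≤ c ξ := by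
    intro ξ hξ
    have h1 := hdpos ξ (Finset.mem_insert_of_mem hξ)
    rw [hc ξ hξ] at h1
    rcases Nat.eq_zero_or_pos (c ξ) with h | h
    · rw [h, mul_zero] at h1; omega
    · exact h
  -- orthogonality relations in `S`
  have oχχ : Cfsg.classInner χ χ = 1 := by rw [irr_orthogonality hχ hχ, if_pos rfl]
  have oχξ : ∀ ξ ∈ S₀, Cfsg.classInner χ ξ = 0 := by
    intro ξ hξ
    rw [irr_orthogonality hχ (hirr ξ hξ), if_neg]
    rintro rfl; exact hχS hξ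
  have oξχ : ∀ ξ ∈ S₀, Cfsg.classInner ξ χ = 0 := by
    intro ξ hξ
    rw [irr_orthogonality (hirr ξ hξ) hχ, if_neg]
    rintro rfl; exact hχS hξ
  have oξη : ∀ ξ ∈ S₀, ∀ η ∈ S₀, Cfsg.classInner ξ η = if ξ = η then 1 else 0 :=
    fun ξ hξ η hη => irr_orthogonality (hirr ξ hξ) (hirr η hη)
  have mξ : ∀ ξ ∈ S₀, ξ ∈ Cfsg.zspan (↑S₀ : Set (L → ℂ)) := fun ξ hξ => mem_zspan_of_mem hξ
  have oσ : ∀ ξ ∈ S₀, ∀ η ∈ S₀, Cfsg.classInner (σ ξ) (σ η) = if ξ = η then 1 else 0 := by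
    intro ξ hξ η hη
    rw [lio_inner hσ (mξ ξ hξ) (mξ η hη), oξη ξ hξ η hη]
  have gσ : ∀ ξ ∈ S₀, Cfsg.IsGeneralizedCharacter G (σ ξ) := fun ξ hξ => lio_gen hσ (mξ ξ hξ)
  -- the element `β`
  set β : L → ℂ := (b : ℤ) • χ - ψ with hβ
  have mχ : χ ∈ Cfsg.zspan S := mem_zspan_of_mem hχmem
  have mψ : ψ ∈ Cfsg.zspan S := mem_zspan_of_mem hψS
  have mψ₀ := mξ ψ hψ
  have hβS : β ∈ Cfsg.zspan S := zspan_sub_mem (zspan_zsmul_mem _ mχ) mψ
  have hβ1 : β 1 = 0 := by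
    simp only [hβ, Pi.sub_apply, Pi.smul_apply, hdχ, hdψ, hb]
    simp
  have hβZ : β ∈ Cfsg.zspanOn S {1}ᶜ := ⟨hβS, Cfsg.Agent.S1530.vanish_of_one hβ1⟩
  have hββ : Cfsg.classInner β β = (b : ℂ) ^ 2 + 1 := by
    rw [hβ, classInner_sub_left, classInner_sub_right, classInner_sub_right,
      classInner_zsmul_left, classInner_zsmul_left, classInner_zsmul_right,
      classInner_zsmul_right, oχχ, oχξ ψ hψ, oξχ ψ hψ, oξη ψ hψ ψ hψ, if_pos rfl]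
    push_cast; ring
  set X : G → ℂ := τ β with hX
  have gX : Cfsg.IsGeneralizedCharacter G X := hτ.2.2.2 β hβZ
  have hXX : Cfsg.classInner X X = (b : ℂ) ^ 2 + 1 := by
    rw [hX, hτ.2.2.1 β hβZ β hβZ, hββ]
  have hmm : ∀ ξ ∈ S₀, ∃ m : ℤ, Cfsg.classInner X (σ ξ) = m :=
    fun ξ hξ => genChar_inner_genChar_int gX (gσ ξ hξ)
  choose! mm hmm using hmm
  -- the elements `γ ξ`
  have hγ : ∀ ξ ∈ S₀, mm ξ - (c ξ : ℤ) * mm ψ = (c ξ : ℤ) - (if ξ = ψ then 1 else 0) ∧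
      σ ξ 1 = (c ξ : ℂ) * σ ψ 1 := by
    intro ξ hξ
    set γ : L → ℂ := ξ - (c ξ : ℤ) • ψ with hγdef
    have hγ₀ : γ ∈ Cfsg.zspan (↑S₀ : Set (L → ℂ)) :=
      zspan_sub_mem (mξ ξ hξ) (zspan_zsmul_mem _ mψ₀)
    have hγ1 : γ 1 = 0 := by
      simp only [hγdef, Pi.sub_apply, Pi.smul_apply, hd ξ (Finset.mem_insert_of_mem hξ), hdψ,
        hc ξ hξ]
      simp; ring
    have hγZ₀ : γ ∈ Cfsg.zspanOn (↑S₀ : Set (L → ℂ)) {1}ᶜ :=
      ⟨hγ₀, Cfsg.Agent.S1530.vanish_of_one hγ1⟩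
    have hγZ : γ ∈ Cfsg.zspanOn S {1}ᶜ :=
      ⟨zspan_mono hS₀S hγ₀, Cfsg.Agent.S1530.vanish_of_one hγ1⟩
    have hσγ : σ γ = σ ξ - (c ξ : ℤ) • σ ψ := by
      rw [hγdef, lio_sub hσ (mξ ξ hξ) (zspan_zsmul_mem _ mψ₀), lio_zsmul hσ mψ₀]
    have hβγ : Cfsg.classInner β γ = (c ξ : ℂ) - (if ξ = ψ then 1 else 0) := by
      rw [hβ, hγdef, classInner_sub_left, classInner_sub_right, classInner_sub_right,
        classInner_zsmul_left, classInner_zsmul_left, classInner_zsmul_right,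
        classInner_zsmul_right, oχξ ξ hξ, oχξ ψ hψ, oξη ψ hψ ξ hξ, oξη ψ hψ ψ hψ, if_pos rfl]
      by_cases h : ξ = ψ
      · rw [if_pos h, if_pos h.symm]; push_cast; ring
      · rw [if_neg h, if_neg (Ne.symm h)]; push_cast; ring
    have h0 : Cfsg.classInner X (σ γ) = (c ξ : ℂ) - (if ξ = ψ then 1 else 0) := by
      rw [hX, hσα γ hγZ₀, hτ.2.2.1 β hβZ γ hγZ, hβγ]
    constructor
    · rw [hσγ, classInner_sub_right, classInner_zsmul_right, hmm ξ hξ, hmm ψ hψ] at h0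
      by_cases h : ξ = ψ
      · rw [if_pos h] at h0 ⊢
        have h1 : ((mm ξ - (c ξ : ℤ) * mm ψ : ℤ) : ℂ) = (((c ξ : ℤ) - 1 : ℤ) : ℂ) := by
          push_cast
          push_cast at h0
          linear_combination h0
        exact_mod_cast h1
      · rw [if_neg h] at h0 ⊢
        have h1 : ((mm ξ - (c ξ : ℤ) * mm ψ : ℤ) : ℂ) = (((c ξ : ℤ) - 0 : ℤ) : ℂ) := by
          push_cast
          push_cast at h0
          linear_combination h0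
        exact_mod_cast h1
    · have h1 : σ γ 1 = 0 := by rw [hσα γ hγZ₀]; exact hτ1 γ hγZ
      rw [hσγ, Pi.sub_apply, Pi.smul_apply, zsmul_eq_mul] at h1
      push_cast at h1
      linear_combination h1
  set m : ℤ := mm ψ + 1 with hm
  have hrel : ∀ ξ ∈ S₀, mm ξ = (c ξ : ℤ) * m - (if ξ = ψ then 1 else 0) := by
    intro ξ hξ
    have := (hγ ξ hξ).1
    rw [hm]
    linarith
  -- the projection
  set Pr : G → ℂ := ∑ ξ ∈ S₀, (mm ξ) • σ ξ with hPr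
  have hσP : ∀ ξ ∈ S₀, Cfsg.classInner (σ ξ) Pr = mm ξ := by
    intro ξ hξ
    rw [hPr, Helper24.classInner_sum_right]
    rw [Finset.sum_eq_single ξ]
    · rw [classInner_zsmul_right, oσ ξ hξ ξ hξ, if_pos rfl, mul_one]
    · intro η hη hne
      rw [classInner_zsmul_right, oσ ξ hξ η hη, if_neg (fun h => hne h.symm), mul_zero]
    · intro h; exact absurd hξ h
  have hXP : Cfsg.classInner X Pr = ((∑ ξ ∈ S₀, mm ξ ^ 2 : ℤ) : ℂ) := by
    rw [hPr, Helper24.classInner_sum_right]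
    push_cast
    refine Finset.sum_congr rfl fun ξ hξ => ?_
    rw [classInner_zsmul_right, hmm ξ hξ]; ring
  have hPX : Cfsg.classInner Pr X = ((∑ ξ ∈ S₀, mm ξ ^ 2 : ℤ) : ℂ) := by
    rw [← Helper24.classInner_conj_symm, hXP]
    simp
  have hPP : Cfsg.classInner Pr Pr = ((∑ ξ ∈ S₀, mm ξ ^ 2 : ℤ) : ℂ) := by
    conv_lhs => rw [hPr]
    rw [Helper24.classInner_sum_left]
    push_cast
    refine Finset.sum_congr rfl fun ξ hξ => ?_
    rw [classInner_zsmul_left, hσP ξ hξ]; ring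
  set Θ : G → ℂ := X - Pr with hΘ
  have hΘΘ : Cfsg.classInner Θ Θ = (b : ℂ) ^ 2 + 1 - ((∑ ξ ∈ S₀, mm ξ ^ 2 : ℤ) : ℂ) := by
    rw [hΘ, classInner_sub_left, classInner_sub_right, classInner_sub_right, hXX, hXP, hPX, hPP]
    ring
  have hσΘ : ∀ ξ ∈ S₀, Cfsg.classInner (σ ξ) Θ = 0 := by
    intro ξ hξ
    rw [hΘ, classInner_sub_right, hσP ξ hξ, ← Helper24.classInner_conj_symm, hmm ξ hξ]
    simp
  have hΘσ : ∀ ξ ∈ S₀, Cfsg.classInner Θ (σ ξ) = 0 := by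
    intro ξ hξ
    rw [← Helper24.classInner_conj_symm, hσΘ ξ hξ, map_zero]
  have gPr : Cfsg.IsGeneralizedCharacter G Pr := by
    rw [hPr]
    exact isGen_sum _ _ (fun ξ hξ => isGen_zsmul _ (gσ ξ hξ))
  have gΘ : Cfsg.IsGeneralizedCharacter G Θ := isGen_sub gX gPr
  -- the sum of the squares
  set C : ℤ := ∑ ξ ∈ S₀, (c ξ : ℤ) ^ 2 with hCdef
  have hsumsq : ∑ ξ ∈ S₀, mm ξ ^ 2 = m ^ 2 * C - 2 * m + 1 := by
    have h1 : ∀ ξ ∈ S₀, mm ξ ^ 2 = m ^ 2 * (c ξ : ℤ) ^ 2 -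
        (if ξ = ψ then 2 * m * (c ξ : ℤ) - 1 else 0) := by
      intro ξ hξ
      rw [hrel ξ hξ]
      split_ifs <;> ring
    rw [Finset.sum_congr rfl h1, Finset.sum_sub_distrib, ← Finset.mul_sum,
      Finset.sum_ite_eq' S₀ ψ, if_pos hψ, hcψ]
    push_cast; ring
  have hC2 : 2 ≤ C := by
    have h1 : ∑ ξ ∈ S₀, d ξ ^ 2 = d ψ ^ 2 * ∑ ξ ∈ S₀, c ξ ^ 2 := by
      rw [Finset.mul_sum]
      refine Finset.sum_congr rfl fun ξ hξ => ?_
      rw [hc ξ hξ]; ring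
    rw [h1] at hC
    have h2 : 2 ≤ ∑ ξ ∈ S₀, c ξ ^ 2 := by
      have hpos : 0 < d ψ ^ 2 := by positivity
      by_contra hlt
      push Not at hlt
      have : d ψ ^ 2 * ∑ ξ ∈ S₀, c ξ ^ 2 ≤ d ψ ^ 2 * 1 := Nat.mul_le_mul_left _ (by omega)
      omega
    rw [hCdef]
    exact_mod_cast h2
  -- divisibility by `b`
  have hΘint : ∀ ζ : IrrCharacter G, ∃ k : ℤ, Cfsg.classInner Θ (ζ : G → ℂ) = (b : ℂ) * k := by
    intro ζ
    by_cases h : ∀ ξ ∈ S₀, Cfsg.classInner (σ ξ) (ζ : G → ℂ) = 0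
    · obtain ⟨k, hk⟩ := hdiv ζ.1 ζ.2 h
      refine ⟨k, ?_⟩
      rw [hΘ, classInner_sub_left, hk, hPr, Helper24.classInner_sum_left]
      rw [Finset.sum_eq_zero, sub_zero]
      intro ξ hξ
      rw [classInner_zsmul_left, h ξ hξ, mul_zero]
    · push Not at h
      obtain ⟨ξ, hξ, hne⟩ := h
      refine ⟨0, ?_⟩
      have hn1 : Cfsg.classInner (σ ξ) (σ ξ) = 1 := by rw [oσ ξ hξ ξ hξ, if_pos rfl]
      rcases genChar_norm_one (gσ ξ hξ) hn1 with hi | hi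
      · have : σ ξ = (ζ : G → ℂ) := by
          by_contra hcon
          rw [irr_orthogonality hi ζ.2, if_neg hcon] at hne
          exact hne rfl
        rw [← this, hΘσ ξ hξ]; simp
      · have hne' : Cfsg.classInner (-σ ξ) (ζ : G → ℂ) ≠ 0 := by
          rw [classInner_neg_left]
          exact neg_ne_zero.2 hne
        have : -σ ξ = (ζ : G → ℂ) := by
          by_contra hcon
          rw [irr_orthogonality hi ζ.2, if_neg hcon] at hne'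
          exact hne' rfl
        rw [← this, classInner_neg_right, hΘσ ξ hξ]; simp
  set Θ₀ : G → ℂ := (b : ℂ)⁻¹ • Θ with hΘ₀
  have hΘeq : Θ = (b : ℤ) • Θ₀ := by
    ext g
    simp only [hΘ₀, Pi.smul_apply, zsmul_eq_mul, smul_eq_mul]
    push_cast
    field_simp
  have cfΘ : IsClassFunction G Θ := isClassFunction_of_isGeneralizedCharacter gΘ
  have gΘ₀ : Cfsg.IsGeneralizedCharacter G Θ₀ := by
    apply Cfsg.Agent.Helper18.isGenChar_of_int_inner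
    · intro g h
      simp only [hΘ₀, Pi.smul_apply, cfΘ g h]
    · intro ζ
      obtain ⟨k, hk⟩ := hΘint ζ
      refine ⟨k, ?_⟩
      rw [hΘ₀, Helper24.classInner_smul_left, hk]
      field_simp
  obtain ⟨n₀, hn₀⟩ := genChar_inner_genChar_int gΘ₀ gΘ₀
  have hn₀nn : 0 ≤ n₀ := by
    have := classInner_self_re_nonneg Θ₀
    rw [hn₀, Complex.intCast_re] at this
    exact_mod_cast this
  have hmain : (b : ℤ) ^ 2 * n₀ = (b : ℤ) ^ 2 + 2 * m - m ^ 2 * C := by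
    have h1 : Cfsg.classInner Θ Θ = ((b : ℤ) : ℂ) ^ 2 * n₀ := by
      conv_lhs => rw [hΘeq]
      rw [classInner_zsmul_left, classInner_zsmul_right, hn₀]
      ring
    rw [hΘΘ, hsumsq] at h1
    have h2 : (((b : ℤ) ^ 2 + 2 * m - m ^ 2 * C : ℤ) : ℂ) = (((b : ℤ) ^ 2 * n₀ : ℤ) : ℂ) := by
      push_cast
      push_cast at h1
      linear_combination h1
    exact_mod_cast h2.symm
  have hσψ1 : σ ψ 1 ≠ 0 :=
    Cfsg.Agent.S1530.one_ne_zero_of_norm_one (gσ ψ hψ) (by rw [oσ ψ hψ ψ hψ, if_pos rfl])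
  have hb1 : (1 : ℤ) ≤ (b : ℤ) := by exact_mod_cast hbpos
  -- `n₀ ≠ 0`
  have hn₀pos : 1 ≤ n₀ := by
    by_contra hlt
    have hn0 : n₀ = 0 := by omega
    have hΘ₀0 : Θ₀ = 0 := by
      apply classInner_self_eq_zero_of_re
      rw [hn₀, hn0]; simp
    have hΘ0 : Θ = 0 := by rw [hΘeq, hΘ₀0, smul_zero]
    have hXPr : X = Pr := sub_eq_zero.1 hΘ0
    have hX1 : X 1 = 0 := hτ1 β hβZ
    have hPr1 : Pr 1 = ((m * C - 1 : ℤ) : ℂ) * σ ψ 1 := by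
      rw [hPr, Finset.sum_apply]
      have h1 : ∀ ξ ∈ S₀, ((mm ξ) • σ ξ) 1 = ((m * (c ξ : ℤ) ^ 2 -
          (if ξ = ψ then (c ξ : ℤ) else 0) : ℤ) : ℂ) * σ ψ 1 := by
        intro ξ hξ
        rw [Pi.smul_apply, zsmul_eq_mul, (hγ ξ hξ).2, hrel ξ hξ]
        split_ifs <;> (push_cast; ring)
      have hz : ∑ ξ ∈ S₀, (m * (c ξ : ℤ) ^ 2 - (if ξ = ψ then (c ξ : ℤ) else 0)) = m * C - 1 := by
        rw [Finset.sum_sub_distrib, ← Finset.mul_sum, Finset.sum_ite_eq' S₀ ψ, if_pos hψ, hcψ]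
        push_cast; ring
      rw [Finset.sum_congr rfl h1, ← Finset.sum_mul, ← Int.cast_sum, hz]
    rw [hXPr, hPr1] at hX1
    rcases mul_eq_zero.1 hX1 with h | h
    · have h2 : m * C - 1 = 0 := by exact_mod_cast h
      have h3 : m * C = 1 := by omega
      have h4 : C ∣ 1 := Dvd.intro_left m h3
      have h5 := Int.le_of_dvd (by norm_num) h4
      omega
    · exact hσψ1 h
  -- the possibilities for `m`
  have hm01 : (m = 0 ∧ n₀ = 1) ∨ (m = 1 ∧ C = 2 ∧ n₀ = 1) := by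
    have hb2 : (1 : ℤ) ≤ (b : ℤ) ^ 2 := by nlinarith
    have hkey : 0 ≤ 2 * m - m ^ 2 * C := by
      have : (b : ℤ) ^ 2 * 1 ≤ (b : ℤ) ^ 2 * n₀ := mul_le_mul_of_nonneg_left hn₀pos (by positivity)
      linarith
    have hm0 : 0 ≤ m := by
      by_contra hneg
      push Not at hneg
      have : 0 ≤ m ^ 2 * C := by positivity
      nlinarith
    have hm1 : m ≤ 1 := by
      by_contra hgt
      push Not at hgt
      have h2 : 2 ≤ m := by omega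
      have : m ^ 2 * 2 ≤ m ^ 2 * C := mul_le_mul_of_nonneg_left hC2 (by positivity)
      nlinarith
    rcases (by omega : m = 0 ∨ m = 1) with h0 | h1
    · left
      refine ⟨h0, ?_⟩
      rw [h0] at hmain
      have : (b : ℤ) ^ 2 * n₀ = (b : ℤ) ^ 2 * 1 := by linarith
      exact mul_left_cancel₀ (by positivity) this
    · right
      rw [h1] at hkey hmain
      have hC2' : C = 2 := by linarith
      refine ⟨h1, hC2', ?_⟩
      rw [hC2'] at hmain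
      have : (b : ℤ) ^ 2 * n₀ = (b : ℤ) ^ 2 * 1 := by linarith
      exact mul_left_cancel₀ (by positivity) this
  have hnΘ₀ : ∀ (h : n₀ = 1), Cfsg.classInner Θ₀ Θ₀ = 1 := by
    intro h; rw [hn₀, h]; simp
  have hσΘ₀ : ∀ ξ ∈ S₀, Cfsg.classInner (σ ξ) Θ₀ = 0 := by
    intro ξ hξ
    rw [hΘ₀, Helper24.classInner_smul_right, hσΘ ξ hξ, mul_zero]
  have hbψ : ψ 1 = (b : ℂ) * χ 1 := by
    rw [hdψ, hdχ, hb]; push_cast; ring
  have hXdec : X = Pr + (b : ℤ) • Θ₀ := by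
    rw [← hΘeq, hΘ]; ring
  rcases hm01 with ⟨hm0, hn1⟩ | ⟨hm1, hC2', hn1⟩
  · -- `m = 0`
    have hPr' : Pr = -σ ψ := by
      rw [hPr, Finset.sum_eq_single ψ]
      · rw [hrel ψ hψ, hm0, if_pos rfl]; simp
      · intro ξ hξ hne
        rw [hrel ξ hξ, hm0, if_neg hne]; simp
      · intro h; exact absurd hψ h
    refine coherent_insert_glue S₀ χ hirr hχ hχS τ hτ σ hσ hσα ψ hψ b hbψ Θ₀ gΘ₀ (hnΘ₀ hn1)
      hσΘ₀ ?_
    show X = _
    rw [hXdec, hPr']; ring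
  · -- `m = 1`, `C = 2`: then `S₀ = {ψ, ψ'}` with `ψ'` of the same degree
    have hcsq : ∀ ξ ∈ S₀, (1 : ℤ) ≤ (c ξ : ℤ) ^ 2 := by
      intro ξ hξ
      have : (1 : ℤ) ≤ (c ξ : ℤ) := by exact_mod_cast hcpos ξ hξ
      nlinarith
    have hcard : (S₀.card : ℤ) ≤ 2 := by
      have h1 : ∑ ξ ∈ S₀, (1 : ℤ) ≤ ∑ ξ ∈ S₀, (c ξ : ℤ) ^ 2 := Finset.sum_le_sum hcsq
      rw [Finset.sum_const, ← hCdef, hC2'] at h1
      simpa using h1
    have hcard2 : S₀.card = 2 := by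
      have h1 : 1 ≤ S₀.card := Finset.card_pos.2 ⟨ψ, hψ⟩
      have h2 : S₀.card ≤ 2 := by exact_mod_cast hcard
      rcases (by omega : S₀.card = 1 ∨ S₀.card = 2) with h | h
      · exfalso
        obtain ⟨a, ha⟩ := Finset.card_eq_one.1 h
        have hψa : ψ = a := by rw [ha] at hψ; exact Finset.mem_singleton.1 hψ
        rw [hCdef, ha, Finset.sum_singleton, ← hψa, hcψ] at hC2'
        norm_num at hC2'
      · exact h
    obtain ⟨x, y, hxy, hS₀eq⟩ := Finset.card_eq_two.1 hcard2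
    obtain ⟨ψ', hψ'ne, hS₀eq'⟩ : ∃ ψ' : L → ℂ, ψ ≠ ψ' ∧ S₀ = {ψ, ψ'} := by
      rw [hS₀eq] at hψ
      rcases Finset.mem_insert.1 hψ with h | h
      · exact ⟨y, by rw [h]; exact hxy, by rw [hS₀eq, h]⟩
      · rw [Finset.mem_singleton] at h
        exact ⟨x, by rw [h]; exact hxy.symm, by rw [hS₀eq, h, Finset.pair_comm]⟩
    have hψ' : ψ' ∈ S₀ := by rw [hS₀eq']; simp
    have hcψ' : c ψ' = 1 := by
      have h1 : C = (c ψ : ℤ) ^ 2 + (c ψ' : ℤ) ^ 2 := by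
        rw [hCdef, hS₀eq', Finset.sum_pair hψ'ne]
      rw [hC2', hcψ] at h1
      have h2 : (c ψ' : ℤ) ^ 2 = 1 := by push_cast at h1; linarith
      have h3 : (c ψ' : ℤ) = 1 := by
        have h4 : (1 : ℤ) ≤ (c ψ' : ℤ) := by exact_mod_cast hcpos ψ' hψ'
        nlinarith
      exact_mod_cast h3
    have hdeg : ψ 1 = ψ' 1 := by
      rw [hdψ, hd ψ' (Finset.mem_insert_of_mem hψ'), hc ψ' hψ', hcψ', mul_one]
    have hPr' : Pr = σ ψ' := by
      rw [hPr, hS₀eq', Finset.sum_pair hψ'ne, hrel ψ hψ, hrel ψ' hψ', hm1, hcψ, hcψ', if_pos rfl,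
        if_neg (Ne.symm hψ'ne)]
      simp
    have hcoe : (↑S₀ : Set (L → ℂ)) = {ψ, ψ'} := by rw [hS₀eq', Finset.coe_pair]
    rw [hcoe] at hσ
    obtain ⟨σ', hσ', hσ'σ, hσ'ψ, hσ'ψ'⟩ := reflect_pair (hirr ψ hψ) (hirr ψ' hψ') hψ'ne hdeg σ hσ
    rw [← hcoe] at hσ hσ'
    refine coherent_insert_glue S₀ χ hirr hχ hχS τ hτ σ' hσ' ?_ ψ hψ b hbψ Θ₀ gΘ₀ (hnΘ₀ hn1)
      ?_ ?_
    · intro θ hθ
      rw [← hσα θ hθ]
      apply hσ'σ
      rw [← hcoe]; exact hθ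
    · intro ξ hξ
      rw [hS₀eq'] at hξ
      rcases Finset.mem_insert.1 hξ with h | h
      · rw [h, hσ'ψ, classInner_neg_left, hσΘ₀ ψ' hψ', neg_zero]
      · rw [Finset.mem_singleton] at h
        rw [h, hσ'ψ', classInner_neg_left, hσΘ₀ ψ hψ, neg_zero]
    · show X = _
      rw [hXdec, hPr', hσ'ψ]; ring

end Cfsg.Agent.Helper8.FrobCoh
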