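import Mathlib
import Cfsg.Prelude.Def_OddOrderChar
import Cfsg.Prelude.Def_OddOrderLocal
import Cfsg.Agent.Lib.Helper8.FrobCoh2
import Cfsg.Agent.Lib.Helper8.FrobCoh3
import Cfsg.Agent.Lib.Helper8.TISylow

/-!
# Frobenius groups and coherence, part 4: the divisibility argument (helper8)
-/

set_option autoImplicit false

namespace Cfsg.Agent.Helper8.FrobCoh

open Cfsg Cfsg.Agent.Helper8 Cfsg.Agent.Helper24 Cfsg.Agent.Helper5 Cfsg.Agent.Helper18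
open scoped ComplexConjugate

universe u

section TI

variable {G : Type u} [Group G] [Fintype G] (K : Subgroup G)

local notation "𝒩" => Subgroup.normalizer (K : Set G)

variable (hTI : Cfsg.IsTISubset (K : Set G))
  (hlt : K < Subgroup.normalizer (K : Set G))
  (hC : ∀ k ∈ K, k ≠ 1 → Subgroup.centralizer ({k} : Set G) ≤ K)

include hC in
/-- a nontrivial `p`-subgroup containing the centralisers of its nonidentity elements is a
Sylow subgroup -/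
theorem exists_sylow_eq {p : ℕ} [Fact p.Prime] (hp : IsPGroup p K) (hK1 : K ≠ ⊥) :
    ∃ P : Sylow p G, (P : Subgroup G) = K := by
  refine ⟨⟨K, hp, ?_⟩, rfl⟩
  intro Q hQ hKQ
  obtain ⟨k, hk1⟩ := (Subgroup.ne_bot_iff_exists_ne_one.1 hK1)
  have hk1' : (k : G) ≠ 1 := fun h => hk1 (Subtype.ext h)
  haveI : Nontrivial ↥Q := ⟨⟨⟨k, hKQ k.2⟩, 1, fun h => hk1' (congrArg Subtype.val h)⟩⟩
  haveI := hQ.center_nontrivial
  obtain ⟨c, hc⟩ := exists_ne (1 : Subgroup.center ↥Q)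
  have hc1 : ((c : ↥Q) : G) ≠ 1 := by
    intro h
    apply hc
    apply Subtype.ext
    apply Subtype.ext
    exact h
  have hcen : ∀ q : ↥Q, (q : G) * ((c : ↥Q) : G) = ((c : ↥Q) : G) * (q : G) := by
    intro q
    have := Subgroup.mem_center_iff.1 c.2 q
    exact congrArg Subtype.val this
  have hcK : ((c : ↥Q) : G) ∈ K := by
    apply hC (k : G) k.2 hk1'
    rw [Subgroup.mem_centralizer_singleton_iff]
    exact (hcen ⟨k, hKQ k.2⟩).symm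
  apply le_antisymm _ hKQ
  intro q hq
  apply hC _ hcK hc1
  rw [Subgroup.mem_centralizer_singleton_iff]
  exact hcen ⟨q, hq⟩

include hTI hlt hC in
/-- the divisibility of the multiplicity of `ψ` in the restriction of an irreducible character of
`G` orthogonal to the image of the coherent set `S₁` -/
theorem mult_dvd [Fintype ↥𝒩] {p : ℕ} [Fact p.Prime] (hp : IsPGroup p K) (hK1 : K ≠ ⊥)
    (hodd : Odd (Nat.card ↥𝒩)) (Z : Subgroup ↥𝒩) [hZn : Z.Normal] (hZ1 : Z ≠ ⊥)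
    (hZK : Z ≤ K.subgroupOf 𝒩) (hZc : ∀ z ∈ Z, ∀ k ∈ K.subgroupOf 𝒩, z * k = k * z)
    (S₁ : Set (↥𝒩 → ℂ))
    (hS₁ : S₁ = {χ | Cfsg.IsIrrCharacter ↥𝒩 χ ∧ ∃ z ∈ Z, χ z ≠ χ 1})
    (σ : (↥𝒩 → ℂ) → (G → ℂ)) (hσ : Cfsg.IsLinearIsometryOn (Cfsg.zspan S₁) σ)
    (hσα : ∀ θ ∈ Cfsg.zspanOn S₁ {1}ᶜ, σ θ = Cfsg.indFun 𝒩 θ)
    (ψ : ↥𝒩 → ℂ) (hψ : ψ ∈ S₁) (b : ℕ) (hb : ψ 1 = (b : ℂ) * ((K.subgroupOf 𝒩).index : ℂ))
    (ζ : G → ℂ) (hζ : Cfsg.IsIrrCharacter G ζ)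
    (horth : ∀ ξ ∈ S₁, Cfsg.classInner (σ ξ) ζ = 0) :
    ∃ t : ℤ, Cfsg.classInner ψ (fun x : ↥𝒩 => ζ x) = (b : ℂ) * t := by
  classical
  letI : Fintype (IrrCharacter ↥𝒩) := irrFintype
  set δ : ↥𝒩 → ℂ := fun x => ζ x with hδ
  have hζc := isCharacter_of_isIrrCharacter hζ
  have hζcf := isClassFunction_of_isIrrCharacter hζ
  have hδc : Cfsg.IsCharacter ↥𝒩 δ := isCharacter_restrict 𝒩 hζc
  have hδcf : IsClassFunction ↥𝒩 δ := isClassFunction_of_isCharacter hδc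
  have hirr₁ : ∀ μ ∈ S₁, Cfsg.IsIrrCharacter ↥𝒩 μ := by
    intro μ hμ; rw [hS₁] at hμ; exact hμ.1
  have hψi := hirr₁ ψ hψ
  obtain ⟨dψ, hdψpos, hdψ⟩ := irr_one_eq hψi
  have hdψ0 : (dψ : ℂ) ≠ 0 := by exact_mod_cast hdψpos.ne'
  -- proportionality
  have hprop : ∀ μ ∈ S₁, ψ 1 * Cfsg.classInner μ δ = μ 1 * Cfsg.classInner ψ δ := by
    intro μ hμ
    have hμi := hirr₁ μ hμ
    have hαZ := TIFN.alpha_mem_zspanOn hμ hψ hμi hψi
    have h1 : σ (TIFN.alpha μ ψ) = (ψ 1) • σ μ - (μ 1) • σ ψ := TIFN.star_alpha hσ hμ hψ hμi hψi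
    have h2 : Cfsg.classInner (σ (TIFN.alpha μ ψ)) ζ = 0 := by
      rw [h1, classInner_sub_left, Helper24.classInner_smul_left, Helper24.classInner_smul_left,
        horth μ hμ, horth ψ hψ]
      ring
    rw [hσα _ hαZ, frobenius_reciprocity 𝒩 _ hζcf, TIFN.classInner_alpha_left] at h2
    linear_combination h2
  have hnat : ∀ μ ∈ S₁, ∃ n : ℤ, Cfsg.classInner μ δ = n := fun μ hμ =>
    char_inner_char_nat (isCharacter_of_isIrrCharacter (hirr₁ μ hμ)) hδc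
  have hsymm : ∀ μ ∈ S₁, Cfsg.classInner δ μ = Cfsg.classInner μ δ := by
    intro μ hμ
    obtain ⟨n, hn⟩ := hnat μ hμ
    rw [← Helper24.classInner_conj_symm, hn]
    simp
  set κ : ℂ := Cfsg.classInner ψ δ / ψ 1 with hκ
  have hh : ∀ η : ↥𝒩 → ℂ, IsIrrCharacter ↥𝒩 η → FrobKer.Rel Z η →
      classInner δ η = κ * η 1 := by
    intro η hη hr
    have hηS : η ∈ S₁ := by rw [hS₁]; exact ⟨hη, hr⟩
    rw [hsymm η hηS, hκ, hdψ]
    have := hprop η hηS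
    rw [hdψ] at this
    field_simp
    linear_combination this
  -- a nonidentity element of `Z`
  obtain ⟨z, hz1⟩ := (Subgroup.ne_bot_iff_exists_ne_one.1 hZ1)
  have hzZ : (z : ↥𝒩) ∈ Z := z.2
  have hz1' : (z : ↥𝒩) ≠ 1 := fun h => hz1 (Subtype.ext h)
  have hdiff := diff_const Z hδcf κ hh hzZ hz1'
  have hconstN : ∀ a ∈ Z, ∀ c ∈ Z, a ≠ 1 → c ≠ 1 → δ a = δ c := fun a ha c hc ha1 hc1 =>
    FrobKer.const_on Z hδcf κ hh ha hc ha1 hc1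
  -- the Sylow subgroup
  obtain ⟨P, hPK⟩ := exists_sylow_eq K hC hp hK1
  set ZG : Subgroup G := Z.map (Subgroup.subtype 𝒩) with hZG
  have hmemZG : ∀ g : G, g ∈ ZG ↔ ∃ h : g ∈ 𝒩, (⟨g, h⟩ : ↥𝒩) ∈ Z := by
    intro g
    rw [hZG, Subgroup.mem_map]
    constructor
    · rintro ⟨x, hx, rfl⟩
      exact ⟨x.2, hx⟩
    · rintro ⟨h, hx⟩
      exact ⟨⟨g, h⟩, hx, rfl⟩
  have hZG1 : ZG ≠ ⊥ := by
    intro h
    have : ((z : ↥𝒩) : G) ∈ ZG := (hmemZG _).2 ⟨(z : ↥𝒩).2, hzZ⟩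
    rw [h, Subgroup.mem_bot] at this
    exact hz1' (Subtype.ext this)
  have hZGP : ZG ≤ (P : Subgroup G) := by
    intro g hg
    obtain ⟨h, hx⟩ := (hmemZG g).1 hg
    rw [hPK]
    exact Subgroup.mem_subgroupOf.1 (hZK hx)
  have hZGn : ∀ x ∈ Subgroup.normalizer ((P : Subgroup G) : Set G), ∀ g ∈ ZG,
      x * g * x⁻¹ ∈ ZG := by
    intro x hx g hg
    rw [hPK] at hx
    obtain ⟨h, hgZ⟩ := (hmemZG g).1 hg
    refine (hmemZG _).2 ⟨(𝒩).mul_mem ((𝒩).mul_mem hx h) ((𝒩).inv_mem hx), ?_⟩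
    exact hZn.conj_mem ⟨g, h⟩ hgZ ⟨x, hx⟩
  have hZGc : ∀ g ∈ ZG, ∀ y ∈ (P : Subgroup G), g * y = y * g := by
    intro g hg y hy
    rw [hPK] at hy
    obtain ⟨h, hgZ⟩ := (hmemZG g).1 hg
    have := hZc ⟨g, h⟩ hgZ ⟨y, hlt.le hy⟩ (Subgroup.mem_subgroupOf.2 hy)
    exact congrArg Subtype.val this
  have hconstG : ∀ g ∈ ZG, ∀ g' ∈ ZG, g ≠ 1 → g' ≠ 1 → ζ g = ζ g' := by
    intro g hg g' hg' hg1 hg'1
    obtain ⟨h, hgZ⟩ := (hmemZG g).1 hg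
    obtain ⟨h', hg'Z⟩ := (hmemZG g').1 hg'
    exact hconstN ⟨g, h⟩ hgZ ⟨g', h'⟩ hg'Z (fun e => hg1 (congrArg Subtype.val e))
      (fun e => hg'1 (congrArg Subtype.val e))
  have hTI' : Cfsg.IsTISubset ((P : Subgroup G) : Set G) := by rw [hPK]; exact hTI
  have hodd' : Odd (Nat.card ↥(Subgroup.normalizer ((P : Subgroup G) : Set G))) := by
    rw [hPK]; exact hodd
  obtain ⟨n, d, hn, hd, hdvd⟩ := TISylow.main p P hTI' hodd' ZG hZG1 hZGP hZGn hZGc ζ hζ hconstG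
    ((z : ↥𝒩) : G) ((hmemZG _).2 ⟨(z : ↥𝒩).2, hzZ⟩) (fun e => hz1' (Subtype.ext e))
  obtain ⟨t, ht⟩ := hdvd
  refine ⟨t, ?_⟩
  -- arithmetic
  have hcardN : (Nat.card ↥𝒩 : ℂ) = (Nat.card ↥K : ℂ) * ((K.subgroupOf 𝒩).index : ℂ) := by
    rw [← (K.subgroupOf 𝒩).card_mul_index]
    push_cast
    congr 2
    exact Nat.card_congr (Subgroup.subgroupOfEquivOfLe hlt.le).toEquiv
  have hK0 : (Nat.card ↥K : ℂ) ≠ 0 := by
    have : 0 < Nat.card ↥K := Nat.card_pos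
    exact_mod_cast this.ne'
  have h1 : δ 1 - δ (z : ↥𝒩) = ((d - n : ℤ) : ℂ) := by
    simp only [hδ]
    push_cast
    rw [← hn, ← hd]
  rw [h1, ht, hcardN, hPK] at hdiff
  push_cast at hdiff
  have h2 : κ * ((K.subgroupOf 𝒩).index : ℂ) = t := by
    apply mul_left_cancel₀ hK0
    linear_combination -hdiff
  have h3 : Cfsg.classInner ψ δ = κ * ψ 1 := by
    rw [hκ, hdψ]; field_simp
  rw [h3, hb]
  linear_combination (b : ℂ) * h2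

end TI

end Cfsg.Agent.Helper8.FrobCoh
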