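import Mathlib
import Cfsg.Prelude.Def_OddOrderChar
import Cfsg.Prelude.Def_OddOrderLocal
import Cfsg.Agent.Lib.Helper8.FrobCoh4
import Cfsg.Agent.S1517
import Cfsg.Agent.S1530
import Cfsg.Agent.S1521

/-!
# Frobenius groups and coherence, part 5: a TI kernel of prime power order (helper8)
-/

set_option autoImplicit false

namespace Cfsg.Agent.Helper8.FrobCoh

open Cfsg Cfsg.Agent.Helper8 Cfsg.Agent.Helper24 Cfsg.Agent.Helper5 Cfsg.Agent.Helper18
open Cfsg.Agent.Helper8.Coh6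
open scoped ComplexConjugate

universe u

section Deg

variable {L : Type u} [Group L] [Fintype L] (K : Subgroup L) [hK : K.Normal]

/-- the shape of the degrees of the induced characters when `K` is a `p`-group -/
theorem deg_form (Z : Subgroup L) (hZc : ∀ z ∈ Z, ∀ k ∈ K, z * k = k * z) {p n : ℕ}
    (hp : p.Prime) (hcard : Nat.card K = p ^ n) {φ : L → ℂ}
    (hφ : φ ∈ Cfsg.inducedIrrAbove K ⊥) :
    ∃ b : ℕ, charDegree φ = K.index * p ^ b ∧ (p ^ b) ^ 2 ≤ Z.relIndex K := by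
  classical
  obtain ⟨θ, hθ, -, -, rfl⟩ := hφ
  have hdvd := charDegree_dvd_card hθ
  rw [hcard] at hdvd
  obtain ⟨b, -, hb⟩ := (Nat.dvd_prime_pow hp).1 hdvd
  refine ⟨b, ?_, ?_⟩
  · apply charDegree_natCast
    rw [Helper24.indFun_one, irr_one_eq_charDegree hθ, hb]; push_cast; rfl
  · have hbd := degree_bound K (B := ⊥) (C := K) (D := Z) le_rfl (fun x hx y hy => by
      rw [Subgroup.mem_bot, hZc x hx y hy]; group) hθ (fun a ha => by
      rw [Subgroup.mem_bot] at ha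
      have : a = 1 := Subtype.ext ha
      rw [this])
    rw [irr_one_eq_charDegree hθ, Complex.natCast_re, hb] at hbd
    have h1 : K.relIndex K = 1 := Subgroup.relIndex_eq_one.2 le_rfl
    rw [h1] at hbd
    have : (((p ^ b : ℕ) : ℝ)) ^ 2 ≤ (Z.relIndex K : ℝ) := by
      simpa only [Nat.cast_one, one_pow, one_mul] using hbd
    exact_mod_cast this

end Deg

section Sum

variable {L : Type u} [Group L] [Fintype L] (K : Subgroup L) [hK : K.Normal]
  (hF : ∀ k ∈ K, k ≠ 1 → ∀ x : L, x * k = k * x → x ∈ K)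

include hF in
/-- lower bound for the sum of the squares of the degrees of the characters nontrivial on `Z` -/
theorem sum_sq_ge (hodd : Odd (Nat.card L)) (Z : Subgroup L) [hZn : Z.Normal] (hZ1 : Z ≠ ⊥)
    (hZK : Z ≤ K) (hZc : ∀ z ∈ Z, ∀ k ∈ K, z * k = k * z) (S₁ : Finset (L → ℂ))
    (hS₁ : (↑S₁ : Set (L → ℂ)) = Cfsg.inducedIrrAbove K ⊥ \ Cfsg.inducedIrrAbove K Z) :
    2 * K.index ^ 2 * Z.relIndex K ≤ ∑ φ ∈ S₁, charDegree φ ^ 2 := by
  classical
  haveI : Finite L := Finite.of_fintype L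
  have he : 0 < K.index := Nat.pos_of_ne_zero Subgroup.index_ne_zero_of_finite
  have hsum := Cfsg.Agent.S1522.sum_sq_S1 K Z hZK
    (fun χ hχ => isIrr_of_mem K hF hχ.1) S₁ hS₁
  have hKZ : Z.relIndex K * Nat.card Z = Nat.card K := by
    have h1 := Subgroup.relIndex_mul_index hZK
    have h2 := Z.index_mul_card
    have h3 := K.index_mul_card
    rw [← h1, ← h3] at h2
    have : K.index * (Z.relIndex K * Nat.card Z) = K.index * Nat.card K := by
      rw [← h2]; ring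
    exact Nat.eq_of_mul_eq_mul_left he this
  have h2e := two_index_le K hF hodd Z hZ1 hZK hZc
  rw [← hKZ] at hsum
  have h4 : K.index * (Z.relIndex K * (2 * K.index + 1)) ≤
      K.index * (Z.relIndex K * Nat.card Z) :=
    Nat.mul_le_mul_left _ (Nat.mul_le_mul_left _ h2e)
  nlinarith

end Sum

section TI

variable {G : Type u} [Group G] [Fintype G] (K : Subgroup G)

local notation "𝒩" => Subgroup.normalizer (K : Set G)

variable (hTI : Cfsg.IsTISubset (K : Set G))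
  (hlt : K < Subgroup.normalizer (K : Set G))
  (hC : ∀ k ∈ K, k ≠ 1 → Subgroup.centralizer ({k} : Set G) ≤ K)

include hTI hlt hC in
/-- coherence when the TI kernel is a `p`-group and the normaliser has odd order -/
theorem coherent_pgroup [Fintype ↥𝒩] {p : ℕ} [Fact p.Prime] (hp : IsPGroup p K) (hK1 : K ≠ ⊥)
    (hodd : Odd (Nat.card ↥𝒩)) :
    Cfsg.IsCoherent (Cfsg.inducedIrrAbove (K.subgroupOf 𝒩) ⊥) {1}ᶜ
      (fun α : ↥𝒩 → ℂ => Cfsg.indFun 𝒩 α) := by
  classical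
  haveI hKn : (K.subgroupOf 𝒩).Normal := Subgroup.normal_in_normalizer
  have hF := TIFN.fpf K hC
  have hpK' : IsPGroup p ↥(K.subgroupOf 𝒩) := hp.comap_subtype
  have hnil : Group.IsNilpotent ↥(K.subgroupOf 𝒩) := hpK'.isNilpotent
  haveI := hnil
  have hsolv : Group.IsSolvable ↥(K.subgroupOf 𝒩) := inferInstance
  have hK1' : K.subgroupOf 𝒩 ≠ ⊥ := by
    intro h
    apply hK1
    rw [Subgroup.subgroupOf_eq_bot] at h
    rw [eq_bot_iff]
    intro x hx
    have : x ∈ K ⊓ 𝒩 := ⟨hx, hlt.le hx⟩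
    rw [disjoint_iff.1 h] at this
    exact this
  obtain ⟨n, hcard⟩ := hpK'.exists_card_eq
  have hpp : p.Prime := Fact.out
  haveI : Finite ↥𝒩 := Finite.of_fintype _
  have hepos : 0 < (K.subgroupOf 𝒩).index := Nat.pos_of_ne_zero Subgroup.index_ne_zero_of_finite
  -- the centre of `K`
  set Z : Subgroup ↥𝒩 :=
    K.subgroupOf 𝒩 ⊓ Subgroup.centralizer ((K.subgroupOf 𝒩 : Subgroup ↥𝒩) : Set ↥𝒩) with hZdef
  haveI hZn : Z.Normal := Subgroup.normal_inf_normal _ _
  have hZK : Z ≤ K.subgroupOf 𝒩 := inf_le_left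
  have hZc : ∀ z ∈ Z, ∀ k ∈ K.subgroupOf 𝒩, z * k = k * z := by
    intro z hz k hk
    exact (Subgroup.mem_centralizer_iff.1 (Subgroup.mem_inf.1 hz).2 k hk).symm
  have hZ1 : Z ≠ ⊥ := by
    haveI : Nontrivial ↥(K.subgroupOf 𝒩) := (Subgroup.nontrivial_iff_ne_bot _).2 hK1'
    haveI := hpK'.center_nontrivial
    obtain ⟨c, hc⟩ := exists_ne (1 : Subgroup.center ↥(K.subgroupOf 𝒩))
    intro h
    have hmem : ((c : ↥(K.subgroupOf 𝒩)) : ↥𝒩) ∈ Z := by
      refine Subgroup.mem_inf.2 ⟨(c : ↥(K.subgroupOf 𝒩)).2, ?_⟩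
      rw [Subgroup.mem_centralizer_iff]
      intro k hk
      have := Subgroup.mem_center_iff.1 c.2 ⟨k, hk⟩
      exact congrArg Subtype.val this
    rw [h, Subgroup.mem_bot] at hmem
    apply hc
    apply Subtype.ext
    apply Subtype.ext
    exact hmem
  obtain ⟨hset, hcoh⟩ := coherent_central K hTI hlt hC hK1 hnil hodd Z hZ1 hZK hZc
  have hτ := lio_ind K hTI hlt hC
  by_cases hZeq : Z = K.subgroupOf 𝒩
  · have hS₂ : Cfsg.inducedIrrAbove (K.subgroupOf 𝒩) Z = ∅ := by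
      rw [Set.eq_empty_iff_forall_notMem]
      rintro φ ⟨θ, hθ, hne, htriv, rfl⟩
      obtain ⟨k, hk, hkne⟩ := FrobKer.rel_indFun (K.subgroupOf 𝒩) hF hθ hne
      apply hkne
      exact Cfsg.Agent.S1522.ind_trivial_on (K.subgroupOf 𝒩) Z hZK htriv k (by rw [hZeq]; exact hk)
    rw [hS₂, Set.diff_empty] at hcoh
    exact hcoh
  · have hZlt : Z < K.subgroupOf 𝒩 := lt_of_le_of_ne hZK hZeq
    obtain ⟨θ₀, hθ₀, hne₀, hθ₀Z, hθ₀1⟩ := exists_linear (K.subgroupOf 𝒩) hsolv hZlt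
    set S : Set (↥𝒩 → ℂ) := Cfsg.inducedIrrAbove (K.subgroupOf 𝒩) ⊥ with hSdef
    set S₂ : Set (↥𝒩 → ℂ) := Cfsg.inducedIrrAbove (K.subgroupOf 𝒩) Z with hS₂def
    set τ : (↥𝒩 → ℂ) → (G → ℂ) := fun α => Cfsg.indFun 𝒩 α with hτdef
    set e : ℕ := (K.subgroupOf 𝒩).index with he
    set χ₀ : ↥𝒩 → ℂ := Cfsg.indFun (K.subgroupOf 𝒩) θ₀ with hχ₀
    have hχ₀S₂ : χ₀ ∈ S₂ := ⟨θ₀, hθ₀, hne₀, hθ₀Z, rfl⟩
    have hχ₀S : χ₀ ∈ S := inducedIrrAbove_subset_bot (K.subgroupOf 𝒩) Z hχ₀S₂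
    have hirrS : ∀ φ ∈ S, Cfsg.IsIrrCharacter ↥𝒩 φ := fun φ hφ => isIrr_of_mem _ hF hφ
    have hfinS : S.Finite := inducedIrrAbove_finite _ ⊥
    have hfin₁ : (S \ S₂).Finite := hfinS.subset Set.diff_subset
    set Sf : Finset (↥𝒩 → ℂ) := hfinS.toFinset with hSf
    set S₁f : Finset (↥𝒩 → ℂ) := hfin₁.toFinset with hS₁f
    have hS₁coe : (↑S₁f : Set (↥𝒩 → ℂ)) = S \ S₂ := hfin₁.coe_toFinset
    have hSfcoe : (↑Sf : Set (↥𝒩 → ℂ)) = S := hfinS.coe_toFinset
    have hS₁mem : ∀ φ, φ ∈ S₁f ↔ φ ∈ S \ S₂ := by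
      intro φ; rw [← hS₁coe]; exact Finset.mem_coe.symm
    have hχ₀not : χ₀ ∉ S₁f := fun h => ((hS₁mem _).1 h).2 hχ₀S₂
    -- degrees
    have hdf : ∀ φ ∈ S, ∃ b : ℕ, charDegree φ = e * p ^ b ∧
        (p ^ b) ^ 2 ≤ Z.relIndex (K.subgroupOf 𝒩) :=
      fun φ hφ => deg_form (K.subgroupOf 𝒩) Z hZc hpp hcard hφ
    choose! β hβ using hdf
    have hdeg : ∀ φ ∈ S, φ 1 = (charDegree φ : ℂ) :=
      fun φ hφ => irr_one_eq_charDegree (hirrS φ hφ)
    have hχ₀deg : charDegree χ₀ = e :=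
      charDegree_natCast _ (by rw [hχ₀, Helper24.indFun_one, hθ₀1, mul_one])
    have hsumge := sum_sq_ge (K.subgroupOf 𝒩) hF hodd Z hZ1 hZK hZc S₁f hS₁coe
    -- a member of smallest degree
    have hne₁ : S₁f.Nonempty := by
      obtain ⟨θ, hθ, hnt⟩ := Cfsg.Agent.S1522.exists_nontrivial_on (K.subgroupOf 𝒩) Z hZK hZ1
      exact ⟨_, (hS₁mem _).2 (Cfsg.Agent.S1522.ind_mem_S1 (K.subgroupOf 𝒩) Z hZK hθ hnt)⟩
    obtain ⟨ψ, hψ, hψmin⟩ := Finset.exists_min_image S₁f charDegree hne₁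
    have hψS : ψ ∈ S := ((hS₁mem ψ).1 hψ).1
    obtain ⟨-, σ, hσ, hσα⟩ := hcoh
    have hT₀sub : (↑(insert χ₀ S₁f) : Set (↥𝒩 → ℂ)) ⊆ S := by
      intro φ hφ
      rw [Finset.coe_insert] at hφ
      rcases hφ with rfl | hφ
      · exact hχ₀S
      · exact ((hS₁mem φ).1 hφ).1
    -- the first step
    have hstep1 : Cfsg.IsCoherent (↑(insert χ₀ S₁f) : Set (↥𝒩 → ℂ)) {1}ᶜ τ := by
      refine coherent_insert_small S₁f χ₀ (fun ξ hξ => hirrS ξ ((hS₁mem ξ).1 hξ).1)
        (hirrS χ₀ hχ₀S) hχ₀not charDegree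
        (fun ξ hξ => hdeg ξ (hT₀sub (by exact_mod_cast hξ))) τ
        (Cfsg.Agent.S1517.lio_restrict (zspanOn_mono hT₀sub) hτ)
        (fun α hα => ind_one K (zspanOn_mono hT₀sub hα))
        σ (by rw [hS₁coe]; exact hσ) (by rw [hS₁coe]; exact hσα) ψ hψ (p ^ β ψ) ?_ ?_ ?_ ?_
      · rw [hχ₀deg, (hβ ψ hψS).1]; ring
      · intro ξ hξ
        have hξS := ((hS₁mem ξ).1 hξ).1
        have hle := hψmin ξ hξ
        rw [(hβ ψ hψS).1, (hβ ξ hξS).1] at hle ⊢
        apply Nat.mul_dvd_mul_left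
        apply pow_dvd_pow
        have h2 := Nat.le_of_mul_le_mul_left hle hepos
        exact (Nat.pow_le_pow_iff_right hpp.one_lt).1 h2
      · rw [(hβ ψ hψS).1]
        have := (hβ ψ hψS).2
        calc 2 * (e * p ^ β ψ) ^ 2 = 2 * e ^ 2 * (p ^ β ψ) ^ 2 := by ring
          _ ≤ 2 * e ^ 2 * Z.relIndex (K.subgroupOf 𝒩) := Nat.mul_le_mul_left _ this
          _ ≤ _ := hsumge
      · intro ζ hζ horth
        have hbψ : ψ 1 = ((p ^ β ψ : ℕ) : ℂ) * ((K.subgroupOf 𝒩).index : ℂ) := by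
          rw [hdeg ψ hψS, (hβ ψ hψS).1]; push_cast; ring
        obtain ⟨t, ht⟩ := mult_dvd K hTI hlt hC hp hK1 hodd Z hZ1 hZK hZc (S \ S₂) hset σ hσ hσα
          ψ ((hS₁mem ψ).1 hψ) (p ^ β ψ) hbψ ζ hζ (fun ξ hξ => horth ξ ((hS₁mem ξ).2 hξ))
        obtain ⟨n₁, hn₁⟩ := char_inner_char_nat
          (isCharacter_of_isIrrCharacter (hirrS χ₀ hχ₀S))
          (isCharacter_restrict 𝒩 (isCharacter_of_isIrrCharacter hζ))
        refine ⟨n₁ - t, ?_⟩
        simp only [hτdef]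
        rw [frobenius_reciprocity 𝒩 _ (isClassFunction_of_isIrrCharacter hζ),
          classInner_sub_left, classInner_zsmul_left, hn₁, ht]
        push_cast; ring
    -- the remaining characters
    have hind : ∀ A : Finset (↥𝒩 → ℂ), (↑A : Set (↥𝒩 → ℂ)) ⊆ S →
        Cfsg.IsCoherent (↑(insert χ₀ S₁f ∪ A) : Set (↥𝒩 → ℂ)) {1}ᶜ τ := by
      intro A
      induction A using Finset.induction_on with
      | empty => intro _; rw [Finset.union_empty]; exact hstep1
      | insert a A haA ih =>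
        intro hsub
        have haS : a ∈ S := hsub (by simp)
        have hAS : (↑A : Set (↥𝒩 → ℂ)) ⊆ S := fun x hx => hsub (by
          rw [Finset.coe_insert]; exact Set.mem_insert_of_mem _ hx)
        have ihA := ih hAS
        by_cases hmem : a ∈ insert χ₀ S₁f ∪ A
        · have : insert χ₀ S₁f ∪ insert a A = insert χ₀ S₁f ∪ A := by
            rw [Finset.union_insert, Finset.insert_eq_of_mem hmem]
          rw [this]; exact ihA
        · rw [Finset.union_insert]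
          have hS₀sub : (↑(insert χ₀ S₁f ∪ A) : Set (↥𝒩 → ℂ)) ⊆ S := by
            intro x hx
            rw [Finset.coe_union] at hx
            rcases hx with hx | hx
            · exact hT₀sub hx
            · exact hAS hx
          have hins : (↑(insert a (insert χ₀ S₁f ∪ A)) : Set (↥𝒩 → ℂ)) ⊆ S := by
            intro x hx
            rw [Finset.coe_insert] at hx
            rcases hx with rfl | hx
            · exact haS
            · exact hS₀sub hx
          refine Cfsg.Agent.S1530.result 𝒩 (insert χ₀ S₁f ∪ A) a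
            (fun ξ hξ => hirrS ξ (hS₀sub (by exact_mod_cast hξ))) (hirrS a haS) hmem charDegree
            (fun ξ hξ => hdeg ξ (hins (by exact_mod_cast hξ))) τ
            (Cfsg.Agent.S1517.lio_restrict (zspanOn_mono hins) hτ)
            (fun α hα => ind_one K (zspanOn_mono hins hα)) ihA χ₀
            (Finset.mem_union_left _ (Finset.mem_insert_self _ _)) ?_ ?_
          · rw [hχ₀deg, (hβ a haS).1]; exact Dvd.intro _ rfl
          · rw [hχ₀deg, (hβ a haS).1]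
            have h1 : ∑ ξ ∈ insert χ₀ S₁f, charDegree ξ ^ 2 ≤
                ∑ ξ ∈ insert χ₀ S₁f ∪ A, charDegree ξ ^ 2 :=
              Finset.sum_le_sum_of_subset Finset.subset_union_left
            rw [Finset.sum_insert hχ₀not, hχ₀deg] at h1
            have h2 := (hβ a haS).2
            have h3 : p ^ β a ≤ (p ^ β a) ^ 2 := by
              have : 1 ≤ p ^ β a := Nat.one_le_pow _ _ hpp.pos
              nlinarith
            have h4 : 2 * e * (e * p ^ β a) ≤ 2 * e ^ 2 * Z.relIndex (K.subgroupOf 𝒩) := by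
              calc 2 * e * (e * p ^ β a) = 2 * e ^ 2 * p ^ β a := by ring
                _ ≤ 2 * e ^ 2 * (p ^ β a) ^ 2 := Nat.mul_le_mul_left _ h3
                _ ≤ 2 * e ^ 2 * Z.relIndex (K.subgroupOf 𝒩) := Nat.mul_le_mul_left _ h2
            have h5 : 0 < e ^ 2 := by positivity
            exact lt_of_le_of_lt (h4.trans hsumge) (lt_of_lt_of_le (Nat.lt_add_of_pos_left h5) h1)
    have hfinal := hind Sf (by rw [hSfcoe])
    have hunion : insert χ₀ S₁f ∪ Sf = Sf := by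
      apply Finset.union_eq_right.2
      intro x hx
      have := hT₀sub (Finset.mem_coe.2 hx)
      rw [← hSfcoe] at this
      exact Finset.mem_coe.1 this
    rw [hunion, hSfcoe] at hfinal
    exact hfinal

include hTI hlt hC in
/-- coherence when the TI kernel is nilpotent and the normaliser has odd order -/
theorem coherent_nilpotent [Fintype ↥𝒩] (hK1 : K ≠ ⊥) (hnil : Group.IsNilpotent ↥K)
    (hodd : Odd (Nat.card ↥𝒩)) :
    Cfsg.IsCoherent (Cfsg.inducedIrrAbove (K.subgroupOf 𝒩) ⊥) {1}ᶜ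
      (fun α : ↥𝒩 → ℂ => Cfsg.indFun 𝒩 α) := by
  classical
  by_cases hpp : ∃ p m : ℕ, p.Prime ∧ Nat.card ↥K = p ^ m
  · obtain ⟨p, m, hp, hm⟩ := hpp
    haveI : Fact p.Prime := ⟨hp⟩
    exact coherent_pgroup K hTI hlt hC (IsPGroup.of_card hm) hK1 hodd
  · haveI hKn : (K.subgroupOf 𝒩).Normal := Subgroup.normal_in_normalizer
    have hF := TIFN.fpf K hC
    haveI := hnil
    haveI hnil' : Group.IsNilpotent ↥(K.subgroupOf 𝒩) :=
      nilpotent_of_mulEquiv (Subgroup.subgroupOfEquivOfLe hlt.le).symm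
    have hsolv : Group.IsSolvable ↥(K.subgroupOf 𝒩) := inferInstance
    have hK1' : K.subgroupOf 𝒩 ≠ ⊥ := by
      intro h
      apply hK1
      rw [Subgroup.subgroupOf_eq_bot] at h
      rw [eq_bot_iff]
      intro x hx
      have : x ∈ K ⊓ 𝒩 := ⟨hx, hlt.le hx⟩
      rw [disjoint_iff.1 h] at this
      exact this
    have hKtop : K.subgroupOf 𝒩 < ⊤ := by
      refine lt_of_le_of_ne le_top ?_
      intro h
      rw [Subgroup.subgroupOf_eq_top] at h
      exact hlt.not_ge h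
    obtain ⟨R, hS⟩ := exists_system_TI K hTI hlt hC hK1 hsolv hodd
    haveI : (⁅K.subgroupOf 𝒩, K.subgroupOf 𝒩⁆).Normal := Subgroup.commutator_normal _ _
    have hcard : Nat.card ↥(K.subgroupOf 𝒩) = Nat.card ↥K :=
      Nat.card_congr (Subgroup.subgroupOfEquivOfLe hlt.le).toEquiv
    refine Cfsg.Agent.S1521.result (K.subgroupOf 𝒩) hsolv _ R hS hodd ⊥ bot_le inferInstance
      (⁅K.subgroupOf 𝒩, K.subgroupOf 𝒩⁆ ⊔ ⊥) rfl ?_ hKtop ?_ ?_
    · rw [sup_bot_eq]
      exact commutator_lt _ hK1' hsolv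
    · rw [sup_bot_eq]
      exact quot_frob (K.subgroupOf 𝒩) hF _ (commutator_le_self _)
    · refine Or.inr (Or.inr (Or.inl ?_))
      rintro ⟨p, m, hp, hm⟩
      apply hpp
      refine ⟨p, m, hp, ?_⟩
      rw [Subgroup.relIndex_bot_left, hcard] at hm
      exact hm

end TI

end Cfsg.Agent.Helper8.FrobCoh
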