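import Mathlib
import Cfsg.Prelude.Def_OddOrderChar
import Cfsg.Agent.Lib.Helper8.FrobCoh3
import Cfsg.Agent.Lib.Helper8.Coh6
import Cfsg.Agent.S1517

/-!
# Coherence of a set of irreducible characters of the same degree (helper8)

No assumption on complex conjugation: the characters may be real valued.
-/

set_option autoImplicit false

namespace Cfsg.Agent.Helper8.FrobCoh

open Cfsg Cfsg.Agent.Helper8 Cfsg.Agent.Helper24
open scoped ComplexConjugate

universe u v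

variable {L : Type u} [Group L] [Fintype L] {G : Type v} [Group G] [Fintype G]

/-- two irreducible characters of the same degree form a coherent set -/
theorem coherent_pair {ψ ψ' : L → ℂ} (hψ : Cfsg.IsIrrCharacter L ψ)
    (hψ' : Cfsg.IsIrrCharacter L ψ') (hne : ψ ≠ ψ') (hdeg : ψ 1 = ψ' 1)
    (τ : (L → ℂ) → (G → ℂ))
    (hτ : Cfsg.IsLinearIsometryOn (Cfsg.zspanOn ({ψ, ψ'} : Set (L → ℂ)) {1}ᶜ) τ)
    (hτ1 : ∀ α ∈ Cfsg.zspanOn ({ψ, ψ'} : Set (L → ℂ)) {1}ᶜ, τ α 1 = 0) :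
    Cfsg.IsCoherent ({ψ, ψ'} : Set (L → ℂ)) {1}ᶜ τ := by
  classical
  have o11 : Cfsg.classInner ψ ψ = 1 := by rw [irr_orthogonality hψ hψ, if_pos rfl]
  have o22 : Cfsg.classInner ψ' ψ' = 1 := by rw [irr_orthogonality hψ' hψ', if_pos rfl]
  have o12 : Cfsg.classInner ψ ψ' = 0 := by rw [irr_orthogonality hψ hψ', if_neg hne]
  have o21 : Cfsg.classInner ψ' ψ = 0 := by rw [irr_orthogonality hψ' hψ, if_neg (Ne.symm hne)]
  have m1 : ψ ∈ Cfsg.zspan ({ψ, ψ'} : Set (L → ℂ)) := mem_zspan_of_mem (by simp)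
  have m2 : ψ' ∈ Cfsg.zspan ({ψ, ψ'} : Set (L → ℂ)) := mem_zspan_of_mem (by simp)
  set α₀ : L → ℂ := ψ - ψ' with hα₀
  have hα₀1 : α₀ 1 = 0 := by simp only [hα₀, Pi.sub_apply, hdeg, sub_self]
  have hα₀Z : α₀ ∈ Cfsg.zspanOn ({ψ, ψ'} : Set (L → ℂ)) {1}ᶜ :=
    ⟨zspan_sub_mem m1 m2, Cfsg.Agent.S1530.vanish_of_one hα₀1⟩
  have hα₀ne : α₀ ≠ 0 := by
    intro h
    exact hne (sub_eq_zero.1 h)
  have hnorm : Cfsg.classInner (τ α₀) (τ α₀) = 2 := by
    rw [hτ.2.2.1 α₀ hα₀Z α₀ hα₀Z, hα₀, classInner_sub_left, classInner_sub_right,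
      classInner_sub_right, o11, o12, o21, o22]
    ring
  obtain ⟨μ₁, μ₂, hμ₁, hμ₂, hμne, hμ⟩ := genChar_norm_two (hτ.2.2.2 α₀ hα₀Z) hnorm (hτ1 α₀ hα₀Z)
  have s11 : Cfsg.classInner μ₁ μ₁ = 1 := by rw [irr_orthogonality hμ₁ hμ₁, if_pos rfl]
  have s22 : Cfsg.classInner μ₂ μ₂ = 1 := by rw [irr_orthogonality hμ₂ hμ₂, if_pos rfl]
  have s12 : Cfsg.classInner μ₁ μ₂ = 0 := by rw [irr_orthogonality hμ₁ hμ₂, if_neg hμne]
  have s21 : Cfsg.classInner μ₂ μ₁ = 0 := by
    rw [irr_orthogonality hμ₂ hμ₁, if_neg (Ne.symm hμne)]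
  have hmem : ∀ θ ∈ Cfsg.zspan ({ψ, ψ'} : Set (L → ℂ)), ∃ a a' : ℤ, θ = a • ψ + a' • ψ' := by
    intro θ hθ
    obtain ⟨a, a', h⟩ := Submodule.mem_span_pair.1 hθ
    exact ⟨a, a', h.symm⟩
  have hval : ∀ a a' : ℤ, Cfsg.classInner (a • ψ + a' • ψ') ψ = a ∧
      Cfsg.classInner (a • ψ + a' • ψ') ψ' = a' := by
    intro a a'
    constructor
    · rw [Helper24.classInner_add_left, classInner_zsmul_left, classInner_zsmul_left, o11, o21]
      ring
    · rw [Helper24.classInner_add_left, classInner_zsmul_left, classInner_zsmul_left, o12, o22]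
      ring
  set σ : (L → ℂ) → (G → ℂ) := fun θ =>
    Cfsg.classInner θ ψ • μ₁ + Cfsg.classInner θ ψ' • μ₂ with hσ
  have hσval : ∀ a a' : ℤ, σ (a • ψ + a' • ψ') = a • μ₁ + a' • μ₂ := by
    intro a a'
    simp only [hσ, (hval a a').1, (hval a a').2]
    ext g
    simp
  refine ⟨⟨α₀, hα₀Z, hα₀ne⟩, σ, ⟨?_, ?_, ?_, ?_⟩, ?_⟩
  · intro α _ β _
    simp only [hσ, Helper24.classInner_add_left, add_smul]
    ext g
    simp only [Pi.add_apply, Pi.smul_apply, smul_eq_mul]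
    ring
  · intro α _ n
    simp only [hσ, classInner_zsmul_left]
    ext g
    simp only [Pi.add_apply, Pi.smul_apply, smul_eq_mul, zsmul_eq_mul]
    ring
  · intro α hα β hβ
    obtain ⟨a, a', rfl⟩ := hmem α hα
    obtain ⟨c, c', rfl⟩ := hmem β hβ
    rw [hσval, hσval]
    simp only [Helper24.classInner_add_left, Helper24.classInner_add_right,
      classInner_zsmul_left, classInner_zsmul_right, s11, s22, s12, s21, o11, o22, o12, o21]
  · intro α hα
    obtain ⟨a, a', rfl⟩ := hmem α hα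
    rw [hσval]
    exact isGen_add (isGen_zsmul _ (isGen_of_isCharacter (isCharacter_of_isIrrCharacter hμ₁)))
      (isGen_zsmul _ (isGen_of_isCharacter (isCharacter_of_isIrrCharacter hμ₂)))
  · rintro θ ⟨hθ, hθ1⟩
    obtain ⟨a, a', rfl⟩ := hmem θ hθ
    have h1 : (a • ψ + a' • ψ') 1 = 0 := hθ1 1 (by simp)
    obtain ⟨n, hn, hn1⟩ := irr_one_eq hψ
    have hn1' : ψ' 1 = n := by rw [← hdeg, hn1]
    rw [Pi.add_apply, Pi.smul_apply, Pi.smul_apply, hn1, hn1', zsmul_eq_mul, zsmul_eq_mul] at h1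
    have h2 : ((a + a' : ℤ) : ℂ) * (n : ℂ) = 0 := by push_cast; linear_combination h1
    have h3 : a + a' = 0 := by
      rcases mul_eq_zero.1 h2 with h | h
      · exact_mod_cast h
      · exfalso
        have : n = 0 := by exact_mod_cast h
        omega
    have ha' : a' = -a := by omega
    subst ha'
    have e1 : a • ψ + -a • ψ' = a • α₀ := by
      rw [hα₀, smul_sub, neg_smul, sub_eq_add_neg]
    rw [hσval, e1, hτ.2.1 α₀ hα₀Z, hμ]
    rw [smul_sub, neg_smul, sub_eq_add_neg]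

/-- a finite set of at least two irreducible characters of the same degree is coherent -/
theorem coherent_same_degree (S : Finset (L → ℂ)) (hcard : 2 ≤ S.card)
    (hirr : ∀ ξ ∈ S, Cfsg.IsIrrCharacter L ξ) (hdeg : ∀ ξ ∈ S, ∀ η ∈ S, ξ 1 = η 1)
    (τ : (L → ℂ) → (G → ℂ))
    (hτ : Cfsg.IsLinearIsometryOn (Cfsg.zspanOn (↑S : Set (L → ℂ)) {1}ᶜ) τ)
    (hτ1 : ∀ α ∈ Cfsg.zspanOn (↑S : Set (L → ℂ)) {1}ᶜ, τ α 1 = 0) :
    Cfsg.IsCoherent (↑S : Set (L → ℂ)) {1}ᶜ τ := by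
  classical
  have key : ∀ T : Finset (L → ℂ), T ⊆ S → 2 ≤ T.card →
      Cfsg.IsCoherent (↑T : Set (L → ℂ)) {1}ᶜ τ := by
    intro T
    induction T using Finset.induction_on with
    | empty => intro _ h; simp at h
    | insert a T ha ih =>
      intro hsub hc
      have haS : a ∈ S := hsub (Finset.mem_insert_self _ _)
      have hTS : T ⊆ S := fun x hx => hsub (Finset.mem_insert_of_mem hx)
      have hcoe : (↑(insert a T) : Set (L → ℂ)) ⊆ (↑S : Set (L → ℂ)) := by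
        intro x hx
        exact Finset.mem_coe.2 (hsub (Finset.mem_coe.1 hx))
      have hτ' := Cfsg.Agent.S1517.lio_restrict (Coh6.zspanOn_mono hcoe) hτ
      have hτ1' : ∀ α ∈ Cfsg.zspanOn (↑(insert a T) : Set (L → ℂ)) {1}ᶜ, τ α 1 = 0 :=
        fun α hα => hτ1 α (Coh6.zspanOn_mono hcoe hα)
      have hdegeq : ∀ ξ ∈ S, ∀ η ∈ S, charDegree ξ = charDegree η := by
        intro ξ hξ η hη
        apply charDegree_natCast
        rw [hdeg ξ hξ η hη, irr_one_eq_charDegree (hirr η hη)]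
      by_cases h2 : 2 ≤ T.card
      · obtain ⟨-, σ, hσ, hσα⟩ := ih hTS h2
        obtain ⟨ψ, hψ⟩ : T.Nonempty := Finset.card_pos.1 (by omega)
        have hψS := hTS hψ
        refine coherent_insert_small T a (fun ξ hξ => hirr ξ (hTS hξ)) (hirr a haS) ha charDegree
          (fun ξ hξ => irr_one_eq_charDegree (hirr ξ (hsub hξ))) τ hτ' hτ1' σ hσ hσα ψ hψ 1
          (by rw [one_mul]; exact hdegeq ψ hψS a haS)
          (fun ξ hξ => dvd_of_eq (hdegeq ψ hψS ξ (hTS hξ))) ?_ ?_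
        · have h1 : ∑ ξ ∈ T, charDegree ξ ^ 2 = T.card * charDegree ψ ^ 2 := by
            rw [Finset.sum_congr rfl (fun ξ hξ => by rw [hdegeq ξ (hTS hξ) ψ hψS]),
              Finset.sum_const, smul_eq_mul]
          rw [h1]
          exact Nat.mul_le_mul_right _ h2
        · intro ζ hζ _
          have hβ : ((1 : ℕ) : ℤ) • a - ψ ∈ Cfsg.zspanOn (↑(insert a T) : Set (L → ℂ)) {1}ᶜ := by
            refine ⟨zspan_sub_mem (zspan_zsmul_mem _ (mem_zspan_of_mem (by simp)))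
              (mem_zspan_of_mem (by simp [hψ])), Cfsg.Agent.S1530.vanish_of_one ?_⟩
            simp only [Pi.sub_apply, Pi.smul_apply, Nat.cast_one, one_smul]
            rw [hdeg a haS ψ hψS, sub_self]
          obtain ⟨k, hk⟩ := genChar_inner_genChar_int (hτ'.2.2.2 _ hβ)
            (isGen_of_isCharacter (isCharacter_of_isIrrCharacter hζ))
          exact ⟨k, by rw [hk]; simp⟩
      · have hT1 : T.card = 1 := by
          rw [Finset.card_insert_of_notMem ha] at hc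
          omega
        obtain ⟨c, hTc⟩ := Finset.card_eq_one.1 hT1
        have hcT : c ∈ T := by rw [hTc]; exact Finset.mem_singleton_self _
        have hac : a ≠ c := fun h => ha (h ▸ hcT)
        have hset : (↑(insert a T) : Set (L → ℂ)) = {a, c} := by
          rw [hTc, Finset.coe_insert, Finset.coe_singleton]
        rw [hset] at hτ' hτ1' ⊢
        exact coherent_pair (hirr a haS) (hirr c (hTS hcT)) hac (hdeg a haS c (hTS hcT)) τ hτ' hτ1'
  exact key S (Finset.Subset.refl _) hcard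

end Cfsg.Agent.Helper8.FrobCoh
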