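import Mathlib
import Cfsg.Prelude.Def_OddOrderChar
import Cfsg.Agent.Lib.Helper8.FeitIns
import Cfsg.Agent.Lib.Helper8.FrobCoh6
import Cfsg.Agent.Lib.Helper8.FrobCoh1
import Cfsg.Agent.S1522
import Cfsg.Agent.S1519

/-!
# Feit's coherence theorem for Frobenius groups, character theoretic part (helper8)

`L` a finite group, `K` a normal subgroup with `C_L(k) ≤ K` for `1 ≠ k ∈ K` (hypothesis `hF`),
`τ` a linear isometry on `ℤ[S, L#]`, `S = inducedIrrAbove K ⊥`.  No parity assumption.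
-/

set_option autoImplicit false

namespace Cfsg.Agent.Helper8.FeitCoh

open Cfsg Cfsg.Agent.Helper8 Cfsg.Agent.Helper24 Cfsg.Agent.Helper5
open Cfsg.Agent.Helper8.Coh6 Cfsg.Agent.Helper8.FrobCoh
open scoped ComplexConjugate

universe u v

section Index

variable {L : Type u} [Group L] [Fintype L] (K : Subgroup L) [hK : K.Normal]
  (hF : ∀ k ∈ K, k ≠ 1 → ∀ x : L, x * k = k * x → x ∈ K)

/-- the degree of a member of `S` is a multiple of `[L:K]` -/
theorem deg_dvd {φ : L → ℂ} (hφ : φ ∈ Cfsg.inducedIrrAbove K ⊥) :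
    K.index ∣ charDegree φ := by
  obtain ⟨θ, hθ, -, -, rfl⟩ := hφ
  obtain ⟨t, -, ht⟩ := irr_one_eq hθ
  have : charDegree (Cfsg.indFun K θ) = K.index * t := by
    apply charDegree_natCast
    rw [Helper24.indFun_one, ht]; push_cast; rfl
  rw [this]
  exact Dvd.intro _ rfl

include hF in
/-- `|K| ≡ [K:M]` modulo `[L:K]` for a normal subgroup `M ≤ K` of `L` -/
theorem card_sub_relIndex (M : Subgroup L) [hM : M.Normal] (hMK : M ≤ K) :
    (K.index : ℤ) ∣ (Nat.card K : ℤ) - (M.relIndex K : ℤ) := by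
  classical
  have he : 0 < K.index := Nat.pos_of_ne_zero Subgroup.index_ne_zero_of_finite
  have hfin : (Cfsg.inducedIrrAbove K ⊥ \ Cfsg.inducedIrrAbove K M).Finite :=
    (inducedIrrAbove_finite K ⊥).subset Set.diff_subset
  have hsum := Cfsg.Agent.S1522.sum_sq_S1 K M hMK
    (fun χ hχ => isIrr_of_mem K hF hχ.1) hfin.toFinset (Set.Finite.coe_toFinset hfin)
  have hdvd : ∀ φ ∈ hfin.toFinset, K.index ^ 2 ∣ charDegree φ ^ 2 := by
    intro φ hφ
    have := (Set.Finite.mem_toFinset hfin).1 hφ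
    exact pow_dvd_pow_of_dvd (deg_dvd K this.1) 2
  obtain ⟨T, hT⟩ := Finset.dvd_sum hdvd
  rw [hT] at hsum
  have h1 : K.index * (K.index * T + M.relIndex K) = K.index * Nat.card K := by
    rw [← hsum]; ring
  have h2 := Nat.eq_of_mul_eq_mul_left he h1
  refine ⟨(T : ℤ), ?_⟩
  have : ((K.index * T + M.relIndex K : ℕ) : ℤ) = (Nat.card K : ℤ) := by exact_mod_cast h2
  push_cast at this
  linarith

include hF in
/-- `[K:M] ≡ 1` modulo `[L:K]` -/
theorem relIndex_sub_one (M : Subgroup L) [hM : M.Normal] (hMK : M ≤ K) :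
    (K.index : ℤ) ∣ (M.relIndex K : ℤ) - 1 := by
  have h1 := card_sub_relIndex K hF M hMK
  have h2 := card_sub_relIndex K hF K le_rfl
  have h3 : K.relIndex K = 1 := Subgroup.relIndex_eq_one.2 le_rfl
  rw [h3] at h2
  have := dvd_sub h2 h1
  have e : ((Nat.card K : ℤ) - ((1 : ℕ) : ℤ)) - ((Nat.card K : ℤ) - (M.relIndex K : ℤ)) =
      (M.relIndex K : ℤ) - 1 := by push_cast; ring
  rwa [e] at this

include hF in
/-- a proper inclusion of normal subgroups below `K` has index at least `[L:K] + 1` -/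
theorem index_ge (A B : Subgroup L) [hA : A.Normal] [hB : B.Normal] (hAB : A < B) (hBK : B ≤ K) :
    K.index + 1 ≤ A.relIndex B := by
  haveI : Finite L := Finite.of_fintype L
  have he : 0 < K.index := Nat.pos_of_ne_zero Subgroup.index_ne_zero_of_finite
  have hmul := Subgroup.relIndex_mul_relIndex A B K hAB.le hBK
  have h1 := relIndex_sub_one K hF A (hAB.le.trans hBK)
  have h2 := relIndex_sub_one K hF B hBK
  have hr1 : A.relIndex B ≠ 1 := by
    intro h
    rw [Subgroup.relIndex_eq_one] at h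
    exact (not_le_of_gt hAB) h
  have hr0 : A.relIndex B ≠ 0 := by
    intro h
    have : A.relIndex K = 0 := by rw [← hmul, h, zero_mul]
    exact (Subgroup.index_ne_zero_of_finite (H := A.subgroupOf K)) this
  obtain ⟨v, hv⟩ := h1
  obtain ⟨u, hu⟩ := h2
  have hmulZ : (A.relIndex B : ℤ) * (B.relIndex K : ℤ) = (A.relIndex K : ℤ) := by
    exact_mod_cast hmul
  have hdvd : (K.index : ℤ) ∣ (A.relIndex B : ℤ) - 1 := by
    refine ⟨v - (A.relIndex B : ℤ) * u, ?_⟩
    have e1 : (B.relIndex K : ℤ) = 1 + K.index * u := by linarith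
    have e2 : (A.relIndex K : ℤ) = 1 + K.index * v := by linarith
    rw [e1, e2] at hmulZ
    linear_combination hmulZ
  have hpos : (0 : ℤ) < (A.relIndex B : ℤ) - 1 := by
    have : 2 ≤ A.relIndex B := by omega
    have : (2 : ℤ) ≤ (A.relIndex B : ℤ) := by exact_mod_cast this
    linarith
  have := Int.le_of_dvd hpos hdvd
  have h3 : ((K.index + 1 : ℕ) : ℤ) ≤ (A.relIndex B : ℤ) := by push_cast; linarith
  exact_mod_cast h3

end Index


section Step

variable {L : Type u} [Group L] [Fintype L] {G : Type v} [Group G] [Fintype G]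
  (K : Subgroup L) [hK : K.Normal]
  (hF : ∀ k ∈ K, k ≠ 1 → ∀ x : L, x * k = k * x → x ∈ K)
  (τ : (L → ℂ) → (G → ℂ))
  (hτ : Cfsg.IsLinearIsometryOn (Cfsg.zspanOn (Cfsg.inducedIrrAbove K ⊥) {1}ᶜ) τ)
  (hτ1 : ∀ α ∈ Cfsg.zspanOn (Cfsg.inducedIrrAbove K ⊥) {1}ᶜ, τ α 1 = 0)

include hF in
/-- lower bound for the sum of the squared degrees over `S(A)` -/
theorem sum_sq_ge_above (A : Subgroup L) [A.Normal] (SA : Finset (L → ℂ))
    (hSA : (↑SA : Set (L → ℂ)) = Cfsg.inducedIrrAbove K A) :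
    K.index * (A.relIndex K - 1) ≤ ∑ φ ∈ SA, charDegree φ ^ 2 := by
  classical
  have hapos : 1 ≤ A.relIndex K := Nat.pos_of_ne_zero (by
    haveI : Finite L := Finite.of_fintype L
    exact Subgroup.index_ne_zero_of_finite)
  have hsum := sum_bound K A charDegree (fun _ => 1)
    (fun φ hφ => char_one_eq_charDegree (inducedIrrAbove_isCharacter K hφ))
    (fun φ hφ => by
      have hi := isIrr_of_mem K hF (inducedIrrAbove_subset_bot K A hφ)
      rw [irr_orthogonality hi hi, if_pos rfl]; simp) SA hSA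
  have h1 : ∑ φ ∈ SA, ((charDegree φ : ℝ) ^ 2 / (((fun _ => 1) φ : ℕ) : ℝ)) =
      ((∑ φ ∈ SA, charDegree φ ^ 2 : ℕ) : ℝ) := by
    push_cast
    refine Finset.sum_congr rfl fun φ _ => ?_
    simp
  rw [h1] at hsum
  have h2 : ((K.index * (A.relIndex K - 1) : ℕ) : ℝ) = (K.index : ℝ) * ((A.relIndex K : ℝ) - 1) := by
    rw [Nat.cast_mul, Nat.cast_sub hapos]; simp
  rw [← h2] at hsum
  exact_mod_cast hsum

include hF hτ hτ1 in
/-- the chain step: from `S(A)` to `S(B)` -/
theorem frob_step (hsolv : Group.IsSolvable K) (A B D : Subgroup L) [A.Normal] [B.Normal]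
    [D.Normal] (hAK : A < K) (hBA : B ≤ A)
    (hcent : ∀ x ∈ D, ∀ y ∈ K, x * y * x⁻¹ * y⁻¹ ∈ B)
    (hA : Cfsg.IsCoherent (Cfsg.inducedIrrAbove K A) {1}ᶜ τ)
    (hlt : 4 * K.index ^ 2 * D.relIndex K < (A.relIndex K - 1) ^ 2) :
    Cfsg.IsCoherent (Cfsg.inducedIrrAbove K B) {1}ᶜ τ := by
  classical
  have he : 0 < K.index := Nat.pos_of_ne_zero Subgroup.index_ne_zero_of_finite
  have hirr : ∀ ξ ∈ Cfsg.inducedIrrAbove K ⊥, Cfsg.IsIrrCharacter L ξ :=
    fun ξ hξ => isIrr_of_mem K hF hξ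
  have hd : ∀ ξ ∈ Cfsg.inducedIrrAbove K ⊥, ξ 1 = (charDegree ξ : ℂ) :=
    fun ξ hξ => char_one_eq_charDegree (inducedIrrAbove_isCharacter K hξ)
  set SA : Finset (L → ℂ) := (inducedIrrAbove_finite K A).toFinset with hSAdef
  have hSA : (↑SA : Set (L → ℂ)) = Cfsg.inducedIrrAbove K A := Set.Finite.coe_toFinset _
  set SB : Finset (L → ℂ) := (inducedIrrAbove_finite K B).toFinset with hSBdef
  have hSB : (↑SB : Set (L → ℂ)) = Cfsg.inducedIrrAbove K B := Set.Finite.coe_toFinset _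
  have hSAS : (↑SA : Set (L → ℂ)) ⊆ Cfsg.inducedIrrAbove K ⊥ := by
    rw [hSA]; exact inducedIrrAbove_subset_bot K A
  have hSBS : (↑SB : Set (L → ℂ)) ⊆ Cfsg.inducedIrrAbove K ⊥ := by
    rw [hSB]; exact inducedIrrAbove_subset_bot K B
  have hcohA : Cfsg.IsCoherent (↑SA : Set (L → ℂ)) {1}ᶜ τ := by rw [hSA]; exact hA
  obtain ⟨θ₁, hθ₁, hθ₁ne, hθ₁A, hθ₁1⟩ := exists_linear K hsolv hAK
  have hχ₁A : Cfsg.indFun K θ₁ ∈ Cfsg.inducedIrrAbove K A := ⟨θ₁, hθ₁, hθ₁ne, hθ₁A, rfl⟩
  have hχ₁ : Cfsg.indFun K θ₁ ∈ SA := by rw [← Finset.mem_coe, hSA]; exact hχ₁A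
  have hdχ₁ : charDegree (Cfsg.indFun K θ₁) = K.index := by
    apply charDegree_natCast
    rw [Helper24.indFun_one, hθ₁1, mul_one]
  have hdT : ∀ χ ∈ Cfsg.inducedIrrAbove K B, ∃ t : ℕ, charDegree χ = K.index * t ∧
      (t : ℝ) ^ 2 ≤ ((1 : ℕ) : ℝ) ^ 2 * (D.relIndex K : ℝ) := by
    rintro χ ⟨θ, hθ, -, hθB, rfl⟩
    obtain ⟨t, -, ht⟩ := irr_one_eq hθ
    refine ⟨t, ?_, ?_⟩
    · apply charDegree_natCast
      rw [Helper24.indFun_one, ht]; push_cast; rfl
    · have := degree_bound K (B := B) (C := K) (D := D) le_rfl hcent hθ hθB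
      rw [ht] at this
      have h1 : K.relIndex K = 1 := Subgroup.relIndex_eq_one.2 le_rfl
      rw [h1] at this
      simpa using this
  have hapos : 1 ≤ A.relIndex K := Nat.pos_of_ne_zero (by
    haveI : Finite L := Finite.of_fintype L
    exact Subgroup.index_ne_zero_of_finite)
  have hsum := sum_sq_ge_above K hF A SA hSA
  have key := extend_irr (Cfsg.inducedIrrAbove K ⊥) hirr charDegree hd τ hτ hτ1 SA hSAS hcohA
    (Cfsg.indFun K θ₁) hχ₁ SB hSBS
    (fun χ hχ => by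
      have hχB : χ ∈ Cfsg.inducedIrrAbove K B := by rw [← hSB]; exact Finset.mem_coe.2 hχ
      obtain ⟨t, ht, -⟩ := hdT χ hχB
      rw [hdχ₁, ht]; exact Dvd.intro _ rfl)
    (fun χ hχ => by
      have hχB : χ ∈ Cfsg.inducedIrrAbove K B := by rw [← hSB]; exact Finset.mem_coe.2 hχ
      obtain ⟨t, ht, hbound⟩ := hdT χ hχB
      refine lt_of_lt_of_le ?_ hsum
      rw [hdχ₁, ht]
      have hnum := Cfsg.Agent.S1519.numeric (e := K.index) (c := 1) (r := D.relIndex K)
        (a := A.relIndex K) (t := t) he hapos (by simpa using hlt) hbound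
      have h2 : ((K.index * (A.relIndex K - 1) : ℕ) : ℝ) =
          (K.index : ℝ) * ((A.relIndex K : ℝ) - 1) := by
        rw [Nat.cast_mul, Nat.cast_sub hapos]; simp
      have h3 : ((2 * K.index * (K.index * t) : ℕ) : ℝ) <
          ((K.index * (A.relIndex K - 1) : ℕ) : ℝ) := by
        rw [h2]
        have e1 : ((2 * K.index * (K.index * t) : ℕ) : ℝ) =
            2 * ((K.index * t : ℕ) : ℝ) * (K.index : ℝ) := by push_cast; ring
        rw [e1]; exact hnum
      exact_mod_cast h3)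
  have hunion : (↑(SA ∪ SB) : Set (L → ℂ)) = Cfsg.inducedIrrAbove K B := by
    rw [Finset.coe_union, hSA, hSB]
    exact Set.union_eq_self_of_subset_left (inducedIrrAbove_anti K hBA)
  rw [hunion] at key
  exact key

end Step

section Nilp

variable {L : Type u} [Group L]

/-- in a nilpotent subgroup `K`, a nontrivial subgroup `M ≤ K` is not equal to `⁅M, K⁆` -/
theorem commutator_ne_self (K M : Subgroup L) (hnil : Group.IsNilpotent ↥K) (hMK : M ≤ K)
    (hM1 : M ≠ ⊥) : ⁅M, K⁆ ≠ M := by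
  intro h
  obtain ⟨n, hn⟩ := (Subgroup.isNilpotent_iff_lowerCentralSeries K).1 hnil
  have key : ∀ m : ℕ, M ≤ K.lowerCentralSeries m := by
    intro m
    induction m with
    | zero => exact hMK
    | succ m ih =>
      rw [Subgroup.lowerCentralSeries_succ]
      calc M = ⁅M, K⁆ := h.symm
        _ ≤ ⁅K.lowerCentralSeries m, K⁆ := Subgroup.commutator_mono ih le_rfl
  apply hM1
  rw [eq_bot_iff, ← hn]
  exact key n

/-- for a normal subgroup `M` the commutator `⁅M, K⁆` lies in `M` -/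
theorem commutator_le_left (K M : Subgroup L) [hM : M.Normal] : ⁅M, K⁆ ≤ M := by
  rw [Subgroup.commutator_le]
  intro a ha b _
  rw [commutatorElement_def]
  have h1 : b * a⁻¹ * b⁻¹ ∈ M := hM.conj_mem _ (M.inv_mem ha) b
  have : a * b * a⁻¹ * b⁻¹ = a * (b * a⁻¹ * b⁻¹) := by group
  rw [this]
  exact M.mul_mem ha h1

theorem commutator_lt_left (K M : Subgroup L) [hM : M.Normal] (hnil : Group.IsNilpotent ↥K)
    (hMK : M ≤ K) (hM1 : M ≠ ⊥) : ⁅M, K⁆ < M :=
  lt_of_le_of_ne (commutator_le_left K M) (commutator_ne_self K M hnil hMK hM1)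

end Nilp

section Chain

variable {L : Type u} [Group L] [Fintype L] {G : Type v} [Group G] [Fintype G]
  (K : Subgroup L) [hK : K.Normal]
  (hF : ∀ k ∈ K, k ≠ 1 → ∀ x : L, x * k = k * x → x ∈ K)
  (τ : (L → ℂ) → (G → ℂ))
  (hτ : Cfsg.IsLinearIsometryOn (Cfsg.zspanOn (Cfsg.inducedIrrAbove K ⊥) {1}ᶜ) τ)
  (hτ1 : ∀ α ∈ Cfsg.zspanOn (Cfsg.inducedIrrAbove K ⊥) {1}ᶜ, τ α 1 = 0)

include hF hτ hτ1 in
/-- the base of the chain: the characters of degree `[L:K]` -/
theorem base (A : Subgroup L) [A.Normal]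
    (hcomm : ∀ x ∈ K, ∀ y ∈ K, x * y * x⁻¹ * y⁻¹ ∈ A)
    (hidx : 2 * K.index + 1 ≤ A.relIndex K) :
    Cfsg.IsCoherent (Cfsg.inducedIrrAbove K A) {1}ᶜ τ := by
  classical
  have he : 0 < K.index := Nat.pos_of_ne_zero Subgroup.index_ne_zero_of_finite
  set SA : Finset (L → ℂ) := (inducedIrrAbove_finite K A).toFinset with hSAdef
  have hSA : (↑SA : Set (L → ℂ)) = Cfsg.inducedIrrAbove K A := Set.Finite.coe_toFinset _
  have hSAS : (↑SA : Set (L → ℂ)) ⊆ Cfsg.inducedIrrAbove K ⊥ := by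
    rw [hSA]; exact inducedIrrAbove_subset_bot K A
  have hmem : ∀ φ ∈ SA, φ ∈ Cfsg.inducedIrrAbove K A := fun φ hφ => by
    rw [← hSA]; exact Finset.mem_coe.2 hφ
  have hirr : ∀ ξ ∈ SA, Cfsg.IsIrrCharacter L ξ :=
    fun ξ hξ => isIrr_of_mem K hF (hSAS (Finset.mem_coe.2 hξ))
  have hdeg : ∀ χ ∈ SA, charDegree χ = K.index := by
    intro χ hχ
    obtain ⟨θ, hθ, -, hθA, rfl⟩ := hmem χ hχ
    obtain ⟨t, ht0, ht⟩ := irr_one_eq hθ
    have hb := degree_bound K (B := A) (C := K) (D := K) le_rfl hcomm hθ hθA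
    rw [ht] at hb
    have h1 : K.relIndex K = 1 := Subgroup.relIndex_eq_one.2 le_rfl
    rw [h1] at hb
    have h2 : (t : ℝ) ^ 2 ≤ 1 := by simpa using hb
    have h3 : t ^ 2 ≤ 1 := by exact_mod_cast h2
    have h4 : t = 1 := by nlinarith
    apply charDegree_natCast
    rw [Helper24.indFun_one, ht, h4]; simp
  have hsum := sum_sq_ge_above K hF A SA hSA
  have hcard : 2 ≤ SA.card := by
    rw [Finset.sum_congr rfl (fun φ hφ => by rw [hdeg φ hφ]), Finset.sum_const, smul_eq_mul]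
      at hsum
    have h1 : K.index * (2 * K.index) ≤ K.index * (A.relIndex K - 1) :=
      Nat.mul_le_mul_left _ (by omega)
    have h2 : K.index * (2 * K.index) ≤ SA.card * K.index ^ 2 := le_trans h1 hsum
    by_contra hlt
    have h3 : SA.card ≤ 1 := by omega
    have h4 : SA.card * K.index ^ 2 ≤ 1 * K.index ^ 2 := Nat.mul_le_mul_right _ h3
    nlinarith
  have hτ' := Cfsg.Agent.S1517.lio_restrict (Coh6.zspanOn_mono hSAS) hτ
  have hres := coherent_same_degree SA hcard hirr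
    (fun ξ hξ η hη => by
      rw [irr_one_eq_charDegree (hirr ξ hξ), irr_one_eq_charDegree (hirr η hη), hdeg ξ hξ,
        hdeg η hη]) τ hτ'
    (fun α hα => hτ1 α (Coh6.zspanOn_mono hSAS hα))
  rw [hSA] at hres
  exact hres

include hF hτ hτ1 in
/-- descending along a central series once the index is large -/
theorem descend (hnil : Group.IsNilpotent ↥K) : ∀ n : ℕ, ∀ M : Subgroup L, M.Normal → M < K →
    Nat.card M = n → Cfsg.IsCoherent (Cfsg.inducedIrrAbove K M) {1}ᶜ τ →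
    4 * K.index ^ 2 + 2 ≤ M.relIndex K →
    Cfsg.IsCoherent (Cfsg.inducedIrrAbove K ⊥) {1}ᶜ τ := by
  intro n
  induction n using Nat.strong_induction_on with
  | _ n ih =>
    intro M hMn hMK hcard hcoh hidx
    haveI := hMn
    by_cases hM1 : M = ⊥
    · rw [hM1] at hcoh; exact hcoh
    · haveI := hnil
      have hsolv : Group.IsSolvable ↥K := inferInstance
      have hlt := commutator_lt_left K M hnil hMK.le hM1
      haveI hn' : (⁅M, K⁆ : Subgroup L).Normal := Subgroup.commutator_normal M K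
      have hstep := frob_step K hF τ hτ hτ1 hsolv M ⁅M, K⁆ M hMK hlt.le
        (fun x hx y hy => by
          have := Subgroup.commutator_mem_commutator hx hy
          rwa [commutatorElement_def] at this) hcoh
        (by
          have h1 : 1 ≤ M.relIndex K := by omega
          obtain ⟨m, hm⟩ : ∃ m, M.relIndex K = m + 1 := ⟨M.relIndex K - 1, by omega⟩
          rw [hm] at hidx ⊢
          simp only [Nat.add_sub_cancel]
          nlinarith)
      have hcardlt : Nat.card (⁅M, K⁆ : Subgroup L) < n := by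
        rw [← hcard]
        refine lt_of_le_of_ne (Subgroup.card_le_of_le hlt.le) ?_
        intro heq
        exact hlt.ne (Subgroup.eq_of_le_of_card_ge hlt.le heq.ge)
      refine ih _ hcardlt ⁅M, K⁆ hn' (lt_of_le_of_lt hlt.le hMK) rfl hstep ?_
      have := Subgroup.relIndex_mul_relIndex ⁅M, K⁆ M K hlt.le hMK.le
      have hpos : 1 ≤ (⁅M, K⁆ : Subgroup L).relIndex M := Nat.pos_of_ne_zero (by
        haveI : Finite L := Finite.of_fintype L
        exact Subgroup.index_ne_zero_of_finite)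
      calc 4 * K.index ^ 2 + 2 ≤ M.relIndex K := hidx
        _ = 1 * M.relIndex K := (one_mul _).symm
        _ ≤ (⁅M, K⁆ : Subgroup L).relIndex M * M.relIndex K := Nat.mul_le_mul_right _ hpos
        _ = (⁅M, K⁆ : Subgroup L).relIndex K := this

end Chain

end Cfsg.Agent.Helper8.FeitCoh
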