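import Mathlib
import Cfsg.Prelude.Def_OddOrderChar
import Cfsg.Agent.Lib.Helper8.FeitFrob

/-!
# Feit's coherence theorem for Frobenius groups: a kernel that splits as a product (helper8)

`K = X × Y` with `X`, `Y` normal in `L`, `X` not abelian, `Y ≠ 1`, `K` nilpotent.
-/

set_option autoImplicit false

namespace Cfsg.Agent.Helper8.FeitCoh

open Cfsg Cfsg.Agent.Helper8 Cfsg.Agent.Helper24 Cfsg.Agent.Helper5
open Cfsg.Agent.Helper8.Coh6 Cfsg.Agent.Helper8.FrobCoh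
open scoped ComplexConjugate

universe u v

section Lattice

variable {L : Type u} [Group L]

theorem le_of_le_sup_left {X Y U V U' : Subgroup L} [V.Normal] (hinf : X ⊓ Y = ⊥) (hU : U ≤ X)
    (hV : V ≤ Y) (hU' : U' ≤ X) (h : U' ≤ U ⊔ V) : U' ≤ U := by
  intro x hx
  obtain ⟨u, hu, v, hv, rfl⟩ := Subgroup.mem_sup_of_normal_right.1 (h hx)
  have hvX : v ∈ X := by
    have : v = u⁻¹ * (u * v) := by group
    rw [this]
    exact X.mul_mem (X.inv_mem (hU hu)) (hU' hx)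
  have hv1 : v ∈ X ⊓ Y := Subgroup.mem_inf.2 ⟨hvX, hV hv⟩
  rw [hinf, Subgroup.mem_bot] at hv1
  rw [hv1, mul_one]; exact hu

theorem le_of_le_sup_right {X Y U V V' : Subgroup L} [V.Normal] (hinf : X ⊓ Y = ⊥) (hU : U ≤ X)
    (hV : V ≤ Y) (hV' : V' ≤ Y) (h : V' ≤ U ⊔ V) : V' ≤ V := by
  intro x hx
  obtain ⟨u, hu, v, hv, rfl⟩ := Subgroup.mem_sup_of_normal_right.1 (h hx)
  have huY : u ∈ Y := by
    have : u = (u * v) * v⁻¹ := by group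
    rw [this]
    exact Y.mul_mem (hV' hx) (Y.inv_mem (hV hv))
  have hu1 : u ∈ X ⊓ Y := Subgroup.mem_inf.2 ⟨hU hu, huY⟩
  rw [hinf, Subgroup.mem_bot] at hu1
  rw [hu1, one_mul]; exact hv

/-- commutators of a join with `K` -/
theorem comm_sup_mem {K U V N : Subgroup L} [V.Normal] [N.Normal]
    (hU : ∀ u ∈ U, ∀ k ∈ K, u * k * u⁻¹ * k⁻¹ ∈ N)
    (hV : ∀ v ∈ V, ∀ k ∈ K, v * k * v⁻¹ * k⁻¹ ∈ N) :
    ∀ x ∈ U ⊔ V, ∀ k ∈ K, x * k * x⁻¹ * k⁻¹ ∈ N := by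
  intro x hx k hk
  obtain ⟨u, hu, v, hv, rfl⟩ := Subgroup.mem_sup_of_normal_right.1 hx
  have e : u * v * k * (u * v)⁻¹ * k⁻¹ = u * (v * k * v⁻¹ * k⁻¹) * u⁻¹ * (u * k * u⁻¹ * k⁻¹) := by
    group
  rw [e]
  exact N.mul_mem (Subgroup.Normal.conj_mem inferInstance _ (hV v hv k hk) u) (hU u hu k hk)

theorem comm_mem_commutator {K U : Subgroup L} : ∀ u ∈ U, ∀ k ∈ K,
    u * k * u⁻¹ * k⁻¹ ∈ ⁅U, K⁆ := by
  intro u hu k hk
  have := Subgroup.commutator_mem_commutator hu hk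
  rwa [commutatorElement_def] at this

end Lattice

section Arith

theorem star_numeric {e n c r : ℕ} (he : 1 ≤ e) (hn : (e + 1) ^ 2 ≤ n) (hc : e + 1 ≤ c)
    (hmul : c * r = n) : 4 * e ^ 2 * r < (n - 1) ^ 2 := by
  obtain ⟨m, rfl⟩ : ∃ m, n = m + 1 := ⟨n - 1, by
    have : 1 ≤ n := le_trans (by nlinarith) hn
    omega⟩
  simp only [Nat.add_sub_cancel]
  have hm : e ^ 2 + 2 * e ≤ m := by nlinarith
  -- `(e+1) r ≤ m + 1`
  have h1 : (e + 1) * r ≤ m + 1 := by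
    rw [← hmul]; exact Nat.mul_le_mul_right _ hc
  -- `(e+1) * 4 e² r ≤ 4 e² (m+1) < (e+1) m²`
  have h2 : 4 * e ^ 2 * (m + 1) < (e + 1) * m ^ 2 := by
    have h3 : e * (e + 2) ≤ m := by nlinarith
    have h4 : e * (e + 2) * m ≤ m ^ 2 := by nlinarith
    have h5 : 4 * e * (m + 1) < (e + 1) * (e + 2) * m := by
      have h5a : e * m ≤ e ^ 2 * m := by
        have : e ≤ e ^ 2 := by nlinarith
        exact Nat.mul_le_mul_right _ this
      have h5b : 4 * e < 2 * m := by nlinarith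
      have e1 : (e + 1) * (e + 2) * m = e ^ 2 * m + 3 * (e * m) + 2 * m := by ring
      have e2 : 4 * e * (m + 1) = 4 * (e * m) + 4 * e := by ring
      rw [e1, e2]
      omega
    calc 4 * e ^ 2 * (m + 1) = e * (4 * e * (m + 1)) := by ring
      _ < e * ((e + 1) * (e + 2) * m) := Nat.mul_lt_mul_of_pos_left h5 (by omega)
      _ = (e + 1) * (e * (e + 2) * m) := by ring
      _ ≤ (e + 1) * m ^ 2 := Nat.mul_le_mul_left _ h4
  have h6 : (e + 1) * (4 * e ^ 2 * r) ≤ 4 * e ^ 2 * (m + 1) := by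
    calc (e + 1) * (4 * e ^ 2 * r) = 4 * e ^ 2 * ((e + 1) * r) := by ring
      _ ≤ 4 * e ^ 2 * (m + 1) := Nat.mul_le_mul_left _ h1
  have h7 : (e + 1) * (4 * e ^ 2 * r) < (e + 1) * m ^ 2 := lt_of_le_of_lt h6 h2
  exact Nat.lt_of_mul_lt_mul_left h7

theorem cube_numeric {e : ℕ} (he : 1 ≤ e) : 4 * e ^ 2 + 2 ≤ (e + 1) ^ 3 := by
  nlinarith [sq_nonneg (e - 1 : ℤ), pow_pos (show 0 < e by omega) 3]

end Arith

section Decomp

variable {L : Type u} [Group L] [Fintype L] {G : Type v} [Group G] [Fintype G]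
  (K : Subgroup L) [hK : K.Normal]
  (hF : ∀ k ∈ K, k ≠ 1 → ∀ x : L, x * k = k * x → x ∈ K)
  (τ : (L → ℂ) → (G → ℂ))
  (hτ : Cfsg.IsLinearIsometryOn (Cfsg.zspanOn (Cfsg.inducedIrrAbove K ⊥) {1}ᶜ) τ)
  (hτ1 : ∀ α ∈ Cfsg.zspanOn (Cfsg.inducedIrrAbove K ⊥) {1}ᶜ, τ α 1 = 0)

include hF hτ hτ1 in
/-- coherence when the nilpotent kernel is a product `X × Y` with `X` not abelian and `Y ≠ 1` -/
theorem coherent_of_decomp (hnil : Group.IsNilpotent ↥K) (X Y : Subgroup L) [hX : X.Normal]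
    [hY : Y.Normal] (hsup : X ⊔ Y = K) (hinf : X ⊓ Y = ⊥)
    (hXna : ¬ ∀ a ∈ X, ∀ b ∈ X, a * b = b * a) (hY1 : Y ≠ ⊥) :
    Cfsg.IsCoherent (Cfsg.inducedIrrAbove K ⊥) {1}ᶜ τ := by
  classical
  haveI : Finite L := Finite.of_fintype L
  have he : 1 ≤ K.index := Nat.pos_of_ne_zero Subgroup.index_ne_zero_of_finite
  have hXK : X ≤ K := hsup ▸ le_sup_left
  have hYK : Y ≤ K := hsup ▸ le_sup_right
  haveI := hnil
  have hsolv : Group.IsSolvable ↥K := inferInstance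
  set X₁ : Subgroup L := ⁅X, K⁆ with hX₁
  set Y₁ : Subgroup L := ⁅Y, K⁆ with hY₁
  haveI hX₁n : X₁.Normal := Subgroup.commutator_normal X K
  haveI hY₁n : Y₁.Normal := Subgroup.commutator_normal Y K
  have hX1 : X ≠ ⊥ := by
    rintro rfl
    apply hXna
    intro a ha b hb
    rw [Subgroup.mem_bot] at ha hb
    rw [ha, hb]
  have hX₁lt : X₁ < X := commutator_lt_left K X hnil hXK hX1
  have hY₁lt : Y₁ < Y := commutator_lt_left K Y hnil hYK hY1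
  have hX₁ne : X₁ ≠ ⊥ := by
    intro h
    apply hXna
    intro a ha b hb
    have h1 := comm_mem_commutator (K := K) a ha b (hXK hb)
    rw [← hX₁, h, Subgroup.mem_bot] at h1
    have e1 : a * b * a⁻¹ * b⁻¹ = (a * b) * (b * a)⁻¹ := by group
    rw [e1, mul_inv_eq_one] at h1
    exact h1
  -- strict inclusions
  have hA1 : X₁ ⊔ Y < K := by
    refine lt_of_le_of_ne (sup_le (hX₁lt.le.trans hXK) hYK) ?_
    intro heq
    have h1 : X ≤ X₁ ⊔ Y := heq ▸ hXK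
    exact (not_le_of_gt hX₁lt) (le_of_le_sup_left hinf hX₁lt.le le_rfl le_rfl h1)
  have hA2 : X₁ ⊔ Y₁ < X₁ ⊔ Y := by
    refine lt_of_le_of_ne (sup_le_sup_left hY₁lt.le _) ?_
    intro heq
    have h1 : Y ≤ X₁ ⊔ Y₁ := heq ▸ le_sup_right
    exact (not_le_of_gt hY₁lt) (le_of_le_sup_right hinf hX₁lt.le hY₁lt.le le_rfl h1)
  have hsq : ∀ A : Subgroup L, A ≤ X₁ ⊔ Y₁ → (K.index + 1) ^ 2 ≤ A.relIndex K := by
    intro A hA
    have r1 := index_ge K hF (X₁ ⊔ Y) K hA1 le_rfl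
    have r2 := index_ge K hF (X₁ ⊔ Y₁) (X₁ ⊔ Y) hA2 hA1.le
    have m1 := Subgroup.relIndex_mul_relIndex (X₁ ⊔ Y₁) (X₁ ⊔ Y) K hA2.le hA1.le
    have m2 := Subgroup.relIndex_mul_relIndex A (X₁ ⊔ Y₁) K hA (hA2.le.trans hA1.le)
    have hpos : 1 ≤ A.relIndex (X₁ ⊔ Y₁) := Nat.pos_of_ne_zero Subgroup.index_ne_zero_of_finite
    calc (K.index + 1) ^ 2 = (K.index + 1) * (K.index + 1) := by ring
      _ ≤ (X₁ ⊔ Y₁).relIndex (X₁ ⊔ Y) * (X₁ ⊔ Y).relIndex K := Nat.mul_le_mul r2 r1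
      _ = (X₁ ⊔ Y₁).relIndex K := m1
      _ = 1 * (X₁ ⊔ Y₁).relIndex K := (one_mul _).symm
      _ ≤ A.relIndex (X₁ ⊔ Y₁) * (X₁ ⊔ Y₁).relIndex K := Nat.mul_le_mul_right _ hpos
      _ = A.relIndex K := m2
  have hcommK : ∀ x ∈ K, ∀ y ∈ K, x * y * x⁻¹ * y⁻¹ ∈ X₁ ⊔ Y₁ := by
    have := comm_sup_mem (K := K) (U := X) (V := Y) (N := X₁ ⊔ Y₁)
      (fun u hu k hk => (le_sup_left : X₁ ≤ X₁ ⊔ Y₁) (comm_mem_commutator u hu k hk))
      (fun v hv k hk => (le_sup_right : Y₁ ≤ X₁ ⊔ Y₁) (comm_mem_commutator v hv k hk))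
    rwa [hsup] at this
  have hbase : Cfsg.IsCoherent (Cfsg.inducedIrrAbove K (X₁ ⊔ Y₁)) {1}ᶜ τ := by
    refine base K hF τ hτ hτ1 (X₁ ⊔ Y₁) hcommK ?_
    have := hsq (X₁ ⊔ Y₁) le_rfl
    nlinarith
  -- stage 1
  have stage1 : ∀ n : ℕ, ∀ C : Subgroup L, C.Normal → C ≤ X₁ → Nat.card C = n →
      Cfsg.IsCoherent (Cfsg.inducedIrrAbove K (C ⊔ Y₁)) {1}ᶜ τ →
      Cfsg.IsCoherent (Cfsg.inducedIrrAbove K Y₁) {1}ᶜ τ := by
    intro n
    induction n using Nat.strong_induction_on with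
    | _ n ih =>
      intro C hCn hCX hcard hcoh
      haveI := hCn
      by_cases hC1 : C = ⊥
      · rw [hC1, bot_sup_eq] at hcoh; exact hcoh
      · have hCK : C ≤ K := hCX.trans (hX₁lt.le.trans hXK)
        have hlt := commutator_lt_left K C hnil hCK hC1
        haveI hn' : (⁅C, K⁆ : Subgroup L).Normal := Subgroup.commutator_normal C K
        have hAle : C ⊔ Y₁ ≤ X₁ ⊔ Y₁ := sup_le_sup_right hCX _
        have hAK : C ⊔ Y₁ < K := lt_of_le_of_lt (hAle.trans hA2.le) hA1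
        have hAD : C ⊔ Y₁ < C ⊔ Y := by
          refine lt_of_le_of_ne (sup_le_sup_left hY₁lt.le _) ?_
          intro heq
          have h1 : Y ≤ C ⊔ Y₁ := heq ▸ le_sup_right
          exact (not_le_of_gt hY₁lt)
            (le_of_le_sup_right hinf (hCX.trans hX₁lt.le) hY₁lt.le le_rfl h1)
        have hDK : C ⊔ Y ≤ K := sup_le hCK hYK
        have hstep := frob_step K hF τ hτ hτ1 hsolv (C ⊔ Y₁) (⁅C, K⁆ ⊔ Y₁) (C ⊔ Y) hAK
          (sup_le_sup_right hlt.le _)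
          (comm_sup_mem (K := K) (U := C) (V := Y) (N := ⁅C, K⁆ ⊔ Y₁)
            (fun u hu k hk => (le_sup_left : ⁅C, K⁆ ≤ ⁅C, K⁆ ⊔ Y₁) (comm_mem_commutator u hu k hk))
            (fun v hv k hk => (le_sup_right : Y₁ ≤ ⁅C, K⁆ ⊔ Y₁) (comm_mem_commutator v hv k hk)))
          hcoh
          (star_numeric he (hsq _ hAle) (index_ge K hF _ _ hAD hDK)
            (Subgroup.relIndex_mul_relIndex _ _ _ hAD.le hDK))
        have hcardlt : Nat.card (⁅C, K⁆ : Subgroup L) < n := by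
          rw [← hcard]
          refine lt_of_le_of_ne (Subgroup.card_le_of_le hlt.le) ?_
          intro heq
          exact hlt.ne (Subgroup.eq_of_le_of_card_ge hlt.le heq.ge)
        exact ih _ hcardlt ⁅C, K⁆ hn' (hlt.le.trans hCX) rfl hstep
  have hY₁coh := stage1 _ X₁ hX₁n le_rfl rfl hbase
  -- the index of `Y₁`
  have c1 : Y₁ < X₁ ⊔ Y₁ := by
    refine lt_of_le_of_ne le_sup_right ?_
    intro heq
    have h1 : X₁ ≤ Y₁ := heq ▸ le_sup_left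
    apply hX₁ne
    rw [eq_bot_iff, ← hinf]
    exact le_inf hX₁lt.le (h1.trans hY₁lt.le)
  have c2 : X₁ ⊔ Y₁ < X ⊔ Y₁ := by
    refine lt_of_le_of_ne (sup_le_sup_right hX₁lt.le _) ?_
    intro heq
    have h1 : X ≤ X₁ ⊔ Y₁ := heq ▸ le_sup_left
    exact (not_le_of_gt hX₁lt) (le_of_le_sup_left hinf hX₁lt.le hY₁lt.le le_rfl h1)
  have c3 : X ⊔ Y₁ < K := by
    refine lt_of_le_of_ne (sup_le hXK (hY₁lt.le.trans hYK)) ?_
    intro heq
    have h1 : Y ≤ X ⊔ Y₁ := heq ▸ hYK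
    exact (not_le_of_gt hY₁lt) (le_of_le_sup_right hinf le_rfl hY₁lt.le le_rfl h1)
  have i1 := index_ge K hF Y₁ (X₁ ⊔ Y₁) c1 (c2.le.trans c3.le)
  have i2 := index_ge K hF (X₁ ⊔ Y₁) (X ⊔ Y₁) c2 c3.le
  have i3 := index_ge K hF (X ⊔ Y₁) K c3 le_rfl
  have m1 := Subgroup.relIndex_mul_relIndex Y₁ (X₁ ⊔ Y₁) (X ⊔ Y₁) c1.le c2.le
  have m2 := Subgroup.relIndex_mul_relIndex Y₁ (X ⊔ Y₁) K (c1.le.trans c2.le) c3.le
  have hidx : 4 * K.index ^ 2 + 2 ≤ Y₁.relIndex K := by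
    calc 4 * K.index ^ 2 + 2 ≤ (K.index + 1) ^ 3 := cube_numeric he
      _ = (K.index + 1) * (K.index + 1) * (K.index + 1) := by ring
      _ ≤ Y₁.relIndex (X₁ ⊔ Y₁) * (X₁ ⊔ Y₁).relIndex (X ⊔ Y₁) * (X ⊔ Y₁).relIndex K :=
          Nat.mul_le_mul (Nat.mul_le_mul i1 i2) i3
      _ = Y₁.relIndex K := by rw [m1, m2]
  exact descend K hF τ hτ hτ1 hnil _ Y₁ hY₁n (lt_of_le_of_lt (c1.le.trans c2.le) c3) rfl hY₁coh hidx

end Decomp

end Cfsg.Agent.Helper8.FeitCoh
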