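import Mathlib
import Cfsg.Agent.S1473

/-!
# Splitting a nilpotent normal subgroup into a Sylow subgroup and its complement (helper8)
-/

set_option autoImplicit false

namespace Cfsg.Agent.Helper8.FeitCoh

universe u

variable {L : Type u} [Group L] [Finite L]

/-- a nilpotent, non abelian normal subgroup `K` whose order is not a prime power is the product of
two normal subgroups `X`, `Y` of the ambient group meeting trivially, with `X` not abelian and
`Y ≠ 1` -/
theorem exists_decomp (K : Subgroup L) [hK : K.Normal] (hnil : Group.IsNilpotent ↥K)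
    (hna : ¬ ∀ a ∈ K, ∀ b ∈ K, a * b = b * a)
    (hpp : ¬ ∃ p m : ℕ, p.Prime ∧ Nat.card K = p ^ m) :
    ∃ X Y : Subgroup L, X.Normal ∧ Y.Normal ∧ X ⊔ Y = K ∧ X ⊓ Y = ⊥ ∧
      (¬ ∀ a ∈ X, ∀ b ∈ X, a * b = b * a) ∧ Y ≠ ⊥ := by
  classical
  haveI := hnil
  have hcard1 : Nat.card K ≠ 1 := by
    intro h
    exact hpp ⟨2, 0, Nat.prime_two, by rw [h, pow_zero]⟩
  obtain ⟨p, hp, hpdvd⟩ := Nat.exists_prime_and_dvd hcard1
  haveI : Fact p.Prime := ⟨hp⟩
  let Pk : Sylow p ↥K := default
  haveI hPkn : (Pk : Subgroup ↥K).Normal := inferInstance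
  have hcop : Nat.Coprime (Nat.card (Pk : Subgroup ↥K)) (Pk : Subgroup ↥K).index :=
    Sylow.card_coprime_index Pk
  obtain ⟨Qk, hQk⟩ := Subgroup.exists_right_complement'_of_coprime hcop
  have hm : (Pk : Subgroup ↥K).index = Nat.card Qk := by
    have h1 := hQk.card_mul
    have h2 := (Pk : Subgroup ↥K).card_mul_index
    have hpos : 0 < Nat.card (Pk : Subgroup ↥K) := Nat.card_pos
    exact Nat.eq_of_mul_eq_mul_left hpos (h2.trans h1.symm)
  have hcop' : Nat.Coprime (Nat.card (Pk : Subgroup ↥K)) (Nat.card Qk) := hm ▸ hcop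
  -- characterisation of `Qk`
  have hQmem : ∀ x : ↥K, x ^ Nat.card Qk = 1 → x ∈ Qk := by
    intro x hx
    obtain ⟨⟨⟨u, hu⟩, ⟨v, hv⟩⟩, huv⟩ := hQk.2 x
    simp only at huv
    have hou : orderOf u ∣ Nat.card (Pk : Subgroup ↥K) := Subgroup.orderOf_dvd_natCard _ hu
    have hov : orderOf v ∣ Nat.card Qk := Subgroup.orderOf_dvd_natCard _ hv
    have hcomm : u * v = v * u :=
      Cfsg.Agent.S1473.commute_of_coprime_nilpotent ↥K u v (isOfFinOrder_of_finite _)
        (isOfFinOrder_of_finite _)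
        (Nat.Coprime.coprime_dvd_left hou (Nat.Coprime.coprime_dvd_right hov hcop'))
    have hvm : v ^ Nat.card Qk = 1 := orderOf_dvd_iff_pow_eq_one.1 hov
    have hum : u ^ Nat.card Qk = 1 := by
      have h1 : (u * v) ^ Nat.card Qk = u ^ Nat.card Qk * v ^ Nat.card Qk :=
        (show Commute u v from hcomm).mul_pow _
      rw [huv, hx, hvm, mul_one] at h1
      exact h1.symm
    have hou2 : orderOf u ∣ Nat.card Qk := orderOf_dvd_of_pow_eq_one hum
    have hou1 : orderOf u = 1 := Nat.eq_one_of_dvd_coprimes hcop' hou hou2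
    have hu1 : u = 1 := orderOf_eq_one_iff.1 hou1
    rw [← huv, hu1, one_mul]
    exact hv
  have hQpow : ∀ x ∈ Qk, x ^ Nat.card Qk = 1 := by
    intro x hx
    exact orderOf_dvd_iff_pow_eq_one.1 (Subgroup.orderOf_dvd_natCard _ hx)
  -- the two subgroups of `L`
  set P : Subgroup L := (Pk : Subgroup ↥K).map K.subtype with hP
  set Q : Subgroup L := Qk.map K.subtype with hQ
  haveI hPchar : (Pk : Subgroup ↥K).Characteristic := Sylow.characteristic_of_normal Pk hPkn
  haveI hPn : P.Normal := ConjAct.normal_of_characteristic_of_normal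
  haveI hQn : Q.Normal := by
    refine ⟨fun y hy n => ?_⟩
    obtain ⟨v, hv, rfl⟩ := Subgroup.mem_map.1 hy
    have hmemK : n * K.subtype v * n⁻¹ ∈ K := hK.conj_mem _ v.2 n
    have hw : (⟨n * K.subtype v * n⁻¹, hmemK⟩ : ↥K) ∈ Qk := by
      apply hQmem
      apply Subtype.ext
      rw [Subgroup.coe_pow, Subgroup.coe_one]
      show (n * K.subtype v * n⁻¹) ^ Nat.card Qk = 1
      rw [conj_pow, ← map_pow, hQpow v hv, map_one, mul_one, mul_inv_cancel]
    exact Subgroup.mem_map.2 ⟨_, hw, rfl⟩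
  have hsup : P ⊔ Q = K := by
    rw [hP, hQ, ← Subgroup.map_sup, hQk.sup_eq_top, ← MonoidHom.range_eq_map,
      Subgroup.range_subtype]
  have hinf : P ⊓ Q = ⊥ := by
    rw [hP, hQ, ← Subgroup.map_inf _ _ K.subtype K.subtype_injective, hQk.disjoint.eq_bot,
      Subgroup.map_bot]
  have hP1 : P ≠ ⊥ := by
    intro h
    have h1 : (Pk : Subgroup ↥K) = ⊥ := by
      apply Subgroup.map_injective K.subtype_injective
      rw [Subgroup.map_bot]; exact h
    exact Sylow.ne_bot_of_dvd_card Pk hpdvd h1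
  have hQ1 : Q ≠ ⊥ := by
    intro h
    have h1 : Qk = ⊥ := by
      apply Subgroup.map_injective K.subtype_injective
      rw [Subgroup.map_bot]; exact h
    apply hpp
    obtain ⟨a, ha⟩ := (IsPGroup.iff_card.1 Pk.2)
    refine ⟨p, a, hp, ?_⟩
    have h2 := hQk.card_mul
    rw [h1, Subgroup.card_bot, mul_one] at h2
    rw [← h2, ha]
  have hcross : ∀ x ∈ P, ∀ y ∈ Q, x * y = y * x := fun x hx y hy =>
    Subgroup.commute_of_normal_of_disjoint P Q hPn hQn (disjoint_iff.2 hinf) x y hx hy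
  by_cases hPab : ∀ a ∈ P, ∀ b ∈ P, a * b = b * a
  · -- then `Q` is not abelian
    have hQna : ¬ ∀ a ∈ Q, ∀ b ∈ Q, a * b = b * a := by
      intro hQab
      apply hna
      intro a ha b hb
      rw [← hsup] at ha hb
      obtain ⟨u, hu, v, hv, rfl⟩ := Subgroup.mem_sup_of_normal_right.1 ha
      obtain ⟨u', hu', v', hv', rfl⟩ := Subgroup.mem_sup_of_normal_right.1 hb
      calc u * v * (u' * v') = u * (v * u') * v' := by group
        _ = u * (u' * v) * v' := by rw [hcross u' hu' v hv]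
        _ = (u * u') * (v * v') := by group
        _ = (u' * u) * (v' * v) := by rw [hPab u hu u' hu', hQab v hv v' hv']
        _ = u' * (u * v') * v := by group
        _ = u' * (v' * u) * v := by rw [hcross u hu v' hv']
        _ = u' * v' * (u * v) := by group
    exact ⟨Q, P, hQn, hPn, by rw [sup_comm]; exact hsup, by rw [inf_comm]; exact hinf, hQna, hP1⟩
  · exact ⟨P, Q, hPn, hQn, hsup, hinf, hPab, hQ1⟩

end Cfsg.Agent.Helper8.FeitCoh
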