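import Mathlib
import Cfsg.Agent.Lib.Helper1.FpfThompson

/-!
# The kernel of a Frobenius group is nilpotent (helper8, from Thompson's theorem of helper1)
-/

set_option autoImplicit false

namespace Cfsg.Agent.Helper8.PartFrob

universe u

/-- conjugation by an element normalising `K`, as an automorphism of `K` -/
def conjAut {G : Type u} [Group G] (K : Subgroup G) (y : G)
    (hy : ∀ h ∈ K, y * h * y⁻¹ ∈ K) (hy' : ∀ h ∈ K, y⁻¹ * h * y ∈ K) : ↥K ≃* ↥K where
  toFun k := ⟨y * k * y⁻¹, hy k k.2⟩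
  invFun k := ⟨y⁻¹ * k * y, hy' k k.2⟩
  left_inv k := by
    apply Subtype.ext
    show y⁻¹ * (y * (k : G) * y⁻¹) * y = k
    group
  right_inv k := by
    apply Subtype.ext
    show y * (y⁻¹ * (k : G) * y) * y⁻¹ = k
    group
  map_mul' a b := by
    apply Subtype.ext
    show y * ((a : G) * (b : G)) * y⁻¹ = (y * a * y⁻¹) * (y * b * y⁻¹)
    group

theorem conjAut_pow {G : Type u} [Group G] (K : Subgroup G) (y : G)
    (hy : ∀ h ∈ K, y * h * y⁻¹ ∈ K) (hy' : ∀ h ∈ K, y⁻¹ * h * y ∈ K) (n : ℕ) (k : ↥K) :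
    (((conjAut K y hy hy') ^ n) k : G) = y ^ n * k * (y ^ n)⁻¹ := by
  induction n generalizing k with
  | zero => simp
  | succ n ih =>
    rw [pow_succ, MulAut.mul_apply, ih]
    show y ^ n * (y * (k : G) * y⁻¹) * (y ^ n)⁻¹ = y ^ (n + 1) * k * (y ^ (n + 1))⁻¹
    rw [pow_succ]
    group

/-- the kernel of a Frobenius group is nilpotent -/
theorem frobenius_kernel_nilpotent {G : Type u} [Group G] [Finite G] (K L : Subgroup G)
    (hKL : K < L) (hKn : ∀ x ∈ L, ∀ h ∈ K, x * h * x⁻¹ ∈ K)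
    (hfrob : ∀ h ∈ K, h ≠ 1 → L ⊓ Subgroup.centralizer ({h} : Set G) ≤ K) :
    Group.IsNilpotent ↥K := by
  classical
  obtain ⟨y, hyL, hyK⟩ := Set.exists_of_ssubset hKL
  -- the least positive power of `y` in `K`
  have hex : ∃ n : ℕ, 0 < n ∧ y ^ n ∈ K :=
    ⟨orderOf y, orderOf_pos y, by rw [pow_orderOf_eq_one]; exact K.one_mem⟩
  set n := Nat.find hex with hn
  obtain ⟨hnpos, hnK⟩ := Nat.find_spec hex
  have hmin : ∀ m : ℕ, 0 < m → m < n → y ^ m ∉ K := fun m hm hmn hmK =>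
    Nat.find_min hex hmn ⟨hm, hmK⟩
  have hn1 : n ≠ 1 := by
    intro h1
    rw [← hn, h1, pow_one] at hnK
    exact hyK hnK
  set r := n.minFac with hr
  have hrp : r.Prime := Nat.minFac_prime hn1
  obtain ⟨m, hm⟩ := Nat.minFac_dvd n
  rw [← hr] at hm
  have hmpos : 0 < m := by
    rcases Nat.eq_zero_or_pos m with h | h
    · rw [h, mul_zero] at hm
      omega
    · exact h
  have hmlt : m < n := by
    rw [hm]
    have := hrp.two_le
    nlinarith
  set z := y ^ m with hz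
  have hzK : z ∉ K := hmin m hmpos hmlt
  have hzL : z ∈ L := L.pow_mem hyL m
  have hzr : z ^ r ∈ K := by
    rw [hz, ← pow_mul, mul_comm, ← hm]
    exact hnK
  have hzr1 : z ^ r = 1 := by
    by_contra hne
    apply hzK
    apply hfrob (z ^ r) hzr hne
    refine Subgroup.mem_inf.2 ⟨hzL, ?_⟩
    rw [Subgroup.mem_centralizer_singleton_iff]
    rw [← pow_succ, ← pow_succ']
  have hzinvL : z⁻¹ ∈ L := L.inv_mem hzL
  have hy1 : ∀ h ∈ K, z * h * z⁻¹ ∈ K := fun h hh => hKn z hzL h hh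
  have hy2 : ∀ h ∈ K, z⁻¹ * h * z ∈ K := fun h hh => by
    have := hKn z⁻¹ hzinvL h hh
    rwa [inv_inv] at this
  have hfpf : MonoidHom.FixedPointFree (conjAut K z hy1 hy2) := by
    intro k hk
    by_contra hk1
    apply hzK
    have hkG : (k : G) ≠ 1 := fun h => hk1 (Subtype.ext h)
    apply hfrob (k : G) k.2 hkG
    refine Subgroup.mem_inf.2 ⟨hzL, ?_⟩
    rw [Subgroup.mem_centralizer_singleton_iff]
    have h1 : z * (k : G) * z⁻¹ = k := congrArg Subtype.val hk
    calc z * (k : G) = (z * k * z⁻¹) * z := by group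
      _ = k * z := by rw [h1]
  have hpow : (conjAut K z hy1 hy2) ^ r = 1 := by
    ext k
    rw [conjAut_pow, hzr1]
    simp
  exact Cfsg.Agent.Helper1.Fpf.fpf_nilpotent (conjAut K z hy1 hy2) hfpf hrp hpow

end Cfsg.Agent.Helper8.PartFrob
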