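import Mathlib
import Cfsg.Prelude.Def_OddOrderChar
import Cfsg.Prelude.Def_OddOrderLocal
import Cfsg.Prelude.Def_Transfer
import Cfsg.Agent.Lib.Helper8.FeitSibley
import Cfsg.Agent.Lib.Helper8.FrobCoh4
import Cfsg.Agent.S1533
import Cfsg.Agent.S1535

/-!
# The Feit-Sibley coherence theorem for a nilpotent TI Frobenius kernel (helper8)
-/

set_option autoImplicit false

namespace Cfsg.Agent.Helper8.FeitCoh

open Cfsg Cfsg.Agent.Helper8 Cfsg.Agent.Helper24 Cfsg.Agent.Helper5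
open Cfsg.Agent.Helper8.FrobCoh

universe u

variable {G : Type u} [Group G] [Fintype G] (K : Subgroup G)

local notation "𝒩" => Subgroup.normalizer (K : Set G)

theorem feit_sibley [Fintype ↥𝒩] (hK1 : K ≠ ⊥) (hnil : Group.IsNilpotent K)
    (hTI : Cfsg.IsTISubset (K : Set G)) (hlt : K < Subgroup.normalizer (K : Set G))
    (hC : ∀ k ∈ K, k ≠ 1 → Subgroup.centralizer ({k} : Set G) ≤ K) :
    (Nat.card {χ : ↥𝒩 → ℂ // Cfsg.IsIrrCharacter ↥𝒩 χ ∧ ∃ k : ↥𝒩, (k : G) ∈ K ∧ χ k ≠ χ 1} = 1 ∧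
      Nat.card K = (K.subgroupOf 𝒩).index + 1 ∧ ∃ p : ℕ, p.Prime ∧ Cfsg.IsElementaryAbelian p K) ∨
    (Nat.card K = 2 ^ (Nat.card G).factorization 2 ∧
      (⁅K, K⁆.subgroupOf K).index < 4 * (K.subgroupOf 𝒩).index ^ 2) ∨
    Cfsg.IsCoherent {χ : ↥𝒩 → ℂ | Cfsg.IsIrrCharacter ↥𝒩 χ ∧ ∃ k : ↥𝒩, (k : G) ∈ K ∧ χ k ≠ χ 1}
      {1}ᶜ (fun α => Cfsg.indFun 𝒩 α) := by
  classical
  haveI hKn : (K.subgroupOf 𝒩).Normal := Subgroup.normal_in_normalizer
  haveI : Finite ↥𝒩 := Finite.of_fintype _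
  have hF := TIFN.fpf K hC
  have hSeq : {χ : ↥𝒩 → ℂ | Cfsg.IsIrrCharacter ↥𝒩 χ ∧ ∃ h ∈ K.subgroupOf 𝒩, χ h ≠ χ 1} =
      Cfsg.inducedIrrAbove (K.subgroupOf 𝒩) ⊥ := by
    rw [inducedIrrAbove_bot_eq _ hF]
    rfl
  have hcardK : Nat.card ↥(K.subgroupOf 𝒩) = Nat.card ↥K :=
    Nat.card_congr (Subgroup.subgroupOfEquivOfLe hlt.le).toEquiv
  have hnil' : Group.IsNilpotent ↥(K.subgroupOf 𝒩) :=
    (Group.isNilpotent_congr (Subgroup.subgroupOfEquivOfLe hlt.le)).2 hnil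
  have hK1' : K.subgroupOf 𝒩 ≠ ⊥ := by
    intro h
    apply hK1
    rw [Subgroup.subgroupOf_eq_bot] at h
    rw [eq_bot_iff]
    intro x hx
    have : x ∈ K ⊓ 𝒩 := Subgroup.mem_inf.2 ⟨hx, hlt.le hx⟩
    rw [disjoint_iff.1 h] at this
    exact this
  have hK2' : K.subgroupOf 𝒩 ≠ ⊤ := by
    intro h
    rw [Subgroup.subgroupOf_eq_top] at h
    exact (not_le_of_gt hlt) h
  have hepos : 0 < (K.subgroupOf 𝒩).index := Nat.pos_of_ne_zero Subgroup.index_ne_zero_of_finite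
  have he2 : 2 ≤ (K.subgroupOf 𝒩).index := by
    have h1 : (K.subgroupOf 𝒩).index ≠ 1 := fun h => hK2' (Subgroup.index_eq_one.1 h)
    omega
  by_cases hcard : Nat.card K = (K.subgroupOf 𝒩).index + 1
  · left
    have hab := comm_of_card_eq (K.subgroupOf 𝒩) hF hnil' hK1' (by rw [hcardK]; exact hcard)
    have hab' : ∀ a b : ↥(K.subgroupOf 𝒩), a * b = b * a :=
      fun a b => Subtype.ext (hab a a.2 b b.2)
    letI : Fintype (Cfsg.IrrCharacter ↥𝒩) := irrFintype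
    have hTcard : Nat.card {χ : ↥𝒩 → ℂ // Cfsg.IsIrrCharacter ↥𝒩 χ ∧
        ∃ k : ↥𝒩, (k : G) ∈ K ∧ χ k ≠ χ 1} =
        Nat.card {η : Cfsg.IrrCharacter ↥𝒩 // FrobKer.Rel (K.subgroupOf 𝒩) (η : ↥𝒩 → ℂ)} :=
      (Nat.card_congr (Equiv.subtypeSubtypeEquivSubtypeInter _ _)).symm
    have hcK := FrobKer.card_K_of_comm (K.subgroupOf 𝒩) hF hab'
    have hone : Nat.card {η : Cfsg.IrrCharacter ↥𝒩 //
        FrobKer.Rel (K.subgroupOf 𝒩) (η : ↥𝒩 → ℂ)} = 1 := by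
      rw [hcardK, hcard] at hcK
      have h1 : (K.subgroupOf 𝒩).index * 1 = (K.subgroupOf 𝒩).index *
          Nat.card {η : Cfsg.IrrCharacter ↥𝒩 // FrobKer.Rel (K.subgroupOf 𝒩) (η : ↥𝒩 → ℂ)} := by
        nlinarith
      exact (Nat.eq_of_mul_eq_mul_left hepos h1).symm
    refine ⟨by rw [hTcard]; exact hone, hcard, ?_⟩
    have hcard1 : Nat.card ↥(K.subgroupOf 𝒩) ≠ 1 := by
      intro h
      exact hK1' (Subgroup.card_eq_one.1 h)
    obtain ⟨p, hp, hpdvd⟩ := Nat.exists_prime_and_dvd hcard1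
    haveI : Fact p.Prime := ⟨hp⟩
    obtain ⟨k₂, hk₂o⟩ := exists_prime_orderOf_dvd_card' p hpdvd
    have hk₂1 : (k₂ : ↥𝒩) ≠ 1 := by
      intro h
      have : k₂ = 1 := Subtype.ext h
      rw [this, orderOf_one] at hk₂o
      exact hp.one_lt.ne hk₂o
    have hk₂p : (k₂ : ↥𝒩) ^ p = 1 := by
      have := pow_orderOf_eq_one k₂
      rw [hk₂o] at this
      have h2 := congrArg Subtype.val this
      simpa using h2
    refine ⟨p, hp, ⟨⟨fun a b => Subtype.ext ?_⟩⟩, ?_⟩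
    · have := hab ⟨a, hlt.le a.2⟩ (Subgroup.mem_subgroupOf.2 a.2) ⟨b, hlt.le b.2⟩
        (Subgroup.mem_subgroupOf.2 b.2)
      have h2 := congrArg Subtype.val this
      simpa using h2
    · intro a ha
      by_cases ha1 : a = 1
      · rw [ha1, one_pow]
      · have ha' : (⟨a, hlt.le ha⟩ : ↥𝒩) ∈ K.subgroupOf 𝒩 := Subgroup.mem_subgroupOf.mpr ha
        have ha1' : (⟨a, hlt.le ha⟩ : ↥𝒩) ≠ 1 := fun h => ha1 (congrArg Subtype.val h)
        have hconj := FrobKer.isConj_of_card_one (K.subgroupOf 𝒩) hone ha' k₂.2 ha1' hk₂1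
        obtain ⟨c, hc⟩ := isConj_iff.mp hconj
        have h3 : (⟨a, hlt.le ha⟩ : ↥𝒩) ^ p = 1 := by
          rw [← hc, conj_pow, hk₂p, mul_one, mul_inv_cancel]
        have := congrArg Subtype.val h3
        simpa using this
  · right
    have hC' : ∀ h ∈ K.subgroupOf 𝒩, h ≠ 1 →
        Subgroup.centralizer ({h} : Set ↥𝒩) ≤ K.subgroupOf 𝒩 := by
      intro h hh h1 x hx
      exact hF h hh h1 x (Subgroup.mem_centralizer_singleton_iff.1 hx)
    have he' : Nat.card ↥(K.subgroupOf 𝒩) ≠ (K.subgroupOf 𝒩).index + 1 := by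
      rw [hcardK]; exact hcard
    have h35 := Cfsg.Agent.S1535.result (N := ↥𝒩) (G := G) (K.subgroupOf 𝒩) hK1' hK2' hC' he'
      (fun α => Cfsg.indFun 𝒩 α) (by rw [hSeq]; exact lio_ind K hTI hlt hC)
      (by rw [hSeq]; exact fun α hα => ind_one K hα)
    rcases h35 with hcoh | ⟨p, hp, ⟨m, hm⟩, hna, hidx⟩
    · right
      exact hcoh
    · haveI : Fact p.Prime := ⟨hp⟩
      have hKp : IsPGroup p ↥K := IsPGroup.of_card (n := m) (by rw [← hcardK]; exact hm)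
      obtain ⟨P, hP⟩ := exists_sylow_eq K hC hKp hK1
      by_cases hp2 : p = 2
      · subst hp2
        left
        refine ⟨?_, ?_⟩
        · rw [← hP]; exact P.card_eq_multiplicity
        · rw [← index_commutator_subgroupOf K 𝒩 hlt.le]
          have hdvd := Subgroup.index_dvd_card
            ((⁅K.subgroupOf 𝒩, K.subgroupOf 𝒩⁆ : Subgroup ↥𝒩).subgroupOf (K.subgroupOf 𝒩))
          rw [hm] at hdvd
          obtain ⟨j, -, hj⟩ := (Nat.dvd_prime_pow Nat.prime_two).1 hdvd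
          have hna' : ¬ ∀ a ∈ K.subgroupOf 𝒩, ∀ b ∈ K.subgroupOf 𝒩, a * b = b * a := by
            intro h
            apply hna
            exact isMulCommutative_iff.2 (fun a b => Subtype.ext (h a a.2 b b.2))
          exact two_pow_lt (odd_index_of_not_comm (K.subgroupOf 𝒩) hF hna') he2 hj hidx
      · subst hP
        have h33 := Cfsg.Agent.S1533.result p hp2 P hK1 hTI hlt hC
        rcases h33 with ⟨-, -, hc⟩ | hcoh
        · exact absurd hc hcard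
        · right
          exact hcoh

end Cfsg.Agent.Helper8.FeitCoh
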