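import Mathlib
import Cfsg.Agent.Lib.Helper8.PGroup

set_option autoImplicit false
set_option linter.style.haveILetI false

namespace Cfsg.Agent.Helper8.GL2Odd

open Matrix

section Mat

variable {F : Type*} [Field F]

/-- Traceless `2 × 2` matrices square to a scalar. -/
theorem sq_of_trace_zero (M : Matrix (Fin 2) (Fin 2) F) (h : M.trace = 0) :
    M * M = (-M.det) • (1 : Matrix (Fin 2) (Fin 2) F) := by
  rw [Matrix.trace_fin_two] at h
  have h11 : M 1 1 = -M 0 0 := by linear_combination h
  ext i j
  fin_cases i <;> fin_cases j <;>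
    simp [Matrix.mul_apply, Fin.sum_univ_two, Matrix.det_fin_two, h11] <;> ring

/-- Two commuting traceless `2 × 2` matrices are proportional. -/
theorem exists_smul_of_commute (M N : Matrix (Fin 2) (Fin 2) F) (h2 : (2 : F) ≠ 0)
    (hM : M.trace = 0) (hN : N.trace = 0) (hM0 : M ≠ 0) (hc : M * N = N * M) :
    ∃ β : F, N = β • M := by
  rw [Matrix.trace_fin_two] at hM hN
  have hM11 : M 1 1 = -M 0 0 := by linear_combination hM
  have hN11 : N 1 1 = -N 0 0 := by linear_combination hN
  have e00 := congrFun (congrFun hc 0) 0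
  have e01 := congrFun (congrFun hc 0) 1
  have e10 := congrFun (congrFun hc 1) 0
  simp only [Matrix.mul_apply, Fin.sum_univ_two, hM11, hN11] at e00 e01 e10
  -- minors
  have m1 : M 0 1 * N 1 0 = N 0 1 * M 1 0 := by linear_combination e00
  have m2 : M 0 0 * N 0 1 = N 0 0 * M 0 1 := by
    have : 2 * (M 0 0 * N 0 1 - N 0 0 * M 0 1) = 0 := by linear_combination e01
    have h3 := (mul_eq_zero.mp this).resolve_left h2
    linear_combination h3
  have m3 : M 1 0 * N 0 0 = N 1 0 * M 0 0 := by
    have : 2 * (M 1 0 * N 0 0 - N 1 0 * M 0 0) = 0 := by linear_combination e10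
    have h3 := (mul_eq_zero.mp this).resolve_left h2
    linear_combination h3
  by_cases h00 : M 0 0 = 0
  · by_cases h01 : M 0 1 = 0
    · have h10 : M 1 0 ≠ 0 := by
        intro h10
        apply hM0
        ext i j
        fin_cases i <;> fin_cases j <;> simp [h00, h01, h10, hM11]
      refine ⟨N 1 0 / M 1 0, ?_⟩
      have hN00 : N 0 0 = 0 := by
        have := m3; rw [h00, mul_zero] at this
        exact (mul_eq_zero.mp this).resolve_left h10
      have hN01 : N 0 1 = 0 := by
        have := m1; rw [h01, zero_mul] at this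
        exact (mul_eq_zero.mp this.symm).resolve_right h10
      ext i j
      fin_cases i <;> fin_cases j <;> simp [h00, h01, hM11, hN11, hN00, hN01]
      field_simp
    · refine ⟨N 0 1 / M 0 1, ?_⟩
      have hN00 : N 0 0 = 0 := by
        have := m2; rw [h00, zero_mul] at this
        exact (mul_eq_zero.mp this.symm).resolve_right h01
      ext i j
      fin_cases i <;> fin_cases j <;> simp [h00, hM11, hN11, hN00]
      · field_simp
      · field_simp
        linear_combination m1
  · refine ⟨N 0 0 / M 0 0, ?_⟩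
    ext i j
    fin_cases i <;> fin_cases j <;> simp [hM11, hN11]
    · field_simp
    · field_simp
      linear_combination m2
    · field_simp
      linear_combination -m3
    · field_simp

/-- Powers of `s + N` with `N * N = 0`. -/
theorem add_pow_of_sq_zero (s : F) (N : Matrix (Fin 2) (Fin 2) F) (hN : N * N = 0) (n : ℕ) :
    (s • (1 : Matrix (Fin 2) (Fin 2) F) + N) ^ (n + 1) =
      (s ^ (n + 1)) • (1 : Matrix (Fin 2) (Fin 2) F) + ((n + 1 : ℕ) * s ^ n) • N := by
  induction n with
  | zero => simp
  | succ n ih =>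
    rw [pow_succ, ih]
    simp only [add_mul, mul_add, smul_mul_assoc, mul_smul_comm, one_mul, mul_one, hN, smul_zero,
      add_zero]
    push_cast
    module

/-- **Key matrix lemma.** Let `B, G` be `2 × 2` matrices over a field with `2 ≠ 0`, `G` invertible
of odd order, `B` of finite order `n` invertible in `F`, such that the conjugate `G B G⁻¹` commutes
with `B`. Then `G B G⁻¹ = B`. -/
theorem conj_eq_of_commute (h2 : (2 : F) ≠ 0) (B G G' : Matrix (Fin 2) (Fin 2) F)
    (hGG' : G * G' = 1) (hG'G : G' * G = 1) {m : ℕ} (hm : Odd m) (hGm : G ^ m = 1)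
    {n : ℕ} (hn : (n : F) ≠ 0) (hBn : B ^ n = 1) (hc : B * (G * B * G') = (G * B * G') * B) :
    G * B * G' = B := by
  set t := B.trace with ht
  set s := t / 2 with hs
  set B₀ := B - s • (1 : Matrix (Fin 2) (Fin 2) F) with hB₀
  set Y₀ := G * B₀ * G' with hY₀
  have hB : B = s • (1 : Matrix (Fin 2) (Fin 2) F) + B₀ := by rw [hB₀]; abel
  have hY : G * B * G' = s • (1 : Matrix (Fin 2) (Fin 2) F) + Y₀ := by
    rw [hY₀, hB₀, Matrix.mul_sub, Matrix.sub_mul]
    simp only [mul_smul_comm, smul_mul_assoc, mul_one, hGG']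
    abel
  have htrB₀ : B₀.trace = 0 := by
    rw [hB₀, Matrix.trace_sub, Matrix.trace_smul, Matrix.trace_one, Fintype.card_fin, ← ht, hs]
    simp only [smul_eq_mul, Nat.cast_ofNat]
    field_simp
    ring
  have htrY₀ : Y₀.trace = 0 := by
    rw [hY₀, Matrix.trace_mul_cycle, hG'G, one_mul, htrB₀]
  by_cases hB₀0 : B₀ = 0
  · rw [hY, hB, hY₀, hB₀0]; simp
  -- commuting
  have hc₀ : B₀ * Y₀ = Y₀ * B₀ := by
    have h1 : B * (G * B * G') = (s • (1 : Matrix (Fin 2) (Fin 2) F) + B₀) * (s • 1 + Y₀) := by
      rw [← hB, ← hY]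
    have h2' : (G * B * G') * B = (s • (1 : Matrix (Fin 2) (Fin 2) F) + Y₀) * (s • 1 + B₀) := by
      rw [← hB, ← hY]
    rw [h1, h2'] at hc
    simp only [add_mul, mul_add, smul_mul_assoc, mul_smul_comm, one_mul, mul_one] at hc
    linear_combination (norm := module) hc
  obtain ⟨β, hβ⟩ := exists_smul_of_commute B₀ Y₀ h2 htrB₀ htrY₀ hB₀0 hc₀
  -- iterates
  have hiter : ∀ k : ℕ, G ^ k * B₀ * G' ^ k = (β ^ k) • B₀ := by
    intro k
    induction k with
    | zero => simp
    | succ k ih =>
      have : G ^ (k + 1) * B₀ * G' ^ (k + 1) = G * (G ^ k * B₀ * G' ^ k) * G' := by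
        rw [pow_succ', pow_succ]
        simp only [Matrix.mul_assoc]
      rw [this, ih]
      simp only [mul_smul_comm, smul_mul_assoc]
      rw [← hY₀, hβ, smul_smul, pow_succ]
  have hG'm : G' ^ m = 1 := by
    have h1 : G' ^ m = G ^ m * G' ^ m := by rw [hGm, one_mul]
    have h3 : Commute G G' := by
      show G * G' = G' * G
      rw [hGG', hG'G]
    rw [h1, ← h3.mul_pow, hGG', one_pow]
  have hβm : β ^ m = 1 := by
    have h1 := hiter m
    rw [hGm, hG'm, one_mul, mul_one] at h1
    by_contra hne
    apply hB₀0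
    have h3 : (β ^ m - 1) • B₀ = 0 := by rw [sub_smul, one_smul, ← h1, sub_self]
    exact (smul_eq_zero.mp h3).resolve_left (sub_ne_zero.mpr hne)
  -- squares
  have hsqB := sq_of_trace_zero B₀ htrB₀
  have hsqY := sq_of_trace_zero Y₀ htrY₀
  have hdet : Y₀.det = B₀.det := by
    rw [hY₀, Matrix.det_mul, Matrix.det_mul, mul_right_comm, ← Matrix.det_mul, hGG', Matrix.det_one,
      one_mul]
  by_cases hδ : B₀.det = 0
  · -- nilpotent case: contradiction
    exfalso
    have hN : B₀ * B₀ = 0 := by rw [hsqB, hδ, neg_zero, zero_smul]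
    obtain ⟨k, rfl⟩ : ∃ k, n = k + 1 := by
      rcases n with _ | k
      · simp at hn
      · exact ⟨k, rfl⟩
    have hpow := add_pow_of_sq_zero s B₀ hN k
    rw [← hB, hBn] at hpow
    -- multiply by B₀
    have h3 : B₀ = (s ^ (k + 1)) • B₀ := by
      have := congrArg (fun M => M * B₀) hpow
      simp only [one_mul, add_mul, smul_mul_assoc, hN, smul_zero, add_zero] at this
      exact this
    have hs1 : s ^ (k + 1) = 1 := by
      by_contra hne
      apply hB₀0
      have h4 : (1 - s ^ (k + 1)) • B₀ = 0 := by rw [sub_smul, one_smul, ← h3, sub_self]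
      exact (smul_eq_zero.mp h4).resolve_left (sub_ne_zero.mpr (Ne.symm hne))
    rw [hs1, one_smul] at hpow
    have h5 : (((k + 1 : ℕ) : F) * s ^ k) • B₀ = 0 := by
      have := sub_eq_zero.mpr hpow.symm
      rw [add_sub_cancel_left] at this
      exact this
    have h6 : ((k + 1 : ℕ) : F) * s ^ k = 0 := (smul_eq_zero.mp h5).resolve_right hB₀0
    have h7 : s ^ k = 0 := (mul_eq_zero.mp h6).resolve_left hn
    have h8 : s ^ (k + 1) = 0 := by rw [pow_succ, h7, zero_mul]
    rw [hs1] at h8
    exact one_ne_zero h8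
  · -- semisimple case
    have h1 : Y₀ * Y₀ = (β * β) • (B₀ * B₀) := by
      rw [hβ]; simp only [mul_smul_comm, smul_mul_assoc, smul_smul]
    rw [hsqY, hsqB, hdet, smul_smul] at h1
    have h3 : (-B₀.det) = β * β * (-B₀.det) := by
      have := congrFun (congrFun h1 0) 0
      simpa using this
    have hβ2 : β * β = 1 := by
      have h4 : (β * β - 1) * (-B₀.det) = 0 := by linear_combination -h3
      have h5 := (mul_eq_zero.mp h4).resolve_right (neg_ne_zero.mpr hδ)
      linear_combination h5
    obtain ⟨k, rfl⟩ := hm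
    have hβ1 : β = 1 := by
      have : β ^ (2 * k + 1) = (β * β) ^ k * β := by rw [pow_succ, pow_mul, pow_two]
      rw [this, hβ2, one_pow, one_mul] at hβm
      exact hβm
    rw [hY, hB, hβ, hβ1, one_smul]

open scoped MatrixGroups

/-- **Lemma L.** In a group with a faithful two-dimensional representation in odd characteristic
`p`, an element `g` of odd order conjugating a `p'`-element `b` to an element commuting with `b`
centralizes `b`. -/
theorem conj_eq_of_commute_GL (p : ℕ) [Fact p.Prime] [CharP F p] (hp : p ≠ 2)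
    {X : Type*} [Group X] (ρ : X →* GL (Fin 2) F) (hρ : Function.Injective ρ) (g b : X)
    (hg : Odd (orderOf g)) (hb : ¬ p ∣ orderOf b) (hc : Commute b (g * b * g⁻¹)) :
    g * b * g⁻¹ = b := by
  have h2 : (2 : F) ≠ 0 := by
    intro h
    have h' : ((2 : ℕ) : F) = 0 := by exact_mod_cast h
    rw [CharP.cast_eq_zero_iff F p] at h'
    have := (Nat.prime_dvd_prime_iff_eq (Fact.out : p.Prime) Nat.prime_two).mp h'
    exact hp this
  apply hρ
  apply Units.ext
  have hn : ((orderOf b : ℕ) : F) ≠ 0 := by
    rw [Ne, CharP.cast_eq_zero_iff F p]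
    exact hb
  have key := conj_eq_of_commute h2 ((ρ b : GL (Fin 2) F) : Matrix (Fin 2) (Fin 2) F)
    ((ρ g : GL (Fin 2) F) : Matrix (Fin 2) (Fin 2) F)
    ((ρ g⁻¹ : GL (Fin 2) F) : Matrix (Fin 2) (Fin 2) F) ?_ ?_ hg ?_ hn ?_ ?_
  · rw [map_mul, map_mul, Units.val_mul, Units.val_mul]
    exact key
  · rw [← Units.val_mul, ← map_mul, mul_inv_cancel, map_one, Units.val_one]
  · rw [← Units.val_mul, ← map_mul, inv_mul_cancel, map_one, Units.val_one]
  · rw [← Units.val_pow_eq_pow_val, ← map_pow, pow_orderOf_eq_one, map_one, Units.val_one]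
  · rw [← Units.val_pow_eq_pow_val, ← map_pow, pow_orderOf_eq_one, map_one, Units.val_one]
  · have := congrArg (fun x => ((ρ x : GL (Fin 2) F) : Matrix (Fin 2) (Fin 2) F)) hc.eq
    simpa only [map_mul, Units.val_mul] using this


end Mat

section Group

open scoped MatrixGroups

universe u

variable {F : Type u} [Field F]

theorem odd_orderOf_of_odd_card {X : Type*} [Group X] [Finite X] (h : Odd (Nat.card X)) (g : X) :
    Odd (orderOf g) :=
  Odd.of_dvd_nat h (orderOf_dvd_natCard g)

/-- Sylow `r`-subgroups, `r ≠ p`, are central in their normalizer. -/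
theorem normalizer_le_centralizer_sylow (p : ℕ) [Fact p.Prime] [CharP F p] (hp : p ≠ 2)
    {X : Type*} [Group X] [Finite X] (hodd : Odd (Nat.card X))
    (ρ : X →* GL (Fin 2) F) (hρ : Function.Injective ρ) {r : ℕ} [Fact r.Prime] (hrp : r ≠ p)
    (R : Sylow r X) :
    Subgroup.normalizer ((R : Subgroup X) : Set X) ≤ Subgroup.centralizer (R : Set X) := by
  have hpr : ∀ b : X, b ∈ (R : Subgroup X) → ¬ p ∣ orderOf b := by
    intro b hb hdvd
    obtain ⟨k, hk⟩ := (IsPGroup.iff_orderOf.mp R.2 ⟨b, hb⟩)
    have h1 : orderOf b = r ^ k := by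
      rw [← hk, Subgroup.orderOf_mk]
    rw [h1] at hdvd
    have := (Nat.prime_dvd_prime_iff_eq (Fact.out : p.Prime) (Fact.out : r.Prime)).mp
      ((Fact.out : p.Prime).dvd_of_dvd_pow hdvd)
    exact hrp this.symm
  -- R is abelian
  have hab : ∀ a ∈ (R : Subgroup X), ∀ b ∈ (R : Subgroup X), a * b = b * a := by
    obtain ⟨A, hAn, hAc, hAs⟩ := exists_normal_abelian_self_centralizing (p := r) (R := ↥(R : Subgroup X)) R.2
    have hAtop : A = ⊤ := by
      rw [eq_top_iff]
      intro g _
      apply hAs
      rw [Subgroup.mem_centralizer_iff]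
      intro a ha
      have hconj : g * a * g⁻¹ ∈ A := hAn.conj_mem a ha g
      have hcomm : Commute (a : X) ((g : X) * (a : X) * (g : X)⁻¹) := by
        have h1 : (⟨a, ha⟩ : A) * ⟨g * a * g⁻¹, hconj⟩ = ⟨g * a * g⁻¹, hconj⟩ * ⟨a, ha⟩ :=
          hAc.is_comm.comm _ _
        have h2 := congrArg (fun x : A => ((x : ↥(R : Subgroup X)) : X)) h1
        show (a : X) * ((g : X) * (a : X) * (g : X)⁻¹) = ((g : X) * (a : X) * (g : X)⁻¹) * (a : X)
        simpa using h2
      have := conj_eq_of_commute_GL p hp ρ hρ (g : X) (a : X) (odd_orderOf_of_odd_card hodd _)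
        (hpr _ a.2) hcomm
      apply Subtype.ext
      have h3 : (g : X) * (a : X) = (a : X) * (g : X) := by
        calc (g : X) * a = (g * a * (g : X)⁻¹) * g := by group
          _ = a * g := by rw [this]
      simp [h3]
    intro a ha b hb
    have h1 : (⟨a, ha⟩ : ↥(R : Subgroup X)) ∈ A := by rw [hAtop]; trivial
    have h2 : (⟨b, hb⟩ : ↥(R : Subgroup X)) ∈ A := by rw [hAtop]; trivial
    have h3 : (⟨_, h1⟩ : A) * ⟨_, h2⟩ = ⟨_, h2⟩ * ⟨_, h1⟩ := hAc.is_comm.comm _ _
    have h4 := congrArg (fun x : A => ((x : ↥(R : Subgroup X)) : X)) h3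
    simpa using h4
  intro g hg
  rw [Subgroup.mem_centralizer_iff]
  intro b hb
  have hconj : g * b * g⁻¹ ∈ (R : Subgroup X) := (Subgroup.mem_normalizer_iff.mp hg b).mp hb
  have hcomm : Commute b (g * b * g⁻¹) := hab b hb _ hconj
  have := conj_eq_of_commute_GL p hp ρ hρ g b (odd_orderOf_of_odd_card hodd _) (hpr b hb) hcomm
  calc b * g = (g * b * g⁻¹) * g := by rw [this]
    _ = g * b := by group

/-- A finite group of odd order with a faithful two-dimensional representation in odd
characteristic `p` has a normal Sylow `p`-subgroup. -/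
theorem exists_normal_sylow (p : ℕ) [Fact p.Prime] [CharP F p] (hp : p ≠ 2) :
    ∀ (n : ℕ) (X : Type u) [Group X] [Finite X], Nat.card X = n → Odd (Nat.card X) →
      ∀ ρ : X →* GL (Fin 2) F, Function.Injective ρ →
        ∃ P : Sylow p X, (P : Subgroup X).Normal := by
  intro n
  induction n using Nat.strong_induction_on with
  | _ n ih =>
    intro X _ _ hn hodd ρ hρ
    by_cases hex : ∃ r, r.Prime ∧ r ≠ p ∧ r ∣ Nat.card X
    · obtain ⟨r, hr, hrp, hrd⟩ := hex
      haveI : Fact r.Prime := ⟨hr⟩
      obtain ⟨R⟩ : Nonempty (Sylow r X) := inferInstance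
      have hNC := normalizer_le_centralizer_sylow p hp hodd ρ hρ hrp R
      set K := (MonoidHom.transferSylow R hNC).ker with hK
      have hcompl : Subgroup.IsComplement' K R :=
        MonoidHom.ker_transferSylow_isComplement' R hNC
      have hcard : Nat.card K * Nat.card R = Nat.card X := hcompl.card_mul_card
      have hR1 : 1 < Nat.card R := by
        have hne : (R : Subgroup X) ≠ ⊥ := R.ne_bot_of_dvd_card hrd
        have := (Subgroup.one_lt_card_iff_ne_bot (R : Subgroup X)).mpr hne
        exact this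
      have hKpos : 0 < Nat.card K := Nat.card_pos
      have hlt : Nat.card K < n := by
        rw [← hn, ← hcard]
        nlinarith
      have hoddK : Odd (Nat.card K) := Odd.of_dvd_nat hodd (Subgroup.card_subgroup_dvd_card K)
      obtain ⟨P₀, hP₀⟩ := ih (Nat.card K) hlt ↥K rfl hoddK (ρ.comp K.subtype)
        (hρ.comp K.subtype_injective)
      haveI hchar : (P₀ : Subgroup K).Characteristic := Sylow.characteristic_of_normal P₀ hP₀
      haveI hKn : K.Normal := MonoidHom.normal_ker _
      have hnorm : ((P₀ : Subgroup K).map K.subtype).Normal :=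
        ConjAct.normal_of_characteristic_of_normal
      have hidx : ¬ p ∣ ((P₀ : Subgroup K).map K.subtype).index := by
        rw [Subgroup.index_map_subtype]
        intro hdvd
        rcases (Nat.Prime.dvd_mul (Fact.out : p.Prime)).mp hdvd with h | h
        · exact P₀.not_dvd_index h
        · rw [hcompl.symm.index_eq_card] at h
          obtain ⟨k, hk⟩ := IsPGroup.iff_card.mp R.2
          rw [hk] at h
          have := (Nat.prime_dvd_prime_iff_eq (Fact.out : p.Prime) hr).mp
            ((Fact.out : p.Prime).dvd_of_dvd_pow h)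
          exact hrp this.symm
      refine ⟨IsPGroup.toSylow (P₀.2.map K.subtype) hidx, ?_⟩
      rw [IsPGroup.toSylow_coe]
      exact hnorm
    · have hpg : IsPGroup p X := by
        have hpos : Nat.card X ≠ 0 := Nat.card_pos.ne'
        have := Nat.eq_prime_pow_of_unique_prime_dvd hpos (p := p) (by
          intro d hd hdvd
          by_contra hne
          exact hex ⟨d, hd, hne, hdvd⟩)
        exact IsPGroup.of_card this
      obtain ⟨P⟩ : Nonempty (Sylow p X) := inferInstance
      refine ⟨P, ?_⟩
      have : (⊤ : Subgroup X) = P := P.is_maximal' (hpg.to_subgroup ⊤) le_top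
      rw [← this]
      infer_instance

/-- A `2 × 2` matrix fixing two independent vectors is the identity. -/
theorem eq_one_of_fix {M : Matrix (Fin 2) (Fin 2) F} {v w : Fin 2 → F} (hv : v ≠ 0)
    (hw : w ∉ Submodule.span F {v}) (h1 : M.mulVec v = v) (h2 : M.mulVec w = w) : M = 1 := by
  have hli : LinearIndependent F ![v, w] := by
    rw [LinearIndependent.pair_iff' hv]
    intro a ha
    apply hw
    rw [Submodule.mem_span_singleton]
    exact ⟨a, ha⟩
  have hcard : Fintype.card (Fin 2) = Module.finrank F (Fin 2 → F) := by simp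
  let b := basisOfLinearIndependentOfCardEqFinrank hli hcard
  have hb : ∀ i, b i = ![v, w] i := fun i => by
    simp [b]
  have : Matrix.toLin' M = LinearMap.id := by
    apply b.ext
    intro i
    rw [hb]
    fin_cases i
    · simpa using h1
    · simpa using h2
  have h3 : Matrix.toLin' M = Matrix.toLin' (1 : Matrix (Fin 2) (Fin 2) F) := by
    rw [this, Matrix.toLin'_one]
  exact Matrix.toLin'.injective h3

/-- If a group with a faithful two-dimensional representation in characteristic `p` has a
nontrivial normal `p`-subgroup, then it leaves a line invariant. -/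
theorem exists_invariant_line (p : ℕ) [Fact p.Prime] [CharP F p]
    {X : Type*} [Group X] [Finite X]
    (ρ : X →* GL (Fin 2) F) (hρ : Function.Injective ρ) (U : Subgroup X) [U.Normal]
    (hU : IsPGroup p U) (hne : U ≠ ⊥) :
    ∃ v : Fin 2 → F, v ≠ 0 ∧ ∀ g : X,
      ((ρ g : GL (Fin 2) F) : Matrix (Fin 2) (Fin 2) F).mulVec v ∈ Submodule.span F {v} := by
  classical
  -- a nontrivial central element of `U`
  haveI : Nontrivial U := (Subgroup.nontrivial_iff_ne_bot U).mpr hne
  haveI := hU.center_nontrivial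
  obtain ⟨⟨z, hzc⟩, hz1⟩ := exists_ne (1 : Subgroup.center U)
  have hz1' : (z : X) ≠ 1 := by
    intro h
    apply hz1
    apply Subtype.ext
    apply Subtype.ext
    exact h
  set Z : Matrix (Fin 2) (Fin 2) F := ((ρ (z : X) : GL (Fin 2) F) : Matrix (Fin 2) (Fin 2) F) with hZ
  have hZ1 : Z ≠ 1 := by
    intro h
    apply hz1'
    apply hρ
    rw [map_one]
    exact Units.ext h
  -- `Z - 1` is nilpotent
  obtain ⟨k, hk⟩ := hU z
  have hZk : Z ^ p ^ k = 1 := by
    have h1 : ((z : X)) ^ p ^ k = 1 := by
      have := congrArg (fun x : U => (x : X)) hk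
      simpa using this
    rw [hZ, ← Units.val_pow_eq_pow_val, ← map_pow, h1, map_one, Units.val_one]
  have hnil : (Z - 1) ^ p ^ k = 0 := by
    rw [sub_pow_char_pow_of_commute (p := p) (h := Commute.one_right Z), hZk, one_pow, sub_self]
  have hdet : (Z - 1).det = 0 := by
    have := congrArg Matrix.det hnil
    rw [Matrix.det_pow, Matrix.det_zero] at this
    exact pow_eq_zero_iff (pow_ne_zero _ (Fact.out : p.Prime).ne_zero) |>.mp this
  obtain ⟨v, hv0, hv⟩ := Matrix.exists_mulVec_eq_zero_iff.mpr hdet
  have hZv : Z.mulVec v = v := by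
    rw [Matrix.sub_mulVec, Matrix.one_mulVec, sub_eq_zero] at hv
    exact hv
  -- every `u ∈ U` fixes `v`
  have hfix : ∀ u ∈ U, ((ρ u : GL (Fin 2) F) : Matrix (Fin 2) (Fin 2) F).mulVec v = v := by
    intro u hu
    set M : Matrix (Fin 2) (Fin 2) F := ((ρ u : GL (Fin 2) F) : Matrix (Fin 2) (Fin 2) F) with hM
    have hcomm : Z * M = M * Z := by
      have h1 : (z : X) * u = u * (z : X) := by
        have := (Subgroup.mem_center_iff.mp hzc) ⟨u, hu⟩
        have h2 := congrArg (fun x : U => (x : X)) this
        simpa using h2.symm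
      rw [hZ, hM, ← Units.val_mul, ← Units.val_mul, ← map_mul, ← map_mul, h1]
    have hZMv : Z.mulVec (M.mulVec v) = M.mulVec v := by
      rw [Matrix.mulVec_mulVec, hcomm, ← Matrix.mulVec_mulVec, hZv]
    have hmem : M.mulVec v ∈ Submodule.span F {v} := by
      by_contra hnot
      exact hZ1 (eq_one_of_fix hv0 hnot hZv hZMv)
    obtain ⟨α, hα⟩ := Submodule.mem_span_singleton.mp hmem
    obtain ⟨j, hj⟩ := hU ⟨u, hu⟩
    have hMj : M ^ p ^ j = 1 := by
      have h1 : u ^ p ^ j = 1 := by
        have := congrArg (fun x : U => (x : X)) hj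
        simpa using this
      rw [hM, ← Units.val_pow_eq_pow_val, ← map_pow, h1, map_one, Units.val_one]
    have hpow : ∀ n : ℕ, (M ^ n).mulVec v = α ^ n • v := by
      intro n
      induction n with
      | zero => simp
      | succ n ih =>
        rw [pow_succ, ← Matrix.mulVec_mulVec, ← hα, Matrix.mulVec_smul, ih, smul_smul, pow_succ,
          mul_comm]
    have hαj : α ^ p ^ j = 1 := by
      have := hpow (p ^ j)
      rw [hMj, Matrix.one_mulVec] at this
      by_contra hne'
      apply hv0
      have h3 : (α ^ p ^ j - 1) • v = 0 := by rw [sub_smul, one_smul, ← this, sub_self]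
      exact (smul_eq_zero.mp h3).resolve_left (sub_ne_zero.mpr hne')
    have hα1 : α = 1 := by
      have : (α - 1) ^ p ^ j = 0 := by
        rw [sub_pow_char_pow (p := p), hαj, one_pow, sub_self]
      exact sub_eq_zero.mp (pow_eq_zero_iff (pow_ne_zero _ (Fact.out : p.Prime).ne_zero) |>.mp this)
    rw [← hα, hα1, one_smul]
  refine ⟨v, hv0, ?_⟩
  intro g
  by_contra hnot
  -- then every `u ∈ U` also fixes `g v`, so `U` is trivial
  apply hne
  rw [eq_bot_iff]
  intro u hu
  rw [Subgroup.mem_bot]
  apply hρ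
  rw [map_one]
  apply Units.ext
  rw [Units.val_one]
  refine eq_one_of_fix hv0 hnot (hfix u hu) ?_
  have hconj : g⁻¹ * u * g ∈ U := by
    have := (inferInstance : U.Normal).conj_mem u hu g⁻¹
    simpa using this
  have h1 := hfix _ hconj
  have h2 : u * g = g * (g⁻¹ * u * g) := by group
  rw [Matrix.mulVec_mulVec, ← Units.val_mul, ← map_mul, h2, map_mul, Units.val_mul,
    ← Matrix.mulVec_mulVec, h1]

end Group

end Cfsg.Agent.Helper8.GL2Odd
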