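import Mathlib
import Cfsg.Agent.S1463

set_option autoImplicit false
set_option linter.style.haveILetI false

/-! Two quadratic elements generating a group of odd order act unipotently. -/

namespace Cfsg.Agent.Helper8.QuadPair

open Matrix Polynomial
open scoped MatrixGroups

variable {K : Type*} [Field K] {V : Type*} [AddCommGroup V] [Module K V]

/-- Finding a good eigenvector. -/
theorem exists_good_vector (A B : Module.End K V) (hA : A * A = 0) (hB : B * B = 0)
    (lam : K) (hlam : lam ≠ 0) (x : V) (hx : x ≠ 0) (hev : (A * B + B * A) x = lam • x) :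
    ∃ u : V, u ≠ 0 ∧ A u = 0 ∧ A (B u) = lam • u := by
  have hAA : ∀ v, A (A v) = 0 := fun v => by
    have := LinearMap.congr_fun hA v
    simpa using this
  have hBB : ∀ v, B (B v) = 0 := fun v => by
    have := LinearMap.congr_fun hB v
    simpa using this
  have hev' : A (B x) + B (A x) = lam • x := by simpa using hev
  by_cases h : A (B x) = 0
  · refine ⟨A x, ?_, hAA x, ?_⟩
    · intro h0
      rw [h, h0, map_zero, zero_add] at hev'
      exact hx ((smul_eq_zero.mp hev'.symm).resolve_left hlam)
    · rw [h, zero_add] at hev'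
      rw [hev', map_smul]
  · refine ⟨A (B x), h, hAA _, ?_⟩
    -- A B A B x = A B (lam x - A B x) ... use hev'
    have h1 : B (A (B x)) = lam • B x := by
      have := congrArg B hev'
      rw [map_add, hBB, add_zero, map_smul] at this
      exact this
    rw [h1, map_smul]

theorem false_of_good_vector (p : ℕ) [Fact p.Prime] [CharP K p] (hp : p ≠ 2)
    {H : Type*} [Group H] [Finite H] (hodd : Odd (Nat.card H))
    (ρ : H →* Module.End K V) (a b : H) (hgen : Subgroup.closure {a, b} = ⊤)
    (hB : (ρ b - 1) * (ρ b - 1) = 0)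
    (lam : K) (hlam : lam ≠ 0) (u : V) (hu : u ≠ 0) (hAu : (ρ a - 1) u = 0)
    (hABu : (ρ a - 1) ((ρ b - 1) u) = lam • u) : False := by
  classical
  set w : V := (ρ b - 1) u with hw
  have hau : ρ a u = u := by
    have := hAu
    rw [LinearMap.sub_apply, Module.End.one_apply, sub_eq_zero] at this
    exact this
  have hbu : ρ b u = u + w := by
    rw [hw, LinearMap.sub_apply, Module.End.one_apply]; abel
  have haw : ρ a w = w + lam • u := by
    have := hABu
    rw [LinearMap.sub_apply, Module.End.one_apply, sub_eq_iff_eq_add] at this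
    rw [this]; abel
  have hbw : ρ b w = w := by
    have := LinearMap.congr_fun hB u
    rw [Module.End.mul_apply, ← hw, LinearMap.sub_apply, Module.End.one_apply, LinearMap.zero_apply,
      sub_eq_zero] at this
    exact this
  -- the embedding of `K²`
  let R : (Fin 2 → K) →ₗ[K] V :=
    (LinearMap.proj 0 : (Fin 2 → K) →ₗ[K] K).smulRight u +
      (LinearMap.proj 1 : (Fin 2 → K) →ₗ[K] K).smulRight w
  have hR : ∀ c : Fin 2 → K, R c = c 0 • u + c 1 • w := fun c => rfl
  have hRinj : Function.Injective R := by
    rw [injective_iff_map_eq_zero]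
    intro c hc
    rw [hR] at hc
    have h1 : (ρ a - 1 : Module.End K V) (c 0 • u + c 1 • w) = (ρ a - 1 : Module.End K V) 0 := by
      rw [hc]
    rw [map_add, map_smul, map_smul, hAu, smul_zero, zero_add, map_zero, LinearMap.sub_apply,
      Module.End.one_apply, haw, add_sub_cancel_left, smul_smul] at h1
    have h2 : c 1 = 0 := by
      rcases smul_eq_zero.mp h1 with h | h
      · exact (mul_eq_zero.mp h).resolve_right hlam
      · exact absurd h hu
    rw [h2, zero_smul, add_zero] at hc
    have h3 : c 0 = 0 := (smul_eq_zero.mp hc).resolve_right hu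
    funext i
    fin_cases i
    · exact h3
    · exact h2
  set Ma : Matrix (Fin 2) (Fin 2) K := !![1, lam; 0, 1] with hMa
  set Mb : Matrix (Fin 2) (Fin 2) K := !![1, 0; 1, 1] with hMb
  have hRa : (ρ a) ∘ₗ R = R ∘ₗ Matrix.toLin' Ma := by
    apply LinearMap.ext
    intro c
    rw [LinearMap.comp_apply, LinearMap.comp_apply, hR, hR, map_add, map_smul, map_smul, hau, haw,
      Matrix.toLin'_apply]
    simp only [hMa, Matrix.mulVec, dotProduct, Fin.sum_univ_two, Matrix.of_apply,
      Matrix.cons_val', Matrix.cons_val_zero, Matrix.cons_val_one, Matrix.cons_val_fin_one]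
    module
  have hRb : (ρ b) ∘ₗ R = R ∘ₗ Matrix.toLin' Mb := by
    apply LinearMap.ext
    intro c
    rw [LinearMap.comp_apply, LinearMap.comp_apply, hR, hR, map_add, map_smul, map_smul, hbu, hbw,
      Matrix.toLin'_apply]
    simp only [hMb, Matrix.mulVec, dotProduct, Fin.sum_univ_two, Matrix.of_apply,
      Matrix.cons_val', Matrix.cons_val_zero, Matrix.cons_val_one, Matrix.cons_val_fin_one]
    module
  -- every element preserves the plane
  have hP : ∀ h : H, ∃ M : Matrix (Fin 2) (Fin 2) K, (ρ h) ∘ₗ R = R ∘ₗ Matrix.toLin' M := by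
    intro h
    have hmem : h ∈ Submonoid.closure ({a, b} : Set H) := by
      rw [← Subgroup.closure_toSubmonoid_of_finite, hgen]
      trivial
    induction hmem using Submonoid.closure_induction with
    | mem x hx =>
      rcases hx with rfl | hx
      · exact ⟨Ma, hRa⟩
      · rw [Set.mem_singleton_iff] at hx
        subst hx
        exact ⟨Mb, hRb⟩
    | one =>
      refine ⟨1, ?_⟩
      rw [map_one, Matrix.toLin'_one]
      rfl
    | mul x y _ _ hx hy =>
      obtain ⟨M, hM⟩ := hx
      obtain ⟨M', hM'⟩ := hy
      refine ⟨M * M', ?_⟩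
      rw [map_mul, Matrix.toLin'_mul, Module.End.mul_eq_comp, LinearMap.comp_assoc, hM',
        ← LinearMap.comp_assoc, hM, LinearMap.comp_assoc]
  obtain ⟨L, hL⟩ := LinearMap.exists_leftInverse_of_injective R (LinearMap.ker_eq_bot.mpr hRinj)
  let μ : H → Matrix (Fin 2) (Fin 2) K := fun h => LinearMap.toMatrix' (L ∘ₗ (ρ h) ∘ₗ R)
  have hμuniq : ∀ (h : H) (M : Matrix (Fin 2) (Fin 2) K),
      (ρ h) ∘ₗ R = R ∘ₗ Matrix.toLin' M → μ h = M := by
    intro h M hM
    show LinearMap.toMatrix' (L ∘ₗ (ρ h) ∘ₗ R) = M
    rw [hM, ← LinearMap.comp_assoc, hL, LinearMap.id_comp, LinearMap.toMatrix'_toLin']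
  have hμ : ∀ h : H, (ρ h) ∘ₗ R = R ∘ₗ Matrix.toLin' (μ h) := by
    intro h
    obtain ⟨M, hM⟩ := hP h
    rw [hμuniq h M hM]
    exact hM
  have hμ1 : μ 1 = 1 := by
    apply hμuniq
    rw [map_one, Matrix.toLin'_one]
    rfl
  have hμmul : ∀ h h' : H, μ (h * h') = μ h * μ h' := by
    intro h h'
    apply hμuniq
    rw [map_mul, Matrix.toLin'_mul, Module.End.mul_eq_comp, LinearMap.comp_assoc, hμ h',
      ← LinearMap.comp_assoc, hμ h, LinearMap.comp_assoc]
  let μhom : H →* Matrix (Fin 2) (Fin 2) K := ⟨⟨μ, hμ1⟩, hμmul⟩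
  let μ' : H →* GL (Fin 2) K := μhom.toHomUnits
  have hμ'val : ∀ h : H, ((μ' h : GL (Fin 2) K) : Matrix (Fin 2) (Fin 2) K) = μ h := fun h => rfl
  have hμa : μ a = Ma := hμuniq a Ma hRa
  have hμb : μ b = Mb := hμuniq b Mb hRb
  set X : Subgroup (GL (Fin 2) K) := μ'.range with hX
  haveI : Finite X := by
    have : Finite (Set.range μ') := Set.finite_range μ'
    exact this
  have hoddX : Odd (Nat.card X) := Odd.of_dvd_nat hodd (Subgroup.card_range_dvd μ')
  have hirr : ∀ v : Fin 2 → K, v ≠ 0 → ∃ g ∈ X,
      (g : Matrix (Fin 2) (Fin 2) K).mulVec v ∉ Submodule.span K {v} := by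
    intro v hv
    by_cases h1 : v 1 = 0
    · have h0 : v 0 ≠ 0 := by
        intro h0
        apply hv
        funext i
        fin_cases i
        · exact h0
        · exact h1
      refine ⟨μ' b, ⟨b, rfl⟩, ?_⟩
      rw [hμ'val, hμb, Submodule.mem_span_singleton]
      rintro ⟨c, hc⟩
      have e1 := congrFun hc 1
      simp [hMb, Matrix.mulVec, dotProduct, Fin.sum_univ_two, h1] at e1
      exact h0 e1.symm
    · refine ⟨μ' a, ⟨a, rfl⟩, ?_⟩
      rw [hμ'val, hμa, Submodule.mem_span_singleton]
      rintro ⟨c, hc⟩
      have e0 := congrFun hc 0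
      have e1 := congrFun hc 1
      simp [hMa, Matrix.mulVec, dotProduct, Fin.sum_univ_two] at e0 e1
      have hc1 : c = 1 := by
        have : (c - 1) * v 1 = 0 := by linear_combination e1
        have := (mul_eq_zero.mp this).resolve_right h1
        linear_combination this
      rw [hc1, one_mul] at e0
      have : lam * v 1 = 0 := by linear_combination -e0
      rcases mul_eq_zero.mp this with h | h
      · exact hlam h
      · exact h1 h
  have hnd := Cfsg.Agent.S1463.result p hp X hoddX hirr
  apply hnd
  -- an element of order `p`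
  have hap : (μ' a) ^ p = 1 := by
    apply Units.ext
    rw [Units.val_pow_eq_pow_val, hμ'val, hμa, Units.val_one]
    have hN : Ma = 1 + !![0, lam; 0, 0] := by
      rw [hMa]
      ext i j
      fin_cases i <;> fin_cases j <;> simp
    have hNN : (!![0, lam; 0, 0] : Matrix (Fin 2) (Fin 2) K) * !![0, lam; 0, 0] = 0 := by
      ext i j
      fin_cases i <;> fin_cases j <;> simp [Matrix.mul_apply, Fin.sum_univ_two]
    rw [hN, add_pow_char_of_commute (p := p) (h := Commute.one_left _), one_pow]
    have : (!![0, lam; 0, 0] : Matrix (Fin 2) (Fin 2) K) ^ p = 0 := by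
      obtain ⟨k, hk⟩ : ∃ k, p = k + 2 := ⟨p - 2, by have := (Fact.out : p.Prime).two_le; omega⟩
      rw [hk, pow_add, pow_two, hNN, mul_zero]
    rw [this, add_zero]
  have ha1 : μ' a ≠ 1 := by
    intro h
    have h2 := congrArg (fun g : GL (Fin 2) K => (g : Matrix (Fin 2) (Fin 2) K) 0 1) h
    simp only [hμ'val, hμa, hMa, Units.val_one] at h2
    simp at h2
    exact hlam h2
  have hord : orderOf (μ' a) = p := orderOf_eq_prime hap ha1
  have hmem : μ' a ∈ X := ⟨a, rfl⟩
  have h3 : orderOf (⟨μ' a, hmem⟩ : X) = p := by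
    rw [← hord]
    exact Subgroup.orderOf_mk _ _
  rw [← h3]
  exact orderOf_dvd_natCard _

/-- The descending filtration `W₀ = ⊤`, `W_{i+1} = A W_i + B W_i`. -/
def filt (A B : Module.End K V) : ℕ → Submodule K V
  | 0 => ⊤
  | (i + 1) => (filt A B i).map A ⊔ (filt A B i).map B

theorem filt_succ (A B : Module.End K V) (i : ℕ) :
    filt A B (i + 1) = (filt A B i).map A ⊔ (filt A B i).map B := rfl

theorem filt_succ_le (A B : Module.End K V) (i : ℕ) : filt A B (i + 1) ≤ filt A B i := by
  induction i with
  | zero => exact le_top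
  | succ i ih =>
    rw [filt_succ A B (i + 1), filt_succ A B i]
    exact sup_le_sup (Submodule.map_mono ih) (Submodule.map_mono ih)

theorem map_mul' (f g : Module.End K V) (p : Submodule K V) :
    p.map (f * g) = (p.map g).map f := Submodule.map_comp g f p

theorem range_mul' (f g : Module.End K V) :
    LinearMap.range (f * g) = (LinearMap.range g).map f := LinearMap.range_comp g f

theorem filt_two (A B : Module.End K V) (hA : A * A = 0) (hB : B * B = 0) (i : ℕ) :
    filt A B (i + 2) = (filt A B i).map (A * B) ⊔ (filt A B i).map (B * A) := by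
  rw [filt_succ A B (i + 1), filt_succ A B i, Submodule.map_sup, Submodule.map_sup,
    ← map_mul', ← map_mul', ← map_mul', ← map_mul', hA, hB, Submodule.map_zero, bot_sup_eq,
    sup_bot_eq]

theorem filt_three (A B : Module.End K V) (hA : A * A = 0) (hB : B * B = 0) (i : ℕ) :
    filt A B (i + 3) ≤ (filt A B i).map (A * B + B * A) := by
  have hAi : (filt A B i).map A ≤ filt A B i :=
    le_trans le_sup_left (filt_succ_le A B i)
  have hBi : (filt A B i).map B ≤ filt A B i :=
    le_trans le_sup_right (filt_succ_le A B i)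
  have htA : A * (B * A) = (A * B + B * A) * A := by
    have : (A * B + B * A) * A = A * (B * A) + B * (A * A) := by noncomm_ring
    rw [this, hA, mul_zero, add_zero]
  have htB : B * (A * B) = (A * B + B * A) * B := by
    have : (A * B + B * A) * B = A * (B * B) + B * (A * B) := by noncomm_ring
    rw [this, hB, mul_zero, zero_add]
  have hAAB : A * (A * B) = 0 := by rw [← mul_assoc, hA, zero_mul]
  have hBBA : B * (B * A) = 0 := by rw [← mul_assoc, hB, zero_mul]
  have e1 : ((filt A B i).map (A * B) ⊔ (filt A B i).map (B * A)).map A =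
      ((filt A B i).map A).map (A * B + B * A) := by
    rw [Submodule.map_sup, ← map_mul', ← map_mul', hAAB, Submodule.map_zero, bot_sup_eq, htA,
      map_mul']
  have e2 : ((filt A B i).map (A * B) ⊔ (filt A B i).map (B * A)).map B =
      ((filt A B i).map B).map (A * B + B * A) := by
    rw [Submodule.map_sup, ← map_mul', ← map_mul', hBBA, Submodule.map_zero, sup_bot_eq, htB,
      map_mul']
  rw [show i + 3 = (i + 2) + 1 from rfl, filt_succ A B (i + 2), filt_two A B hA hB i, e1, e2]
  exact sup_le (Submodule.map_mono hAi) (Submodule.map_mono hBi)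

theorem filt_le_range (A B : Module.End K V) (hA : A * A = 0) (hB : B * B = 0) (j : ℕ) :
    filt A B (3 * j) ≤ LinearMap.range ((A * B + B * A) ^ j) := by
  induction j with
  | zero =>
    rw [pow_zero]
    intro x _
    exact ⟨x, rfl⟩
  | succ j ih =>
    have h1 : 3 * (j + 1) = 3 * j + 3 := by ring
    rw [h1]
    refine le_trans (filt_three A B hA hB (3 * j)) ?_
    refine le_trans (Submodule.map_mono ih) ?_
    rw [pow_succ', range_mul']

theorem filt_eq_bot (A B : Module.End K V) (hA : A * A = 0) (hB : B * B = 0) (k : ℕ)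
    (hk : (A * B + B * A) ^ k = 0) : filt A B (3 * k) = ⊥ := by
  rw [eq_bot_iff]
  refine le_trans (filt_le_range A B hA hB k) ?_
  rw [hk, LinearMap.range_zero]

/-- **Case 1.** If `t = AB + BA` is nilpotent then the group generated acts unipotently. -/
theorem isNilpotent_sub_one {H : Type*} [Group H] [Finite H]
    (ρ : H →* Module.End K V) (a b : H) (hgen : Subgroup.closure {a, b} = ⊤)
    (hA : (ρ a - 1) * (ρ a - 1) = 0) (hB : (ρ b - 1) * (ρ b - 1) = 0)
    (hnil : IsNilpotent ((ρ a - 1) * (ρ b - 1) + (ρ b - 1) * (ρ a - 1))) (h : H) :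
    IsNilpotent (ρ h - 1) := by
  obtain ⟨k, hk⟩ := hnil
  set A := ρ a - 1 with hAdef
  set B := ρ b - 1 with hBdef
  have hbot := filt_eq_bot A B hA hB k hk
  have hstep : ∀ g : H, ∀ i : ℕ, ∀ x ∈ filt A B i, ρ g x - x ∈ filt A B (i + 1) := by
    intro g
    have hmem : g ∈ Submonoid.closure ({a, b} : Set H) := by
      rw [← Subgroup.closure_toSubmonoid_of_finite, hgen]
      trivial
    induction hmem using Submonoid.closure_induction with
    | mem y hy =>
      intro i x hx
      rcases hy with rfl | hy
      · have : ρ y x - x = A x := by rw [hAdef]; simp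
        rw [this, filt_succ]
        exact Submodule.mem_sup_left (Submodule.mem_map_of_mem hx)
      · rw [Set.mem_singleton_iff] at hy
        subst hy
        have : ρ y x - x = B x := by rw [hBdef]; simp
        rw [this, filt_succ]
        exact Submodule.mem_sup_right (Submodule.mem_map_of_mem hx)
    | one =>
      intro i x _
      simp
    | mul y z _ _ hy hz =>
      intro i x hx
      have h1 := hz i x hx
      have hzx : ρ z x ∈ filt A B i := by
        have : ρ z x = (ρ z x - x) + x := by abel
        rw [this]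
        exact Submodule.add_mem _ (filt_succ_le A B i h1) hx
      have h2 := hy i (ρ z x) hzx
      have : ρ (y * z) x - x = (ρ y (ρ z x) - ρ z x) + (ρ z x - x) := by
        rw [map_mul, Module.End.mul_apply]; abel
      rw [this]
      exact Submodule.add_mem _ h2 h1
  have hpow : ∀ n : ℕ, ∀ x : V, ((ρ h - 1) ^ n) x ∈ filt A B n := by
    intro n
    induction n with
    | zero => intro x; trivial
    | succ n ih =>
      intro x
      rw [pow_succ', Module.End.mul_apply]
      have := hstep h n _ (ih x)
      simpa using this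
  refine ⟨3 * k, ?_⟩
  apply LinearMap.ext
  intro x
  have := hpow (3 * k) x
  rw [hbot, Submodule.mem_bot] at this
  rw [this, LinearMap.zero_apply]

/-- Over an algebraically closed field, an endomorphism of a finite-dimensional space is nilpotent
or has a nonzero eigenvalue. -/
theorem isNilpotent_or_exists_eigen [IsAlgClosed K] [FiniteDimensional K V] (f : Module.End K V) :
    IsNilpotent f ∨ ∃ lam : K, lam ≠ 0 ∧ ∃ x : V, x ≠ 0 ∧ f x = lam • x := by
  by_cases h : ∃ lam : K, lam ≠ 0 ∧ f.HasEigenvalue lam
  · right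
    obtain ⟨lam, hlam, hev⟩ := h
    obtain ⟨x, hx⟩ := hev.exists_hasEigenvector
    exact ⟨lam, hlam, x, hx.2, Module.End.mem_eigenspace_iff.mp hx.1⟩
  · left
    push Not at h
    have hint : IsIntegral K f := Algebra.IsIntegral.isIntegral f
    have hmonic : (minpoly K f).Monic := minpoly.monic hint
    have hsplit : (minpoly K f).Splits := IsAlgClosed.splits _
    have hroots : ∀ r ∈ (minpoly K f).roots, r = 0 := by
      intro r hr
      by_contra hne
      apply h r hne
      rw [Module.End.hasEigenvalue_iff_isRoot]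
      exact (Polynomial.mem_roots hmonic.ne_zero).mp hr
    have hrep : (minpoly K f).roots = Multiset.replicate (Multiset.card (minpoly K f).roots) 0 :=
      Multiset.eq_replicate_card.mpr hroots
    have hX : minpoly K f = X ^ (Multiset.card (minpoly K f).roots) := by
      conv_lhs => rw [hsplit.eq_prod_roots_of_monic hmonic, hrep]
      simp
    refine ⟨Multiset.card (minpoly K f).roots, ?_⟩
    have := minpoly.aeval K f
    rw [hX] at this
    simpa using this

open scoped TensorProduct

/-- **Core.** Two elements acting quadratically on a finite-dimensional space in odd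
characteristic `p` and generating a group of odd order: every element of the group acts
unipotently. -/
theorem isNilpotent_sub_one_of_odd {F : Type*} [Field F] (p : ℕ) [Fact p.Prime] [CharP F p]
    (hp : p ≠ 2) {W : Type*} [AddCommGroup W] [Module F W] [FiniteDimensional F W]
    {H : Type*} [Group H] [Finite H] (hodd : Odd (Nat.card H))
    (ρ : H →* Module.End F W) (a b : H) (hgen : Subgroup.closure {a, b} = ⊤)
    (hA : (ρ a - 1) * (ρ a - 1) = 0) (hB : (ρ b - 1) * (ρ b - 1) = 0) (h : H) :
    IsNilpotent (ρ h - 1) := by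
  let K := AlgebraicClosure F
  let β : Module.End F W →ₐ[F] Module.End K (K ⊗[F] W) := Module.End.baseChangeHom F K W
  have hinj : Function.Injective β := LinearMap.baseChangeHom_injective F W K
  let ρK : H →* Module.End K (K ⊗[F] W) := (β : Module.End F W →* Module.End K (K ⊗[F] W)).comp ρ
  have hρK : ∀ g : H, ρK g - 1 = β (ρ g - 1) := by
    intro g
    rw [map_sub, map_one]
    rfl
  have hA' : (ρK a - 1) * (ρK a - 1) = 0 := by
    rw [hρK, ← map_mul, hA, map_zero]
  have hB' : (ρK b - 1) * (ρK b - 1) = 0 := by
    rw [hρK, ← map_mul, hB, map_zero]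
  rcases isNilpotent_or_exists_eigen ((ρK a - 1) * (ρK b - 1) + (ρK b - 1) * (ρK a - 1)) with
    hnil | ⟨lam, hlam, x, hx, hev⟩
  · have := isNilpotent_sub_one ρK a b hgen hA' hB' hnil h
    rw [hρK] at this
    exact (IsNilpotent.map_iff hinj).mp this
  · exfalso
    obtain ⟨u, hu, hAu, hABu⟩ := exists_good_vector _ _ hA' hB' lam hlam x hx hev
    exact false_of_good_vector p hp hodd ρK a b hgen hB' lam hlam u hu hAu hABu

theorem exists_pow_act_eq_one_aux {H W : Type*} [Group H] [Finite H] [CommGroup W] [Finite W]
    {p : ℕ} [Fact p.Prime] [Module (ZMod p) (Additive W)] [Nontrivial W]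
    (hp : p ≠ 2) (hodd : Odd (Nat.card H)) (act : H →* MulAut W)
    (a b : H) (hgen : Subgroup.closure {a, b} = ⊤)
    (ha : ∀ w : W, act a (act a w / w) = act a w / w)
    (hb : ∀ w : W, act b (act b w / w) = act b w / w) (h : H) :
    ∃ k : ℕ, act (h ^ p ^ k) = 1 := by
  classical
  haveI : Finite (Additive W) := inferInstanceAs (Finite W)
  haveI : Nontrivial (Additive W) := inferInstanceAs (Nontrivial W)
  haveI : FiniteDimensional (ZMod p) (Additive W) := Module.Finite.of_finite
  let ρ : H →* Module.End (ZMod p) (Additive W) :=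
    { toFun := fun g => (MonoidHom.toAdditive (act g).toMonoidHom).toZModLinearMap p
      map_one' := by
        apply LinearMap.ext
        intro x
        obtain ⟨w, rfl⟩ := Additive.ofMul.surjective x
        simp
      map_mul' := by
        intro g g'
        apply LinearMap.ext
        intro x
        obtain ⟨w, rfl⟩ := Additive.ofMul.surjective x
        simp }
  have hρ : ∀ (g : H) (w : W), ρ g (Additive.ofMul w) = Additive.ofMul (act g w) := fun g w => rfl
  have hquad : ∀ g : H, (∀ w : W, act g (act g w / w) = act g w / w) →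
      (ρ g - 1) * (ρ g - 1) = 0 := by
    intro g hg
    apply LinearMap.ext
    intro x
    obtain ⟨w, rfl⟩ := Additive.ofMul.surjective x
    have h1 : (ρ g - 1) (Additive.ofMul w) = Additive.ofMul (act g w / w) := by
      rw [LinearMap.sub_apply, hρ, Module.End.one_apply, ofMul_div]
    rw [Module.End.mul_apply, h1, LinearMap.sub_apply, hρ, Module.End.one_apply, hg, sub_self,
      LinearMap.zero_apply]
  obtain ⟨n, hn⟩ := isNilpotent_sub_one_of_odd (F := ZMod p) p hp hodd ρ a b hgen (hquad a ha)
    (hquad b hb) h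
  haveI : CharP (Module.End (ZMod p) (Additive W)) p :=
    charP_of_injective_algebraMap (algebraMap (ZMod p) (Module.End (ZMod p) (Additive W))).injective p
  have hpk : n ≤ p ^ n := (Nat.lt_pow_self (Fact.out : p.Prime).one_lt).le
  refine ⟨n, ?_⟩
  have h1 : (ρ h - 1) ^ p ^ n = 0 := pow_eq_zero_of_le hpk hn
  rw [sub_pow_char_pow_of_commute (p := p) (h := Commute.one_right _), one_pow, sub_eq_zero,
    ← map_pow] at h1
  ext w
  have h2 := LinearMap.congr_fun h1 (Additive.ofMul w)
  rw [hρ, Module.End.one_apply] at h2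
  exact Additive.ofMul.injective h2

/-- **Quadratic pairs, group form.** `H = ⟨a, b⟩` of odd order acting on an elementary abelian
`p`-group `W` (`p` odd), with `a` and `b` acting quadratically: a `p`-power of every element of `H`
acts trivially. -/
theorem exists_pow_act_eq_one {H W : Type*} [Group H] [Finite H] [CommGroup W] [Finite W] {p : ℕ}
    [Fact p.Prime] (hp : p ≠ 2) (hodd : Odd (Nat.card H)) (act : H →* MulAut W)
    (hW : ∀ w : W, w ^ p = 1) (a b : H) (hgen : Subgroup.closure {a, b} = ⊤)
    (ha : ∀ w : W, act a (act a w / w) = act a w / w)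
    (hb : ∀ w : W, act b (act b w / w) = act b w / w) (h : H) :
    ∃ k : ℕ, act (h ^ p ^ k) = 1 := by
  by_cases hsub : Subsingleton W
  · refine ⟨0, ?_⟩
    ext w
    exact Subsingleton.elim _ _
  rw [not_subsingleton_iff_nontrivial] at hsub
  have h0 : ∀ x : Additive W, p • x = 0 := fun x => by
    obtain ⟨w, rfl⟩ := Additive.ofMul.surjective x
    rw [← ofMul_pow, hW, ofMul_one]
  exact @exists_pow_act_eq_one_aux H W _ _ _ _ p _ (AddCommGroup.zmodModule h0) hsub hp hodd act
    a b hgen ha hb h

end Cfsg.Agent.Helper8.QuadPair
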