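import Mathlib
import Cfsg.Agent.Lib.Helper8.QuadPair
import Cfsg.Agent.Lib.Helper4.QuadStab
import Cfsg.Agent.Lib.Helper21.BaerSuzuki

set_option autoImplicit false
set_option linter.style.haveILetI false

namespace Cfsg.Agent.Helper8.OddStable

open Cfsg
open scoped commutatorElement

variable {G : Type*} [Group G] {p : ℕ} [hpp : Fact p.Prime]

/-- The closure of a conjugation-invariant set is normal. -/
theorem closure_normal_of_conj (K : Set G) (hconj : ∀ g x : G, x ∈ K → g * x * g⁻¹ ∈ K) :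
    (Subgroup.closure K).Normal := by
  constructor
  intro n hn g
  induction hn using Subgroup.closure_induction with
  | mem x hx => exact Subgroup.subset_closure (hconj g x hx)
  | one => simp
  | mul x y _ _ hx hy =>
    have : g * (x * y) * g⁻¹ = (g * x * g⁻¹) * (g * y * g⁻¹) := by group
    rw [this]
    exact Subgroup.mul_mem _ hx hy
  | inv x _ hx =>
    have : g * x⁻¹ * g⁻¹ = (g * x * g⁻¹)⁻¹ := by group
    rw [this]
    exact Subgroup.inv_mem _ hx

/-- Base case: `V` a minimal normal subgroup of a group of odd order. -/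
theorem base_odd [Finite G] (hodd : Odd (Nat.card G)) (hp : p ≠ 2) (V : Subgroup G)
    [hVn : V.Normal] (hVp : IsPGroup p V)
    (hVmin : ∀ V₁ : Subgroup G, V₁.Normal → V₁ ≤ V → V₁ = ⊥ ∨ V₁ = V)
    (a : G) (hq : ⁅⁅V, Subgroup.zpowers a⁆, Subgroup.zpowers a⁆ = ⊥) :
    (QuotientGroup.mk a : G ⧸ Subgroup.centralizer (V : Set G)) ∈
      pCore p (G ⧸ Subgroup.centralizer (V : Set G)) := by
  classical
  set C := Subgroup.centralizer (V : Set G) with hC
  by_cases hV0 : V = ⊥
  · have haC : a ∈ C := by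
      rw [hC, hV0, Subgroup.mem_centralizer_iff]
      intro h hh
      have : h = 1 := by simpa using hh
      rw [this]; simp
    have : (QuotientGroup.mk a : G ⧸ C) = 1 := (QuotientGroup.eq_one_iff a).mpr haC
    rw [this]; exact Subgroup.one_mem _
  -- `V` is abelian
  have hVab : ∀ x ∈ V, ∀ y ∈ V, x * y = y * x := by
    have h1 : ⁅V, V⁆ ≠ V :=
      Cfsg.Agent.S0028.commutator_ne_of_isPGroup p V V hVp hVp Subgroup.le_normalizer hV0
    have h2 : ⁅V, V⁆ = ⊥ := by
      rcases hVmin ⁅V, V⁆ inferInstance (Subgroup.commutator_le_left V V) with h | h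
      · exact h
      · exact absurd h h1
    have h3 := Subgroup.commutator_eq_bot_iff_le_centralizer.mp h2
    intro x hx y hy
    exact (Subgroup.mem_centralizer_iff.mp (h3 hy) x hx)
  -- `V` has exponent `p`
  have hVexp : ∀ x ∈ V, x ^ p = 1 := by
    let Ω : Subgroup G :=
      { carrier := {v | v ∈ V ∧ v ^ p = 1}
        mul_mem' := by
          rintro x y ⟨hx, hx1⟩ ⟨hy, hy1⟩
          refine ⟨V.mul_mem hx hy, ?_⟩
          have hc : Commute x y := hVab x hx y hy
          rw [hc.mul_pow, hx1, hy1, one_mul]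
        one_mem' := ⟨V.one_mem, one_pow _⟩
        inv_mem' := by
          rintro x ⟨hx, hx1⟩
          exact ⟨V.inv_mem hx, by rw [inv_pow, hx1, inv_one]⟩ }
    have hΩn : Ω.Normal := by
      constructor
      rintro n ⟨hn, hn1⟩ g
      exact ⟨hVn.conj_mem n hn g, by rw [conj_pow, hn1]; group⟩
    have hΩV : Ω ≤ V := fun x hx => hx.1
    have hΩ0 : Ω ≠ ⊥ := by
      have hcard : p ∣ Nat.card V := by
        obtain ⟨n, hn⟩ := IsPGroup.iff_card.mp hVp
        have hn0 : n ≠ 0 := by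
          rintro rfl
          rw [pow_zero] at hn
          exact hV0 ((Subgroup.card_eq_one).mp hn)
        rw [hn]
        exact dvd_pow_self p hn0
      obtain ⟨x, hx⟩ := exists_prime_orderOf_dvd_card' (G := ↥V) p hcard
      intro hbot
      have hxΩ : (x : G) ∈ Ω := by
        refine ⟨x.2, ?_⟩
        have : x ^ p = 1 := by rw [← hx]; exact pow_orderOf_eq_one x
        have := congrArg Subtype.val this
        simpa using this
      rw [hbot, Subgroup.mem_bot] at hxΩ
      have hx1 : x = 1 := Subtype.ext hxΩ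
      rw [hx1, orderOf_one] at hx
      exact hpp.out.ne_one hx.symm
    rcases hVmin Ω hΩn hΩV with h | h
    · exact absurd h hΩ0
    · intro x hx
      have : x ∈ Ω := by rw [h]; exact hx
      exact this.2
  let _ : CommGroup ↥V :=
    { (inferInstance : Group ↥V) with mul_comm := fun x y => Subtype.ext (hVab x x.2 y y.2) }
  let act₀ : G →* MulAut ↥V := MulAut.conjNormal
  have hact₀ : ∀ g : G, ∀ v : ↥V, ((act₀ g v : ↥V) : G) = g * v * g⁻¹ :=
    fun g v => MulAut.conjNormal_apply g v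
  have hWexp : ∀ w : ↥V, w ^ p = 1 := fun w => Subtype.ext (by simpa using hVexp w w.2)
  -- quadratic action of `a` and of its conjugates
  have hquad : ∀ g : G, ∀ w : ↥V, act₀ (g * a * g⁻¹) (act₀ (g * a * g⁻¹) w / w) =
      act₀ (g * a * g⁻¹) w / w := by
    intro g w
    -- `w' = g⁻¹ w g`
    have hw' : g⁻¹ * (w : G) * g ∈ V := by
      have := hVn.conj_mem w w.2 g⁻¹
      simpa using this
    set w' : G := g⁻¹ * (w : G) * g with hw'def
    set c : G := a * w' * a⁻¹ * w'⁻¹ with hc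
    have hcmem : c ∈ ⁅V, Subgroup.zpowers a⁆ := by
      have h1 : ⁅w', a⁆ ∈ ⁅V, Subgroup.zpowers a⁆ :=
        Subgroup.commutator_mem_commutator hw' (Subgroup.mem_zpowers a)
      have h2 : c = ⁅w', a⁆⁻¹ := by
        rw [hc, commutatorElement_def]; group
      rw [h2]
      exact Subgroup.inv_mem _ h1
    have h1 : ⁅c, a⁆ ∈ ⁅⁅V, Subgroup.zpowers a⁆, Subgroup.zpowers a⁆ :=
      Subgroup.commutator_mem_commutator hcmem (Subgroup.mem_zpowers a)
    rw [hq, Subgroup.mem_bot, commutatorElement_def] at h1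
    have hac : a * c * a⁻¹ = c := by
      calc a * c * a⁻¹ = (c * a * c⁻¹ * a⁻¹)⁻¹ * c := by group
        _ = c := by rw [h1, inv_one, one_mul]
    set x : ↥V := act₀ (g * a * g⁻¹) w / w with hx
    have hxG : (x : G) = g * c * g⁻¹ := by
      rw [hx, div_eq_mul_inv, Subgroup.coe_mul, Subgroup.coe_inv, hact₀, hc, hw'def]
      group
    apply Subtype.ext
    rw [hact₀, hxG]
    calc g * a * g⁻¹ * (g * c * g⁻¹) * (g * a * g⁻¹)⁻¹ = g * (a * c * a⁻¹) * g⁻¹ := by group
      _ = g * c * g⁻¹ := by rw [hac]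
  -- the conjugacy class of the image of `a`
  set K : Set (G ⧸ C) := {y | ∃ g : G, y = QuotientGroup.mk (g * a * g⁻¹)} with hK
  have hconj : ∀ (g x : G ⧸ C), x ∈ K → g * x * g⁻¹ ∈ K := by
    intro g x hx
    obtain ⟨g', rfl⟩ := QuotientGroup.mk_surjective g
    obtain ⟨g₀, rfl⟩ := hx
    refine ⟨g' * g₀, ?_⟩
    rw [← QuotientGroup.mk_inv, ← QuotientGroup.mk_mul, ← QuotientGroup.mk_mul]
    congr 1
    group
  have hpair : ∀ x ∈ K, ∀ y ∈ K, IsPGroup p (Subgroup.closure ({x, y} : Set (G ⧸ C))) := by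
    rintro _ ⟨g, rfl⟩ _ ⟨g', rfl⟩
    set x : G := g * a * g⁻¹ with hxdef
    set y : G := g' * a * g'⁻¹ with hydef
    set H₀ : Subgroup G := Subgroup.closure {x, y} with hH₀
    have hxH : x ∈ H₀ := Subgroup.subset_closure (by simp)
    have hyH : y ∈ H₀ := Subgroup.subset_closure (by simp)
    have hmap : Subgroup.closure ({(QuotientGroup.mk x : G ⧸ C), QuotientGroup.mk y} : Set (G ⧸ C)) =
        H₀.map (QuotientGroup.mk' C) := by
      rw [hH₀, MonoidHom.map_closure, Set.image_pair]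
      rfl
    rw [hmap]
    have hoddH : Odd (Nat.card H₀) := Odd.of_dvd_nat hodd (Subgroup.card_subgroup_dvd_card H₀)
    have hgen : Subgroup.closure ({⟨x, hxH⟩, ⟨y, hyH⟩} : Set ↥H₀) = ⊤ := by
      have h1 := Subgroup.closure_closure_coe_preimage (k := ({x, y} : Set G))
      have h2 : ((↑) ⁻¹' ({x, y} : Set G) : Set ↥(Subgroup.closure ({x, y} : Set G))) =
          {⟨x, hxH⟩, ⟨y, hyH⟩} := by
        ext z
        simp only [Set.mem_preimage, Set.mem_insert_iff, Set.mem_singleton_iff, Subtype.ext_iff]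
      rw [h2] at h1
      exact h1
    rintro ⟨_, ⟨h, hh, rfl⟩⟩
    obtain ⟨k, hk⟩ := Cfsg.Agent.Helper8.QuadPair.exists_pow_act_eq_one hp hoddH
      (act₀.comp H₀.subtype) hWexp ⟨x, hxH⟩ ⟨y, hyH⟩ hgen (hquad g) (hquad g') ⟨h, hh⟩
    refine ⟨k, Subtype.ext ?_⟩
    show (QuotientGroup.mk' C h) ^ p ^ k = 1
    rw [← map_pow, QuotientGroup.mk'_apply, QuotientGroup.eq_one_iff, hC,
      Subgroup.mem_centralizer_iff]
    intro v hv
    have h1 : act₀ (h ^ p ^ k) ⟨v, hv⟩ = ⟨v, hv⟩ := by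
      have : (act₀.comp H₀.subtype) (⟨h, hh⟩ ^ p ^ k) = act₀ (h ^ p ^ k) := rfl
      rw [← this, hk]; rfl
    have h2 := congrArg Subtype.val h1
    rw [hact₀] at h2
    simp only at h2
    calc v * h ^ p ^ k = (h ^ p ^ k * v * (h ^ p ^ k)⁻¹) * h ^ p ^ k := by rw [h2]
      _ = h ^ p ^ k * v := by group
  obtain ⟨P₀⟩ : Nonempty (Sylow p (G ⧸ C)) := inferInstance
  have hsub := Cfsg.Agent.Helper21.subset_sylow_of_pairwise_isPGroup K hconj hpair P₀
  have hNn : (Subgroup.closure K).Normal := closure_normal_of_conj K hconj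
  have hNp : IsPGroup p (Subgroup.closure K) :=
    P₀.2.to_le ((Subgroup.closure_le _).mpr hsub)
  have hle : Subgroup.closure K ≤ pCore p (G ⧸ C) := le_sSup ⟨hNn, hNp⟩
  apply hle
  apply Subgroup.subset_closure
  exact ⟨1, by rw [one_mul, inv_one, mul_one]⟩

/-- **`p`-stability of groups of odd order** (`p` odd), inductive form. -/
theorem stab_aux_odd.{u} {p : ℕ} [hpp : Fact p.Prime] (hp : p ≠ 2) : ∀ n : ℕ, ∀ (G : Type u) [Group G]
    [Finite G], Odd (Nat.card G) → ∀ (V : Subgroup G) [V.Normal], IsPGroup p V →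
    Nat.card V = n → ∀ a : G,
    ⁅⁅V, Subgroup.zpowers a⁆, Subgroup.zpowers a⁆ = ⊥ →
    (QuotientGroup.mk a : G ⧸ Subgroup.centralizer (V : Set G)) ∈
      pCore p (G ⧸ Subgroup.centralizer (V : Set G)) := by
  intro n
  induction n using Nat.strong_induction_on with
  | _ n ih =>
  intro G _ _ hodd V hVn hVp hcard a hq
  by_cases hmin : ∀ V₁ : Subgroup G, V₁.Normal → V₁ ≤ V → V₁ = ⊥ ∨ V₁ = V
  · exact base_odd hodd hp V hVp hmin a hq
  push Not at hmin
  obtain ⟨V₁, hV₁n, hV₁V, hV₁0, hV₁ne⟩ := hmin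
  have hV₁p : IsPGroup p V₁ := hVp.to_le hV₁V
  have hsurj := QuotientGroup.mk'_surjective V₁
  -- cardinalities
  have hc1 : Nat.card V₁ < Nat.card V := by
    by_contra h
    push Not at h
    exact hV₁ne (Subgroup.eq_of_le_of_card_ge hV₁V h)
  have hc2 : Nat.card (V.map (QuotientGroup.mk' V₁)) < Nat.card V := by
    have h1 : (V.map (QuotientGroup.mk' V₁)).comap (QuotientGroup.mk' V₁) = V := by
      rw [QuotientGroup.comap_map_mk', sup_eq_right.mpr hV₁V]
    have h2 := Cfsg.Agent.Helper1.card_comap_mk' V₁ (V.map (QuotientGroup.mk' V₁))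
    rw [h1] at h2
    have h3 : 1 < Nat.card V₁ := by
      rw [Subgroup.one_lt_card_iff_ne_bot]; exact hV₁0
    have h4 : 0 < Nat.card (V.map (QuotientGroup.mk' V₁)) := Nat.card_pos
    rw [h2]
    nlinarith
  -- first part
  have hq₁ : ⁅⁅V₁, Subgroup.zpowers a⁆, Subgroup.zpowers a⁆ = ⊥ := by
    rw [eq_bot_iff, ← hq]
    exact Subgroup.commutator_mono (Subgroup.commutator_mono hV₁V le_rfl) le_rfl
  have r1 := ih (Nat.card V₁) (hcard ▸ hc1) G hodd V₁ hV₁p rfl a hq₁
  -- second part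
  have hVbn : (V.map (QuotientGroup.mk' V₁)).Normal := Subgroup.Normal.map hVn _ hsurj
  have hq₂ : ⁅⁅V.map (QuotientGroup.mk' V₁), Subgroup.zpowers (QuotientGroup.mk' V₁ a)⁆,
      Subgroup.zpowers (QuotientGroup.mk' V₁ a)⁆ = ⊥ := by
    rw [← MonoidHom.map_zpowers, ← Subgroup.map_commutator, ← Subgroup.map_commutator, hq,
      Subgroup.map_bot]
  have hoddq : Odd (Nat.card (G ⧸ V₁)) := by
    refine Odd.of_dvd_nat hodd ?_
    rw [← Subgroup.index_eq_card]
    exact Subgroup.index_dvd_card V₁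
  have r2 := ih (Nat.card (V.map (QuotientGroup.mk' V₁))) (hcard ▸ hc2) (G ⧸ V₁) hoddq
    (V.map (QuotientGroup.mk' V₁)) (hVp.map _) rfl (QuotientGroup.mk' V₁ a) hq₂
  exact Cfsg.Agent.Helper4.QS.step V V₁ hV₁p a r1 r2

/-- **Groups of odd order are `p`-stable** (`p` odd). -/
theorem stab_of_odd {G : Type*} [Group G] [Finite G] (hodd : Odd (Nat.card G)) {p : ℕ}
    [hpp : Fact p.Prime] (hp : p ≠ 2) : Cfsg.Agent.Helper4.ZJ.Stab p G :=
  fun V _ hVp a _ hq => stab_aux_odd hp _ G hodd V hVp rfl a hq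

end Cfsg.Agent.Helper8.OddStable
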