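import Mathlib

/-!
# Permuted decompositions (helper8 library)

A finite group `E` acts linearly on a finite-dimensional space `V` and permutes a family of
pairwise orthogonal idempotents `Q χ` (`χ : Λ`), freely on those `χ` with `Q χ ≠ 0`.
Then `dim (range (∑ Q χ)) = |E| * dim (range (∑ Q χ) ∩ V^E)`.
-/

set_option autoImplicit false
set_option linter.unusedSectionVars false

namespace Cfsg.Agent.Helper8.FrobLin

open Module

section Rep

variable {E : Type*} [Group E] {Λ : Type*} [MulAction E Λ]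

/-- a representative of the orbit of `χ`, depending only on the orbit -/
noncomputable def orep (E : Type*) [Group E] {Λ : Type*} [MulAction E Λ] (χ : Λ) : Λ :=
  (MulAction.nonempty_orbit (M := E) χ).some

theorem orep_mem (χ : Λ) : orep E χ ∈ MulAction.orbit E χ :=
  (MulAction.nonempty_orbit (M := E) χ).some_mem

theorem some_congr {α : Type*} {s s' : Set α} (h : s = s') (hs : s.Nonempty) (hs' : s'.Nonempty) :
    hs.some = hs'.some := by
  subst h; rfl

theorem orep_smul (e : E) (χ : Λ) : orep E (e • χ) = orep E χ :=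
  some_congr (MulAction.orbit_smul e χ) _ _

theorem exists_smul_orep (χ : Λ) : ∃ e : E, e • orep E χ = χ := by
  obtain ⟨e, he⟩ := orep_mem (E := E) χ
  refine ⟨e⁻¹, ?_⟩
  rw [← he]
  simp

theorem orep_orep (χ : Λ) : orep E (orep E χ) = orep E χ := by
  obtain ⟨e, he⟩ := orep_mem (E := E) χ
  have : orep E χ = e • χ := he.symm
  conv_lhs => rw [this]
  exact orep_smul e χ

end Rep


section PD

variable {F : Type*} [Field F] {V : Type*} [AddCommGroup V] [Module F V]
  {E : Type*} [Group E] [Fintype E] {τ : Representation F E V}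
  {Λ : Type*} [Fintype Λ] [DecidableEq Λ] [MulAction E Λ]
  {Q : Λ → (V →ₗ[F] V)}

/-- pairwise orthogonal idempotents permuted by a group -/
structure PermIdem (τ : Representation F E V) (Q : Λ → (V →ₗ[F] V)) : Prop where
  orth : ∀ χ χ' : Λ, ∀ v : V, Q χ (Q χ' v) = if χ = χ' then Q χ v else 0
  equi : ∀ (e : E) (χ : Λ) (v : V), τ e (Q χ v) = Q (e • χ) (τ e v)

namespace PermIdem

variable (h : PermIdem τ Q)
include h

theorem idem (χ : Λ) (v : V) : Q χ (Q χ v) = Q χ v := by
  rw [h.orth, if_pos rfl]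

theorem orth_ne {χ χ' : Λ} (hne : χ ≠ χ') (v : V) : Q χ (Q χ' v) = 0 := by
  rw [h.orth, if_neg hne]

theorem sum_apply_range (χ : Λ) (v : V) : (∑ χ', Q χ') (Q χ v) = Q χ v := by
  rw [LinearMap.sum_apply, Finset.sum_eq_single χ]
  · exact h.idem χ v
  · intro b _ hb
    exact h.orth_ne hb v
  · intro hh; exact absurd (Finset.mem_univ _) hh

theorem apply_sum (χ : Λ) (v : V) : Q χ ((∑ χ', Q χ') v) = Q χ v := by
  rw [LinearMap.sum_apply, map_sum, Finset.sum_eq_single χ]
  · exact h.idem χ v
  · intro b _ hb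
    exact h.orth_ne (Ne.symm hb) v
  · intro hh; exact absurd (Finset.mem_univ _) hh

theorem sum_idem (v : V) : (∑ χ', Q χ') ((∑ χ', Q χ') v) = (∑ χ', Q χ') v := by
  conv_lhs => rw [LinearMap.sum_apply]
  conv_rhs => rw [LinearMap.sum_apply]
  apply Finset.sum_congr rfl
  intro χ _
  exact h.apply_sum χ v

theorem range_le (χ : Λ) : LinearMap.range (Q χ) ≤ LinearMap.range (∑ χ', Q χ') := by
  rintro _ ⟨v, rfl⟩
  exact ⟨Q χ v, h.sum_apply_range χ v⟩

theorem sum_of_mem {w : V} (hw : w ∈ LinearMap.range (∑ χ', Q χ')) : (∑ χ', Q χ') w = w := by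
  obtain ⟨v, rfl⟩ := hw
  exact h.sum_idem v

theorem finrank_range_sum [FiniteDimensional F V] :
    finrank F (LinearMap.range (∑ χ, Q χ)) = ∑ χ, finrank F (LinearMap.range (Q χ)) := by
  classical
  let g : ↥(LinearMap.range (∑ χ, Q χ)) →ₗ[F] (∀ χ : Λ, ↥(LinearMap.range (Q χ))) :=
    { toFun := fun w χ => ⟨Q χ (w : V), LinearMap.mem_range_self _ _⟩
      map_add' := by
        intro a b; funext χ; apply Subtype.ext; simp
      map_smul' := by
        intro c a; funext χ; apply Subtype.ext; simp }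
  have hinj : Function.Injective g := by
    rw [← LinearMap.ker_eq_bot, LinearMap.ker_eq_bot']
    intro w hw
    apply Subtype.ext
    have h1 : ∀ χ, Q χ (w : V) = 0 := by
      intro χ
      have := congrFun hw χ
      exact congrArg Subtype.val this
    have h2 := h.sum_of_mem w.2
    rw [LinearMap.sum_apply] at h2
    rw [← h2]
    simp [h1]
  have hsurj : Function.Surjective g := by
    intro f
    have hf : ∀ χ, Q χ (∑ χ', (f χ' : V)) = (f χ : V) := by
      intro χ
      rw [map_sum, Finset.sum_eq_single χ]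
      · obtain ⟨u, hu⟩ := (f χ).2
        rw [← hu]; exact h.idem χ u
      · intro b _ hb
        obtain ⟨u, hu⟩ := (f b).2
        rw [← hu]; exact h.orth_ne (Ne.symm hb) u
      · intro hh; exact absurd (Finset.mem_univ _) hh
    refine ⟨⟨∑ χ', (f χ' : V), ?_⟩, ?_⟩
    · apply Submodule.sum_mem
      intro χ _
      exact h.range_le χ (f χ).2
    · funext χ
      apply Subtype.ext
      exact hf χ
  rw [(LinearEquiv.ofBijective g ⟨hinj, hsurj⟩).finrank_eq, Module.finrank_pi_fintype]

theorem finrank_smul [FiniteDimensional F V] (e : E) (χ : Λ) :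
    finrank F (LinearMap.range (Q (e • χ))) = finrank F (LinearMap.range (Q χ)) := by
  have key : ∀ (e : E) (χ : Λ), finrank F (LinearMap.range (Q χ)) ≤
      finrank F (LinearMap.range (Q (e • χ))) := by
    intro e χ
    let g : ↥(LinearMap.range (Q χ)) →ₗ[F] ↥(LinearMap.range (Q (e • χ))) :=
      (τ e).restrict (p := LinearMap.range (Q χ)) (q := LinearMap.range (Q (e • χ))) (by
        rintro _ ⟨v, rfl⟩
        exact ⟨τ e v, (h.equi e χ v).symm⟩)
    apply LinearMap.finrank_le_finrank_of_injective (f := g)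
    intro a b hab
    apply Subtype.ext
    have h1 : τ e (a : V) = τ e (b : V) := congrArg Subtype.val hab
    have h2 := congrArg (τ e⁻¹) h1
    have h3 : ∀ x : V, τ e⁻¹ (τ e x) = x := by
      intro x
      have : τ e⁻¹ * τ e = 1 := by rw [← map_mul, inv_mul_cancel, map_one]
      calc τ e⁻¹ (τ e x) = (τ e⁻¹ * τ e) x := rfl
        _ = x := by rw [this]; rfl
    rwa [h3, h3] at h2
  apply le_antisymm
  · have := key e⁻¹ (e • χ)
    rwa [inv_smul_smul] at this
  · exact key e χ

end PermIdem

end PD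

section PD2

variable {F : Type*} [Field F] {V : Type*} [AddCommGroup V] [Module F V]
  {E : Type*} [Group E] [Fintype E] {τ : Representation F E V}
  {Λ : Type*} [Fintype Λ] [DecidableEq Λ] [MulAction E Λ]
  {Q : Λ → (V →ₗ[F] V)}

namespace PermIdem

variable (h : PermIdem τ Q)
include h

theorem tau_inv_tau (e : E) (x : V) : τ e⁻¹ (τ e x) = x := by
  have : τ e⁻¹ * τ e = 1 := by rw [← map_mul, inv_mul_cancel, map_one]
  calc τ e⁻¹ (τ e x) = (τ e⁻¹ * τ e) x := rfl
    _ = x := by rw [this]; rfl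

theorem apply_tau {ρ : Λ} {x : V} (hx : x ∈ LinearMap.range (Q ρ)) (e : E) (ρ' : Λ) :
    Q ρ' (τ e x) = if ρ' = e • ρ then τ e x else 0 := by
  obtain ⟨u, rfl⟩ := hx
  rw [h.equi e ρ u, h.orth]
  by_cases hc : ρ' = e • ρ
  · rw [if_pos hc, if_pos hc, hc]
  · rw [if_neg hc, if_neg hc]

theorem eq_zero_of_range {ρ : Λ} (hQ : Q ρ = 0) {x : V} (hx : x ∈ LinearMap.range (Q ρ)) : x = 0 := by
  obtain ⟨u, rfl⟩ := hx
  rw [hQ]; rfl

theorem finrank_inv [FiniteDimensional F V]
    (hfree : ∀ χ, Q χ ≠ 0 → ∀ e : E, e • χ = χ → e = 1) :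
    finrank F ↥(LinearMap.range (∑ χ, Q χ) ⊓ τ.invariants) =
      ∑ ρ ∈ Finset.univ.filter (fun ρ : Λ => orep E ρ = ρ), finrank F (LinearMap.range (Q ρ)) := by
  classical
  set T : Finset Λ := Finset.univ.filter (fun ρ : Λ => orep E ρ = ρ) with hT
  have hTmem : ∀ ρ : Λ, ρ ∈ T ↔ orep E ρ = ρ := by
    intro ρ; rw [hT, Finset.mem_filter]; simp
  let g : ↥(LinearMap.range (∑ χ, Q χ) ⊓ τ.invariants) →ₗ[F]
      (∀ ρ : ↥T, ↥(LinearMap.range (Q (ρ : Λ)))) :=
    { toFun := fun w ρ => ⟨Q (ρ : Λ) (w : V), LinearMap.mem_range_self _ _⟩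
      map_add' := by
        intro a b; funext χ; apply Subtype.ext; simp
      map_smul' := by
        intro c a; funext χ; apply Subtype.ext; simp }
  have hinj : Function.Injective g := by
    rw [← LinearMap.ker_eq_bot, LinearMap.ker_eq_bot']
    intro w hw
    apply Subtype.ext
    have hwP : (w : V) ∈ LinearMap.range (∑ χ, Q χ) := (Submodule.mem_inf.mp w.2).1
    have hwI : ∀ e : E, τ e (w : V) = (w : V) := by
      intro e
      exact (Representation.mem_invariants τ (w : V)).mp (Submodule.mem_inf.mp w.2).2 e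
    have h1 : ∀ ρ ∈ T, Q ρ (w : V) = 0 := by
      intro ρ hρ
      have := congrFun hw ⟨ρ, hρ⟩
      exact congrArg Subtype.val this
    have h2 : ∀ χ, Q χ (w : V) = 0 := by
      intro χ
      obtain ⟨e, he⟩ := exists_smul_orep (E := E) χ
      have hρ : orep E χ ∈ T := (hTmem _).mpr (orep_orep χ)
      rw [← he, ← hwI e, ← h.equi e, h1 _ hρ, map_zero]
    have h3 := h.sum_of_mem hwP
    rw [LinearMap.sum_apply] at h3
    rw [← h3]
    simp [h2]
  have hsurj : Function.Surjective g := by
    intro f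
    set w : V := ∑ ρ : ↥T, ∑ e : E, τ e (f ρ : V) with hw
    have hwI : w ∈ τ.invariants := by
      rw [Representation.mem_invariants]
      intro e'
      rw [hw, map_sum]
      apply Finset.sum_congr rfl
      intro ρ _
      rw [map_sum]
      rw [← Equiv.sum_comp (Equiv.mulLeft e') (fun e => τ e (f ρ : V))]
      apply Finset.sum_congr rfl
      intro e _
      simp only [Equiv.coe_mulLeft, map_mul]
      rfl
    have hwP : w ∈ LinearMap.range (∑ χ, Q χ) := by
      rw [hw]
      apply Submodule.sum_mem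
      intro ρ _
      apply Submodule.sum_mem
      intro e _
      apply h.range_le (e • (ρ : Λ))
      obtain ⟨u, hu⟩ := (f ρ).2
      exact ⟨τ e u, by rw [← hu, h.equi]⟩
    have hQw : ∀ ρ' : ↥T, Q (ρ' : Λ) w = (f ρ' : V) := by
      intro ρ'
      rw [hw, map_sum, Finset.sum_eq_single ρ']
      · rw [map_sum, Finset.sum_eq_single (1 : E)]
        · rw [h.apply_tau (f ρ').2, if_pos (by rw [one_smul]), map_one]; rfl
        · intro e _ he
          rw [h.apply_tau (f ρ').2]
          by_cases hc : (ρ' : Λ) = e • (ρ' : Λ)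
          · by_cases hQ0 : Q (ρ' : Λ) = 0
            · rw [if_pos hc, h.eq_zero_of_range hQ0 (f ρ').2, map_zero]
            · exact absurd (hfree _ hQ0 e hc.symm) he
          · rw [if_neg hc]
        · intro hh; exact absurd (Finset.mem_univ _) hh
      · intro ρ _ hne
        rw [map_sum]
        apply Finset.sum_eq_zero
        intro e _
        rw [h.apply_tau (f ρ).2, if_neg]
        intro hc
        apply hne
        apply Subtype.ext
        have h1 : orep E (ρ' : Λ) = orep E (ρ : Λ) := by rw [hc, orep_smul]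
        rw [(hTmem _).mp ρ'.2, (hTmem _).mp ρ.2] at h1
        exact h1.symm
      · intro hh; exact absurd (Finset.mem_univ _) hh
    refine ⟨⟨w, Submodule.mem_inf.mpr ⟨hwP, hwI⟩⟩, ?_⟩
    funext ρ'
    apply Subtype.ext
    exact hQw ρ'
  rw [(LinearEquiv.ofBijective g ⟨hinj, hsurj⟩).finrank_eq, Module.finrank_pi_fintype]
  exact Finset.sum_coe_sort T (fun ρ => finrank F (LinearMap.range (Q ρ)))

theorem sum_finrank [FiniteDimensional F V]
    (hfree : ∀ χ, Q χ ≠ 0 → ∀ e : E, e • χ = χ → e = 1) :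
    ∑ χ, finrank F (LinearMap.range (Q χ)) =
      Fintype.card E * ∑ ρ ∈ Finset.univ.filter (fun ρ : Λ => orep E ρ = ρ),
        finrank F (LinearMap.range (Q ρ)) := by
  classical
  set T : Finset Λ := Finset.univ.filter (fun ρ : Λ => orep E ρ = ρ) with hT
  have hTmem : ∀ ρ : Λ, ρ ∈ T ↔ orep E ρ = ρ := by
    intro ρ; rw [hT, Finset.mem_filter]; simp
  rw [← Finset.sum_fiberwise_of_maps_to (s := Finset.univ) (t := T) (g := orep E)
    (fun χ _ => (hTmem _).mpr (orep_orep χ)), Finset.mul_sum]
  apply Finset.sum_congr rfl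
  intro ρ hρ
  have hρ' := (hTmem ρ).mp hρ
  have hfib : (Finset.univ.filter (fun χ : Λ => orep E χ = ρ)) =
      Finset.image (fun e : E => e • ρ) Finset.univ := by
    ext χ
    simp only [Finset.mem_filter, Finset.mem_univ, true_and, Finset.mem_image]
    constructor
    · intro hχ
      obtain ⟨e, he⟩ := exists_smul_orep (E := E) χ
      exact ⟨e, by rw [← hχ]; exact he⟩
    · rintro ⟨e, rfl⟩
      rw [orep_smul, hρ']
  have hconst : ∀ χ ∈ Finset.univ.filter (fun χ : Λ => orep E χ = ρ),
      finrank F (LinearMap.range (Q χ)) = finrank F (LinearMap.range (Q ρ)) := by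
    intro χ hχ
    rw [hfib, Finset.mem_image] at hχ
    obtain ⟨e, _, rfl⟩ := hχ
    exact h.finrank_smul e ρ
  rw [Finset.sum_congr rfl hconst, Finset.sum_const, smul_eq_mul]
  by_cases hd : finrank F (LinearMap.range (Q ρ)) = 0
  · rw [hd, mul_zero, mul_zero]
  · have hQ0 : Q ρ ≠ 0 := by
      intro h0
      apply hd
      rw [h0, LinearMap.range_zero, finrank_bot]
    have hinj : Function.Injective (fun e : E => e • ρ) := by
      intro e e' hee
      have hee' : e • ρ = e' • ρ := hee
      have h1 : (e'⁻¹ * e) • ρ = ρ := by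
        rw [mul_smul, hee', inv_smul_smul]
      have := hfree ρ hQ0 _ h1
      rw [inv_mul_eq_one] at this
      exact this.symm
    rw [hfib, Finset.card_image_of_injective _ hinj, Finset.card_univ]

/-- **Permuted decomposition, free case.** -/
theorem finrank_range_eq [FiniteDimensional F V]
    (hfree : ∀ χ, Q χ ≠ 0 → ∀ e : E, e • χ = χ → e = 1) :
    finrank F (LinearMap.range (∑ χ, Q χ)) =
      Fintype.card E * finrank F ↥(LinearMap.range (∑ χ, Q χ) ⊓ τ.invariants) := by
  rw [h.finrank_range_sum, h.sum_finrank hfree, h.finrank_inv hfree]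

end PermIdem

end PD2

section PD3

variable {F : Type*} [Field F] {V : Type*} [AddCommGroup V] [Module F V]
  {E : Type*} [Group E] [Fintype E] {τ : Representation F E V}
  {Λ : Type*} [Fintype Λ] [DecidableEq Λ] [MulAction E Λ]
  {Q : Λ → (V →ₗ[F] V)}

namespace PermIdem

variable (h : PermIdem τ Q)
include h

/-- removing a fixed index -/
theorem erase (χ₀ : Λ) (hfix : ∀ e : E, e • χ₀ = χ₀) :
    PermIdem τ (fun χ => if χ = χ₀ then (0 : V →ₗ[F] V) else Q χ) := by
  constructor
  · intro χ χ' v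
    by_cases h1 : χ = χ₀
    · simp only [if_pos h1]
      by_cases h2 : χ = χ' <;> simp [h2]
    · simp only [if_neg h1]
      by_cases h2 : χ' = χ₀
      · simp only [if_pos h2, LinearMap.zero_apply, map_zero]
        by_cases h3 : χ = χ'
        · exact absurd (h3.trans h2) h1
        · rw [if_neg h3]
      · simp only [if_neg h2]
        exact h.orth χ χ' v
  · intro e χ v
    have hiff : e • χ = χ₀ ↔ χ = χ₀ := by
      constructor
      · intro hh
        have : e • χ = e • χ₀ := by rw [hh, hfix]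
        exact MulAction.injective e this
      · intro hh; rw [hh, hfix]
    by_cases h1 : χ = χ₀
    · simp only [if_pos h1, if_pos (hiff.mpr h1), LinearMap.zero_apply, map_zero]
    · have h2 : ¬ e • χ = χ₀ := fun hh => h1 (hiff.mp hh)
      simp only [if_neg h1, if_neg h2]
      exact h.equi e χ v

/-- **Permuted decomposition with one fixed index.** -/
theorem finrank_range_fixed [FiniteDimensional F V] (χ₀ : Λ) (hfix : ∀ e : E, e • χ₀ = χ₀)
    (hfree : ∀ χ, χ ≠ χ₀ → Q χ ≠ 0 → ∀ e : E, e • χ = χ → e = 1) :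
    finrank F (LinearMap.range (∑ χ, Q χ)) +
        Fintype.card E * finrank F ↥(LinearMap.range (Q χ₀) ⊓ τ.invariants) =
      finrank F (LinearMap.range (Q χ₀)) +
        Fintype.card E * finrank F ↥(LinearMap.range (∑ χ, Q χ) ⊓ τ.invariants) := by
  classical
  set Q' : Λ → (V →ₗ[F] V) := fun χ => if χ = χ₀ then (0 : V →ₗ[F] V) else Q χ with hQ'
  have h' : PermIdem τ Q' := h.erase χ₀ hfix
  have hfree' : ∀ χ, Q' χ ≠ 0 → ∀ e : E, e • χ = χ → e = 1 := by
    intro χ hχ e he
    by_cases h1 : χ = χ₀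
    · exfalso; apply hχ; simp [hQ', h1]
    · apply hfree χ h1 _ e he
      intro h0; apply hχ; simp [hQ', h1, h0]
  have hP : (∑ χ, Q χ) = Q χ₀ + ∑ χ, Q' χ := by
    rw [← Finset.add_sum_erase Finset.univ Q (Finset.mem_univ χ₀)]
    congr 1
    rw [← Finset.add_sum_erase Finset.univ Q' (Finset.mem_univ χ₀)]
    have : Q' χ₀ = 0 := by simp [hQ']
    rw [this, zero_add]
    apply Finset.sum_congr rfl
    intro χ hχ
    have : χ ≠ χ₀ := Finset.ne_of_mem_erase hχ
    simp [hQ', this]
  -- dimension of the range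
  have hd : finrank F (LinearMap.range (∑ χ, Q χ)) =
      finrank F (LinearMap.range (Q χ₀)) + finrank F (LinearMap.range (∑ χ, Q' χ)) := by
    rw [h.finrank_range_sum, h'.finrank_range_sum,
      ← Finset.add_sum_erase Finset.univ _ (Finset.mem_univ χ₀)]
    congr 1
    rw [← Finset.add_sum_erase Finset.univ
      (fun χ => finrank F (LinearMap.range (Q' χ))) (Finset.mem_univ χ₀)]
    have : Q' χ₀ = 0 := by simp [hQ']
    have h0 : finrank F (LinearMap.range (Q' χ₀)) = 0 := by
      rw [this, LinearMap.range_zero, finrank_bot]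
    rw [h0, zero_add]
    apply Finset.sum_congr rfl
    intro χ hχ
    have hne : χ ≠ χ₀ := Finset.ne_of_mem_erase hχ
    have : Q' χ = Q χ := by simp [hQ', hne]
    rw [this]
  -- dimension of the invariants
  have hQ'0 : ∀ v, (∑ χ, Q' χ) (Q χ₀ v) = 0 := by
    intro v
    rw [LinearMap.sum_apply]
    apply Finset.sum_eq_zero
    intro χ _
    by_cases h1 : χ = χ₀
    · simp [hQ', h1]
    · simp only [hQ', if_neg h1]
      exact h.orth_ne h1 v
  have hinf : (LinearMap.range (Q χ₀) ⊓ τ.invariants) ⊓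
      (LinearMap.range (∑ χ, Q' χ) ⊓ τ.invariants) = ⊥ := by
    rw [eq_bot_iff]
    intro w hw
    obtain ⟨⟨⟨u, hu⟩, _⟩, ⟨hw2, _⟩⟩ := hw
    have := h'.sum_of_mem hw2
    rw [← hu, hQ'0] at this
    rw [Submodule.mem_bot, ← hu, ← this]
  have hsup : (LinearMap.range (Q χ₀) ⊓ τ.invariants) ⊔
      (LinearMap.range (∑ χ, Q' χ) ⊓ τ.invariants) =
      LinearMap.range (∑ χ, Q χ) ⊓ τ.invariants := by
    apply le_antisymm
    · apply sup_le
      · exact inf_le_inf_right _ (h.range_le χ₀)
      · apply inf_le_inf_right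
        rintro _ ⟨v, rfl⟩
        rw [LinearMap.sum_apply]
        apply Submodule.sum_mem
        intro χ _
        by_cases h1 : χ = χ₀
        · simp [hQ', h1]
        · simp only [hQ', if_neg h1]
          exact h.range_le χ (LinearMap.mem_range_self _ _)
    · intro w hw
      obtain ⟨hw1, hw2⟩ := hw
      have hwe : ∀ e : E, τ e w = w := (Representation.mem_invariants τ w).mp hw2
      have h1 := h.sum_of_mem hw1
      rw [hP, LinearMap.add_apply] at h1
      have hA : Q χ₀ w ∈ LinearMap.range (Q χ₀) ⊓ τ.invariants := by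
        refine ⟨LinearMap.mem_range_self _ _, ?_⟩
        rw [SetLike.mem_coe, Representation.mem_invariants]
        intro e
        rw [h.equi, hfix, hwe]
      have hB : (∑ χ, Q' χ) w ∈ LinearMap.range (∑ χ, Q' χ) ⊓ τ.invariants := by
        refine ⟨LinearMap.mem_range_self _ _, ?_⟩
        have : (∑ χ, Q' χ) w = w - Q χ₀ w := by rw [eq_sub_iff_add_eq, add_comm]; exact h1
        rw [this]
        exact Submodule.sub_mem _ hw2 hA.2
      rw [← h1]
      exact Submodule.add_mem_sup hA hB
  have hi : finrank F ↥(LinearMap.range (∑ χ, Q χ) ⊓ τ.invariants) =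
      finrank F ↥(LinearMap.range (Q χ₀) ⊓ τ.invariants) +
        finrank F ↥(LinearMap.range (∑ χ, Q' χ) ⊓ τ.invariants) := by
    have := Submodule.finrank_sup_add_finrank_inf_eq
      (LinearMap.range (Q χ₀) ⊓ τ.invariants) (LinearMap.range (∑ χ, Q' χ) ⊓ τ.invariants)
    rw [hsup, hinf, finrank_bot, add_zero] at this
    exact this
  have hfreeEq := h'.finrank_range_eq hfree'
  rw [hd, hi, hfreeEq]
  ring

end PermIdem

end PD3

end Cfsg.Agent.Helper8.FrobLin
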