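import Mathlib
import Cfsg.Agent.Lib.Helper8.FrobLin1

/-!
# The relative Frobenius fixed point formula for an abelian section (helper8 library)

`G` acts linearly on `V` over an algebraically closed field `F`; `N ≤ M` are normal subgroups of
`G` with `M / N` abelian of order prime to the characteristic, and `E ≤ G` acts on `M / N` without
non-trivial fixed points.  Then
`dim V^N + |E| dim (V^M ∩ V^E) = dim V^M + |E| dim (V^N ∩ V^E)`.
-/

set_option autoImplicit false
set_option linter.unusedSectionVars false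

namespace Cfsg.Agent.Helper8.FrobLin

open Module

section Fixed

variable {F : Type*} [Field F] {G : Type*} [Group G] {V : Type*} [AddCommGroup V] [Module F V]

/-- the fixed space of a subgroup -/
noncomputable def fixedBy (ρ : Representation F G V) (H : Subgroup G) : Submodule F V :=
  Representation.invariants (MonoidHom.comp ρ H.subtype : Representation F ↥H V)

theorem mem_fixedBy (ρ : Representation F G V) (H : Subgroup G) (v : V) :
    v ∈ fixedBy ρ H ↔ ∀ h ∈ H, ρ h v = v := by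
  unfold fixedBy
  rw [Representation.mem_invariants]
  constructor
  · intro hh h hH; exact hh ⟨h, hH⟩
  · intro hh h; exact hh h h.2

theorem fixedBy_anti (ρ : Representation F G V) {H K : Subgroup G} (h : H ≤ K) :
    fixedBy ρ K ≤ fixedBy ρ H := by
  intro v hv
  rw [mem_fixedBy] at hv ⊢
  intro x hx
  exact hv x (h hx)

theorem rho_inv_rho (ρ : Representation F G V) (g : G) (x : V) : ρ g⁻¹ (ρ g x) = x := by
  have : ρ g⁻¹ * ρ g = 1 := by rw [← map_mul, inv_mul_cancel, map_one]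
  calc ρ g⁻¹ (ρ g x) = (ρ g⁻¹ * ρ g) x := rfl
    _ = x := by rw [this]; rfl

theorem rho_mul_apply (ρ : Representation F G V) (g g' : G) (x : V) :
    ρ (g * g') x = ρ g (ρ g' x) := by
  rw [map_mul]; rfl

end Fixed

section Kappa

variable {G : Type*} [Group G] (M N : Subgroup G) [M.Normal] [N.Normal]

/-- conjugation by `g` on the section `M / N` -/
def kap (g : G) : (↥M ⧸ N.subgroupOf M) →* (↥M ⧸ N.subgroupOf M) :=
  QuotientGroup.map (N.subgroupOf M) (N.subgroupOf M) (MulAut.conjNormal g : ↥M ≃* ↥M).toMonoidHom (by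
    intro x hx
    rw [Subgroup.mem_comap, Subgroup.mem_subgroupOf]
    rw [Subgroup.mem_subgroupOf] at hx
    show ((MulAut.conjNormal g x : ↥M) : G) ∈ N
    rw [MulAut.conjNormal_apply]
    exact ‹N.Normal›.conj_mem _ hx g)

theorem kap_mk (g : G) (m : ↥M) :
    kap M N g (QuotientGroup.mk m) = QuotientGroup.mk (MulAut.conjNormal g m) := by
  unfold kap
  rw [QuotientGroup.map_mk]
  rfl

theorem kap_one (a : ↥M ⧸ N.subgroupOf M) : kap M N 1 a = a := by
  induction a using QuotientGroup.induction_on with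
  | H m => rw [kap_mk, map_one]; rfl

theorem kap_mul (g g' : G) (a : ↥M ⧸ N.subgroupOf M) :
    kap M N (g * g') a = kap M N g (kap M N g' a) := by
  induction a using QuotientGroup.induction_on with
  | H m => rw [kap_mk, kap_mk, kap_mk, map_mul]; rfl

variable {F : Type*} [Field F]

/-- the action of `G` on the characters of the section `M / N` -/
@[instance_reducible]
def dualAct : MulAction G ((↥M ⧸ N.subgroupOf M) →* Fˣ) where
  smul g χ := χ.comp (kap M N g⁻¹)
  one_smul χ := by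
    apply MonoidHom.ext
    intro a
    show χ (kap M N (1 : G)⁻¹ a) = χ a
    rw [inv_one, kap_one]
  mul_smul g g' χ := by
    apply MonoidHom.ext
    intro a
    show χ (kap M N (g * g')⁻¹ a) = χ (kap M N g'⁻¹ (kap M N g⁻¹ a))
    rw [mul_inv_rev, kap_mul]

end Kappa


section Proj

variable {F : Type*} [Field F] {G : Type*} [Group G] {V : Type*} [AddCommGroup V] [Module F V]
  (ρ : Representation F G V) (M N : Subgroup G) [M.Normal] [N.Normal] [Fintype ↥M]

/-- the coefficient of `ρ m` in the projection attached to `χ` -/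
def coef (χ : (↥M ⧸ N.subgroupOf M) →* Fˣ) (m : ↥M) : F :=
  (((χ (QuotientGroup.mk m))⁻¹ : Fˣ) : F)

theorem coef_mul (χ : (↥M ⧸ N.subgroupOf M) →* Fˣ) (b m : ↥M) :
    coef M N χ (b⁻¹ * m) = ((χ (QuotientGroup.mk b) : Fˣ) : F) * coef M N χ m := by
  unfold coef
  rw [QuotientGroup.mk_mul, QuotientGroup.mk_inv, map_mul, map_inv, mul_inv, inv_inv]
  push_cast
  rfl

/-- the unnormalised projection attached to a character of the section -/
noncomputable def upr (χ : (↥M ⧸ N.subgroupOf M) →* Fˣ) : V →ₗ[F] V :=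
  ∑ m : ↥M, coef M N χ m • ρ (m : G)

theorem upr_apply (χ : (↥M ⧸ N.subgroupOf M) →* Fˣ) (v : V) :
    upr ρ M N χ v = ∑ m : ↥M, coef M N χ m • ρ (m : G) v := by
  unfold upr
  rw [LinearMap.sum_apply]
  rfl

theorem rho_upr (χ : (↥M ⧸ N.subgroupOf M) →* Fˣ) (b : ↥M) (v : V) :
    ρ (b : G) (upr ρ M N χ v) = ((χ (QuotientGroup.mk b) : Fˣ) : F) • upr ρ M N χ v := by
  rw [upr_apply, map_sum, Finset.smul_sum]
  rw [← Equiv.sum_comp (Equiv.mulLeft b)
    (fun m : ↥M => ((χ (QuotientGroup.mk b) : Fˣ) : F) • coef M N χ m • ρ (m : G) v)]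
  apply Finset.sum_congr rfl
  intro m _
  simp only [Equiv.coe_mulLeft]
  rw [map_smul, ← rho_mul_apply, smul_smul]
  have h1 : coef M N χ m = coef M N χ (b⁻¹ * (b * m)) := by rw [inv_mul_cancel_left]
  rw [h1, coef_mul]
  rfl

end Proj

section Proj2

variable {F : Type*} [Field F] {G : Type*} [Group G] {V : Type*} [AddCommGroup V] [Module F V]
  (ρ : Representation F G V) (M N : Subgroup G) [M.Normal] [N.Normal] [Fintype ↥M]

attribute [local instance] dualAct

open scoped Classical in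
/-- orthogonality: the sum of a character of the section over `M` -/
theorem char_sum (ψ : (↥M ⧸ N.subgroupOf M) →* Fˣ) :
    ∑ m : ↥M, ((ψ (QuotientGroup.mk m) : Fˣ) : F) = if ψ = 1 then (Fintype.card ↥M : F) else 0 := by
  by_cases h : ψ = 1
  · rw [if_pos h, h]
    simp
  · rw [if_neg h]
    let f : ↥M →* F := (Units.coeHom F).comp (ψ.comp (QuotientGroup.mk' (N.subgroupOf M)))
    have hf : f ≠ 1 := by
      intro hf1
      apply h
      apply MonoidHom.ext
      intro a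
      obtain ⟨m, rfl⟩ := QuotientGroup.mk'_surjective (N.subgroupOf M) a
      have := DFunLike.congr_fun hf1 m
      apply Units.ext
      exact this
    exact sum_hom_units_eq_zero f hf

theorem coef_mul_char (χ χ' : (↥M ⧸ N.subgroupOf M) →* Fˣ) (m : ↥M) :
    coef M N χ m * ((χ' (QuotientGroup.mk m) : Fˣ) : F) =
      (((χ' * χ⁻¹) (QuotientGroup.mk m) : Fˣ) : F) := by
  unfold coef
  rw [MonoidHom.mul_apply, MonoidHom.inv_apply]
  push_cast
  ring

open scoped Classical in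
theorem upr_upr (χ χ' : (↥M ⧸ N.subgroupOf M) →* Fˣ) (v : V) :
    upr ρ M N χ (upr ρ M N χ' v) =
      if χ = χ' then (Fintype.card ↥M : F) • upr ρ M N χ' v else 0 := by
  conv_lhs => rw [upr_apply]
  have h1 : ∀ m : ↥M, coef M N χ m • ρ (m : G) (upr ρ M N χ' v) =
      (((χ' * χ⁻¹) (QuotientGroup.mk m) : Fˣ) : F) • upr ρ M N χ' v := by
    intro m
    rw [rho_upr, smul_smul, coef_mul_char]
  rw [Finset.sum_congr rfl (fun m _ => h1 m), ← Finset.sum_smul, char_sum]
  by_cases h : χ = χ'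
  · rw [if_pos h, if_pos]
    rw [h]
    apply MonoidHom.ext
    intro a
    rw [MonoidHom.mul_apply, MonoidHom.inv_apply, mul_inv_cancel, MonoidHom.one_apply]
  · rw [if_neg h, if_neg, zero_smul]
    intro hh
    apply h
    apply MonoidHom.ext
    intro a
    have := DFunLike.congr_fun hh a
    rw [MonoidHom.mul_apply, MonoidHom.inv_apply, MonoidHom.one_apply, mul_inv_eq_one] at this
    exact this.symm

theorem coef_smul (g : G) (χ : (↥M ⧸ N.subgroupOf M) →* Fˣ) (m : ↥M) :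
    coef M N (g • χ) m = coef M N χ (MulAut.conjNormal g⁻¹ m) := by
  unfold coef
  show (((χ (kap M N g⁻¹ (QuotientGroup.mk m)))⁻¹ : Fˣ) : F) = _
  rw [kap_mk]

theorem rho_upr_equi (g : G) (χ : (↥M ⧸ N.subgroupOf M) →* Fˣ) (v : V) :
    ρ g (upr ρ M N χ v) = upr ρ M N (g • χ) (ρ g v) := by
  rw [upr_apply, upr_apply, map_sum]
  rw [← Equiv.sum_comp (MulAut.conjNormal g : ↥M ≃* ↥M).toEquiv
    (fun m : ↥M => coef M N (g • χ) m • ρ (m : G) (ρ g v))]
  apply Finset.sum_congr rfl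
  intro m _
  simp only [MulEquiv.toEquiv_eq_coe, EquivLike.coe_coe]
  rw [coef_smul, map_smul]
  have h1 : MulAut.conjNormal g⁻¹ (MulAut.conjNormal g m) = m := by
    rw [← MulAut.mul_apply, ← map_mul, inv_mul_cancel, map_one]; rfl
  rw [h1, ← rho_mul_apply, ← rho_mul_apply, MulAut.conjNormal_apply]
  congr 3
  group

end Proj2

section Dual

variable {F : Type*} [Field F] [IsAlgClosed F] {G : Type*} [Group G] [Finite G]
  (M N : Subgroup G) [M.Normal] [N.Normal]

/-- the section `M / N` is commutative when `[M, M] ≤ N` -/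
@[instance_reducible]
def quoComm (hcomm : ∀ a ∈ M, ∀ b ∈ M, a * b * a⁻¹ * b⁻¹ ∈ N) :
    CommGroup (↥M ⧸ N.subgroupOf M) :=
  { (inferInstance : Group (↥M ⧸ N.subgroupOf M)) with
    mul_comm := by
      intro a b
      induction a using QuotientGroup.induction_on with
      | H a =>
        induction b using QuotientGroup.induction_on with
        | H b =>
          rw [← QuotientGroup.mk_mul, ← QuotientGroup.mk_mul, QuotientGroup.eq,
            Subgroup.mem_subgroupOf]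
          have := hcomm _ (M.inv_mem b.2) _ (M.inv_mem a.2)
          have h2 : (((a * b)⁻¹ * (b * a) : ↥M) : G) =
              (b : G)⁻¹ * (a : G)⁻¹ * ((b : G)⁻¹)⁻¹ * ((a : G)⁻¹)⁻¹ := by
            push_cast
            group
          rw [h2]
          exact this }

open scoped Classical in
theorem dual_sum [Fintype ((↥M ⧸ N.subgroupOf M) →* Fˣ)]
    (hcomm : ∀ a ∈ M, ∀ b ∈ M, a * b * a⁻¹ * b⁻¹ ∈ N) (hchar : (Nat.card ↥M : F) ≠ 0)
    (a : ↥M ⧸ N.subgroupOf M) :
    ∑ χ : (↥M ⧸ N.subgroupOf M) →* Fˣ, ((χ a : Fˣ) : F) =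
      if a = 1 then (Fintype.card ((↥M ⧸ N.subgroupOf M) →* Fˣ) : F) else 0 := by
  by_cases h : a = 1
  · rw [if_pos h, h]
    simp
  · rw [if_neg h]
    let _ : CommGroup (↥M ⧸ N.subgroupOf M) := quoComm M N hcomm
    have hne : NeZero ((Monoid.exponent (↥M ⧸ N.subgroupOf M) : ℕ) : F) := by
      constructor
      intro h0
      apply hchar
      have h1 : Monoid.exponent (↥M ⧸ N.subgroupOf M) ∣ Nat.card ↥M :=
        (Group.exponent_dvd_nat_card).trans
          ⟨Nat.card ↥(N.subgroupOf M), Subgroup.card_eq_card_quotient_mul_card_subgroup _⟩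
      obtain ⟨k, hk⟩ := h1
      rw [hk]; push_cast; rw [h0, zero_mul]
    obtain ⟨φ, hφ⟩ := CommGroup.exists_apply_ne_one_of_hasEnoughRootsOfUnity
      (↥M ⧸ N.subgroupOf M) F h
    have h1 : ((φ a : Fˣ) : F) * ∑ χ : (↥M ⧸ N.subgroupOf M) →* Fˣ, ((χ a : Fˣ) : F) =
        ∑ χ : (↥M ⧸ N.subgroupOf M) →* Fˣ, ((χ a : Fˣ) : F) := by
      rw [Finset.mul_sum, ← Equiv.sum_comp (Equiv.mulLeft φ)
        (fun χ : (↥M ⧸ N.subgroupOf M) →* Fˣ => ((χ a : Fˣ) : F))]
      apply Finset.sum_congr rfl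
      intro χ _
      simp only [Equiv.coe_mulLeft, MonoidHom.mul_apply, Units.val_mul]
    have h2 : (((φ a : Fˣ) : F) - 1) * ∑ χ : (↥M ⧸ N.subgroupOf M) →* Fˣ, ((χ a : Fˣ) : F) = 0 := by
      rw [sub_mul, h1, one_mul, sub_self]
    rcases mul_eq_zero.mp h2 with h3 | h3
    · exfalso
      apply hφ
      apply Units.ext
      rw [sub_eq_zero] at h3
      exact h3
    · exact h3

theorem card_dual (hcomm : ∀ a ∈ M, ∀ b ∈ M, a * b * a⁻¹ * b⁻¹ ∈ N) (hNM : N ≤ M)
    (hchar : (Nat.card ↥M : F) ≠ 0) :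
    Nat.card ((↥M ⧸ N.subgroupOf M) →* Fˣ) * Nat.card ↥N = Nat.card ↥M := by
  let _ : CommGroup (↥M ⧸ N.subgroupOf M) := quoComm M N hcomm
  have hne : NeZero ((Monoid.exponent (↥M ⧸ N.subgroupOf M) : ℕ) : F) := by
    constructor
    intro h0
    apply hchar
    have h1 : Monoid.exponent (↥M ⧸ N.subgroupOf M) ∣ Nat.card ↥M :=
      (Group.exponent_dvd_nat_card).trans
        ⟨Nat.card ↥(N.subgroupOf M), Subgroup.card_eq_card_quotient_mul_card_subgroup _⟩
    obtain ⟨k, hk⟩ := h1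
    rw [hk]; push_cast; rw [h0, zero_mul]
  rw [CommGroup.card_monoidHom_of_hasEnoughRootsOfUnity (↥M ⧸ N.subgroupOf M) F,
    Subgroup.card_eq_card_quotient_mul_card_subgroup (N.subgroupOf M),
    Nat.card_congr (Subgroup.subgroupOfEquivOfLe hNM).toEquiv]

end Dual

section Main

variable {F : Type*} [Field F] [IsAlgClosed F] {G : Type*} [Group G] [Finite G]
  {V : Type*} [AddCommGroup V] [Module F V]
  (ρ : Representation F G V) (M N : Subgroup G) [M.Normal] [N.Normal]

attribute [local instance] dualAct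

theorem upr_mem_fixedBy [Fintype ↥M] (hNM : N ≤ M) (χ : (↥M ⧸ N.subgroupOf M) →* Fˣ) (v : V) :
    upr ρ M N χ v ∈ fixedBy ρ N := by
  rw [mem_fixedBy]
  intro n hn
  have h1 := rho_upr ρ M N χ ⟨n, hNM hn⟩ v
  have h2 : (QuotientGroup.mk (⟨n, hNM hn⟩ : ↥M) : ↥M ⧸ N.subgroupOf M) = 1 := by
    rw [QuotientGroup.eq_one_iff, Subgroup.mem_subgroupOf]
    exact hn
  rw [h2, map_one, Units.val_one, one_smul] at h1
  exact h1

theorem upr_one_mem_fixedBy [Fintype ↥M] (v : V) :
    upr ρ M N (1 : (↥M ⧸ N.subgroupOf M) →* Fˣ) v ∈ fixedBy ρ M := by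
  rw [mem_fixedBy]
  intro m hm
  have h1 := rho_upr ρ M N (1 : (↥M ⧸ N.subgroupOf M) →* Fˣ) ⟨m, hm⟩ v
  rw [MonoidHom.one_apply, Units.val_one, one_smul] at h1
  exact h1

theorem upr_one_of_fixed [Fintype ↥M] {v : V} (hv : v ∈ fixedBy ρ M) :
    upr ρ M N (1 : (↥M ⧸ N.subgroupOf M) →* Fˣ) v = (Fintype.card ↥M : F) • v := by
  rw [mem_fixedBy] at hv
  rw [upr_apply]
  have h1 : ∀ m : ↥M, coef M N (1 : (↥M ⧸ N.subgroupOf M) →* Fˣ) m • ρ (m : G) v = v := by
    intro m
    rw [hv _ m.2]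
    unfold coef
    rw [MonoidHom.one_apply, inv_one, Units.val_one, one_smul]
  rw [Finset.sum_congr rfl (fun m _ => h1 m), Finset.sum_const, Finset.card_univ,
    ← Nat.cast_smul_eq_nsmul F]

open scoped Classical in
theorem sum_upr_of_fixed [Fintype ↥M] [Fintype ((↥M ⧸ N.subgroupOf M) →* Fˣ)] (hNM : N ≤ M)
    (hcomm : ∀ a ∈ M, ∀ b ∈ M, a * b * a⁻¹ * b⁻¹ ∈ N) (hchar : (Nat.card ↥M : F) ≠ 0)
    {v : V} (hv : v ∈ fixedBy ρ N) :
    ∑ χ : (↥M ⧸ N.subgroupOf M) →* Fˣ, upr ρ M N χ v = (Fintype.card ↥M : F) • v := by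
  rw [mem_fixedBy] at hv
  have h1 : ∀ χ : (↥M ⧸ N.subgroupOf M) →* Fˣ,
      upr ρ M N χ v = ∑ m : ↥M, coef M N χ m • ρ (m : G) v := fun χ => upr_apply ρ M N χ v
  rw [Finset.sum_congr rfl (fun χ _ => h1 χ), Finset.sum_comm]
  have h2 : ∀ m : ↥M, ∑ χ : (↥M ⧸ N.subgroupOf M) →* Fˣ, coef M N χ m • ρ (m : G) v =
      if (m : G) ∈ N then (Fintype.card ((↥M ⧸ N.subgroupOf M) →* Fˣ) : F) • v else 0 := by
    intro m
    rw [← Finset.sum_smul]
    have h3 : ∑ χ : (↥M ⧸ N.subgroupOf M) →* Fˣ, coef M N χ m =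
        ∑ χ : (↥M ⧸ N.subgroupOf M) →* Fˣ,
          ((χ ((QuotientGroup.mk m : ↥M ⧸ N.subgroupOf M)⁻¹) : Fˣ) : F) := by
      apply Finset.sum_congr rfl
      intro χ _
      unfold coef
      rw [map_inv]
    rw [h3, dual_sum M N hcomm hchar]
    by_cases hm : (m : G) ∈ N
    · rw [if_pos hm, if_pos, hv _ hm]
      rw [inv_eq_one, QuotientGroup.eq_one_iff, Subgroup.mem_subgroupOf]
      exact hm
    · rw [if_neg hm, if_neg, zero_smul]
      rw [inv_eq_one, QuotientGroup.eq_one_iff, Subgroup.mem_subgroupOf]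
      exact hm
  rw [Finset.sum_congr rfl (fun m _ => h2 m), ← Finset.sum_filter, Finset.sum_const]
  have h4 : (Finset.univ.filter (fun m : ↥M => (m : G) ∈ N)).card = Nat.card ↥N := by
    rw [← Fintype.card_subtype]
    rw [← Nat.card_eq_fintype_card]
    have : Nat.card {m : ↥M // (m : G) ∈ N} = Nat.card ↥(N.subgroupOf M) := rfl
    rw [this, Nat.card_congr (Subgroup.subgroupOfEquivOfLe hNM).toEquiv]
  rw [h4, ← Nat.cast_smul_eq_nsmul F, smul_smul]
  congr 1
  have h5 := card_dual (F := F) M N hcomm hNM hchar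
  rw [Nat.card_eq_fintype_card (α := (↥M ⧸ N.subgroupOf M) →* Fˣ),
    Nat.card_eq_fintype_card (α := ↥M)] at h5
  rw [← h5]
  push_cast
  ring

theorem free_dual (E : Subgroup G)
    (hcomm : ∀ a ∈ M, ∀ b ∈ M, a * b * a⁻¹ * b⁻¹ ∈ N)
    (hfpf : ∀ e ∈ E, e ≠ 1 → ∀ m ∈ M, e * m * e⁻¹ * m⁻¹ ∈ N → m ∈ N)
    (χ : (↥M ⧸ N.subgroupOf M) →* Fˣ) (hχ : χ ≠ 1) (e : G) (heE : e ∈ E) (he : e • χ = χ) :
    e = 1 := by
  by_contra hne
  apply hχ
  let _ : CommGroup (↥M ⧸ N.subgroupOf M) := quoComm M N hcomm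
  have hfix : ∀ c : ↥M ⧸ N.subgroupOf M, kap M N e⁻¹ c = c → c = 1 := by
    intro c hc
    induction c using QuotientGroup.induction_on with
    | H m =>
      rw [kap_mk, QuotientGroup.eq, Subgroup.mem_subgroupOf] at hc
      rw [QuotientGroup.eq_one_iff, Subgroup.mem_subgroupOf]
      apply hfpf e⁻¹ (E.inv_mem heE) (by rwa [ne_eq, inv_eq_one]) _ m.2
      have h1 : e⁻¹ * (m : G) * e⁻¹⁻¹ * (m : G)⁻¹ =
          (m : G) * ((((MulAut.conjNormal e⁻¹ m)⁻¹ * m : ↥M) : G))⁻¹ * (m : G)⁻¹ := by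
        push_cast
        rw [MulAut.conjNormal_apply]
        group
      rw [h1]
      exact ‹N.Normal›.conj_mem _ (N.inv_mem hc) _
  have hinj : Function.Injective (fun a : ↥M ⧸ N.subgroupOf M => kap M N e⁻¹ a * a⁻¹) := by
    intro a b hab
    have hab' : kap M N e⁻¹ a * a⁻¹ = kap M N e⁻¹ b * b⁻¹ := hab
    have h1 : kap M N e⁻¹ (b⁻¹ * a) = b⁻¹ * a := by
      rw [map_mul, map_inv]
      calc (kap M N e⁻¹ b)⁻¹ * kap M N e⁻¹ a
          = (kap M N e⁻¹ b)⁻¹ * (kap M N e⁻¹ a * a⁻¹) * a := by group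
        _ = (kap M N e⁻¹ b)⁻¹ * (kap M N e⁻¹ b * b⁻¹) * a := by rw [hab']
        _ = b⁻¹ * a := by group
    have h2 := hfix _ h1
    rw [inv_mul_eq_one] at h2
    exact h2.symm
  have hsurj := Finite.surjective_of_injective hinj
  apply MonoidHom.ext
  intro a
  obtain ⟨b, hb⟩ := hsurj a
  have hb' : kap M N e⁻¹ b * b⁻¹ = a := hb
  have h3 : χ (kap M N e⁻¹ b) = χ b := by
    have := DFunLike.congr_fun he b
    exact this
  rw [← hb', map_mul, map_inv, h3, mul_inv_cancel, MonoidHom.one_apply]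

end Main

section CoreRel

variable {F : Type*} [Field F] [IsAlgClosed F] {G : Type*} [Group G] [Finite G]
  {V : Type*} [AddCommGroup V] [Module F V] [FiniteDimensional F V]
  (ρ : Representation F G V) (M N : Subgroup G) [M.Normal] [N.Normal]

attribute [local instance] dualAct

/-- **Relative Frobenius fixed point formula for an abelian section.** -/
theorem core_rel (E : Subgroup G) (hNM : N ≤ M)
    (hcomm : ∀ a ∈ M, ∀ b ∈ M, a * b * a⁻¹ * b⁻¹ ∈ N)
    (hfpf : ∀ e ∈ E, e ≠ 1 → ∀ m ∈ M, e * m * e⁻¹ * m⁻¹ ∈ N → m ∈ N)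
    (hchar : (Nat.card ↥M : F) ≠ 0) :
    finrank F (fixedBy ρ N) + Nat.card E * finrank F ↥(fixedBy ρ M ⊓ fixedBy ρ E) =
      finrank F (fixedBy ρ M) + Nat.card E * finrank F ↥(fixedBy ρ N ⊓ fixedBy ρ E) := by
  classical
  letI : Fintype ↥M := Fintype.ofFinite _
  letI : Fintype ↥E := Fintype.ofFinite _
  letI : Fintype ((↥M ⧸ N.subgroupOf M) →* Fˣ) := Fintype.ofFinite _
  have hk0 : (Fintype.card ↥M : F) ≠ 0 := by rwa [← Nat.card_eq_fintype_card]
  set k : F := (Fintype.card ↥M : F) with hk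
  set Q : ((↥M ⧸ N.subgroupOf M) →* Fˣ) → (V →ₗ[F] V) := fun χ => k⁻¹ • upr ρ M N χ with hQ
  set τ : Representation F ↥E V := MonoidHom.comp ρ E.subtype with hτ
  have hQa : ∀ χ v, Q χ v = k⁻¹ • upr ρ M N χ v := fun χ v => rfl
  have hPI : PermIdem τ Q := by
    constructor
    · intro χ χ' v
      rw [hQa, hQa, map_smul, upr_upr]
      by_cases h : χ = χ'
      · rw [if_pos h, if_pos h, hQa, h, smul_smul, smul_smul]
        congr 1
        rw [← hk]
        field_simp
      · rw [if_neg h, if_neg h, smul_zero, smul_zero]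
    · intro e χ v
      rw [hQa, hQa]
      show ρ (e : G) (k⁻¹ • upr ρ M N χ v) = k⁻¹ • upr ρ M N (e • χ) (ρ (e : G) v)
      rw [map_smul, rho_upr_equi]
      rfl
  have hr1 : LinearMap.range (Q 1) = fixedBy ρ M := by
    apply le_antisymm
    · rintro _ ⟨v, rfl⟩
      rw [hQa]
      exact Submodule.smul_mem _ _ (upr_one_mem_fixedBy ρ M N v)
    · intro v hv
      refine ⟨v, ?_⟩
      rw [hQa, upr_one_of_fixed ρ M N hv, smul_smul, inv_mul_cancel₀ hk0, one_smul]
  have hrS : LinearMap.range (∑ χ, Q χ) = fixedBy ρ N := by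
    apply le_antisymm
    · rintro _ ⟨v, rfl⟩
      rw [LinearMap.sum_apply]
      apply Submodule.sum_mem
      intro χ _
      rw [hQa]
      exact Submodule.smul_mem _ _ (upr_mem_fixedBy ρ M N hNM χ v)
    · intro v hv
      refine ⟨v, ?_⟩
      rw [LinearMap.sum_apply]
      have : ∀ χ, Q χ v = k⁻¹ • upr ρ M N χ v := fun χ => rfl
      rw [Finset.sum_congr rfl (fun χ _ => this χ), ← Finset.smul_sum,
        sum_upr_of_fixed ρ M N hNM hcomm hchar hv, smul_smul, inv_mul_cancel₀ hk0, one_smul]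
  have hfix : ∀ e : ↥E, e • (1 : (↥M ⧸ N.subgroupOf M) →* Fˣ) = 1 := by
    intro e
    apply MonoidHom.ext
    intro a
    rfl
  have hfree : ∀ χ : (↥M ⧸ N.subgroupOf M) →* Fˣ, χ ≠ 1 → Q χ ≠ 0 →
      ∀ e : ↥E, e • χ = χ → e = 1 := by
    intro χ hχ _ e he
    apply Subtype.ext
    exact free_dual M N E hcomm hfpf χ hχ (e : G) e.2 he
  have key := hPI.finrank_range_fixed 1 hfix hfree
  rw [hr1, hrS] at key
  have hτi : τ.invariants = fixedBy ρ E := rfl
  rw [hτi, ← Nat.card_eq_fintype_card] at key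
  exact key

end CoreRel

end Cfsg.Agent.Helper8.FrobLin
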