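import Mathlib
import Cfsg.Agent.Lib.Helper8.FrobLin2
import Cfsg.Agent.Lib.Helper1.Coprime
import Cfsg.Agent.Lib.Helper1.FpfAction

/-!
# The Frobenius–Wielandt fixed point formula, linear form (helper8 library)

`fw_lin`: if `E` acts on the nilpotent normal subgroup `U` of `G` without non-trivial fixed points
and `G` acts on a finite dimensional space `V` over an algebraically closed field of characteristic
prime to `|U|`, then `dim V + |E| dim (V^U ∩ V^E) = dim V^U + |E| dim V^E`.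
-/

set_option autoImplicit false
set_option linter.unusedSectionVars false

namespace Cfsg.Agent.Helper8.FrobLin

open Module

section RelFpf

variable {G : Type*} [Group G] [Finite G]

/-- the order of an element acting without fixed points on `U` is prime to `|U|` -/
theorem coprime_orderOf_of_fpf (U : Subgroup G) [U.Normal] (e : G)
    (hfpf : ∀ k : ℕ, e ^ k ≠ 1 → ∀ u ∈ U, e ^ k * u = u * e ^ k → u = 1) :
    (orderOf e).Coprime (Nat.card ↥U) := by
  apply Nat.coprime_of_dvd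
  intro p hp hpe hpU
  haveI : Fact p.Prime := ⟨hp⟩
  obtain ⟨d, hd⟩ := hpe
  have hd0 : 0 < d := by
    rcases Nat.eq_zero_or_pos d with h | h
    · rw [h, mul_zero] at hd
      exact absurd hd (orderOf_pos e).ne'
    · exact h
  have hz : orderOf (e ^ d) = p := by
    rw [orderOf_pow' e hd0.ne', hd, Nat.gcd_eq_right (Dvd.intro_left p rfl),
      Nat.mul_div_cancel _ hd0]
  have hz1 : e ^ d ≠ 1 := by
    intro h1
    rw [h1, orderOf_one] at hz
    exact hp.one_lt.ne hz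
  have hbot : U ⊓ Subgroup.centralizer {e ^ d} = ⊥ := by
    rw [eq_bot_iff]
    intro u hu
    obtain ⟨huU, huC⟩ := Subgroup.mem_inf.mp hu
    rw [Subgroup.mem_bot]
    apply hfpf d hz1 u huU
    rw [Subgroup.mem_centralizer_iff] at huC
    exact huC _ (Set.mem_singleton _)
  have := Helper1.coprime_card_of_fpf hz hbot
  exact (Nat.Prime.coprime_iff_not_dvd hp).mp this.symm hpU

/-- a fixed-point-free action passes to quotients -/
theorem rel_fpf (U E N : Subgroup G) [U.Normal] [N.Normal] (hNU : N ≤ U)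
    (hfpf : ∀ e ∈ E, e ≠ 1 → ∀ u ∈ U, e * u = u * e → u = 1) :
    ∀ e ∈ E, e ≠ 1 → ∀ m ∈ U, e * m * e⁻¹ * m⁻¹ ∈ N → m ∈ N := by
  intro e heE he1 m hmU hm
  have hcopU : (orderOf e).Coprime (Nat.card ↥U) := by
    apply coprime_orderOf_of_fpf U e
    intro k hk u hu
    exact hfpf _ (E.pow_mem heE k) hk u hu
  have hcop : (Nat.card ↥(Subgroup.zpowers e)).Coprime (Nat.card ↥N) := by
    rw [Nat.card_zpowers]
    exact Nat.Coprime.coprime_dvd_right (Subgroup.card_dvd_of_le hNU) hcopU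
  have hx : ∀ a ∈ Subgroup.zpowers e, m⁻¹ * a * m * a⁻¹ ∈ N := by
    intro a ha
    -- the set of `a` with `m⁻¹ a m a⁻¹ ∈ N` is a subgroup containing `e`
    let S : Subgroup G :=
      { carrier := {a | m⁻¹ * a * m * a⁻¹ ∈ N}
        one_mem' := by simp
        mul_mem' := by
          intro a b ha hb
          simp only [Set.mem_setOf_eq] at ha hb ⊢
          have h1 : m⁻¹ * (a * b) * m * (a * b)⁻¹ =
              (m⁻¹ * a * m * a⁻¹) * (a * (m⁻¹ * b * m * b⁻¹) * a⁻¹) := by group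
          rw [h1]
          exact N.mul_mem ha (‹N.Normal›.conj_mem _ hb a)
        inv_mem' := by
          intro a ha
          simp only [Set.mem_setOf_eq] at ha ⊢
          have h1 : m⁻¹ * a⁻¹ * m * a⁻¹⁻¹ = a⁻¹ * (m⁻¹ * a * m * a⁻¹)⁻¹ * a⁻¹⁻¹ := by group
          rw [h1]
          exact ‹N.Normal›.conj_mem _ (N.inv_mem ha) a⁻¹ }
    have heS : e ∈ S := by
      show m⁻¹ * e * m * e⁻¹ ∈ N
      have h1 : m⁻¹ * e * m * e⁻¹ = m⁻¹ * (e * m * e⁻¹ * m⁻¹) * m⁻¹⁻¹ := by group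
      rw [h1]
      exact ‹N.Normal›.conj_mem _ hm m⁻¹
    exact (Subgroup.zpowers_le.mpr heS) ha
  obtain ⟨c, hc, hcN⟩ := Helper1.exists_centralizer_mem_coset N (Subgroup.zpowers e)
    (by rw [Subgroup.normalizer_eq_top]; exact le_top) hcop
    (Or.inl inferInstance) m hx
  have hcU : c ∈ U := by
    have : c = m * (m⁻¹ * c) := by group
    rw [this]
    exact U.mul_mem hmU (hNU hcN)
  have hc1 : c = 1 := by
    apply hfpf e heE he1 c hcU
    rw [Subgroup.mem_centralizer_iff] at hc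
    exact hc e (Subgroup.mem_zpowers e)
  rw [hc1, mul_one] at hcN
  have := N.inv_mem hcN
  rwa [inv_inv] at this

end RelFpf


section RelCenter

variable {G : Type*} [Group G]

/-- the preimage in `U` of the centre of `U / N` -/
def relCenter (U N : Subgroup G) [N.Normal] : Subgroup G where
  carrier := {m | m ∈ U ∧ ∀ u ∈ U, m * u * m⁻¹ * u⁻¹ ∈ N}
  one_mem' := ⟨U.one_mem, by intro u _; simp⟩
  mul_mem' := by
    rintro a b ⟨haU, ha⟩ ⟨hbU, hb⟩
    refine ⟨U.mul_mem haU hbU, ?_⟩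
    intro u hu
    have h1 : a * b * u * (a * b)⁻¹ * u⁻¹ = a * (b * u * b⁻¹ * u⁻¹) * a⁻¹ * (a * u * a⁻¹ * u⁻¹) := by
      group
    rw [h1]
    exact N.mul_mem (‹N.Normal›.conj_mem _ (hb u hu) a) (ha u hu)
  inv_mem' := by
    rintro a ⟨haU, ha⟩
    refine ⟨U.inv_mem haU, ?_⟩
    intro u hu
    have h1 : a⁻¹ * u * a⁻¹⁻¹ * u⁻¹ = a⁻¹ * (a * u * a⁻¹ * u⁻¹)⁻¹ * a⁻¹⁻¹ := by group
    rw [h1]
    exact ‹N.Normal›.conj_mem _ (N.inv_mem (ha u hu)) a⁻¹

theorem mem_relCenter {U N : Subgroup G} [N.Normal] {m : G} :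
    m ∈ relCenter U N ↔ m ∈ U ∧ ∀ u ∈ U, m * u * m⁻¹ * u⁻¹ ∈ N := Iff.rfl

theorem relCenter_le (U N : Subgroup G) [N.Normal] : relCenter U N ≤ U := fun _ h => h.1

theorem le_relCenter {U N : Subgroup G} [N.Normal] (h : N ≤ U) : N ≤ relCenter U N := by
  intro n hn
  refine ⟨h hn, ?_⟩
  intro u _
  have h1 : n * u * n⁻¹ * u⁻¹ = n * (u * n⁻¹ * u⁻¹) := by group
  rw [h1]
  exact N.mul_mem hn (‹N.Normal›.conj_mem _ (N.inv_mem hn) u)

instance relCenter_normal (U N : Subgroup G) [U.Normal] [N.Normal] : (relCenter U N).Normal := by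
  constructor
  rintro m ⟨hmU, hm⟩ g
  refine ⟨‹U.Normal›.conj_mem _ hmU g, ?_⟩
  intro u hu
  have h1 : g * m * g⁻¹ * u * (g * m * g⁻¹)⁻¹ * u⁻¹ =
      g * (m * (g⁻¹ * u * g⁻¹⁻¹) * m⁻¹ * (g⁻¹ * u * g⁻¹⁻¹)⁻¹) * g⁻¹ := by group
  rw [h1]
  exact ‹N.Normal›.conj_mem _ (hm _ (‹U.Normal›.conj_mem _ hu g⁻¹)) g

theorem relCenter_comm (U N : Subgroup G) [N.Normal] :
    ∀ a ∈ relCenter U N, ∀ b ∈ relCenter U N, a * b * a⁻¹ * b⁻¹ ∈ N :=
  fun _ ha b hb => ha.2 b hb.1

theorem lt_relCenter [Finite G] {U N : Subgroup G} [N.Normal] (hnil : Group.IsNilpotent ↥U)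
    (h : N < U) : N < relCenter U N := by
  refine lt_of_le_of_ne (le_relCenter h.le) ?_
  intro heq
  haveI : Nontrivial (↥U ⧸ N.subgroupOf U) := by
    obtain ⟨u, huU, huN⟩ := Set.exists_of_ssubset h
    refine ⟨⟨QuotientGroup.mk (⟨u, huU⟩ : ↥U), 1, ?_⟩⟩
    rw [ne_eq, QuotientGroup.eq_one_iff, Subgroup.mem_subgroupOf]
    exact huN
  have hc := Group.IsNilpotent.center_ne_bot (G := ↥U ⧸ N.subgroupOf U)
  obtain ⟨⟨q, hq⟩, hq1'⟩ := (Subgroup.ne_bot_iff_exists_ne_one).mp hc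
  have hq1 : q ≠ 1 := fun h => hq1' (Subtype.ext h)
  obtain ⟨m, rfl⟩ := QuotientGroup.mk_surjective q
  apply hq1
  rw [QuotientGroup.eq_one_iff, Subgroup.mem_subgroupOf, heq]
  refine ⟨m.2, ?_⟩
  intro u hu
  rw [Subgroup.mem_center_iff] at hq
  have h1 := hq (QuotientGroup.mk (⟨u, hu⟩ : ↥U))
  have h2 : (QuotientGroup.mk (m * ⟨u, hu⟩ * m⁻¹ * (⟨u, hu⟩ : ↥U)⁻¹) : ↥U ⧸ N.subgroupOf U) = 1 := by
    rw [QuotientGroup.mk_mul, QuotientGroup.mk_mul, QuotientGroup.mk_mul, QuotientGroup.mk_inv,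
      QuotientGroup.mk_inv, ← h1]
    group
  rw [QuotientGroup.eq_one_iff, Subgroup.mem_subgroupOf] at h2
  exact h2

end RelCenter

section FW

variable {F : Type*} [Field F] [IsAlgClosed F] {G : Type*} [Group G] [Finite G]
  {V : Type*} [AddCommGroup V] [Module F V] [FiniteDimensional F V]
  (ρ : Representation F G V)

theorem fw_rel (U E : Subgroup G) [U.Normal] (hnil : Group.IsNilpotent ↥U)
    (hfpf : ∀ e ∈ E, e ≠ 1 → ∀ u ∈ U, e * u = u * e → u = 1)
    (hchar : (Nat.card ↥U : F) ≠ 0) :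
    ∀ (n : ℕ) (N : Subgroup G), N.Normal → N ≤ U → Nat.card ↥U - Nat.card ↥N = n →
      finrank F (fixedBy ρ N) + Nat.card E * finrank F ↥(fixedBy ρ U ⊓ fixedBy ρ E) =
        finrank F (fixedBy ρ U) + Nat.card E * finrank F ↥(fixedBy ρ N ⊓ fixedBy ρ E) := by
  intro n
  induction n using Nat.strong_induction_on with
  | _ n ih =>
    intro N hNn hNU hn
    haveI := hNn
    rcases eq_or_lt_of_le hNU with heq | hlt
    · rw [heq]
    · have hlt' := lt_relCenter hnil hlt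
      have hMU := relCenter_le U N
      have hcardlt : Nat.card ↥N < Nat.card ↥(relCenter U N) := by
        have h1 := Subgroup.card_le_of_le hlt'.le
        rcases eq_or_lt_of_le h1 with h2 | h2
        · exact absurd (Subgroup.eq_of_le_of_card_ge hlt'.le h2.ge) hlt'.ne
        · exact h2
      have hcardle : Nat.card ↥(relCenter U N) ≤ Nat.card ↥U := Subgroup.card_le_of_le hMU
      have hM := ih (Nat.card ↥U - Nat.card ↥(relCenter U N)) (by omega) (relCenter U N)
        inferInstance hMU rfl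
      have hcharM : (Nat.card ↥(relCenter U N) : F) ≠ 0 := by
        intro h0
        apply hchar
        obtain ⟨k, hk⟩ := Subgroup.card_dvd_of_le hMU
        rw [hk]; push_cast; rw [h0, zero_mul]
      have hrel := rel_fpf U E N hlt.le hfpf
      have hcore := core_rel ρ (relCenter U N) N E hlt'.le (relCenter_comm U N)
        (fun e he he1 m hm hmN => hrel e he he1 m (hMU hm) hmN) hcharM
      linarith

/-- **Frobenius–Wielandt fixed point formula, linear form.** -/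
theorem fw_lin (U E : Subgroup G) [U.Normal] (hnil : Group.IsNilpotent ↥U)
    (hfpf : ∀ e ∈ E, e ≠ 1 → ∀ u ∈ U, e * u = u * e → u = 1)
    (hchar : (Nat.card ↥U : F) ≠ 0) :
    finrank F V + Nat.card E * finrank F ↥(fixedBy ρ U ⊓ fixedBy ρ E) =
      finrank F (fixedBy ρ U) + Nat.card E * finrank F (fixedBy ρ E) := by
  have h := fw_rel ρ U E hnil hfpf hchar _ ⊥ inferInstance bot_le rfl
  have hbot : fixedBy ρ (⊥ : Subgroup G) = ⊤ := by
    rw [eq_top_iff]
    intro v _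
    rw [mem_fixedBy]
    intro x hx
    rw [Subgroup.mem_bot] at hx
    rw [hx, map_one]; rfl
  rw [hbot, top_inf_eq, finrank_top] at h
  exact h

end FW

end Cfsg.Agent.Helper8.FrobLin
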