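import Mathlib
import Cfsg.Agent.Lib.Helper8.FrobLin3

/-!
# Small fixed spaces force abelian action (helper8 library)

`comm_of_fixed_le_one`: if `E` acts on the nilpotent normal subgroup `U` of `G` without non-trivial
fixed points, `G` acts on a finite dimensional space `V` over an algebraically closed field of
characteristic prime to `|U|`, and the fixed space of `E` has dimension at most one, then the
elements of `U` act on `V` by pairwise commuting maps.
-/

set_option autoImplicit false
set_option linter.unusedSectionVars false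

namespace Cfsg.Agent.Helper8.FrobLin

open Module

section Line

variable {F : Type*} [Field F] {V : Type*} [AddCommGroup V] [Module F V] [FiniteDimensional F V]

theorem comm_on_line {W : Submodule F V} (hW : finrank F W ≤ 1) (f g : V →ₗ[F] V)
    (hf : ∀ w ∈ W, f w ∈ W) (hg : ∀ w ∈ W, g w ∈ W) : ∀ w ∈ W, f (g w) = g (f w) := by
  rw [finrank_le_one_iff] at hW
  obtain ⟨⟨w₀, hw₀⟩, hgen⟩ := hW
  obtain ⟨α, hα⟩ := hgen ⟨f w₀, hf w₀ hw₀⟩
  obtain ⟨β, hβ⟩ := hgen ⟨g w₀, hg w₀ hw₀⟩
  have hα' : α • w₀ = f w₀ := congrArg Subtype.val hα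
  have hβ' : β • w₀ = g w₀ := congrArg Subtype.val hβ
  intro w hw
  obtain ⟨c, hc⟩ := hgen ⟨w, hw⟩
  have hc' : c • w₀ = w := congrArg Subtype.val hc
  have h1 : f (g w) = (c * β * α) • w₀ := by
    rw [← hc', map_smul, ← hβ', map_smul, map_smul, ← hα', smul_smul, smul_smul]
  have h2 : g (f w) = (c * α * β) • w₀ := by
    rw [← hc', map_smul, ← hα', map_smul, map_smul, ← hβ', smul_smul, smul_smul]
  rw [h1, h2]
  congr 1
  ring

end Line

section Ker

variable {F : Type*} [Field F] {G : Type*} [Group G] {V : Type*} [AddCommGroup V] [Module F V]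
  (ρ : Representation F G V)

/-- the kernel of the action of `U` -/
def kerIn (U : Subgroup G) : Subgroup G := U ⊓ MonoidHom.ker ρ

theorem mem_kerIn {U : Subgroup G} {g : G} : g ∈ kerIn ρ U ↔ g ∈ U ∧ ρ g = 1 := by
  unfold kerIn
  rw [Subgroup.mem_inf, MonoidHom.mem_ker]

instance kerIn_normal (U : Subgroup G) [U.Normal] : (kerIn ρ U).Normal := by
  unfold kerIn
  infer_instance

theorem kerIn_le (U : Subgroup G) : kerIn ρ U ≤ U := inf_le_left

theorem fixedBy_kerIn (U : Subgroup G) : fixedBy ρ (kerIn ρ U) = ⊤ := by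
  rw [eq_top_iff]
  intro v _
  rw [mem_fixedBy]
  intro x hx
  rw [mem_kerIn] at hx
  rw [hx.2]; rfl

end Ker

section Central

variable {G : Type*} [Group G] {F : Type*} [Field F]

attribute [local instance] dualAct

theorem central_smul (U N : Subgroup G) [U.Normal] [N.Normal] {u : G} (hu : u ∈ U)
    (χ : (↥(relCenter U N) ⧸ N.subgroupOf (relCenter U N)) →* Fˣ) : u • χ = χ := by
  apply MonoidHom.ext
  intro a
  show χ (kap (relCenter U N) N u⁻¹ a) = χ a
  congr 1
  induction a using QuotientGroup.induction_on with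
  | H m =>
    rw [kap_mk, QuotientGroup.eq, Subgroup.mem_subgroupOf]
    have hm := m.2
    have h1 := (mem_relCenter.mp ((relCenter U N).inv_mem hm)).2 u hu
    have h2 : ((((MulAut.conjNormal u⁻¹ m : ↥(relCenter U N)))⁻¹ * m : ↥(relCenter U N)) : G) =
        u⁻¹ * ((m : G)⁻¹ * u * (m : G)⁻¹⁻¹ * u⁻¹) * u⁻¹⁻¹ := by
      push_cast
      rw [MulAut.conjNormal_apply]
      group
    rw [h2]
    exact ‹N.Normal›.conj_mem _ h1 _

end Central

section Comm

variable {F : Type*} [Field F] [IsAlgClosed F] {G : Type*} [Group G] [Finite G]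
  {V : Type*} [AddCommGroup V] [Module F V] [FiniteDimensional F V]
  (ρ : Representation F G V)

attribute [local instance] dualAct

/-- **A one-dimensional fixed space forces abelian action.** -/
theorem comm_of_fixed_le_one (U E : Subgroup G) [U.Normal] (hnil : Group.IsNilpotent ↥U)
    (hfpf : ∀ e ∈ E, e ≠ 1 → ∀ u ∈ U, e * u = u * e → u = 1)
    (hchar : (Nat.card ↥U : F) ≠ 0)
    (hdim : finrank F (fixedBy ρ E) ≤ 1) :
    ∀ a ∈ U, ∀ b ∈ U, ∀ v : V, ρ a (ρ b v) = ρ b (ρ a v) := by
  classical
  set N : Subgroup G := kerIn ρ U with hN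
  have hNU : N ≤ U := kerIn_le ρ U
  rcases eq_or_lt_of_le hNU with heq | hlt
  · intro a ha b hb v
    have ha' : a ∈ N := by rw [heq]; exact ha
    have hb' : b ∈ N := by rw [heq]; exact hb
    rw [hN, mem_kerIn] at ha' hb'
    rw [ha'.2, hb'.2]
  · set M : Subgroup G := relCenter U N with hM
    have hNM : N < M := lt_relCenter hnil hlt
    have hMU : M ≤ U := relCenter_le U N
    have hcomm : ∀ a ∈ M, ∀ b ∈ M, a * b * a⁻¹ * b⁻¹ ∈ N := relCenter_comm U N
    have hrel := rel_fpf U E N hlt.le hfpf
    have hfpfM : ∀ e ∈ E, e ≠ 1 → ∀ m ∈ M, e * m * e⁻¹ * m⁻¹ ∈ N → m ∈ N :=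
      fun e he he1 m hm hmN => hrel e he he1 m (hMU hm) hmN
    have hcharM : (Nat.card ↥M : F) ≠ 0 := by
      intro h0
      apply hchar
      obtain ⟨k, hk⟩ := Subgroup.card_dvd_of_le hMU
      rw [hk]; push_cast; rw [h0, zero_mul]
    letI : Fintype ↥M := Fintype.ofFinite _
    letI : Fintype ↥E := Fintype.ofFinite _
    letI : Fintype ((↥M ⧸ N.subgroupOf M) →* Fˣ) := Fintype.ofFinite _
    have hk0 : (Fintype.card ↥M : F) ≠ 0 := by rwa [← Nat.card_eq_fintype_card]
    set k : F := (Fintype.card ↥M : F) with hk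
    set Q : ((↥M ⧸ N.subgroupOf M) →* Fˣ) → (V →ₗ[F] V) := fun χ => k⁻¹ • upr ρ M N χ with hQ
    set τ : Representation F ↥E V := MonoidHom.comp ρ E.subtype with hτ
    have hQa : ∀ χ v, Q χ v = k⁻¹ • upr ρ M N χ v := fun χ v => rfl
    have hPI : PermIdem τ Q := by
      constructor
      · intro χ χ' v
        rw [hQa, hQa, map_smul, upr_upr]
        by_cases h : χ = χ'
        · rw [if_pos h, if_pos h, hQa, h, smul_smul, smul_smul]
          congr 1
          rw [← hk]
          field_simp
        · rw [if_neg h, if_neg h, smul_zero, smul_zero]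
      · intro e χ v
        rw [hQa, hQa]
        show ρ (e : G) (k⁻¹ • upr ρ M N χ v) = k⁻¹ • upr ρ M N (e • χ) (ρ (e : G) v)
        rw [map_smul, rho_upr_equi]
        rfl
    have hr1 : LinearMap.range (Q 1) = fixedBy ρ M := by
      apply le_antisymm
      · rintro _ ⟨v, rfl⟩
        rw [hQa]
        exact Submodule.smul_mem _ _ (upr_one_mem_fixedBy ρ M N v)
      · intro v hv
        refine ⟨v, ?_⟩
        rw [hQa, upr_one_of_fixed ρ M N hv, smul_smul, inv_mul_cancel₀ hk0, one_smul]
    have hrS : LinearMap.range (∑ χ, Q χ) = ⊤ := by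
      rw [eq_top_iff]
      intro v _
      have hv : v ∈ fixedBy ρ N := by rw [hN, fixedBy_kerIn]; trivial
      refine ⟨v, ?_⟩
      rw [LinearMap.sum_apply]
      have : ∀ χ, Q χ v = k⁻¹ • upr ρ M N χ v := fun χ => rfl
      rw [Finset.sum_congr rfl (fun χ _ => this χ), ← Finset.smul_sum,
        sum_upr_of_fixed ρ M N hNM.le hcomm hcharM hv, smul_smul, inv_mul_cancel₀ hk0, one_smul]
    have hfix : ∀ e : ↥E, e • (1 : (↥M ⧸ N.subgroupOf M) →* Fˣ) = 1 := by
      intro e
      apply MonoidHom.ext
      intro a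
      rfl
    have hfree : ∀ χ : (↥M ⧸ N.subgroupOf M) →* Fˣ, χ ≠ 1 → Q χ ≠ 0 →
        ∀ e : ↥E, e • χ = χ → e = 1 := by
      intro χ hχ _ e he
      apply Subtype.ext
      exact free_dual M N E hcomm hfpfM χ hχ (e : G) e.2 he
    -- the dimension count
    have key1 := hPI.finrank_range_fixed 1 hfix hfree
    have hτi : τ.invariants = fixedBy ρ E := rfl
    rw [hrS, top_inf_eq, finrank_top, hτi] at key1
    have key2 := hPI.finrank_range_sum
    rw [hrS, finrank_top] at key2
    have hPI' := hPI.erase 1 hfix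
    have hfree' : ∀ χ : (↥M ⧸ N.subgroupOf M) →* Fˣ,
        (if χ = 1 then (0 : V →ₗ[F] V) else Q χ) ≠ 0 → ∀ e : ↥E, e • χ = χ → e = 1 := by
      intro χ hχ e he
      by_cases h1 : χ = 1
      · rw [if_pos h1] at hχ
        exact absurd rfl hχ
      · rw [if_neg h1] at hχ
        exact hfree χ h1 hχ e he
    have key3 := hPI'.sum_finrank hfree'
    set d : ((↥M ⧸ N.subgroupOf M) →* Fˣ) → ℕ := fun χ => finrank F (LinearMap.range (Q χ)) with hd
    set d' : ((↥M ⧸ N.subgroupOf M) →* Fˣ) → ℕ := fun χ =>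
      finrank F (LinearMap.range (if χ = 1 then (0 : V →ₗ[F] V) else Q χ)) with hd'
    have hd'eq : ∀ χ, d' χ = if χ = 1 then 0 else d χ := by
      intro χ
      show finrank F (LinearMap.range (if χ = 1 then (0 : V →ₗ[F] V) else Q χ)) = _
      by_cases h1 : χ = 1
      · rw [if_pos h1, if_pos h1, LinearMap.range_zero, finrank_bot]
      · rw [if_neg h1, if_neg h1]
    have hsplit : ∑ χ, d χ = d 1 + ∑ χ, d' χ := by
      rw [← Finset.add_sum_erase Finset.univ d (Finset.mem_univ 1)]
      congr 1
      rw [← Finset.add_sum_erase Finset.univ d' (Finset.mem_univ 1), hd'eq 1, if_pos rfl, zero_add]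
      apply Finset.sum_congr rfl
      intro χ hχ
      rw [hd'eq, if_neg (Finset.ne_of_mem_erase hχ)]
    set S : ℕ := ∑ ρ' ∈ Finset.univ.filter
      (fun ρ' : (↥M ⧸ N.subgroupOf M) →* Fˣ => orep ↥E ρ' = ρ'), d' ρ' with hS
    have hEpos : 0 < Fintype.card ↥E := Fintype.card_pos
    have hsum : finrank F ↥(LinearMap.range (Q 1) ⊓ fixedBy ρ E) + S = finrank F (fixedBy ρ E) := by
      have h1 : finrank F V = d 1 + Fintype.card ↥E * S := by
        rw [key2]
        show ∑ χ, d χ = _
        rw [hsplit]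
        congr 1
      have h2 : Fintype.card ↥E * (finrank F ↥(LinearMap.range (Q 1) ⊓ fixedBy ρ E) + S) =
          Fintype.card ↥E * finrank F (fixedBy ρ E) := by
        have : d 1 = finrank F (LinearMap.range (Q 1)) := rfl
        rw [mul_add]
        linarith
      exact Nat.eq_of_mul_eq_mul_left hEpos h2
    have hSle : S ≤ 1 := by omega
    -- every non-trivial weight space has dimension at most one
    have hdle : ∀ χ : (↥M ⧸ N.subgroupOf M) →* Fˣ, χ ≠ 1 → d χ ≤ 1 := by
      intro χ hχ
      obtain ⟨e, he⟩ := exists_smul_orep (E := ↥E) χ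
      have hne : orep ↥E χ ≠ 1 := by
        intro h1
        apply hχ
        rw [← he, h1, hfix]
      have h1 : d χ = d (orep ↥E χ) := by
        show finrank F (LinearMap.range (Q χ)) = finrank F (LinearMap.range (Q (orep ↥E χ)))
        conv_lhs => rw [← he]
        exact hPI.finrank_smul e _
      have h2 : d' (orep ↥E χ) ≤ S := by
        rw [hS]
        apply Finset.single_le_sum (f := d') (fun i _ => Nat.zero_le _)
        rw [Finset.mem_filter]
        exact ⟨Finset.mem_univ _, orep_orep χ⟩
      rw [hd'eq, if_neg hne] at h2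
      omega
    -- the trivial weight space is centralised by `U`
    have hone : fixedBy ρ M = fixedBy ρ U := by
      rcases Nat.eq_zero_or_pos S with hS0 | hSpos
      · -- all non-trivial weight spaces vanish: `M` acts trivially
        exfalso
        have hz : ∀ χ : (↥M ⧸ N.subgroupOf M) →* Fˣ, χ ≠ 1 → Q χ = 0 := by
          intro χ hχ
          obtain ⟨e, he⟩ := exists_smul_orep (E := ↥E) χ
          have hne : orep ↥E χ ≠ 1 := by
            intro h1
            apply hχ
            rw [← he, h1, hfix]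
          have h1 : d χ = d (orep ↥E χ) := by
            show finrank F (LinearMap.range (Q χ)) = finrank F (LinearMap.range (Q (orep ↥E χ)))
            conv_lhs => rw [← he]
            exact hPI.finrank_smul e _
          have h2 : d' (orep ↥E χ) ≤ S := by
            rw [hS]
            apply Finset.single_le_sum (f := d') (fun i _ => Nat.zero_le _)
            rw [Finset.mem_filter]
            exact ⟨Finset.mem_univ _, orep_orep χ⟩
          rw [hd'eq, if_neg hne] at h2
          have h3 : finrank F (LinearMap.range (Q χ)) = 0 := by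
            show d χ = 0
            omega
          rw [Submodule.finrank_eq_zero] at h3
          exact LinearMap.range_eq_bot.mp h3
        have hsumQ : ∑ χ, Q χ = Q 1 := by
          rw [← Finset.add_sum_erase Finset.univ Q (Finset.mem_univ 1)]
          rw [Finset.sum_eq_zero, add_zero]
          intro χ hχ
          exact hz χ (Finset.ne_of_mem_erase hχ)
        rw [hsumQ, hr1] at hrS
        have hMN : M ≤ N := by
          intro m hm
          rw [hN, mem_kerIn]
          refine ⟨hMU hm, ?_⟩
          apply LinearMap.ext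
          intro v
          have hv : v ∈ fixedBy ρ M := by rw [hrS]; trivial
          rw [mem_fixedBy] at hv
          rw [hv m hm]; rfl
        exact absurd (lt_of_lt_of_le hNM hMN) (lt_irrefl _)
      · have ha0 : finrank F ↥(LinearMap.range (Q 1) ⊓ fixedBy ρ E) = 0 := by omega
        rw [hr1] at ha0
        have hfw := fw_rel ρ U E hnil hfpf hchar _ M inferInstance hMU rfl
        have hle : fixedBy ρ U ⊓ fixedBy ρ E ≤ fixedBy ρ M ⊓ fixedBy ρ E :=
          inf_le_inf_right _ (fixedBy_anti ρ hMU)
        have hb0 : finrank F ↥(fixedBy ρ U ⊓ fixedBy ρ E) = 0 := by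
          have := Submodule.finrank_mono hle
          omega
        rw [ha0, hb0, mul_zero, add_zero, add_zero] at hfw
        exact (Submodule.eq_of_le_of_finrank_eq (fixedBy_anti ρ hMU) hfw.symm).symm
    -- conclusion
    intro a ha b hb v
    have hinv : ∀ u ∈ U, ∀ χ : (↥M ⧸ N.subgroupOf M) →* Fˣ, ∀ w ∈ LinearMap.range (Q χ),
        ρ u w ∈ LinearMap.range (Q χ) := by
      rintro u hu χ _ ⟨x, rfl⟩
      refine ⟨ρ u x, ?_⟩
      rw [hQa, hQa, map_smul, rho_upr_equi, central_smul U N hu χ]
    have hw : ∀ χ : (↥M ⧸ N.subgroupOf M) →* Fˣ, ∀ w ∈ LinearMap.range (Q χ),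
        ρ a (ρ b w) = ρ b (ρ a w) := by
      intro χ w hw
      by_cases h1 : χ = 1
      · rw [h1, hr1, hone, mem_fixedBy] at hw
        rw [hw b hb, hw a ha, hw b hb]
      · exact comm_on_line (hdle χ h1) (ρ a) (ρ b) (hinv a ha χ) (hinv b hb χ) w hw
    have hv : (∑ χ, Q χ) v = v := hPI.sum_of_mem (by rw [hrS]; trivial)
    rw [← hv, LinearMap.sum_apply, map_sum, map_sum, map_sum, map_sum]
    apply Finset.sum_congr rfl
    intro χ _
    exact hw χ _ (LinearMap.mem_range_self _ _)

end Comm

end Cfsg.Agent.Helper8.FrobLin
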