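import Mathlib
import Cfsg.Agent.Lib.Helper8.FrobLin4

/-!
# Linear algebra for the Hall–Higman type bound (helper8 library)

* `finrank_range_sum_of_orth`: ranges of orthogonal idempotents add up.
* `sum_sq_le_finrank_of_idem`: a subspace of `End V` containing all `P i ∘ T ∘ P i` for a family
  of orthogonal idempotents `P i` has dimension at least `∑ (rank P i)²`.
-/

set_option autoImplicit false
set_option linter.unusedSectionVars false

namespace Cfsg.Agent.Helper8.HHLin

open Module Cfsg.Agent.Helper8.FrobLin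

section Orth

variable {F : Type*} [Field F] {V : Type*} [AddCommGroup V] [Module F V] [FiniteDimensional F V]
  {Λ : Type*} [Fintype Λ] [DecidableEq Λ]

/-- the trivial action of the trivial group -/
@[instance_reducible]
def trivAct (Λ : Type*) : MulAction PUnit.{1} Λ where
  smul _ a := a
  one_smul _ := rfl
  mul_smul _ _ _ := rfl

theorem permIdem_of_orth (Q : Λ → (V →ₗ[F] V))
    (horth : ∀ χ χ' : Λ, ∀ v : V, Q χ (Q χ' v) = if χ = χ' then Q χ v else 0) :
    letI := trivAct Λ
    PermIdem (1 : Representation F PUnit.{1} V) Q := by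
  letI := trivAct Λ
  exact ⟨horth, fun _ _ _ => rfl⟩

theorem finrank_range_sum_of_orth (Q : Λ → (V →ₗ[F] V))
    (horth : ∀ χ χ' : Λ, ∀ v : V, Q χ (Q χ' v) = if χ = χ' then Q χ v else 0) :
    finrank F (LinearMap.range (∑ χ, Q χ)) = ∑ χ, finrank F (LinearMap.range (Q χ)) := by
  letI := trivAct Λ
  exact (permIdem_of_orth Q horth).finrank_range_sum

/-- sandwiching by an idempotent -/
def sandwich (P : V →ₗ[F] V) : (V →ₗ[F] V) →ₗ[F] (V →ₗ[F] V) where
  toFun T := P ∘ₗ T ∘ₗ P
  map_add' T T' := by rw [LinearMap.add_comp, LinearMap.comp_add]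
  map_smul' c T := by rw [LinearMap.smul_comp, LinearMap.comp_smul]; rfl

theorem sandwich_apply (P T : V →ₗ[F] V) (v : V) : sandwich P T v = P (T (P v)) := rfl

theorem sq_le_finrank_range_sandwich (P : V →ₗ[F] V) (hP : ∀ v, P (P v) = P v) :
    finrank F (LinearMap.range P) ^ 2 ≤ finrank F (LinearMap.range (sandwich P)) := by
  set R := LinearMap.range P with hR
  let π : V →ₗ[F] R := P.rangeRestrict
  let ι : R →ₗ[F] V := R.subtype
  let Φ : (R →ₗ[F] R) →ₗ[F] LinearMap.range (sandwich P) :=
    { toFun := fun S => ⟨ι ∘ₗ S ∘ₗ π, ⟨ι ∘ₗ S ∘ₗ π, by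
        apply LinearMap.ext
        intro v
        rw [sandwich_apply]
        show P (((S (π (P v)) : R) : V)) = ((S (π v) : R) : V)
        have h1 : π (P v) = π v := by
          apply Subtype.ext
          exact hP v
        rw [h1]
        obtain ⟨u, hu⟩ := (S (π v)).2
        rw [← hu, hP]⟩⟩
      map_add' := by
        intro S S'
        apply Subtype.ext
        show ι ∘ₗ (S + S') ∘ₗ π = ι ∘ₗ S ∘ₗ π + ι ∘ₗ S' ∘ₗ π
        rw [LinearMap.add_comp, LinearMap.comp_add]
      map_smul' := by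
        intro c S
        apply Subtype.ext
        show ι ∘ₗ (c • S) ∘ₗ π = c • (ι ∘ₗ S ∘ₗ π)
        rw [LinearMap.smul_comp, LinearMap.comp_smul] }
  have hinj : Function.Injective Φ := by
    intro S S' h
    have h1 : ι ∘ₗ S ∘ₗ π = ι ∘ₗ S' ∘ₗ π := congrArg Subtype.val h
    apply LinearMap.ext
    rintro ⟨w, u, rfl⟩
    have h2 := LinearMap.congr_fun h1 u
    apply Subtype.ext
    exact h2
  have := LinearMap.finrank_le_finrank_of_injective hinj
  rw [Module.finrank_linearMap] at this
  rw [sq]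
  exact this

theorem sum_sq_le_finrank_of_idem (P : Λ → (V →ₗ[F] V))
    (horth : ∀ χ χ' : Λ, ∀ v : V, P χ (P χ' v) = if χ = χ' then P χ v else 0)
    (S : Submodule F (V →ₗ[F] V)) (hS : ∀ χ T, P χ ∘ₗ T ∘ₗ P χ ∈ S) :
    ∑ χ, finrank F (LinearMap.range (P χ)) ^ 2 ≤ finrank F S := by
  have hidem : ∀ χ v, P χ (P χ v) = P χ v := fun χ v => by rw [horth, if_pos rfl]
  have horthL : ∀ χ χ' : Λ, ∀ T : V →ₗ[F] V,
      sandwich (P χ) (sandwich (P χ') T) = if χ = χ' then sandwich (P χ) T else 0 := by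
    intro χ χ' T
    apply LinearMap.ext
    intro v
    rw [sandwich_apply, sandwich_apply]
    by_cases h : χ = χ'
    · rw [if_pos h, ← h, hidem, hidem, sandwich_apply]
    · rw [if_neg h, horth χ' χ, if_neg (Ne.symm h), map_zero, map_zero, map_zero]
      rfl
  have h1 := finrank_range_sum_of_orth (fun χ => sandwich (P χ)) horthL
  have h2 : LinearMap.range (∑ χ, sandwich (P χ)) ≤ S := by
    rintro _ ⟨T, rfl⟩
    rw [LinearMap.sum_apply]
    apply Submodule.sum_mem
    intro χ _
    exact hS χ T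
  calc ∑ χ, finrank F (LinearMap.range (P χ)) ^ 2
      ≤ ∑ χ, finrank F (LinearMap.range (sandwich (P χ))) :=
        Finset.sum_le_sum (fun χ _ => sq_le_finrank_range_sandwich (P χ) (hidem χ))
    _ = finrank F (LinearMap.range (∑ χ, sandwich (P χ))) := h1.symm
    _ ≤ finrank F S := Submodule.finrank_mono h2

end Orth

end Cfsg.Agent.Helper8.HHLin
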