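import Mathlib
import Cfsg.Agent.Lib.Helper8.HHLin1

/-!
# Weight projections of an abelian section (helper8 library)

`wproj ρ M N χ` is the projection of `V^N` onto the `χ`-weight space of the abelian section `M / N`.
-/

set_option autoImplicit false
set_option linter.unusedSectionVars false

namespace Cfsg.Agent.Helper8.HHLin

open Module Cfsg.Agent.Helper8.FrobLin

section WProj

variable {F : Type*} [Field F] [IsAlgClosed F] {G : Type*} [Group G] [Finite G]
  {V : Type*} [AddCommGroup V] [Module F V]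
  (ρ : Representation F G V) (M N : Subgroup G) [M.Normal] [N.Normal]

attribute [local instance] dualAct

/-- the weight projection -/
noncomputable def wproj [Fintype ↥M] (χ : (↥M ⧸ N.subgroupOf M) →* Fˣ) : V →ₗ[F] V :=
  ((Fintype.card ↥M : F))⁻¹ • upr ρ M N χ

theorem wproj_apply [Fintype ↥M] (χ : (↥M ⧸ N.subgroupOf M) →* Fˣ) (v : V) :
    wproj ρ M N χ v = ((Fintype.card ↥M : F))⁻¹ • upr ρ M N χ v := rfl

theorem card_ne_zero [Fintype ↥M] (hchar : (Nat.card ↥M : F) ≠ 0) : (Fintype.card ↥M : F) ≠ 0 := by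
  rwa [← Nat.card_eq_fintype_card]

open scoped Classical in
theorem wproj_orth [Fintype ↥M] (hchar : (Nat.card ↥M : F) ≠ 0)
    (χ χ' : (↥M ⧸ N.subgroupOf M) →* Fˣ) (v : V) :
    wproj ρ M N χ (wproj ρ M N χ' v) = if χ = χ' then wproj ρ M N χ v else 0 := by
  have hk0 := card_ne_zero M hchar
  rw [wproj_apply, wproj_apply, map_smul, upr_upr]
  by_cases h : χ = χ'
  · rw [if_pos h, if_pos h, wproj_apply, h, smul_smul, smul_smul]
    congr 1
    field_simp
  · rw [if_neg h, if_neg h, smul_zero, smul_zero]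

theorem wproj_equi [Fintype ↥M] (g : G) (χ : (↥M ⧸ N.subgroupOf M) →* Fˣ) (v : V) :
    ρ g (wproj ρ M N χ v) = wproj ρ M N (g • χ) (ρ g v) := by
  rw [wproj_apply, wproj_apply, map_smul, rho_upr_equi]

theorem wproj_act [Fintype ↥M] (χ : (↥M ⧸ N.subgroupOf M) →* Fˣ) (m : ↥M) (v : V) :
    ρ (m : G) (wproj ρ M N χ v) = ((χ (QuotientGroup.mk m) : Fˣ) : F) • wproj ρ M N χ v := by
  rw [wproj_apply, map_smul, rho_upr, smul_comm]

theorem wproj_of_eigen [Fintype ↥M] (hchar : (Nat.card ↥M : F) ≠ 0)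
    (χ : (↥M ⧸ N.subgroupOf M) →* Fˣ) (v : V)
    (hv : ∀ m : ↥M, ρ (m : G) v = ((χ (QuotientGroup.mk m) : Fˣ) : F) • v) :
    wproj ρ M N χ v = v := by
  have hk0 := card_ne_zero M hchar
  rw [wproj_apply, upr_apply]
  have h1 : ∀ m : ↥M, coef M N χ m • ρ (m : G) v = v := by
    intro m
    rw [hv m, smul_smul]
    unfold coef
    rw [← Units.val_mul, inv_mul_cancel, Units.val_one, one_smul]
  rw [Finset.sum_congr rfl (fun m _ => h1 m), Finset.sum_const, Finset.card_univ,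
    ← Nat.cast_smul_eq_nsmul F, smul_smul, inv_mul_cancel₀ hk0, one_smul]

theorem mem_range_wproj [Fintype ↥M] (hchar : (Nat.card ↥M : F) ≠ 0)
    (χ : (↥M ⧸ N.subgroupOf M) →* Fˣ) (v : V) :
    v ∈ LinearMap.range (wproj ρ M N χ) ↔
      ∀ m : ↥M, ρ (m : G) v = ((χ (QuotientGroup.mk m) : Fˣ) : F) • v := by
  constructor
  · rintro ⟨u, rfl⟩ m
    exact wproj_act ρ M N χ m u
  · intro hv
    exact ⟨v, wproj_of_eigen ρ M N hchar χ v hv⟩

theorem range_wproj_one [Fintype ↥M] (hchar : (Nat.card ↥M : F) ≠ 0) :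
    LinearMap.range (wproj ρ M N (1 : (↥M ⧸ N.subgroupOf M) →* Fˣ)) = fixedBy ρ M := by
  ext v
  rw [mem_range_wproj ρ M N hchar, mem_fixedBy]
  constructor
  · intro h m hm
    have := h ⟨m, hm⟩
    rw [MonoidHom.one_apply, Units.val_one, one_smul] at this
    exact this
  · intro h m
    rw [MonoidHom.one_apply, Units.val_one, one_smul]
    exact h m m.2

theorem range_sum_wproj [Fintype ↥M] [Fintype ((↥M ⧸ N.subgroupOf M) →* Fˣ)] (hNM : N ≤ M)
    (hcomm : ∀ a ∈ M, ∀ b ∈ M, a * b * a⁻¹ * b⁻¹ ∈ N) (hchar : (Nat.card ↥M : F) ≠ 0) :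
    LinearMap.range (∑ χ : (↥M ⧸ N.subgroupOf M) →* Fˣ, wproj ρ M N χ) = fixedBy ρ N := by
  have hk0 := card_ne_zero M hchar
  apply le_antisymm
  · rintro _ ⟨v, rfl⟩
    rw [LinearMap.sum_apply]
    apply Submodule.sum_mem
    intro χ _
    rw [wproj_apply]
    exact Submodule.smul_mem _ _ (upr_mem_fixedBy ρ M N hNM χ v)
  · intro v hv
    refine ⟨v, ?_⟩
    rw [LinearMap.sum_apply]
    rw [Finset.sum_congr rfl (fun χ _ => wproj_apply ρ M N χ v), ← Finset.smul_sum,
      sum_upr_of_fixed ρ M N hNM hcomm hchar hv, smul_smul, inv_mul_cancel₀ hk0, one_smul]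

end WProj

end Cfsg.Agent.Helper8.HHLin
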