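import Mathlib
import Cfsg.Agent.Lib.Helper8.HHLin2

/-!
# The commutant of an abelian group without fixed vectors (helper8 library)

`abelian_commutant_bound`: if the abelian group `E` has no non-zero fixed vector on `V` then
`(dim V)² ≤ (|E| - 1) dim End_E(V)`.
-/

set_option autoImplicit false
set_option linter.unusedSectionVars false

namespace Cfsg.Agent.Helper8.HHLin

open Module Cfsg.Agent.Helper8.FrobLin

section Smul

variable {G : Type*} [Group G] {F : Type*} [Field F] (M N : Subgroup G) [M.Normal] [N.Normal]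

attribute [local instance] dualAct

theorem smul_eq_of_comm {g : G} (hg : ∀ m ∈ M, g * m = m * g)
    (χ : (↥M ⧸ N.subgroupOf M) →* Fˣ) : g • χ = χ := by
  apply MonoidHom.ext
  intro a
  show χ (kap M N g⁻¹ a) = χ a
  congr 1
  induction a using QuotientGroup.induction_on with
  | H m =>
    rw [kap_mk]
    congr 1
    apply Subtype.ext
    rw [MulAut.conjNormal_apply, inv_inv]
    have := hg m m.2
    calc g⁻¹ * (m : G) * g = g⁻¹ * ((m : G) * g) := by group
      _ = g⁻¹ * (g * (m : G)) := by rw [this]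
      _ = (m : G) := by group

end Smul

section Bound

variable {F : Type*} [Field F] [IsAlgClosed F] {G : Type*} [Group G] [Finite G]
  {V : Type*} [AddCommGroup V] [Module F V] [FiniteDimensional F V]
  (ρ : Representation F G V)

attribute [local instance] dualAct

theorem abelian_commutant_bound (E : Subgroup G)
    (hab : ∀ a ∈ E, ∀ b ∈ E, a * b = b * a) (hchar : (Nat.card ↥E : F) ≠ 0)
    (hfix : fixedBy ρ E = ⊥) :
    finrank F V ^ 2 ≤
      (Nat.card ↥E - 1) * finrank F (fixedBy (Representation.linHom ρ ρ) E) := by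
  classical
  set ρ' : Representation F ↥E V := ρ.comp E.subtype with hρ'
  set M : Subgroup ↥E := ⊤ with hM
  set N : Subgroup ↥E := ⊥ with hN
  letI : Fintype ↥M := Fintype.ofFinite _
  letI : Fintype ((↥M ⧸ N.subgroupOf M) →* Fˣ) := Fintype.ofFinite _
  have hcardM : Nat.card ↥M = Nat.card ↥E := by rw [hM, Subgroup.card_top]
  have hcharM : (Nat.card ↥M : F) ≠ 0 := by rw [hcardM]; exact hchar
  have hNM : N ≤ M := bot_le
  have hcommE : ∀ a b : ↥E, a * b = b * a := by
    intro a b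
    apply Subtype.ext
    exact hab a a.2 b b.2
  have hcomm : ∀ a ∈ M, ∀ b ∈ M, a * b * a⁻¹ * b⁻¹ ∈ N := by
    intro a _ b _
    rw [hN, Subgroup.mem_bot, hcommE a b]
    group
  set P : ((↥M ⧸ N.subgroupOf M) →* Fˣ) → (V →ₗ[F] V) := fun χ => wproj ρ' M N χ with hP
  have horth : ∀ χ χ' : (↥M ⧸ N.subgroupOf M) →* Fˣ, ∀ v : V,
      P χ (P χ' v) = if χ = χ' then P χ v else 0 := fun χ χ' v => wproj_orth ρ' M N hcharM χ χ' v
  -- the projections commute with `E`
  have hPcomm : ∀ (χ : (↥M ⧸ N.subgroupOf M) →* Fˣ) (x : ↥E) (v : V),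
      P χ (ρ (x : G) v) = ρ (x : G) (P χ v) := by
    intro χ x v
    have h1 := wproj_equi ρ' M N x χ v
    rw [smul_eq_of_comm M N (fun m _ => hcommE x m) χ] at h1
    exact h1.symm
  have hPact : ∀ (χ : (↥M ⧸ N.subgroupOf M) →* Fˣ) (x : ↥E) (v : V),
      ρ (x : G) (P χ v) = ((χ (QuotientGroup.mk (⟨x, Subgroup.mem_top x⟩ : ↥M)) : Fˣ) : F) • P χ v :=
    fun χ x v => wproj_act ρ' M N χ ⟨x, Subgroup.mem_top x⟩ v
  set S : Submodule F (V →ₗ[F] V) := fixedBy (Representation.linHom ρ ρ) E with hS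
  have hSmem : ∀ χ T, P χ ∘ₗ T ∘ₗ P χ ∈ S := by
    intro χ T
    rw [hS, mem_fixedBy]
    intro x hx
    rw [Representation.linHom_apply]
    apply LinearMap.ext
    intro v
    show ρ x (P χ (T (P χ (ρ x⁻¹ v)))) = P χ (T (P χ v))
    have h1 := hPcomm χ ⟨x⁻¹, E.inv_mem hx⟩ v
    have h2 := hPact χ ⟨x⁻¹, E.inv_mem hx⟩ v
    have h3 := hPact χ ⟨x, hx⟩ (T (P χ v))
    simp only at h1 h2 h3
    rw [h1, h2, map_smul, map_smul, map_smul, h3, smul_smul, ← Units.val_mul, ← map_mul,
      ← QuotientGroup.mk_mul]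
    have h4 : (⟨⟨x⁻¹, E.inv_mem hx⟩, Subgroup.mem_top _⟩ : ↥M) * ⟨⟨x, hx⟩, Subgroup.mem_top _⟩ = 1 := by
      apply Subtype.ext
      apply Subtype.ext
      show x⁻¹ * x = 1
      exact inv_mul_cancel x
    rw [h4, QuotientGroup.mk_one, map_one, Units.val_one, one_smul]
  have h1 := sum_sq_le_finrank_of_idem P horth S hSmem
  have h2 := finrank_range_sum_of_orth P horth
  have hrS : LinearMap.range (∑ χ, P χ) = ⊤ := by
    rw [range_sum_wproj ρ' M N hNM hcomm hcharM, eq_top_iff]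
    intro v _
    rw [mem_fixedBy]
    intro x hx
    rw [hN, Subgroup.mem_bot] at hx
    rw [hx, map_one]; rfl
  rw [hrS, finrank_top] at h2
  have ha1 : finrank F (LinearMap.range (P 1)) = 0 := by
    have : LinearMap.range (P 1) = ⊥ := by
      rw [hP]
      show LinearMap.range (wproj ρ' M N 1) = ⊥
      rw [range_wproj_one ρ' M N hcharM, eq_bot_iff, ← hfix]
      intro v hv
      rw [mem_fixedBy] at hv ⊢
      intro x hx
      exact hv ⟨x, hx⟩ (Subgroup.mem_top _)
    rw [this, finrank_bot]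
  have hcard : Fintype.card ((↥M ⧸ N.subgroupOf M) →* Fˣ) = Nat.card ↥E := by
    have := card_dual (F := F) M N hcomm hNM hcharM
    have hNc : Nat.card ↥N = 1 := by rw [hN, Subgroup.card_bot]
    rw [hNc, mul_one, hcardM, Nat.card_eq_fintype_card] at this
    exact this
  set a : ((↥M ⧸ N.subgroupOf M) →* Fˣ) → ℕ := fun χ => finrank F (LinearMap.range (P χ)) with ha
  have hsum : ∑ χ ∈ Finset.univ.erase (1 : (↥M ⧸ N.subgroupOf M) →* Fˣ), a χ = finrank F V := by
    rw [h2, ← Finset.add_sum_erase Finset.univ a (Finset.mem_univ 1)]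
    show _ = finrank F (LinearMap.range (P 1)) + _
    rw [ha1, zero_add]
  have hCS := sq_sum_le_card_mul_sum_sq (s := Finset.univ.erase (1 : (↥M ⧸ N.subgroupOf M) →* Fˣ))
    (f := a)
  rw [hsum, Finset.card_erase_of_mem (Finset.mem_univ _), Finset.card_univ, hcard] at hCS
  have hle : ∑ χ ∈ Finset.univ.erase (1 : (↥M ⧸ N.subgroupOf M) →* Fˣ), a χ ^ 2 ≤
      ∑ χ, a χ ^ 2 :=
    Finset.sum_le_sum_of_subset (Finset.erase_subset _ _)
  calc finrank F V ^ 2 ≤ (Nat.card ↥E - 1) *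
        ∑ χ ∈ Finset.univ.erase (1 : (↥M ⧸ N.subgroupOf M) →* Fˣ), a χ ^ 2 := hCS
    _ ≤ (Nat.card ↥E - 1) * finrank F S := Nat.mul_le_mul_left _ (hle.trans h1)

end Bound

end Cfsg.Agent.Helper8.HHLin
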