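import Mathlib
import Cfsg.Agent.Lib.Helper8.HHLin3

/-!
# The Hall–Higman type bound (helper8 library)

`hh_bound`: let `M / N` be a section of `G` such that `N` acts on `V` by scalars, the commutator
pairing of `M / N` (with values in the scalars) is non-degenerate, and let the abelian group `E`
act on `M / N` without fixed points and on `V` without fixed vectors.  Then
`|M / N| ≤ (|E| - 1)²`.
-/

set_option autoImplicit false
set_option linter.unusedSectionVars false

namespace Cfsg.Agent.Helper8.HHLin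

open Module Cfsg.Agent.Helper8.FrobLin

section Arith

theorem hh_arith (n2 r c e2 D m z : ℕ) (hr : 1 ≤ r) (hcore : n2 + r * c = e2 + r * D)
    (hc : c ≤ e2) (hD : n2 ≤ (r - 1) * D) (hm : m * e2 ≤ z * n2) (he : 1 ≤ e2) :
    m ≤ (r - 1) ^ 2 * z := by
  obtain ⟨s, rfl⟩ : ∃ s, r = s + 1 := ⟨r - 1, by omega⟩
  simp only [Nat.add_sub_cancel] at hD ⊢
  have h1 : (s + 1) * D ≤ n2 + s * e2 := by nlinarith
  have h2 : n2 ≤ s ^ 2 * e2 := by nlinarith
  have h3 : m * e2 ≤ (s ^ 2 * z) * e2 := by nlinarith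
  exact Nat.le_of_mul_le_mul_right h3 he

end Arith

section Kappa

variable {F : Type*} [Field F] {G : Type*} [Group G]
  {V : Type*} [AddCommGroup V] [Module F V] [FiniteDimensional F V]
  (ρ : Representation F G V)

theorem smul_cancel_rho (hV : 0 < finrank F V) (g : G) {c c' : F} (h : c • ρ g = c' • ρ g) :
    c = c' := by
  haveI : Nontrivial V := Module.finrank_pos_iff.mp hV
  obtain ⟨v, hv⟩ := exists_ne (0 : V)
  have h1 := LinearMap.congr_fun h (ρ g⁻¹ v)
  rw [LinearMap.smul_apply, LinearMap.smul_apply] at h1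
  have h2 : ρ g (ρ g⁻¹ v) = v := by
    have := rho_inv_rho ρ g⁻¹ v
    rwa [inv_inv] at this
  rw [h2] at h1
  have h3 : (c - c') • v = 0 := by rw [sub_smul, h1, sub_self]
  rcases smul_eq_zero.mp h3 with h4 | h4
  · exact sub_eq_zero.mp h4
  · exact absurd h4 hv

end Kappa

section Pairing

variable {F : Type*} [Field F] {G : Type*} [Group G]
  {V : Type*} [AddCommGroup V] [Module F V] [FiniteDimensional F V]
  (ρ : Representation F G V) (M N : Subgroup G) [M.Normal] [N.Normal]
  (hcomm : ∀ a ∈ M, ∀ b ∈ M, a * b * a⁻¹ * b⁻¹ ∈ N)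
  (lam : ↥N →* Fˣ) (hlam : ∀ (z : ↥N) (v : V), ρ (z : G) v = ((lam z : Fˣ) : F) • v)
  (hV : 0 < finrank F V)

/-- the commutator scalar -/
def kp (y g : ↥M) : Fˣ :=
  lam ⟨(y : G) * g * (y : G)⁻¹ * (g : G)⁻¹, hcomm y y.2 g g.2⟩

include hlam in
theorem rho_scalar (z : ↥N) : ρ (z : G) = ((lam z : Fˣ) : F) • (1 : V →ₗ[F] V) := by
  apply LinearMap.ext
  intro v
  rw [hlam z v]; rfl

include hlam in
theorem rho_conj (y g : ↥M) :
    ρ ((y : G) * g * (y : G)⁻¹) = ((kp M N hcomm lam y g : Fˣ) : F) • ρ (g : G) := by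
  have h1 : (y : G) * g * (y : G)⁻¹ = ((y : G) * g * (y : G)⁻¹ * (g : G)⁻¹) * g := by group
  rw [h1, map_mul]
  have h2 := rho_scalar ρ N lam hlam ⟨(y : G) * g * (y : G)⁻¹ * (g : G)⁻¹, hcomm y y.2 g g.2⟩
  simp only at h2
  rw [h2, smul_mul_assoc, one_mul]
  rfl

include hlam hV in
theorem kp_mul_left (y y' g : ↥M) :
    kp M N hcomm lam (y * y') g = kp M N hcomm lam y g * kp M N hcomm lam y' g := by
  apply Units.ext
  apply smul_cancel_rho ρ hV (g : G)
  rw [← rho_conj ρ M N hcomm lam hlam (y * y') g]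
  have h1 : ((y * y' : ↥M) : G) * g * ((y * y' : ↥M) : G)⁻¹ =
      (y : G) * ((y' : G) * g * (y' : G)⁻¹) * (y : G)⁻¹ := by
    push_cast; group
  rw [h1, map_mul, map_mul, rho_conj ρ M N hcomm lam hlam y' g, mul_smul_comm, smul_mul_assoc,
    ← map_mul, ← map_mul, rho_conj ρ M N hcomm lam hlam y g, smul_smul, Units.val_mul, mul_comm]

include hlam hV in
theorem kp_one_left (g : ↥M) : kp M N hcomm lam 1 g = 1 := by
  apply Units.ext
  apply smul_cancel_rho ρ hV (g : G)
  rw [← rho_conj ρ M N hcomm lam hlam 1 g]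
  simp

include hlam hV in
theorem kp_mul_right (y g g' : ↥M) :
    kp M N hcomm lam y (g * g') = kp M N hcomm lam y g * kp M N hcomm lam y g' := by
  apply Units.ext
  apply smul_cancel_rho ρ hV ((g * g' : ↥M) : G)
  rw [← rho_conj ρ M N hcomm lam hlam y (g * g')]
  have h1 : (y : G) * ((g * g' : ↥M) : G) * (y : G)⁻¹ =
      ((y : G) * g * (y : G)⁻¹) * ((y : G) * g' * (y : G)⁻¹) := by
    push_cast; group
  rw [h1, map_mul, rho_conj ρ M N hcomm lam hlam y g, rho_conj ρ M N hcomm lam hlam y g',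
    smul_mul_assoc, mul_smul_comm, smul_smul, ← map_mul, Units.val_mul]
  rfl

include hlam hV in
theorem kp_of_mem (y g : ↥M) (hy : (y : G) ∈ N) : kp M N hcomm lam y g = 1 := by
  apply Units.ext
  apply smul_cancel_rho ρ hV (g : G)
  rw [← rho_conj ρ M N hcomm lam hlam y g, map_mul, map_mul]
  have h2 := rho_scalar ρ N lam hlam ⟨(y : G), hy⟩
  have h3 := rho_scalar ρ N lam hlam ⟨(y : G)⁻¹, N.inv_mem hy⟩
  simp only at h2 h3
  have h4 : lam ⟨(y : G)⁻¹, N.inv_mem hy⟩ = (lam ⟨(y : G), hy⟩)⁻¹ := by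
    rw [← map_inv]; rfl
  rw [h2, h3, h4, smul_mul_assoc, one_mul, mul_smul_comm, mul_one, smul_smul, ← Units.val_mul,
    inv_mul_cancel, Units.val_one]

/-- the character `y ↦ λ([y, g])` of `M` -/
def fchar (g : ↥M) : ↥M →* Fˣ where
  toFun y := kp M N hcomm lam y g
  map_one' := kp_one_left ρ M N hcomm lam hlam hV g
  map_mul' y y' := kp_mul_left ρ M N hcomm lam hlam hV y y' g

/-- the character `y ↦ λ([y, g])` of `M / N` -/
def qchar (g : ↥M) : (↥M ⧸ N.subgroupOf M) →* Fˣ :=
  QuotientGroup.lift (N.subgroupOf M) (fchar ρ M N hcomm lam hlam hV g) (by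
    intro y hy
    rw [Subgroup.mem_subgroupOf] at hy
    exact kp_of_mem ρ M N hcomm lam hlam hV y g hy)

theorem qchar_mk (g y : ↥M) :
    qchar ρ M N hcomm lam hlam hV g (QuotientGroup.mk y) = kp M N hcomm lam y g := rfl

/-- `g ↦ λ([·, g])` as a homomorphism to the dual of `M / N` -/
def qcharHom : ↥M →* ((↥M ⧸ N.subgroupOf M) →* Fˣ) where
  toFun g := qchar ρ M N hcomm lam hlam hV g
  map_one' := by
    apply MonoidHom.ext
    intro a
    induction a using QuotientGroup.induction_on with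
    | H y =>
      rw [qchar_mk, MonoidHom.one_apply]
      have h1 := kp_mul_right ρ M N hcomm lam hlam hV y 1 1
      rw [mul_one] at h1
      exact (mul_eq_left.mp h1.symm)
  map_mul' g g' := by
    apply MonoidHom.ext
    intro a
    induction a using QuotientGroup.induction_on with
    | H y =>
      rw [MonoidHom.mul_apply, qchar_mk, qchar_mk, qchar_mk]
      exact kp_mul_right ρ M N hcomm lam hlam hV y g g'

theorem qcharHom_apply (g : ↥M) :
    qcharHom ρ M N hcomm lam hlam hV g = qchar ρ M N hcomm lam hlam hV g := rfl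

end Pairing

end Cfsg.Agent.Helper8.HHLin
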