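import Mathlib
import Cfsg.Agent.Lib.Helper8.HHLin5

/-!
# Alternating bicharacters have square index radical (helper8 library)

`alt_square`: if `κ : M →* (M →* Kˣ)` is an alternating bicharacter of the finite group `M` with
radical `N`, then `|M| = s² |N|` for some `s`.
-/

set_option autoImplicit false
set_option linter.unusedSectionVars false

namespace Cfsg.Agent.Helper8.HHLin

section Dual

variable {K : Type*} [Field K] [IsAlgClosed K]

/-- the dual of a finite group in which all elements commute has the same order -/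
theorem card_hom_units_of_comm (C : Type*) [Group C] [Finite C] (hc : ∀ a b : C, a * b = b * a)
    (hchar : (Nat.card C : K) ≠ 0) : Nat.card (C →* Kˣ) = Nat.card C := by
  let _ : CommGroup C := { (inferInstance : Group C) with mul_comm := hc }
  have hne : NeZero ((Monoid.exponent C : ℕ) : K) := by
    constructor
    intro h0
    apply hchar
    obtain ⟨k, hk⟩ := Group.exponent_dvd_nat_card (G := C)
    rw [hk]; push_cast; rw [h0, zero_mul]
  exact CommGroup.card_monoidHom_of_hasEnoughRootsOfUnity C K

/-- the right kernel of a pairing -/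
def rightKer {A B : Type*} [Group A] [Group B] (β : A →* (B →* Kˣ)) : Subgroup B where
  carrier := {b | ∀ a, β a b = 1}
  one_mem' := fun a => map_one _
  mul_mem' := by
    intro b c hb hc a
    rw [map_mul, hb a, hc a, one_mul]
  inv_mem' := by
    intro b hb a
    rw [map_inv, hb a, inv_one]

theorem mem_rightKer {A B : Type*} [Group A] [Group B] (β : A →* (B →* Kˣ)) (b : B) :
    b ∈ rightKer β ↔ ∀ a, β a b = 1 := Iff.rfl

instance rightKer_normal {A B : Type*} [Group A] [Group B] (β : A →* (B →* Kˣ)) :
    (rightKer β).Normal := by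
  constructor
  intro b hb c a
  rw [map_mul, map_mul, hb a, mul_one, map_inv, mul_inv_cancel]

/-- **Duality bound**: `|A / ker β| ≤ |B / rightKer β|`. -/
theorem card_mul_le_of_pairing {A B : Type*} [Group A] [Group B] [Finite A] [Finite B]
    (β : A →* (B →* Kˣ)) (hchar : (Nat.card B : K) ≠ 0) :
    Nat.card A * Nat.card ↥(rightKer β) ≤ Nat.card ↥β.ker * Nat.card B := by
  classical
  set B₀ := rightKer β with hB₀
  have hcomm : ∀ x y : B ⧸ B₀, x * y = y * x := by
    intro x y
    induction x using QuotientGroup.induction_on with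
    | H b =>
      induction y using QuotientGroup.induction_on with
      | H c =>
        rw [← QuotientGroup.mk_mul, ← QuotientGroup.mk_mul, QuotientGroup.eq]
        intro a
        rw [map_mul, map_inv, map_mul, map_mul, mul_inv_rev]
        rw [mul_comm ((β a) c) ((β a) b)]
        group
  have hcharQ : (Nat.card (B ⧸ B₀) : K) ≠ 0 := by
    intro h0
    apply hchar
    rw [Subgroup.card_eq_card_quotient_mul_card_subgroup B₀]
    push_cast
    rw [h0, zero_mul]
  have h1 : Nat.card ((B ⧸ B₀) →* Kˣ) = Nat.card (B ⧸ B₀) :=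
    card_hom_units_of_comm (B ⧸ B₀) hcomm hcharQ
  -- the range of `β` embeds in the dual of `B / B₀`
  let ι : ↥β.range → ((B ⧸ B₀) →* Kˣ) := fun f =>
    QuotientGroup.lift B₀ (f : B →* Kˣ) (by
      intro b hb
      obtain ⟨a, ha⟩ := f.2
      rw [MonoidHom.mem_ker, ← ha]
      exact hb a)
  have hι : Function.Injective ι := by
    intro f g hfg
    apply Subtype.ext
    apply MonoidHom.ext
    intro b
    have := DFunLike.congr_fun hfg (QuotientGroup.mk b)
    exact this
  haveI : Finite ((B ⧸ B₀) →* Kˣ) := Nat.finite_of_card_ne_zero (by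
    rw [h1]; exact Nat.card_pos.ne')
  have h2 : Nat.card ↥β.range ≤ Nat.card (B ⧸ B₀) := by
    rw [← h1]
    exact Nat.card_le_card_of_injective ι hι
  have h3 : Nat.card A = Nat.card ↥β.range * Nat.card ↥β.ker := by
    rw [Subgroup.card_eq_card_quotient_mul_card_subgroup β.ker,
      Nat.card_congr (QuotientGroup.quotientKerEquivRange β).toEquiv]
  have h4 : Nat.card B = Nat.card (B ⧸ B₀) * Nat.card ↥B₀ :=
    Subgroup.card_eq_card_quotient_mul_card_subgroup B₀
  calc Nat.card A * Nat.card ↥B₀ = Nat.card ↥β.ker * (Nat.card ↥β.range * Nat.card ↥B₀) := by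
        rw [h3]; ring
    _ ≤ Nat.card ↥β.ker * (Nat.card (B ⧸ B₀) * Nat.card ↥B₀) :=
        Nat.mul_le_mul_left _ (Nat.mul_le_mul_right _ h2)
    _ = Nat.card ↥β.ker * Nat.card B := by rw [← h4]

end Dual

section Alt

variable {K : Type*} [Field K] [IsAlgClosed K] {M : Type*} [Group M] [Finite M]
  (κ : M →* (M →* Kˣ))

theorem skew_of_alt (halt : ∀ a, κ a a = 1) (a b : M) : κ a b * κ b a = 1 := by
  have h := halt (a * b)
  have e : κ (a * b) (a * b) = κ a a * κ a b * (κ b a * κ b b) := by
    rw [map_mul κ a b, MonoidHom.mul_apply, map_mul, map_mul]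
  rw [e, halt a, halt b, one_mul, mul_one] at h
  exact h

theorem eq_one_symm (halt : ∀ a, κ a a = 1) {a b : M} (h : κ a b = 1) : κ b a = 1 := by
  have := skew_of_alt κ halt a b
  rw [h, one_mul] at this
  exact this

/-- the orthogonal subgroup -/
def perp (L : Subgroup M) : Subgroup M where
  carrier := {a | ∀ l ∈ L, κ a l = 1}
  one_mem' := by
    intro l _
    rw [map_one]; rfl
  mul_mem' := by
    intro a b ha hb l hl
    rw [map_mul, MonoidHom.mul_apply, ha l hl, hb l hl, one_mul]
  inv_mem' := by
    intro a ha l hl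
    rw [map_inv, MonoidHom.inv_apply, ha l hl, inv_one]

theorem mem_perp (L : Subgroup M) (a : M) : a ∈ perp κ L ↔ ∀ l ∈ L, κ a l = 1 := Iff.rfl

/-- the subgroup of elements pairing trivially with `b` -/
def annih (b : M) : Subgroup M where
  carrier := {a | κ a b = 1}
  one_mem' := by
    show κ 1 b = 1
    rw [map_one]; rfl
  mul_mem' := by
    intro a a' ha ha'
    show κ (a * a') b = 1
    rw [map_mul, MonoidHom.mul_apply, ha, ha', one_mul]
  inv_mem' := by
    intro a ha
    show κ a⁻¹ b = 1
    rw [map_inv, MonoidHom.inv_apply, ha, inv_one]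

/-- **Alternating bicharacters have a radical of square index.** -/
theorem alt_square (halt : ∀ a, κ a a = 1) (hchar : (Nat.card M : K) ≠ 0) :
    ∃ s : ℕ, Nat.card M = s ^ 2 * Nat.card ↥κ.ker := by
  classical
  set N : Subgroup M := κ.ker with hN
  have hNperp : ∀ L : Subgroup M, N ≤ perp κ L := by
    intro L a ha l _
    rw [hN, MonoidHom.mem_ker] at ha
    rw [ha]; rfl
  -- a maximal isotropic subgroup
  let S : Set (Subgroup M) := {L | N ≤ L ∧ L ≤ perp κ L}
  have hSne : S.Nonempty := ⟨N, le_refl N, hNperp N⟩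
  obtain ⟨L, hLS, hLmax⟩ := Set.exists_max_image S (fun L => Nat.card ↥L) (Set.toFinite S) hSne
  obtain ⟨hNL, hLiso⟩ := hLS
  have hperp : perp κ L = L := by
    apply le_antisymm _ hLiso
    intro g hg
    set L' : Subgroup M := L ⊔ Subgroup.zpowers g with hL'
    have h1 : L' ≤ perp κ L := sup_le hLiso (Subgroup.zpowers_le.mpr hg)
    have h2 : L' ≤ annih κ g := by
      apply sup_le
      · intro l hl
        exact eq_one_symm κ halt (hg l hl)
      · rw [Subgroup.zpowers_le]
        exact halt g
    have h3 : L' ≤ perp κ L' := by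
      intro a ha
      have h4 : L' ≤ (perp κ (Subgroup.zpowers a)) := by
        apply sup_le
        · intro l hl b hb
          obtain ⟨k, rfl⟩ := Subgroup.mem_zpowers_iff.mp hb
          rw [map_zpow]
          have : κ l a = 1 := eq_one_symm κ halt (h1 ha l hl)
          rw [this, one_zpow]
        · rw [Subgroup.zpowers_le]
          intro b hb
          obtain ⟨k, rfl⟩ := Subgroup.mem_zpowers_iff.mp hb
          rw [map_zpow]
          have : κ g a = 1 := eq_one_symm κ halt (h2 ha)
          rw [this, one_zpow]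
      intro b hb
      exact eq_one_symm κ halt (h4 hb a (Subgroup.mem_zpowers a))
    have hL'S : L' ∈ S := ⟨hNL.trans le_sup_left, h3⟩
    have hcard := hLmax L' hL'S
    have heq : L = L' := Subgroup.eq_of_le_of_card_ge le_sup_left hcard
    rw [heq]
    exact (le_sup_right : Subgroup.zpowers g ≤ L') (Subgroup.mem_zpowers g)
  have hcharL : (Nat.card ↥L : K) ≠ 0 := by
    intro h0
    apply hchar
    obtain ⟨k, hk⟩ := Subgroup.card_subgroup_dvd_card L
    rw [hk]; push_cast; rw [h0, zero_mul]
  -- first pairing: `M × L`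
  let β₁ : M →* (↥L →* Kˣ) :=
    { toFun := fun a => (κ a).comp L.subtype
      map_one' := by
        apply MonoidHom.ext
        intro l
        rw [MonoidHom.comp_apply, map_one]; rfl
      map_mul' := by
        intro a b
        apply MonoidHom.ext
        intro l
        rw [MonoidHom.comp_apply, map_mul]; rfl }
  have hker₁ : β₁.ker = L := by
    refine Eq.trans ?_ hperp
    ext a
    rw [MonoidHom.mem_ker, mem_perp]
    constructor
    · intro h l hl
      exact DFunLike.congr_fun h ⟨l, hl⟩
    · intro h
      apply MonoidHom.ext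
      intro l
      exact h l l.2
  have hrk₁ : rightKer β₁ = N.subgroupOf L := by
    ext l
    rw [mem_rightKer, Subgroup.mem_subgroupOf, hN, MonoidHom.mem_ker]
    constructor
    · intro h
      apply MonoidHom.ext
      intro a
      exact eq_one_symm κ halt (h a)
    · intro h a
      apply eq_one_symm κ halt
      show κ (l : M) a = 1
      rw [h]; rfl
  have hD1 := card_mul_le_of_pairing β₁ hcharL
  rw [hker₁, hrk₁, Nat.card_congr (Subgroup.subgroupOfEquivOfLe hNL).toEquiv] at hD1
  -- second pairing: `L × M`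
  let β₂ : ↥L →* (M →* Kˣ) := κ.comp L.subtype
  have hker₂ : β₂.ker = N.subgroupOf L := by
    ext l
    rw [MonoidHom.mem_ker, Subgroup.mem_subgroupOf, hN, MonoidHom.mem_ker]
    rfl
  have hrk₂ : rightKer β₂ = L := by
    refine Eq.trans ?_ hperp
    ext m
    rw [mem_rightKer, mem_perp]
    constructor
    · intro h l hl
      exact eq_one_symm κ halt (h ⟨l, hl⟩)
    · intro h l
      exact eq_one_symm κ halt (h l l.2)
  have hD2 := card_mul_le_of_pairing β₂ hchar
  rw [hker₂, hrk₂, Nat.card_congr (Subgroup.subgroupOfEquivOfLe hNL).toEquiv] at hD2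
  -- conclusion
  obtain ⟨s, hs⟩ := Subgroup.card_dvd_of_le hNL
  refine ⟨s, ?_⟩
  have hNpos : 0 < Nat.card ↥N := Nat.card_pos
  have heq : Nat.card M * Nat.card ↥N = Nat.card ↥L * Nat.card ↥L := by
    apply le_antisymm hD1
    calc Nat.card ↥L * Nat.card ↥L ≤ Nat.card ↥N * Nat.card M := hD2
      _ = Nat.card M * Nat.card ↥N := mul_comm _ _
  rw [hs] at heq
  have : Nat.card M * Nat.card ↥N = (s ^ 2 * Nat.card ↥N) * Nat.card ↥N := by
    rw [heq]; ring
  exact Nat.eq_of_mul_eq_mul_right hNpos this

end Alt

end Cfsg.Agent.Helper8.HHLin
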