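import Mathlib
import Cfsg.Agent.Lib.Helper8.HHLin7

/-!
# The section `M / N` of the Hall–Higman bound has square order (helper8 library)
-/

set_option autoImplicit false
set_option linter.unusedSectionVars false

namespace Cfsg.Agent.Helper8.HHLin

open Module Cfsg.Agent.Helper8.FrobLin

section Square

variable {F : Type*} [Field F] {G : Type*} [Group G]
  {V : Type*} [AddCommGroup V] [Module F V] [FiniteDimensional F V]
  (ρ : Representation F G V) (M N : Subgroup G) [M.Normal] [N.Normal]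
  (hcomm : ∀ a ∈ M, ∀ b ∈ M, a * b * a⁻¹ * b⁻¹ ∈ N)
  (lam : ↥N →* Fˣ) (hlam : ∀ (z : ↥N) (v : V), ρ (z : G) v = ((lam z : Fˣ) : F) • v)
  (hV : 0 < finrank F V)

include hlam hV in
theorem kp_self (g : ↥M) : kp M N hcomm lam g g = 1 := by
  apply Units.ext
  apply smul_cancel_rho ρ hV (g : G)
  rw [← rho_conj ρ M N hcomm lam hlam g g, mul_inv_cancel_right, Units.val_one, one_smul]

include hlam hV in
theorem kp_of_mem_right (y g : ↥M) (hg : (g : G) ∈ N) : kp M N hcomm lam y g = 1 := by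
  apply Units.ext
  apply smul_cancel_rho ρ hV (g : G)
  rw [← rho_conj ρ M N hcomm lam hlam y g, map_mul, map_mul]
  have h2 := rho_scalar ρ N lam hlam ⟨(g : G), hg⟩
  simp only at h2
  rw [h2, mul_smul_comm, mul_one, smul_mul_assoc, ← map_mul, mul_inv_cancel, map_one,
    Units.val_one, one_smul]

/-- the commutator bicharacter -/
def kpHom : ↥M →* (↥M →* Fˣ) where
  toFun g := fchar ρ M N hcomm lam hlam hV g
  map_one' := by
    apply MonoidHom.ext
    intro y
    show kp M N hcomm lam y 1 = 1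
    have h1 := kp_mul_right ρ M N hcomm lam hlam hV y 1 1
    rw [mul_one] at h1
    exact mul_eq_left.mp h1.symm
  map_mul' g g' := by
    apply MonoidHom.ext
    intro y
    exact kp_mul_right ρ M N hcomm lam hlam hV y g g'

theorem kpHom_apply (g y : ↥M) :
    kpHom ρ M N hcomm lam hlam hV g y = kp M N hcomm lam y g := rfl

theorem kpHom_ker (hnd : ∀ g ∈ M, (∀ y ∈ M, ρ (y * g * y⁻¹ * g⁻¹) = 1) → g ∈ N) :
    (kpHom ρ M N hcomm lam hlam hV).ker = N.subgroupOf M := by
  ext g
  rw [MonoidHom.mem_ker, Subgroup.mem_subgroupOf]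
  constructor
  · intro hg
    apply hnd (g : G) g.2
    intro y hy
    have h1 : kp M N hcomm lam ⟨y, hy⟩ g = 1 := by
      have := DFunLike.congr_fun hg (⟨y, hy⟩ : ↥M)
      exact this
    have h2 := rho_conj ρ M N hcomm lam hlam ⟨y, hy⟩ g
    rw [h1, Units.val_one, one_smul] at h2
    rw [map_mul, h2, ← map_mul, mul_inv_cancel, map_one]
  · intro hg
    apply MonoidHom.ext
    intro y
    exact kp_of_mem_right ρ M N hcomm lam hlam hV y g hg

include hcomm hlam hV in
theorem hh_square [IsAlgClosed F] [Finite G] (hNM : N ≤ M)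
    (hnd : ∀ g ∈ M, (∀ y ∈ M, ρ (y * g * y⁻¹ * g⁻¹) = 1) → g ∈ N)
    (hcharM : (Nat.card ↥M : F) ≠ 0) :
    ∃ s : ℕ, Nat.card ↥M = s ^ 2 * Nat.card ↥N := by
  obtain ⟨s, hs⟩ := alt_square (kpHom ρ M N hcomm lam hlam hV)
    (fun a => kp_self ρ M N hcomm lam hlam hV a) hcharM
  rw [kpHom_ker ρ M N hcomm lam hlam hV hnd,
    Nat.card_congr (Subgroup.subgroupOfEquivOfLe hNM).toEquiv] at hs
  exact ⟨s, hs⟩

end Square

end Cfsg.Agent.Helper8.HHLin
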