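import Mathlib
import Cfsg.Agent.Lib.Helper8.HHLin8

/-!
# The Hall–Higman type bound forces a Fermat prime (helper8 library)
-/

set_option autoImplicit false
set_option linter.unusedSectionVars false

namespace Cfsg.Agent.Helper8.HHLin

open Module Cfsg.Agent.Helper8.FrobLin

section Arith2

theorem fermat_arith {q r s a b : ℕ} (hq : q.Prime) (hr : r.Prime) (hqr : q ≠ r)
    (hs2 : 2 ≤ s) (hsr : s ≤ r - 1) (hdvd : r ∣ s ^ 2 - 1) (hpow : s ^ 2 * q ^ b = q ^ a) :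
    q = 2 ∧ ∃ n : ℕ, r = 2 ^ n + 1 := by
  have hr2 : 2 ≤ r := hr.two_le
  have h1 : s ^ 2 - 1 = (s - 1) * (s + 1) := by
    obtain ⟨t, rfl⟩ : ∃ t, s = t + 1 := ⟨s - 1, by omega⟩
    simp only [Nat.add_sub_cancel]
    have : (t + 1) ^ 2 = t * (t + 1 + 1) + 1 := by ring
    rw [this, Nat.add_sub_cancel]
  rw [h1] at hdvd
  have hs : s + 1 = r := by
    rcases (Nat.Prime.dvd_mul hr).mp hdvd with h | h
    · have := Nat.le_of_dvd (by omega) h
      omega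
    · have := Nat.le_of_dvd (by omega) h
      omega
  have hsq : s ∣ q ^ a := by
    rw [← hpow]
    exact Dvd.dvd.mul_right (Dvd.intro_left (s ^ 1) (by ring)) _
  obtain ⟨i, _, hi⟩ := (Nat.dvd_prime_pow hq).mp hsq
  have hi1 : 1 ≤ i := by
    rcases Nat.eq_zero_or_pos i with h0 | h0
    · rw [h0, pow_zero] at hi
      omega
    · exact h0
  have hq2 : q = 2 := by
    rcases hq.eq_two_or_odd' with h | h
    · exact h
    · exfalso
      have hodd : Odd (q ^ i) := h.pow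
      have hev : Even r := by
        rw [← hs, hi]
        exact hodd.add_one
      have hr2' : r = 2 := (Nat.Prime.even_iff hr).mp hev
      omega
  refine ⟨hq2, i, ?_⟩
  rw [← hs, hi, hq2]

end Arith2

section Fermat

variable {F : Type*} [Field F] [IsAlgClosed F] {G : Type*} [Group G] [Finite G]
  {V : Type*} [AddCommGroup V] [Module F V] [FiniteDimensional F V]
  (ρ : Representation F G V) (M N : Subgroup G) [M.Normal] [N.Normal]

attribute [local instance] dualAct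

/-- the order of `M / N` is congruent to one modulo the prime order of `E` -/
theorem card_dual_modEq (E : Subgroup G) {r : ℕ} [Fact r.Prime] (hEr : Nat.card ↥E = r)
    (hcomm : ∀ a ∈ M, ∀ b ∈ M, a * b * a⁻¹ * b⁻¹ ∈ N)
    (hfpf : ∀ e ∈ E, e ≠ 1 → ∀ m ∈ M, e * m * e⁻¹ * m⁻¹ ∈ N → m ∈ N) :
    Nat.card ((↥M ⧸ N.subgroupOf M) →* Fˣ) ≡ 1 [MOD r] := by
  classical
  have hEp : IsPGroup r ↥E := IsPGroup.of_card (n := 1) (by rw [hEr, pow_one])
  have h1 := hEp.card_modEq_card_fixedPoints ((↥M ⧸ N.subgroupOf M) →* Fˣ)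
  have h2 : Nat.card (MulAction.fixedPoints ↥E ((↥M ⧸ N.subgroupOf M) →* Fˣ)) = 1 := by
    rw [Nat.card_eq_one_iff_unique]
    have hne : ∃ e : ↥E, e ≠ 1 := by
      haveI : Nontrivial ↥E := by
        rw [← Finite.one_lt_card_iff_nontrivial, hEr]
        exact (Fact.out : r.Prime).one_lt
      exact exists_ne 1
    obtain ⟨e, he⟩ := hne
    refine ⟨⟨?_⟩, ⟨⟨1, ?_⟩⟩⟩
    · rintro ⟨χ, hχ⟩ ⟨χ', hχ'⟩
      apply Subtype.ext
      have key : ∀ ψ : (↥M ⧸ N.subgroupOf M) →* Fˣ,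
          ψ ∈ MulAction.fixedPoints ↥E ((↥M ⧸ N.subgroupOf M) →* Fˣ) → ψ = 1 := by
        intro ψ hψ
        by_contra hψ1
        have := free_dual M N E hcomm hfpf ψ hψ1 (e : G) e.2 (hψ e)
        exact he (Subtype.ext this)
      show χ = χ'
      rw [key χ hχ, key χ' hχ']
    · intro e'
      apply MonoidHom.ext
      intro a
      rfl
  rw [h2] at h1
  exact h1

/-- **The Hall–Higman bound forces `q = 2` and `r` a Fermat prime.** -/
theorem hh_fermat (E : Subgroup G) (hNM : N ≤ M)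
    (hcomm : ∀ a ∈ M, ∀ b ∈ M, a * b * a⁻¹ * b⁻¹ ∈ N)
    (lam : ↥N →* Fˣ) (hlam : ∀ (z : ↥N) (v : V), ρ (z : G) v = ((lam z : Fˣ) : F) • v)
    (hnd : ∀ g ∈ M, (∀ y ∈ M, ρ (y * g * y⁻¹ * g⁻¹) = 1) → g ∈ N)
    (hfpf : ∀ e ∈ E, e ≠ 1 → ∀ m ∈ M, e * m * e⁻¹ * m⁻¹ ∈ N → m ∈ N)
    (hab : ∀ a ∈ E, ∀ b ∈ E, a * b = b * a)
    (hcharM : (Nat.card ↥M : F) ≠ 0) (hcharE : (Nat.card ↥E : F) ≠ 0)
    (hfix : fixedBy ρ E = ⊥) (hV : 0 < finrank F V)
    {q r : ℕ} (hq : q.Prime) (hr : r.Prime) (hqr : q ≠ r)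
    (hMq : ∃ a, Nat.card ↥M = q ^ a) (hEr : Nat.card ↥E = r) (hne : N ≠ M) :
    q = 2 ∧ ∃ n : ℕ, r = 2 ^ n + 1 := by
  haveI : Fact r.Prime := ⟨hr⟩
  have hb := hh_bound ρ M N E hNM hcomm lam hlam hnd hfpf hab hcharM hcharE hfix hV
  obtain ⟨s, hs⟩ := hh_square ρ M N hcomm lam hlam hV hNM hnd hcharM
  rw [hEr] at hb
  have hNpos : 0 < Nat.card ↥N := Nat.card_pos
  have hsr : s ≤ r - 1 := by
    rw [hs] at hb
    have h2 : s ^ 2 ≤ (r - 1) ^ 2 := Nat.le_of_mul_le_mul_right hb hNpos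
    exact (Nat.pow_le_pow_iff_left (by norm_num)).mp h2
  have hs2 : 2 ≤ s := by
    by_contra hcon
    have hs1 : s ^ 2 ≤ 1 := by
      have : s ≤ 1 := by omega
      calc s ^ 2 ≤ 1 ^ 2 := Nat.pow_le_pow_left this 2
        _ = 1 := one_pow 2
    have hle : Nat.card ↥M ≤ Nat.card ↥N := by
      rw [hs]
      calc s ^ 2 * Nat.card ↥N ≤ 1 * Nat.card ↥N := Nat.mul_le_mul_right _ hs1
        _ = Nat.card ↥N := one_mul _
    exact hne (Subgroup.eq_of_le_of_card_ge hNM hle)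
  have hcd := card_dual (F := F) M N hcomm hNM hcharM
  have hdual : Nat.card ((↥M ⧸ N.subgroupOf M) →* Fˣ) = s ^ 2 := by
    rw [hs] at hcd
    exact Nat.eq_of_mul_eq_mul_right hNpos hcd
  have hmod := card_dual_modEq (F := F) M N E hEr hcomm hfpf
  rw [hdual] at hmod
  have hdvd : r ∣ s ^ 2 - 1 := by
    have h1 : 1 ≤ s ^ 2 := Nat.one_le_pow _ _ (by omega)
    exact (Nat.modEq_iff_dvd' h1).mp hmod.symm
  obtain ⟨a, ha⟩ := hMq
  have hNq : ∃ b, Nat.card ↥N = q ^ b := by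
    have h1 : Nat.card ↥N ∣ q ^ a := by
      rw [← ha]
      exact Subgroup.card_dvd_of_le hNM
    obtain ⟨b, _, hb'⟩ := (Nat.dvd_prime_pow hq).mp h1
    exact ⟨b, hb'⟩
  obtain ⟨b, hb'⟩ := hNq
  have hpow : s ^ 2 * q ^ b = q ^ a := by rw [← hb', ← hs, ha]
  exact fermat_arith hq hr hqr hs2 hsr hdvd hpow

end Fermat

end Cfsg.Agent.Helper8.HHLin
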