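import Mathlib
import Cfsg.Agent.Lib.Helper8.HHLin9

/-!
# Auxiliary lemmas for the Hall–Higman reduction (helper8 library)
-/

set_option autoImplicit false
set_option linter.unusedSectionVars false

namespace Cfsg.Agent.Helper8.HHLin

open Module Cfsg.Agent.Helper8.FrobLin

section GroupLemma

variable {H : Type*} [Group H]

/-- if `a` commutes with `c = [a, b]` and the orders of `a` and `c` are coprime then `c = 1` -/
theorem comm_eq_one_of_coprime (a b : H) {k m : ℕ}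
    (hac : a * (a * b * a⁻¹ * b⁻¹) = (a * b * a⁻¹ * b⁻¹) * a)
    (hak : a ^ k = 1) (hcm : (a * b * a⁻¹ * b⁻¹) ^ m = 1) (hcop : k.Coprime m) :
    a * b * a⁻¹ * b⁻¹ = 1 := by
  set c := a * b * a⁻¹ * b⁻¹ with hc
  have hpow : ∀ n : ℕ, a ^ n * b * (a ^ n)⁻¹ = c ^ n * b := by
    intro n
    induction n with
    | zero => simp
    | succ n ih =>
      have h1 : a ^ (n + 1) * b * (a ^ (n + 1))⁻¹ = a * (a ^ n * b * (a ^ n)⁻¹) * a⁻¹ := by
        rw [pow_succ']; group
      rw [h1, ih]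
      have h2 : a * (c ^ n * b) * a⁻¹ = (a * c ^ n * a⁻¹) * (a * b * a⁻¹ * b⁻¹) * b := by group
      rw [h2, ← hc]
      have h3 : a * c ^ n * a⁻¹ = c ^ n := by
        have : Commute a (c ^ n) := (show Commute a c from hac).pow_right n
        rw [this.eq]; group
      rw [h3, pow_succ]
  have h1 := hpow k
  rw [hak, one_mul, inv_one, mul_one] at h1
  have h2 : c ^ k = 1 := by
    have : c ^ k * b = 1 * b := by rw [one_mul]; exact h1.symm
    exact mul_right_cancel this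
  have h3 : orderOf c ∣ k := orderOf_dvd_of_pow_eq_one h2
  have h4 : orderOf c ∣ m := orderOf_dvd_of_pow_eq_one hcm
  have h5 : orderOf c = 1 := Nat.eq_one_of_dvd_coprimes hcop h3 h4
  exact orderOf_eq_one_iff.mp h5

end GroupLemma

section RhoComm

variable {F : Type*} [Field F] {G : Type*} [Group G]
  {V : Type*} [AddCommGroup V] [Module F V] (ρ : Representation F G V)

/-- the representation as a homomorphism to the units -/
noncomputable def rhoU : G →* (V →ₗ[F] V)ˣ := MonoidHom.toHomUnits ρ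

theorem rhoU_val (g : G) : ((rhoU ρ g : (V →ₗ[F] V)ˣ) : V →ₗ[F] V) = ρ g := rfl

theorem rho_comm_iff (a b : G) :
    ρ a * ρ b = ρ b * ρ a ↔ rhoU ρ a * rhoU ρ b = rhoU ρ b * rhoU ρ a := by
  constructor
  · intro h
    apply Units.ext
    exact h
  · intro h
    have := congrArg Units.val h
    exact this

theorem rho_comm_iff_commutator (a b : G) :
    ρ a * ρ b = ρ b * ρ a ↔ ρ (a * b * a⁻¹ * b⁻¹) = 1 := by
  constructor
  · intro h
    have h1 : ρ (a * b * a⁻¹ * b⁻¹) = ρ a * ρ b * ρ a⁻¹ * ρ b⁻¹ := by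
      rw [map_mul, map_mul, map_mul]
    rw [h1, h, mul_assoc (ρ b), ← map_mul, mul_inv_cancel, map_one, mul_one, ← map_mul,
      mul_inv_cancel, map_one]
  · intro h
    have h1 : ρ a * ρ b = ρ (a * b * a⁻¹ * b⁻¹) * (ρ b * ρ a) := by
      rw [← map_mul, ← map_mul, ← map_mul]
      congr 1
      group
    rw [h1, h, one_mul]

/-- if `ρ x` commutes with `ρ [x, g]` and the orders are coprime then `ρ x` commutes with `ρ g` -/
theorem rho_comm_of_commutator (x g : G) {k m : ℕ}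
    (h1 : ρ x * ρ (x * g * x⁻¹ * g⁻¹) = ρ (x * g * x⁻¹ * g⁻¹) * ρ x)
    (hxk : x ^ k = 1) (hcm : (x * g * x⁻¹ * g⁻¹) ^ m = 1) (hcop : k.Coprime m) :
    ρ x * ρ g = ρ g * ρ x := by
  rw [rho_comm_iff_commutator]
  have key := comm_eq_one_of_coprime (rhoU ρ x) (rhoU ρ g) (k := k) (m := m) (by
    have e : rhoU ρ x * rhoU ρ g * (rhoU ρ x)⁻¹ * (rhoU ρ g)⁻¹ = rhoU ρ (x * g * x⁻¹ * g⁻¹) := by
      rw [map_mul, map_mul, map_mul, map_inv, map_inv]
    rw [e]
    exact (rho_comm_iff ρ _ _).mp h1) (by rw [← map_pow, hxk, map_one]) (by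
    have e : rhoU ρ x * rhoU ρ g * (rhoU ρ x)⁻¹ * (rhoU ρ g)⁻¹ = rhoU ρ (x * g * x⁻¹ * g⁻¹) := by
      rw [map_mul, map_mul, map_mul, map_inv, map_inv]
    rw [e, ← map_pow, hcm, map_one]) hcop
  have e : rhoU ρ x * rhoU ρ g * (rhoU ρ x)⁻¹ * (rhoU ρ g)⁻¹ = rhoU ρ (x * g * x⁻¹ * g⁻¹) := by
    rw [map_mul, map_mul, map_mul, map_inv, map_inv]
  rw [e] at key
  have := congrArg Units.val key
  exact this

end RhoComm

end Cfsg.Agent.Helper8.HHLin
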