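import Mathlib
import Cfsg.Agent.Lib.Helper8.HHLin10

/-!
# Weights are fixed by a group of prime order without fixed vectors (helper8 library)
-/

set_option autoImplicit false
set_option linter.unusedSectionVars false

namespace Cfsg.Agent.Helper8.HHLin

open Module Cfsg.Agent.Helper8.FrobLin

section Weights

variable {F : Type*} [Field F] [IsAlgClosed F] {G : Type*} [Group G] [Finite G]
  {V : Type*} [AddCommGroup V] [Module F V] [FiniteDimensional F V]
  (ρ : Representation F G V) (M N : Subgroup G) [M.Normal] [N.Normal]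

attribute [local instance] dualAct

/-- a weight moved by a group of prime order produces a fixed vector -/
theorem smul_eq_of_fixedBy_eq_bot [Fintype ↥M] (X : Subgroup G) (hXp : (Nat.card ↥X).Prime)
    (hfix : fixedBy ρ X = ⊥) (hcharM : (Nat.card ↥M : F) ≠ 0)
    (χ : (↥M ⧸ N.subgroupOf M) →* Fˣ) (hχ : wproj ρ M N χ ≠ 0) :
    ∀ x ∈ X, x • χ = χ := by
  classical
  by_contra hcon
  push_neg at hcon
  obtain ⟨x₀, hx₀, hx₀χ⟩ := hcon
  haveI : Fact (Nat.card ↥X).Prime := ⟨hXp⟩
  letI : Fintype ↥X := Fintype.ofFinite _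
  -- the stabiliser is trivial
  have hfree : ∀ e : ↥X, (e : G) • χ = χ → e = 1 := by
    intro e he
    let S : Subgroup ↥X :=
      { carrier := {e | (e : G) • χ = χ}
        one_mem' := by
          show ((1 : ↥X) : G) • χ = χ
          rw [Subgroup.coe_one, one_smul]
        mul_mem' := by
          intro a b ha hb
          show ((a * b : ↥X) : G) • χ = χ
          rw [Subgroup.coe_mul, mul_smul, hb, ha]
        inv_mem' := by
          intro a ha
          show ((a⁻¹ : ↥X) : G) • χ = χ
          rw [Subgroup.coe_inv]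
          conv_lhs => rw [← ha]
          rw [inv_smul_smul] }
    rcases S.eq_bot_or_eq_top_of_prime_card with h | h
    · have : e ∈ S := he
      rw [h, Subgroup.mem_bot] at this
      exact this
    · exfalso
      have : (⟨x₀, hx₀⟩ : ↥X) ∈ S := by rw [h]; trivial
      exact hx₀χ this
  obtain ⟨v, hv⟩ : ∃ v, wproj ρ M N χ v ≠ 0 := by
    by_contra hall
    push_neg at hall
    apply hχ
    apply LinearMap.ext
    intro v
    rw [hall v]; rfl
  set w := wproj ρ M N χ v with hw
  set u : V := ∑ e : ↥X, ρ (e : G) w with hu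
  have hufix : u ∈ fixedBy ρ X := by
    rw [mem_fixedBy]
    intro x hx
    rw [hu, map_sum]
    rw [← Equiv.sum_comp (Equiv.mulLeft (⟨x, hx⟩ : ↥X)) (fun e : ↥X => ρ (e : G) w)]
    apply Finset.sum_congr rfl
    intro e _
    simp only [Equiv.coe_mulLeft, Subgroup.coe_mul]
    rw [rho_mul_apply]
  rw [hfix, Submodule.mem_bot] at hufix
  have hPu : wproj ρ M N χ u = w := by
    rw [hu, map_sum]
    rw [Finset.sum_eq_single (1 : ↥X)]
    · rw [Subgroup.coe_one, map_one]
      show wproj ρ M N χ w = w
      rw [hw, wproj_orth ρ M N hcharM, if_pos rfl]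
    · intro e _ he
      have h1 := wproj_equi ρ M N (e : G) ((e : G)⁻¹ • χ) w
      rw [smul_inv_smul] at h1
      rw [← h1, hw, wproj_orth ρ M N hcharM, if_neg, map_zero]
      intro heq
      apply he
      apply hfree e
      conv_lhs => rw [← heq]
      rw [smul_inv_smul]
    · intro h
      exact absurd (Finset.mem_univ _) h
  rw [hufix, map_zero] at hPu
  exact hv hPu.symm

/-- all weights are fixed by `U ⊔ X` when `M` is the centre of `U` modulo `N` -/
theorem smul_eq_of_relCenter (U X N : Subgroup G) [U.Normal] [N.Normal] (hUX : U ⊔ X = ⊤)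
    (χ : (↥(relCenter U N) ⧸ N.subgroupOf (relCenter U N)) →* Fˣ)
    (hX : ∀ x ∈ X, x • χ = χ) : ∀ g : G, g • χ = χ := by
  let S : Subgroup G :=
    { carrier := {g | g • χ = χ}
      one_mem' := one_smul _ _
      mul_mem' := by
        intro a b ha hb
        show (a * b) • χ = χ
        rw [mul_smul, hb, ha]
      inv_mem' := by
        intro a ha
        show a⁻¹ • χ = χ
        conv_lhs => rw [← ha]
        rw [inv_smul_smul] }
  have hS : U ⊔ X ≤ S := sup_le (fun u hu => central_smul U N hu χ) (fun x hx => hX x hx)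
  intro g
  have : g ∈ U ⊔ X := by rw [hUX]; trivial
  exact hS this

/-- weight spaces of fixed weights are invariant -/
theorem range_wproj_le_comap [Fintype ↥M] (χ : (↥M ⧸ N.subgroupOf M) →* Fˣ) (g : G)
    (hg : g • χ = χ) :
    LinearMap.range (wproj ρ M N χ) ≤ (LinearMap.range (wproj ρ M N χ)).comap (ρ g) := by
  rintro _ ⟨v, rfl⟩
  rw [Submodule.mem_comap]
  refine ⟨ρ g v, ?_⟩
  have h1 := wproj_equi ρ M N g χ v
  rw [hg] at h1
  exact h1.symm

end Weights

end Cfsg.Agent.Helper8.HHLin
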