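import Mathlib
import Cfsg.Agent.Lib.Helper8.HHLin11

/-!
# Preparations for the linear Hall–Higman type theorem (helper8 library)
-/

set_option autoImplicit false
set_option linter.unusedSectionVars false

namespace Cfsg.Agent.Helper8.HHLin

open Module Cfsg.Agent.Helper8.FrobLin
open scoped commutatorElement

universe u v w

/-- the linear statement at level `n` -/
def LinStmt (F : Type w) [Field F] (q r n : ℕ) : Prop :=
  ∀ (G : Type u) [Group G] [Finite G] (V : Type v) [AddCommGroup V] [Module F V]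
    [FiniteDimensional F V] (ρ : Representation F G V) (Q X : Subgroup G),
    Nat.card ↥Q + finrank F V = n →
    (∀ x ∈ X, ∀ g ∈ Q, x * g * x⁻¹ ∈ Q) → IsPGroup q ↥Q → Nat.card ↥X = r →
    fixedBy ρ X = ⊥ →
    (¬ (q = 2 ∧ ∃ m : ℕ, r = 2 ^ m + 1) ∨ ∀ a ∈ Q, ∀ b ∈ Q, ρ a * ρ b = ρ b * ρ a) →
    ∀ g ∈ Q, ∀ x ∈ X, ρ x * ρ g = ρ g * ρ x

section GroupLemmas

variable {H : Type*} [Group H]

theorem three_sub (x g g₀ : H) (h1 : x * g₀ = g₀ * x)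
    (h2 : x * (g⁻¹ * g₀ * g) = (g⁻¹ * g₀ * g) * x) :
    g₀ * (x * g * x⁻¹ * g⁻¹) = (x * g * x⁻¹ * g⁻¹) * g₀ := by
  have e1 : x⁻¹ * (g⁻¹ * g₀ * g) * x = g⁻¹ * g₀ * g := by
    rw [mul_assoc, ← h2, inv_mul_cancel_left]
  have e2 : x * g₀ * x⁻¹ = g₀ := by
    rw [h1, mul_inv_cancel_right]
  symm
  calc (x * g * x⁻¹ * g⁻¹) * g₀ = x * g * (x⁻¹ * (g⁻¹ * g₀ * g) * x) * x⁻¹ * g⁻¹ := by group
    _ = x * g * (g⁻¹ * g₀ * g) * x⁻¹ * g⁻¹ := by rw [e1]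
    _ = (x * g₀ * x⁻¹) * (x * g * x⁻¹ * g⁻¹) := by group
    _ = g₀ * (x * g * x⁻¹ * g⁻¹) := by rw [e2]

theorem conj_mem_commutator (X Q : Subgroup H) (hXQ : ∀ x ∈ X, ∀ g ∈ Q, x * g * x⁻¹ ∈ Q) :
    ∀ x ∈ X, ∀ c ∈ ⁅X, Q⁆, x * c * x⁻¹ ∈ ⁅X, Q⁆ := by
  intro x hx c hc
  have h1 : ⁅X, Q⁆ ≤ (⁅X, Q⁆).comap (MulAut.conj x).toMonoidHom := by
    rw [Subgroup.commutator_le]
    intro a ha b hb
    rw [Subgroup.mem_comap]
    show x * ⁅a, b⁆ * x⁻¹ ∈ _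
    have : x * ⁅a, b⁆ * x⁻¹ = ⁅x * a * x⁻¹, x * b * x⁻¹⁆ := by
      simp only [commutatorElement_def]; group
    rw [this]
    exact Subgroup.commutator_mem_commutator (X.mul_mem (X.mul_mem hx ha) (X.inv_mem hx))
      (hXQ x hx b hb)
  exact h1 hc

theorem commutator_le_of_conj (X Q : Subgroup H) (hXQ : ∀ x ∈ X, ∀ g ∈ Q, x * g * x⁻¹ ∈ Q) :
    ⁅X, Q⁆ ≤ Q := by
  rw [Subgroup.commutator_le]
  intro a ha b hb
  rw [commutatorElement_def]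
  exact Q.mul_mem (hXQ a ha b hb) (Q.inv_mem hb)

/-- a subgroup normalised by `Q` and `X` is normal when `Q ⊔ X = ⊤` -/
theorem normal_of_sup_eq_top (P Q X : Subgroup H) (htop : Q ⊔ X = ⊤)
    (hQ : ∀ a ∈ Q, ∀ g ∈ P, a * g * a⁻¹ ∈ P) (hX : ∀ a ∈ X, ∀ g ∈ P, a * g * a⁻¹ ∈ P) :
    P.Normal := by
  have key : ∀ (Γ : Subgroup H), (∀ a ∈ Γ, ∀ g ∈ P, a * g * a⁻¹ ∈ P) →
      Γ ≤ Subgroup.normalizer (P : Set H) := by
    intro Γ h g hg
    rw [Subgroup.mem_normalizer_iff]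
    intro x
    constructor
    · exact h g hg x
    · intro hx
      have := h g⁻¹ (Γ.inv_mem hg) _ hx
      have e : g⁻¹ * (g * x * g⁻¹) * g⁻¹⁻¹ = x := by group
      rwa [e] at this
  have h1 : Q ≤ Subgroup.normalizer (P : Set H) := key Q hQ
  have h2 : X ≤ Subgroup.normalizer (P : Set H) := key X hX
  have h3 : Subgroup.normalizer (P : Set H) = ⊤ := by
    rw [eq_top_iff, ← htop]
    exact sup_le h1 h2
  exact Subgroup.normalizer_eq_top_iff.mp h3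

end GroupLemmas

section RepLemmas

variable {F : Type*} [Field F] {G : Type*} [Group G] [Finite G]
  {V : Type*} [AddCommGroup V] [Module F V] (ρ : Representation F G V)

theorem comm_of_comm_commutator (Q X : Subgroup G) {q r : ℕ} (hq : q.Prime) (hr : r.Prime)
    (hqr : q ≠ r) (hQ : IsPGroup q ↥Q) (hX : Nat.card ↥X = r)
    (hXQ : ∀ x ∈ X, ∀ g ∈ Q, x * g * x⁻¹ ∈ Q) {g x : G} (hg : g ∈ Q) (hx : x ∈ X)
    (h : ρ x * ρ (x * g * x⁻¹ * g⁻¹) = ρ (x * g * x⁻¹ * g⁻¹) * ρ x) :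
    ρ x * ρ g = ρ g * ρ x := by
  haveI : Fact q.Prime := ⟨hq⟩
  obtain ⟨a, ha⟩ := hQ.exists_card_eq
  have hxr : x ^ r = 1 := by
    have h1 : (⟨x, hx⟩ : ↥X) ^ Nat.card ↥X = 1 := pow_card_eq_one'
    rw [hX] at h1
    have := congrArg Subtype.val h1
    simpa using this
  have hc : x * g * x⁻¹ * g⁻¹ ∈ Q := Q.mul_mem (hXQ x hx g hg) (Q.inv_mem hg)
  have hcm : (x * g * x⁻¹ * g⁻¹) ^ (q ^ a) = 1 := by
    have h1 : (⟨_, hc⟩ : ↥Q) ^ Nat.card ↥Q = 1 := pow_card_eq_one'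
    rw [ha] at h1
    have := congrArg Subtype.val h1
    simpa using this
  exact rho_comm_of_commutator ρ x g h hxr hcm
    (Nat.Coprime.pow_right a ((Nat.coprime_primes hr hq).mpr hqr.symm))

end RepLemmas

end Cfsg.Agent.Helper8.HHLin
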