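import Mathlib
import Cfsg.Agent.Lib.Helper8.HHLin12

/-!
# The linear Hall–Higman type theorem: the inductive step (helper8 library)
-/

set_option autoImplicit false
set_option linter.unusedSectionVars false

namespace Cfsg.Agent.Helper8.HHLin

open Module Cfsg.Agent.Helper8.FrobLin
open scoped commutatorElement

universe u v w

section Core

variable {F : Type w} [Field F] [IsAlgClosed F] {q r : ℕ}

attribute [local instance] dualAct

theorem lin_sub (n : ℕ) (IH : ∀ m < n, LinStmt.{u, v, w} F q r m)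
    (G : Type u) [Group G] [Finite G] (V : Type v) [AddCommGroup V] [Module F V]
    [FiniteDimensional F V] (ρ : Representation F G V) (Q X : Subgroup G)
    (hn : Nat.card ↥Q + finrank F V = n)
    (hXQ : ∀ x ∈ X, ∀ g ∈ Q, x * g * x⁻¹ ∈ Q) (hQ : IsPGroup q ↥Q) (hX : Nat.card ↥X = r)
    (hfix : fixedBy ρ X = ⊥)
    (hexc : ¬ (q = 2 ∧ ∃ m : ℕ, r = 2 ^ m + 1) ∨ ∀ a ∈ Q, ∀ b ∈ Q, ρ a * ρ b = ρ b * ρ a)
    (W : Submodule F V) (hW : ∀ g : G, W ≤ W.comap (ρ g)) (hlt : finrank F W < finrank F V) :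
    ∀ g ∈ Q, ∀ x ∈ X, ∀ w ∈ W, ρ x (ρ g w) = ρ g (ρ x w) := by
  set σ := ρ.subrepresentation W hW with hσ
  have hσa : ∀ (g : G) (w : W), ((σ g w : W) : V) = ρ g (w : V) := fun g w => rfl
  have h1 : fixedBy σ X = ⊥ := by
    rw [eq_bot_iff]
    intro w hw
    rw [mem_fixedBy] at hw
    have : (w : V) ∈ fixedBy ρ X := by
      rw [mem_fixedBy]
      intro x hx
      have := hw x hx
      exact congrArg Subtype.val this
    rw [hfix, Submodule.mem_bot] at this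
    rw [Submodule.mem_bot]
    exact Subtype.ext this
  have h2 : ¬ (q = 2 ∧ ∃ m : ℕ, r = 2 ^ m + 1) ∨ ∀ a ∈ Q, ∀ b ∈ Q, σ a * σ b = σ b * σ a := by
    rcases hexc with h | h
    · exact Or.inl h
    · right
      intro a ha b hb
      apply LinearMap.ext
      intro w
      apply Subtype.ext
      have := congrArg (fun T : V →ₗ[F] V => T (w : V)) (h a ha b hb)
      exact this
  have key := IH (Nat.card ↥Q + finrank F W) (by omega) G W σ Q X rfl hXQ hQ hX h1 h2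
  intro g hg x hx w hw
  have h3 := key g hg x hx
  have h4 := congrArg (fun T : W →ₗ[F] W => ((T ⟨w, hw⟩ : W) : V)) h3
  exact h4

theorem lin_core (hq : q.Prime) (hr : r.Prime) (hqr : q ≠ r) (hqF : (q : F) ≠ 0)
    (hrF : (r : F) ≠ 0) (n : ℕ) (IH : ∀ m < n, LinStmt.{u, v, w} F q r m)
    (G : Type u) [Group G] [Finite G] (V : Type v) [AddCommGroup V] [Module F V]
    [FiniteDimensional F V] (ρ : Representation F G V) (Q X : Subgroup G)
    (hn : Nat.card ↥Q + finrank F V = n)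
    (hXQ : ∀ x ∈ X, ∀ g ∈ Q, x * g * x⁻¹ ∈ Q) (hQ : IsPGroup q ↥Q) (hX : Nat.card ↥X = r)
    (hfix : fixedBy ρ X = ⊥)
    (hexc : ¬ (q = 2 ∧ ∃ m : ℕ, r = 2 ^ m + 1) ∨ ∀ a ∈ Q, ∀ b ∈ Q, ρ a * ρ b = ρ b * ρ a)
    (htop : Q ⊔ X = ⊤) :
    ∀ g ∈ Q, ∀ x ∈ X, ρ x * ρ g = ρ g * ρ x := by
  classical
  haveI : Fact q.Prime := ⟨hq⟩
  rcases Nat.eq_zero_or_pos (finrank F V) with hV0 | hVpos
  · haveI : Subsingleton V := Module.finrank_zero_iff.mp hV0
    intro g _ x _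
    apply LinearMap.ext
    intro v
    exact Subsingleton.elim _ _
  haveI hQn : Q.Normal := normal_of_sup_eq_top Q Q X htop
    (fun a ha g hg => Q.mul_mem (Q.mul_mem ha hg) (Q.inv_mem ha)) hXQ
  have hT2 : ∀ g ∈ Q, ∀ x ∈ X,
      ρ x * ρ (x * g * x⁻¹ * g⁻¹) = ρ (x * g * x⁻¹ * g⁻¹) * ρ x → ρ x * ρ g = ρ g * ρ x :=
    fun g hg x hx h => comm_of_comm_commutator ρ Q X hq hr hqr hQ hX hXQ hg hx h
  -- (A) reduce to `[X, Q] = Q`
  have hQ1le : ⁅X, Q⁆ ≤ Q := commutator_le_of_conj X Q hXQ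
  by_cases hQ1 : ⁅X, Q⁆ = Q
  swap
  · have hlt : Nat.card ↥⁅X, Q⁆ < Nat.card ↥Q := by
      by_contra hcon
      exact hQ1 (Subgroup.eq_of_le_of_card_ge hQ1le (not_lt.mp hcon))
    have h2 : ¬ (q = 2 ∧ ∃ m : ℕ, r = 2 ^ m + 1) ∨
        ∀ a ∈ ⁅X, Q⁆, ∀ b ∈ ⁅X, Q⁆, ρ a * ρ b = ρ b * ρ a := by
      rcases hexc with h | h
      · exact Or.inl h
      · exact Or.inr (fun a ha b hb => h a (hQ1le ha) b (hQ1le hb))
    have key := IH (Nat.card ↥⁅X, Q⁆ + finrank F V) (by omega) G V ρ ⁅X, Q⁆ X rfl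
      (conj_mem_commutator X Q hXQ) (hQ.to_le hQ1le) hX hfix h2
    intro g hg x hx
    apply hT2 g hg x hx
    have hc : x * g * x⁻¹ * g⁻¹ ∈ ⁅X, Q⁆ := by
      rw [← commutatorElement_def]
      exact Subgroup.commutator_mem_commutator hx hg
    exact key _ hc x hx
  -- (B) the kernel and the relative centre
  set N₀ : Subgroup G := kerIn ρ Q with hN₀
  have hN₀Q : N₀ ≤ Q := kerIn_le ρ Q
  haveI hN₀n : N₀.Normal := kerIn_normal ρ Q
  rcases eq_or_lt_of_le hN₀Q with heq | hlt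
  · intro g hg x hx
    have hg' : g ∈ N₀ := by rw [heq]; exact hg
    rw [hN₀, mem_kerIn] at hg'
    rw [hg'.2, mul_one, one_mul]
  have hnil : Group.IsNilpotent ↥Q := hQ.isNilpotent
  set Z : Subgroup G := relCenter Q N₀ with hZ
  haveI hZn : Z.Normal := relCenter_normal Q N₀
  have hN₀Z : N₀ < Z := lt_relCenter hnil hlt
  have hZQ : Z ≤ Q := relCenter_le Q N₀
  have hZcomm : ∀ a ∈ Z, ∀ b ∈ Z, a * b * a⁻¹ * b⁻¹ ∈ N₀ := relCenter_comm Q N₀
  obtain ⟨a, ha⟩ := hQ.exists_card_eq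
  have hcharQ : (Nat.card ↥Q : F) ≠ 0 := by
    rw [ha]; push_cast; exact pow_ne_zero _ hqF
  have hcharZ : (Nat.card ↥Z : F) ≠ 0 := by
    intro h0
    apply hcharQ
    obtain ⟨k, hk⟩ := Subgroup.card_dvd_of_le hZQ
    rw [hk]; push_cast; rw [h0, zero_mul]
  have hcharX : (Nat.card ↥X : F) ≠ 0 := by rw [hX]; exact hrF
  letI : Fintype ↥Z := Fintype.ofFinite _
  letI : Fintype ((↥Z ⧸ N₀.subgroupOf Z) →* Fˣ) := Fintype.ofFinite _
  set P : ((↥Z ⧸ N₀.subgroupOf Z) →* Fˣ) → (V →ₗ[F] V) := fun χ => wproj ρ Z N₀ χ with hP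
  have hrS : LinearMap.range (∑ χ, P χ) = ⊤ := by
    rw [range_sum_wproj ρ Z N₀ hN₀Z.le hZcomm hcharZ, hN₀, fixedBy_kerIn]
  have horth : ∀ χ χ' v, P χ (P χ' v) = if χ = χ' then P χ v else 0 :=
    fun χ χ' v => wproj_orth ρ Z N₀ hcharZ χ χ' v
  have hsum : ∀ v, (∑ χ, P χ) v = v := by
    intro v
    letI := trivAct ((↥Z ⧸ N₀.subgroupOf Z) →* Fˣ)
    exact (permIdem_of_orth P horth).sum_of_mem (by rw [hrS]; trivial)
  have hXp : (Nat.card ↥X).Prime := by rw [hX]; exact hr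
  have hinvχ : ∀ χ, P χ ≠ 0 → ∀ g : G, g • χ = χ := by
    intro χ hχ
    apply smul_eq_of_relCenter Q X N₀ htop χ
    exact smul_eq_of_fixedBy_eq_bot ρ Z N₀ X hXp hfix hcharZ χ hχ
  by_cases hdich : ∃ χ₀, LinearMap.range (P χ₀) = ⊤
  swap
  · push_neg at hdich
    have hW : ∀ χ, ∀ g ∈ Q, ∀ x ∈ X, ∀ w ∈ LinearMap.range (P χ),
        ρ x (ρ g w) = ρ g (ρ x w) := by
      intro χ
      by_cases hχ : P χ = 0
      · intro g _ x _ w hw
        rw [hχ, LinearMap.range_zero, Submodule.mem_bot] at hw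
        rw [hw, map_zero, map_zero, map_zero]
      · have hinv := hinvχ χ hχ
        have hWinv : ∀ g : G, LinearMap.range (P χ) ≤ (LinearMap.range (P χ)).comap (ρ g) :=
          fun g => range_wproj_le_comap ρ Z N₀ χ g (hinv g)
        have hltW : finrank F (LinearMap.range (P χ)) < finrank F V := by
          by_contra hcon
          apply hdich χ
          exact Submodule.eq_top_of_finrank_eq
            (le_antisymm (Submodule.finrank_le _) (not_lt.mp hcon))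
        exact lin_sub n IH G V ρ Q X hn hXQ hQ hX hfix hexc _ hWinv hltW
    intro g hg x hx
    apply LinearMap.ext
    intro v
    show ρ x (ρ g v) = ρ g (ρ x v)
    conv_lhs => rw [← hsum v]
    conv_rhs => rw [← hsum v]
    rw [LinearMap.sum_apply, map_sum, map_sum, map_sum, map_sum]
    apply Finset.sum_congr rfl
    intro χ _
    exact hW χ g hg x hx _ (LinearMap.mem_range_self _ _)
  obtain ⟨χ₀, hχ₀⟩ := hdich
  set lam : ↥Z →* Fˣ := χ₀.comp (QuotientGroup.mk' (N₀.subgroupOf Z)) with hlamdef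
  have hlam : ∀ (z : ↥Z) (v : V), ρ (z : G) v = ((lam z : Fˣ) : F) • v := by
    intro z v
    have hv : v ∈ LinearMap.range (P χ₀) := by rw [hχ₀]; trivial
    exact (mem_range_wproj ρ Z N₀ hcharZ χ₀ v).mp hv z
  have hscal : ∀ z ∈ Z, ∀ T : V →ₗ[F] V, ρ z * T = T * ρ z := by
    intro z hz T
    apply LinearMap.ext
    intro v
    show ρ z (T v) = T (ρ z v)
    rw [hlam ⟨z, hz⟩, hlam ⟨z, hz⟩, map_smul]
  -- (C)
  by_cases hZQeq : Z = Q
  · intro g hg x hx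
    exact (hscal g (by rw [hZQeq]; exact hg) (ρ x)).symm
  have hZltQ : Z < Q := lt_of_le_of_ne hZQ hZQeq
  have hprop : ∀ Q₀ : Subgroup G, Q₀.Normal → Q₀ ≤ Q → Q₀ ≠ Q → Q₀ ≤ Z := by
    intro Q₀ hQ₀n hQ₀Q hQ₀ne
    have hlt' : Nat.card ↥Q₀ < Nat.card ↥Q := by
      by_contra hcon
      exact hQ₀ne (Subgroup.eq_of_le_of_card_ge hQ₀Q (not_lt.mp hcon))
    have h2 : ¬ (q = 2 ∧ ∃ m : ℕ, r = 2 ^ m + 1) ∨
        ∀ a ∈ Q₀, ∀ b ∈ Q₀, ρ a * ρ b = ρ b * ρ a := by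
      rcases hexc with h | h
      · exact Or.inl h
      · exact Or.inr (fun a ha b hb => h a (hQ₀Q ha) b (hQ₀Q hb))
    have key := IH (Nat.card ↥Q₀ + finrank F V) (by omega) G V ρ Q₀ X rfl
      (fun x _ g hg => hQ₀n.conj_mem g hg x) (hQ.to_le hQ₀Q) hX hfix h2
    intro g₀ hg₀
    rw [hZ, mem_relCenter]
    refine ⟨hQ₀Q hg₀, ?_⟩
    have hcent : Q ≤ (Subgroup.centralizer {rhoU ρ g₀}).comap (rhoU ρ) := by
      rw [← hQ1, Subgroup.commutator_le]
      intro x hx g hg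
      rw [Subgroup.mem_comap, Subgroup.mem_centralizer_iff]
      intro y hy
      rw [Set.mem_singleton_iff] at hy
      rw [hy, commutatorElement_def, map_mul, map_mul, map_mul, map_inv, map_inv]
      apply three_sub
      · exact (rho_comm_iff ρ x g₀).mp (key g₀ hg₀ x hx)
      · have hh : g⁻¹ * g₀ * g ∈ Q₀ := by
          have := hQ₀n.conj_mem g₀ hg₀ g⁻¹
          rwa [inv_inv] at this
        have := (rho_comm_iff ρ x (g⁻¹ * g₀ * g)).mp (key _ hh x hx)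
        rw [map_mul, map_mul, map_inv] at this
        exact this
    intro u hu
    rw [hN₀, mem_kerIn]
    refine ⟨Q.mul_mem (Q.mul_mem (Q.mul_mem (hQ₀Q hg₀) hu) (Q.inv_mem (hQ₀Q hg₀)))
      (Q.inv_mem hu), ?_⟩
    rw [← rho_comm_iff_commutator, rho_comm_iff]
    have := hcent hu
    rw [Subgroup.mem_comap, Subgroup.mem_centralizer_iff] at this
    exact this _ rfl
  have hQZcomm : ∀ a ∈ Q, ∀ b ∈ Q, a * b * a⁻¹ * b⁻¹ ∈ Z := by
    have hRC : relCenter Q Z = Q := by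
      by_contra hne
      have hle := hprop (relCenter Q Z) inferInstance (relCenter_le Q Z) hne
      have hlt2 : Z < relCenter Q Z := lt_relCenter hnil hZltQ
      exact absurd (lt_of_lt_of_le hlt2 hle) (lt_irrefl _)
    intro a ha b hb
    have : a ∈ relCenter Q Z := by rw [hRC]; exact ha
    exact (mem_relCenter.mp this).2 b hb
  have hXab : ∀ a ∈ X, ∀ b ∈ X, a * b = b * a := by
    intro a ha b hb
    haveI : Fact (Nat.card ↥X).Prime := ⟨hXp⟩
    haveI : IsCyclic ↥X := isCyclic_of_prime_card rfl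
    have := (IsCyclic.isMulCommutative (α := ↥X)).is_comm.comm ⟨a, ha⟩ ⟨b, hb⟩
    exact congrArg Subtype.val this
  let Pg : Subgroup G :=
    { carrier := {g | g ∈ Q ∧ ∀ x ∈ X, x * g * x⁻¹ * g⁻¹ ∈ Z}
      one_mem' := ⟨Q.one_mem, fun x _ => by
        have e : x * 1 * x⁻¹ * (1 : G)⁻¹ = 1 := by group
        rw [e]; exact Z.one_mem⟩
      mul_mem' := by
        rintro a b ⟨haQ, ha⟩ ⟨hbQ, hb⟩
        refine ⟨Q.mul_mem haQ hbQ, fun x hx => ?_⟩
        have e : x * (a * b) * x⁻¹ * (a * b)⁻¹ =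
            (x * a * x⁻¹ * a⁻¹) * (a * (x * b * x⁻¹ * b⁻¹) * a⁻¹) := by group
        rw [e]
        exact Z.mul_mem (ha x hx) (hZn.conj_mem _ (hb x hx) a)
      inv_mem' := by
        rintro a ⟨haQ, ha⟩
        refine ⟨Q.inv_mem haQ, fun x hx => ?_⟩
        have e : x * a⁻¹ * x⁻¹ * a⁻¹⁻¹ = a⁻¹ * (x * a * x⁻¹ * a⁻¹)⁻¹ * a⁻¹⁻¹ := by group
        rw [e]
        exact hZn.conj_mem _ (Z.inv_mem (ha x hx)) a⁻¹ }
  have hPgmem : ∀ g, g ∈ Pg ↔ g ∈ Q ∧ ∀ x ∈ X, x * g * x⁻¹ * g⁻¹ ∈ Z := fun g => Iff.rfl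
  haveI hPgn : Pg.Normal := by
    apply normal_of_sup_eq_top Pg Q X htop
    · intro a ha g hg
      rw [hPgmem] at hg ⊢
      refine ⟨Q.mul_mem (Q.mul_mem ha hg.1) (Q.inv_mem ha), fun x hx => ?_⟩
      have e : x * (a * g * a⁻¹) * x⁻¹ * (a * g * a⁻¹)⁻¹ =
          (x * (a * g * a⁻¹ * g⁻¹) * x⁻¹) * (x * g * x⁻¹ * g⁻¹) * (a * g * a⁻¹ * g⁻¹)⁻¹ := by
        group
      rw [e]
      have hz := hQZcomm a ha g hg.1
      exact Z.mul_mem (Z.mul_mem (hZn.conj_mem _ hz x) (hg.2 x hx)) (Z.inv_mem hz)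
    · intro y hy g hg
      rw [hPgmem] at hg ⊢
      refine ⟨hXQ y hy g hg.1, fun x hx => ?_⟩
      have hxy : x * y = y * x := hXab x hx y hy
      have e : x * (y * g * y⁻¹) * x⁻¹ * (y * g * y⁻¹)⁻¹ =
          y * (x * g * x⁻¹ * g⁻¹) * y⁻¹ := by
        have e1 : x * (y * g * y⁻¹) * x⁻¹ = y * (x * g * x⁻¹) * y⁻¹ := by
          have hxy' : x⁻¹ * y⁻¹ = y⁻¹ * x⁻¹ := by
            rw [← mul_inv_rev, ← mul_inv_rev, hxy]
          calc x * (y * g * y⁻¹) * x⁻¹ = (x * y) * g * (y⁻¹ * x⁻¹) := by group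
            _ = (y * x) * g * (x⁻¹ * y⁻¹) := by rw [hxy, hxy']
            _ = y * (x * g * x⁻¹) * y⁻¹ := by group
        rw [e1]; group
      rw [e]
      exact hZn.conj_mem _ (hg.2 x hx) y
  have hPgQ : Pg ≤ Q := fun g hg => hg.1
  by_cases hPgeq : Pg = Q
  · intro g hg x hx
    apply hT2 g hg x hx
    have hgP : g ∈ Pg := by rw [hPgeq]; exact hg
    exact (hscal _ (hgP.2 x hx) (ρ x)).symm
  have hPgZ : Pg ≤ Z := hprop Pg hPgn hPgQ hPgeq
  exfalso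
  have hfpf : ∀ e ∈ X, e ≠ 1 → ∀ m ∈ Q, e * m * e⁻¹ * m⁻¹ ∈ Z → m ∈ Z := by
    intro e he he1 m hm hem
    apply hPgZ
    refine ⟨hm, ?_⟩
    let S : Subgroup G :=
      { carrier := {x | x * m * x⁻¹ * m⁻¹ ∈ Z}
        one_mem' := by
          show (1 : G) * m * (1 : G)⁻¹ * m⁻¹ ∈ Z
          have e : (1 : G) * m * (1 : G)⁻¹ * m⁻¹ = 1 := by group
          rw [e]; exact Z.one_mem
        mul_mem' := by
          intro a b ha hb
          show a * b * m * (a * b)⁻¹ * m⁻¹ ∈ Z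
          have e : a * b * m * (a * b)⁻¹ * m⁻¹ =
              a * (b * m * b⁻¹ * m⁻¹) * a⁻¹ * (a * m * a⁻¹ * m⁻¹) := by group
          rw [e]
          exact Z.mul_mem (hZn.conj_mem _ hb a) ha
        inv_mem' := by
          intro a ha
          show a⁻¹ * m * a⁻¹⁻¹ * m⁻¹ ∈ Z
          have e : a⁻¹ * m * a⁻¹⁻¹ * m⁻¹ = a⁻¹ * (a * m * a⁻¹ * m⁻¹)⁻¹ * a⁻¹⁻¹ := by group
          rw [e]
          exact hZn.conj_mem _ (Z.inv_mem ha) a⁻¹ }
    haveI : Fact (Nat.card ↥X).Prime := ⟨hXp⟩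
    intro x hx
    rcases (S.subgroupOf X).eq_bot_or_eq_top_of_prime_card with h | h
    · exfalso
      have hmem : (⟨e, he⟩ : ↥X) ∈ S.subgroupOf X := hem
      rw [h, Subgroup.mem_bot] at hmem
      exact he1 (congrArg Subtype.val hmem)
    · have hmem : (⟨x, hx⟩ : ↥X) ∈ S.subgroupOf X := by rw [h]; trivial
      exact hmem
  have hnd : ∀ g ∈ Q, (∀ y ∈ Q, ρ (y * g * y⁻¹ * g⁻¹) = 1) → g ∈ Z := by
    intro g hg h
    rw [hZ, mem_relCenter]
    refine ⟨hg, fun u hu => ?_⟩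
    rw [hN₀, mem_kerIn]
    refine ⟨Q.mul_mem (Q.mul_mem (Q.mul_mem hg hu) (Q.inv_mem hg)) (Q.inv_mem hu), ?_⟩
    rw [← rho_comm_iff_commutator]
    exact ((rho_comm_iff_commutator ρ u g).mpr (h u hu)).symm
  have hfin := hh_fermat ρ Q Z X hZQ hQZcomm lam hlam hnd hfpf hXab hcharQ hcharX hfix hVpos
    hq hr hqr ⟨a, ha⟩ hX hZQeq
  rcases hexc with h | h
  · exact h hfin
  · apply hZQeq
    apply le_antisymm hZQ
    intro g hg
    apply hnd g hg
    intro y hy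
    rw [← rho_comm_iff_commutator]
    exact h y hy g hg

end Core

end Cfsg.Agent.Helper8.HHLin
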