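import Mathlib
import Cfsg.Agent.Lib.Helper8.HHLin13

/-!
# The linear Hall–Higman type theorem (helper8 library)

`lin_hh`: let `X` of prime order `r` normalise the `q`-group `Q` (`q ≠ r`), both acting on a
finite-dimensional space `V` over an algebraically closed field in which `q` and `r` are invertible.
If `X` has no nonzero fixed vector on `V`, then `X` and `Q` commute on `V`, unless `q = 2`, `r` is a
Fermat prime and `Q` acts non-commutatively.
-/

set_option autoImplicit false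
set_option linter.unusedSectionVars false

namespace Cfsg.Agent.Helper8.HHLin

open Module Cfsg.Agent.Helper8.FrobLin

universe u v w

section Main

variable {F : Type w} [Field F] [IsAlgClosed F] {q r : ℕ}

theorem lin_all (hq : q.Prime) (hr : r.Prime) (hqr : q ≠ r) (hqF : (q : F) ≠ 0)
    (hrF : (r : F) ≠ 0) : ∀ n, LinStmt.{u, v, w} F q r n := by
  intro n
  induction n using Nat.strong_induction_on with
  | _ n IH =>
    intro G _ _ V _ _ _ ρ Q X hn hXQ hQ hX hfix hexc
    set H : Subgroup G := Q ⊔ X with hH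
    have hQH : Q ≤ H := le_sup_left
    have hXH : X ≤ H := le_sup_right
    set ρ' : Representation F ↥H V := ρ.comp H.subtype with hρ'
    have hρ'a : ∀ h : ↥H, ρ' h = ρ (h : G) := fun h => rfl
    have htop : Q.subgroupOf H ⊔ X.subgroupOf H = ⊤ := by
      rw [← Subgroup.subgroupOf_sup hQH hXH, Subgroup.subgroupOf_self]
    have hcQ : Nat.card ↥(Q.subgroupOf H) = Nat.card ↥Q :=
      Nat.card_congr (Subgroup.subgroupOfEquivOfLe hQH).toEquiv
    have hcX : Nat.card ↥(X.subgroupOf H) = Nat.card ↥X :=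
      Nat.card_congr (Subgroup.subgroupOfEquivOfLe hXH).toEquiv
    have h1 : ∀ x ∈ X.subgroupOf H, ∀ g ∈ Q.subgroupOf H, x * g * x⁻¹ ∈ Q.subgroupOf H := by
      intro x hx g hg
      rw [Subgroup.mem_subgroupOf] at hx hg ⊢
      exact hXQ _ hx _ hg
    have h2 : IsPGroup q ↥(Q.subgroupOf H) := hQ.comap_subtype
    have h3 : fixedBy ρ' (X.subgroupOf H) = ⊥ := by
      rw [eq_bot_iff]
      intro v hv
      rw [mem_fixedBy] at hv
      have : v ∈ fixedBy ρ X := by
        rw [mem_fixedBy]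
        intro x hx
        exact hv ⟨x, hXH hx⟩ hx
      rw [hfix] at this
      exact this
    have h4 : ¬ (q = 2 ∧ ∃ m : ℕ, r = 2 ^ m + 1) ∨
        ∀ a ∈ Q.subgroupOf H, ∀ b ∈ Q.subgroupOf H, ρ' a * ρ' b = ρ' b * ρ' a := by
      rcases hexc with h | h
      · exact Or.inl h
      · right
        intro a ha b hb
        rw [Subgroup.mem_subgroupOf] at ha hb
        exact h _ ha _ hb
    have key := lin_core hq hr hqr hqF hrF n IH ↥H V ρ' (Q.subgroupOf H) (X.subgroupOf H)
      (by rw [hcQ]; exact hn) h1 h2 (by rw [hcX]; exact hX) h3 h4 htop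
    intro g hg x hx
    exact key ⟨g, hQH hg⟩ hg ⟨x, hXH hx⟩ hx

/-- **The linear Hall–Higman type theorem.** -/
theorem lin_hh (hq : q.Prime) (hr : r.Prime) (hqr : q ≠ r) (hqF : (q : F) ≠ 0)
    (hrF : (r : F) ≠ 0) {G : Type u} [Group G] [Finite G] {V : Type v} [AddCommGroup V]
    [Module F V] [FiniteDimensional F V] (ρ : Representation F G V) (Q X : Subgroup G)
    (hXQ : ∀ x ∈ X, ∀ g ∈ Q, x * g * x⁻¹ ∈ Q) (hQ : IsPGroup q ↥Q) (hX : Nat.card ↥X = r)
    (hfix : fixedBy ρ X = ⊥)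
    (hexc : ¬ (q = 2 ∧ ∃ m : ℕ, r = 2 ^ m + 1) ∨ ∀ a ∈ Q, ∀ b ∈ Q, ρ a * ρ b = ρ b * ρ a) :
    ∀ g ∈ Q, ∀ x ∈ X, ρ x * ρ g = ρ g * ρ x :=
  lin_all hq hr hqr hqF hrF _ G V ρ Q X rfl hXQ hQ hX hfix hexc

end Main

end Cfsg.Agent.Helper8.HHLin
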