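import Mathlib

/-!
# The module attached to an elementary abelian section (helper8 library)

For subgroups `L₁ ≤ L` of a group `X` with `L / L₁` an elementary abelian `ℓ`-group, the quotient
`L / L₁`, written additively, is a vector space `SecW` over `ZMod ℓ`, on which the common normaliser
`nn L L₁ = N(L) ∩ N(L₁)` acts linearly by conjugation (`secRep`).
-/

set_option autoImplicit false
set_option linter.unusedSectionVars false

namespace Cfsg.Agent.Helper8.SecRep

variable {X : Type*} [Group X]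

/-- `L / L₁` is an elementary abelian `ℓ`-section -/
structure IsSec (L L₁ : Subgroup X) (ℓ : ℕ) : Prop where
  le : L₁ ≤ L
  normal : ∀ x ∈ L, ∀ n ∈ L₁, x * n * x⁻¹ ∈ L₁
  comm : ∀ x ∈ L, ∀ y ∈ L, x * y * x⁻¹ * y⁻¹ ∈ L₁
  pow : ∀ x ∈ L, x ^ ℓ ∈ L₁

/-- the common normaliser of `L` and `L₁` -/
def nn (L L₁ : Subgroup X) : Subgroup X :=
  Subgroup.normalizer (L : Set X) ⊓ Subgroup.normalizer (L₁ : Set X)

theorem mem_nn {L L₁ : Subgroup X} {g : X} :
    g ∈ nn L L₁ ↔ g ∈ Subgroup.normalizer (L : Set X) ∧ g ∈ Subgroup.normalizer (L₁ : Set X) :=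
  Subgroup.mem_inf

theorem conj_mem_of_mem_normalizer {L : Subgroup X} {g : X}
    (hg : g ∈ Subgroup.normalizer (L : Set X)) {x : X} (hx : x ∈ L) : g * x * g⁻¹ ∈ L :=
  (Subgroup.mem_normalizer_iff.mp hg x).mp hx

theorem conj_mem_of_mem_normalizer' {L : Subgroup X} {g : X}
    (hg : g ∈ Subgroup.normalizer (L : Set X)) {x : X} (hx : x ∈ L) : g⁻¹ * x * g ∈ L := by
  have := conj_mem_of_mem_normalizer (Subgroup.inv_mem _ hg) hx
  rwa [inv_inv] at this

/-- conjugation by an element normalising `L`, as an automorphism of `L` -/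
def cj (L : Subgroup X) (g : X) (hg : g ∈ Subgroup.normalizer (L : Set X)) : ↥L ≃* ↥L where
  toFun x := ⟨g * x * g⁻¹, conj_mem_of_mem_normalizer hg x.2⟩
  invFun x := ⟨g⁻¹ * x * g, conj_mem_of_mem_normalizer' hg x.2⟩
  left_inv x := by
    apply Subtype.ext
    show g⁻¹ * (g * (x : X) * g⁻¹) * g = x
    group
  right_inv x := by
    apply Subtype.ext
    show g * (g⁻¹ * (x : X) * g) * g⁻¹ = x
    group
  map_mul' a b := by
    apply Subtype.ext
    show g * ((a : X) * (b : X)) * g⁻¹ = (g * a * g⁻¹) * (g * b * g⁻¹)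
    group

@[simp] theorem cj_coe (L : Subgroup X) (g : X) (hg : g ∈ Subgroup.normalizer (L : Set X))
    (x : ↥L) : ((cj L g hg x : ↥L) : X) = g * x * g⁻¹ := rfl

section Sec

variable {L L₁ : Subgroup X} {ℓ : ℕ}

theorem IsSec.normal_subgroupOf (h : IsSec L L₁ ℓ) : (L₁.subgroupOf L).Normal := by
  constructor
  intro n hn x
  rw [Subgroup.mem_subgroupOf] at hn ⊢
  exact h.normal x x.2 n hn

/-- the section `L / L₁`, written additively -/
def SecW (_h : IsSec L L₁ ℓ) : Type _ := Additive (↥L ⧸ L₁.subgroupOf L)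

/-- the multiplicative group structure on the section -/
@[instance_reducible]
def secGroup (h : IsSec L L₁ ℓ) : CommGroup (↥L ⧸ L₁.subgroupOf L) :=
  haveI := h.normal_subgroupOf
  { (inferInstance : Group (↥L ⧸ L₁.subgroupOf L)) with
    mul_comm := by
      intro a b
      induction a using QuotientGroup.induction_on with
      | H a =>
        induction b using QuotientGroup.induction_on with
        | H b =>
          rw [← QuotientGroup.mk_mul, ← QuotientGroup.mk_mul, QuotientGroup.eq,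
            Subgroup.mem_subgroupOf]
          have := h.comm _ (L.inv_mem b.2) _ (L.inv_mem a.2)
          have h2 : (((a * b)⁻¹ * (b * a) : ↥L) : X) =
              (b : X)⁻¹ * (a : X)⁻¹ * ((b : X)⁻¹)⁻¹ * ((a : X)⁻¹)⁻¹ := by
            push_cast
            group
          rw [h2]
          exact this }

instance (h : IsSec L L₁ ℓ) : AddCommGroup (SecW h) :=
  letI := secGroup h
  inferInstanceAs (AddCommGroup (Additive (↥L ⧸ L₁.subgroupOf L)))

/-- the class of an element of `L` in the section -/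
def secMk (h : IsSec L L₁ ℓ) (x : ↥L) : SecW h :=
  Additive.ofMul (QuotientGroup.mk x : ↥L ⧸ L₁.subgroupOf L)

theorem secMk_surjective (h : IsSec L L₁ ℓ) : Function.Surjective (secMk h) := by
  intro w
  obtain ⟨x, hx⟩ := QuotientGroup.mk_surjective (Additive.toMul w : ↥L ⧸ L₁.subgroupOf L)
  exact ⟨x, by unfold secMk; rw [hx]; rfl⟩

theorem secMk_mul (h : IsSec L L₁ ℓ) (x y : ↥L) : secMk h (x * y) = secMk h x + secMk h y := by
  haveI := h.normal_subgroupOf
  rfl

theorem secMk_one (h : IsSec L L₁ ℓ) : secMk h 1 = 0 := by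
  haveI := h.normal_subgroupOf
  rfl

theorem secMk_inv (h : IsSec L L₁ ℓ) (x : ↥L) : secMk h x⁻¹ = - secMk h x := by
  haveI := h.normal_subgroupOf
  rfl

theorem secMk_eq_zero (h : IsSec L L₁ ℓ) (x : ↥L) : secMk h x = 0 ↔ (x : X) ∈ L₁ := by
  haveI := h.normal_subgroupOf
  show (QuotientGroup.mk x : ↥L ⧸ L₁.subgroupOf L) = 1 ↔ _
  rw [QuotientGroup.eq_one_iff, Subgroup.mem_subgroupOf]

theorem secMk_eq_iff (h : IsSec L L₁ ℓ) (x y : ↥L) :
    secMk h x = secMk h y ↔ (x : X)⁻¹ * y ∈ L₁ := by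
  haveI := h.normal_subgroupOf
  show (QuotientGroup.mk x : ↥L ⧸ L₁.subgroupOf L) = QuotientGroup.mk y ↔ _
  rw [QuotientGroup.eq, Subgroup.mem_subgroupOf]
  rfl

end Sec


section Sec2

variable {X : Type*} [Group X] {L L₁ : Subgroup X} {ℓ : ℕ}

theorem secMk_pow (h : IsSec L L₁ ℓ) (x : ↥L) (n : ℕ) : secMk h (x ^ n) = n • secMk h x := by
  induction n with
  | zero => rw [pow_zero, zero_smul, secMk_one]
  | succ n ih => rw [pow_succ, secMk_mul, ih, succ_nsmul]

theorem sec_nsmul (h : IsSec L L₁ ℓ) (w : SecW h) : ℓ • w = 0 := by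
  obtain ⟨x, rfl⟩ := secMk_surjective h w
  rw [← secMk_pow, secMk_eq_zero]
  exact h.pow x x.2

instance (h : IsSec L L₁ ℓ) : Module (ZMod ℓ) (SecW h) := AddCommGroup.zmodModule (sec_nsmul h)

/-- the action of the common normaliser on the section, as an additive map -/
def secAct (h : IsSec L L₁ ℓ) (g : ↥(nn L L₁)) : SecW h →+ SecW h :=
  haveI := h.normal_subgroupOf
  letI := secGroup h
  MonoidHom.toAdditive
    (QuotientGroup.map (L₁.subgroupOf L) (L₁.subgroupOf L)
      (cj L (g : X) (mem_nn.mp g.2).1).toMonoidHom (by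
        intro x hx
        rw [Subgroup.mem_comap, Subgroup.mem_subgroupOf]
        rw [Subgroup.mem_subgroupOf] at hx
        exact conj_mem_of_mem_normalizer (mem_nn.mp g.2).2 hx))

theorem secAct_mk (h : IsSec L L₁ ℓ) (g : ↥(nn L L₁)) (x : ↥L) :
    secAct h g (secMk h x) = secMk h (cj L (g : X) (mem_nn.mp g.2).1 x) := by
  haveI := h.normal_subgroupOf
  rfl

/-- the linear representation of the common normaliser on the section -/
def secRep (h : IsSec L L₁ ℓ) : Representation (ZMod ℓ) ↥(nn L L₁) (SecW h) where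
  toFun g := (secAct h g).toZModLinearMap ℓ
  map_one' := by
    apply LinearMap.ext
    intro w
    obtain ⟨x, rfl⟩ := secMk_surjective h w
    show secAct h 1 (secMk h x) = secMk h x
    rw [secAct_mk]
    congr 1
    apply Subtype.ext
    simp
  map_mul' g g' := by
    apply LinearMap.ext
    intro w
    obtain ⟨x, rfl⟩ := secMk_surjective h w
    show secAct h (g * g') (secMk h x) = secAct h g (secAct h g' (secMk h x))
    rw [secAct_mk, secAct_mk, secAct_mk]
    congr 1
    apply Subtype.ext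
    simp only [cj_coe, Subgroup.coe_mul]
    group

theorem secRep_mk (h : IsSec L L₁ ℓ) (g : ↥(nn L L₁)) (x : ↥L) :
    secRep h g (secMk h x) = secMk h (cj L (g : X) (mem_nn.mp g.2).1 x) :=
  secAct_mk h g x

end Sec2

end Cfsg.Agent.Helper8.SecRep
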