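import Mathlib
import Cfsg.Agent.Lib.Helper8.FrobLin2

/-!
# Base change of representations and fixed spaces (helper8 library)

`bc K ρ₀` is the representation `K ⊗ V₀` obtained from `ρ₀` by extension of scalars, and
`finrank_fixedBy_bc`: if `|B|` is invertible in `k`, the fixed space of `B` has the same dimension
before and after base change.
-/

set_option autoImplicit false
set_option linter.unusedSectionVars false

namespace Cfsg.Agent.Helper8.SecRep

open Module TensorProduct Cfsg.Agent.Helper8.FrobLin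

section BC

variable {k : Type*} [Field k] (K : Type*) [Field K] [Algebra k K]
  {G : Type*} [Group G] {V₀ : Type*} [AddCommGroup V₀] [Module k V₀]

/-- extension of scalars of a representation -/
noncomputable def bc (ρ₀ : Representation k G V₀) : Representation K G (K ⊗[k] V₀) :=
  ((Module.End.baseChangeHom k K V₀ : Module.End k V₀ →ₐ[k] Module.End K (K ⊗[k] V₀)) :
    Module.End k V₀ →* Module.End K (K ⊗[k] V₀)).comp ρ₀

theorem bc_apply (ρ₀ : Representation k G V₀) (g : G) :
    bc K ρ₀ g = (ρ₀ g).baseChange K := rfl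

theorem finrank_range_baseChange_of_idem [FiniteDimensional k V₀] (π₀ : V₀ →ₗ[k] V₀)
    (hπ : ∀ v, π₀ (π₀ v) = π₀ v) :
    finrank K (LinearMap.range (π₀.baseChange K)) = finrank k (LinearMap.range π₀) := by
  set R₀ := LinearMap.range π₀ with hR₀
  set p : V₀ →ₗ[k] R₀ := π₀.rangeRestrict with hp
  set ι : R₀ →ₗ[k] V₀ := R₀.subtype with hι
  have h1 : p ∘ₗ ι = LinearMap.id := by
    apply LinearMap.ext
    rintro ⟨w, u, rfl⟩
    apply Subtype.ext
    show π₀ (π₀ u) = π₀ u
    exact hπ u
  have h2 : ι ∘ₗ p = π₀ := by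
    apply LinearMap.ext
    intro v
    rfl
  have h3 : (p.baseChange K) ∘ₗ (ι.baseChange K) = LinearMap.id := by
    rw [← LinearMap.baseChange_comp, h1, LinearMap.baseChange_id]
  have h4 : (ι.baseChange K) ∘ₗ (p.baseChange K) = π₀.baseChange K := by
    rw [← LinearMap.baseChange_comp, h2]
  have hinj : Function.Injective (ι.baseChange K) := by
    intro a b hab
    have := congrArg (p.baseChange K) hab
    rw [← LinearMap.comp_apply, ← LinearMap.comp_apply, h3] at this
    exact this
  have hsurj : Function.Surjective (p.baseChange K) := by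
    intro a
    refine ⟨ι.baseChange K a, ?_⟩
    rw [← LinearMap.comp_apply, h3]; rfl
  have hrange : LinearMap.range (π₀.baseChange K) = LinearMap.range (ι.baseChange K) := by
    rw [← h4, LinearMap.range_comp_of_range_eq_top]
    exact LinearMap.range_eq_top.mpr hsurj
  rw [hrange, LinearMap.finrank_range_of_inj hinj, Module.finrank_baseChange]

end BC


section Avg

variable {k : Type*} [Field k] {G : Type*} [Group G] {V₀ : Type*} [AddCommGroup V₀] [Module k V₀]

/-- the averaging operator of a finite subgroup -/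
noncomputable def avg (ρ₀ : Representation k G V₀) (B : Subgroup G) [Fintype B] : V₀ →ₗ[k] V₀ :=
  ((Fintype.card B : k))⁻¹ • ∑ b : B, ρ₀ (b : G)

theorem avg_apply (ρ₀ : Representation k G V₀) (B : Subgroup G) [Fintype B] (v : V₀) :
    avg ρ₀ B v = ((Fintype.card B : k))⁻¹ • ∑ b : B, ρ₀ (b : G) v := by
  unfold avg
  rw [LinearMap.smul_apply, LinearMap.sum_apply]

theorem rho_avg (ρ₀ : Representation k G V₀) (B : Subgroup G) [Fintype B] (b : G) (hb : b ∈ B)
    (v : V₀) : ρ₀ b (avg ρ₀ B v) = avg ρ₀ B v := by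
  rw [avg_apply, map_smul, map_sum]
  congr 1
  rw [← Equiv.sum_comp (Equiv.mulLeft (⟨b, hb⟩ : B)) (fun c : B => ρ₀ (c : G) v)]
  apply Finset.sum_congr rfl
  intro c _
  rw [← rho_mul_apply]
  rfl

theorem avg_mem_fixedBy (ρ₀ : Representation k G V₀) (B : Subgroup G) [Fintype B] (v : V₀) :
    avg ρ₀ B v ∈ fixedBy ρ₀ B := by
  rw [mem_fixedBy]
  intro b hb
  exact rho_avg ρ₀ B b hb v

theorem avg_of_fixed (ρ₀ : Representation k G V₀) (B : Subgroup G) [Fintype B]
    (hchar : (Fintype.card B : k) ≠ 0) {v : V₀} (hv : v ∈ fixedBy ρ₀ B) : avg ρ₀ B v = v := by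
  rw [mem_fixedBy] at hv
  rw [avg_apply, Finset.sum_congr rfl (fun (b : ↥B) _ => hv (b : G) b.2), Finset.sum_const,
    Finset.card_univ, ← Nat.cast_smul_eq_nsmul k, smul_smul, inv_mul_cancel₀ hchar, one_smul]

theorem range_avg (ρ₀ : Representation k G V₀) (B : Subgroup G) [Fintype B]
    (hchar : (Fintype.card B : k) ≠ 0) : LinearMap.range (avg ρ₀ B) = fixedBy ρ₀ B := by
  apply le_antisymm
  · rintro _ ⟨v, rfl⟩
    exact avg_mem_fixedBy ρ₀ B v
  · intro v hv
    exact ⟨v, avg_of_fixed ρ₀ B hchar hv⟩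

theorem avg_idem (ρ₀ : Representation k G V₀) (B : Subgroup G) [Fintype B]
    (hchar : (Fintype.card B : k) ≠ 0) (v : V₀) : avg ρ₀ B (avg ρ₀ B v) = avg ρ₀ B v :=
  avg_of_fixed ρ₀ B hchar (avg_mem_fixedBy ρ₀ B v)

variable (K : Type*) [Field K] [Algebra k K]

theorem avg_bc (ρ₀ : Representation k G V₀) (B : Subgroup G) [Fintype B] :
    (avg ρ₀ B).baseChange K = avg (bc K ρ₀) B := by
  unfold avg
  rw [LinearMap.baseChange_smul]
  have h1 : (∑ b : B, ρ₀ (b : G)).baseChange K = ∑ b : B, bc K ρ₀ (b : G) := by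
    have := map_sum (LinearMap.baseChangeHom k K V₀ V₀) (fun b : B => ρ₀ (b : G)) Finset.univ
    exact this
  rw [h1]
  apply LinearMap.ext
  intro x
  rw [LinearMap.smul_apply, LinearMap.smul_apply, ← algebraMap_smul K, map_inv₀, map_natCast]

theorem finrank_fixedBy_bc [FiniteDimensional k V₀] (ρ₀ : Representation k G V₀) (B : Subgroup G)
    [Finite B] (hchar : (Nat.card B : k) ≠ 0) :
    finrank K (fixedBy (bc K ρ₀) B) = finrank k (fixedBy ρ₀ B) := by
  letI : Fintype B := Fintype.ofFinite B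
  have hchar' : (Fintype.card B : k) ≠ 0 := by rwa [← Nat.card_eq_fintype_card]
  have hcharK : (Fintype.card B : K) ≠ 0 := by
    intro h0
    apply hchar'
    have : algebraMap k K (Fintype.card B : k) = 0 := by rw [map_natCast]; exact h0
    exact (map_eq_zero (algebraMap k K)).mp this
  rw [← range_avg ρ₀ B hchar', ← range_avg (bc K ρ₀) B hcharK, ← avg_bc]
  exact finrank_range_baseChange_of_idem K (avg ρ₀ B) (avg_idem ρ₀ B hchar')

end Avg

end Cfsg.Agent.Helper8.SecRep
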