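import Mathlib
import Cfsg.Agent.Lib.Helper8.SecRep1
import Cfsg.Agent.Lib.Helper8.SecRep2
import Cfsg.Agent.Lib.Helper1.Coprime

/-!
# Counting fixed points in a section under a coprime action (helper8 library)
-/

set_option autoImplicit false
set_option linter.unusedSectionVars false

namespace Cfsg.Agent.Helper8.SecRep

open Module Cfsg.Agent.Helper8.FrobLin

variable {X : Type*} [Group X] {L L₁ : Subgroup X} {ℓ : ℕ} [Fact ℓ.Prime]

theorem mem_fixedBy_secRep (h : IsSec L L₁ ℓ) (B : Subgroup X) (hB : B ≤ nn L L₁) (x : ↥L) :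
    secMk h x ∈ fixedBy (secRep h) (B.subgroupOf (nn L L₁)) ↔
      ∀ b ∈ B, (x : X)⁻¹ * b * x * b⁻¹ ∈ L₁ := by
  rw [mem_fixedBy]
  constructor
  · intro hx b hb
    have h1 := hx ⟨b, hB hb⟩ (by rw [Subgroup.mem_subgroupOf]; exact hb)
    rw [secRep_mk, secMk_eq_iff] at h1
    have h2 := L₁.inv_mem h1
    have h3 : (((cj L b (mem_nn.mp (hB hb)).1 x : ↥L) : X)⁻¹ * (x : X))⁻¹ =
        (x : X)⁻¹ * b * x * b⁻¹ := by
      rw [cj_coe]; group
    rw [h3] at h2
    exact h2
  · intro hx b hb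
    rw [Subgroup.mem_subgroupOf] at hb
    rw [secRep_mk, secMk_eq_iff]
    have h1 := L₁.inv_mem (hx (b : X) hb)
    have h3 : ((x : X)⁻¹ * (b : X) * x * (b : X)⁻¹)⁻¹ =
        ((cj L (b : X) (mem_nn.mp b.2).1 x : ↥L) : X)⁻¹ * (x : X) := by
      rw [cj_coe]; group
    rw [h3] at h1
    exact h1

/-- fixed points in a section lift to fixed points, for a coprime action -/
theorem exists_fixed_lift [Finite X] (h : IsSec L L₁ ℓ) (B : Subgroup X) (hB : B ≤ nn L L₁)
    (hcop : (Nat.card B).Coprime (Nat.card L₁))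
    (hsolv : Group.IsSolvable B ∨ Group.IsSolvable L₁) (w : SecW h)
    (hw : w ∈ fixedBy (secRep h) (B.subgroupOf (nn L L₁))) :
    ∃ c : ↥L, (c : X) ∈ Subgroup.centralizer (B : Set X) ∧ secMk h c = w := by
  obtain ⟨x, rfl⟩ := secMk_surjective h w
  rw [mem_fixedBy_secRep h B hB] at hw
  obtain ⟨c, hc, hcx⟩ := Helper1.exists_centralizer_mem_coset L₁ B
    (fun b hb => (mem_nn.mp (hB hb)).2) hcop hsolv (x : X) hw
  have hcL : c ∈ L := by
    have : c = (x : X) * ((x : X)⁻¹ * c) := by group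
    rw [this]
    exact L.mul_mem x.2 (h.le hcx)
  refine ⟨⟨c, hcL⟩, hc, ?_⟩
  rw [secMk_eq_iff]
  have h1 := L₁.inv_mem hcx
  have h2 : ((x : X)⁻¹ * c)⁻¹ = c⁻¹ * (x : X) := by group
  rw [h2] at h1
  exact h1


section Count

variable {X : Type*} [Group X] {L L₁ : Subgroup X} {ℓ : ℕ} [Fact ℓ.Prime]

/-- the number of fixed points of a coprime action on a section -/
theorem card_fixed_section [Finite X] (h : IsSec L L₁ ℓ) (B : Subgroup X) (hB : B ≤ nn L L₁)
    (hcop : (Nat.card B).Coprime (Nat.card L₁))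
    (hsolv : Group.IsSolvable B ∨ Group.IsSolvable L₁) :
    Nat.card ↥(fixedBy (secRep h) (B.subgroupOf (nn L L₁))) *
        Nat.card ↥(L₁ ⊓ Subgroup.centralizer (B : Set X)) =
      Nat.card ↥(L ⊓ Subgroup.centralizer (B : Set X)) := by
  classical
  haveI := h.normal_subgroupOf
  -- the map `C_L(B) → L / L₁`
  let f : ↥(L ⊓ Subgroup.centralizer (B : Set X)) →* (↥L ⧸ L₁.subgroupOf L) :=
    (QuotientGroup.mk' (L₁.subgroupOf L)).comp
      (Subgroup.inclusion (inf_le_left : L ⊓ Subgroup.centralizer (B : Set X) ≤ L))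
  have hf : ∀ c : ↥(L ⊓ Subgroup.centralizer (B : Set X)),
      Additive.ofMul (f c) = secMk h ⟨(c : X), (Subgroup.mem_inf.mp c.2).1⟩ := fun c => rfl
  have hcard := Subgroup.card_eq_card_quotient_mul_card_subgroup f.ker
  rw [Nat.card_congr (QuotientGroup.quotientKerEquivRange f).toEquiv] at hcard
  -- the kernel
  have hker : Nat.card ↥f.ker = Nat.card ↥(L₁ ⊓ Subgroup.centralizer (B : Set X)) := by
    apply Nat.card_congr
    refine
      { toFun := fun c => ⟨((c : ↥(L ⊓ Subgroup.centralizer (B : Set X))) : X), ?_⟩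
        invFun := fun c => ⟨⟨(c : X), ?_⟩, ?_⟩
        left_inv := fun c => rfl
        right_inv := fun c => rfl }
    · have hc := c.2
      rw [MonoidHom.mem_ker] at hc
      have h1 : secMk h ⟨((c : ↥(L ⊓ Subgroup.centralizer (B : Set X))) : X),
          (Subgroup.mem_inf.mp (c : ↥(L ⊓ Subgroup.centralizer (B : Set X))).2).1⟩ = 0 := by
        rw [← hf, hc]; rfl
      rw [secMk_eq_zero] at h1
      exact Subgroup.mem_inf.mpr ⟨h1, (Subgroup.mem_inf.mp (c : ↥(L ⊓ Subgroup.centralizer (B : Set X))).2).2⟩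
    · exact Subgroup.mem_inf.mpr ⟨h.le (Subgroup.mem_inf.mp c.2).1, (Subgroup.mem_inf.mp c.2).2⟩
    · rw [MonoidHom.mem_ker]
      have h1 : secMk h ⟨(c : X), h.le (Subgroup.mem_inf.mp c.2).1⟩ = 0 := by
        rw [secMk_eq_zero]
        exact (Subgroup.mem_inf.mp c.2).1
      exact h1
  -- the range
  have hrange : Nat.card ↥f.range =
      Nat.card ↥(fixedBy (secRep h) (B.subgroupOf (nn L L₁))) := by
    apply Nat.card_congr
    refine
      { toFun := fun w => ⟨Additive.ofMul (w : ↥L ⧸ L₁.subgroupOf L), ?_⟩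
        invFun := fun w => ⟨Additive.toMul (w : SecW h), ?_⟩
        left_inv := fun w => rfl
        right_inv := fun w => rfl }
    · obtain ⟨c, hc⟩ := w.2
      rw [← hc, hf, mem_fixedBy_secRep h B hB]
      intro b hb
      have hcb := (Subgroup.mem_inf.mp c.2).2
      rw [Subgroup.mem_centralizer_iff] at hcb
      have h1 : ((c : X))⁻¹ * b * (c : X) * b⁻¹ = 1 := by
        have := hcb b hb
        calc ((c : X))⁻¹ * b * (c : X) * b⁻¹ = ((c : X))⁻¹ * (b * (c : X)) * b⁻¹ := by group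
          _ = ((c : X))⁻¹ * ((c : X) * b) * b⁻¹ := by rw [this]
          _ = 1 := by group
      show (c : X)⁻¹ * b * (c : X) * b⁻¹ ∈ L₁
      rw [h1]
      exact L₁.one_mem
    · obtain ⟨c, hc, hcw⟩ := exists_fixed_lift h B hB hcop hsolv (w : SecW h) w.2
      refine ⟨⟨(c : X), Subgroup.mem_inf.mpr ⟨c.2, hc⟩⟩, ?_⟩
      have : Additive.ofMul (f ⟨(c : X), Subgroup.mem_inf.mpr ⟨c.2, hc⟩⟩) = (w : SecW h) := by
        rw [hf]; exact hcw
      exact this
  rw [hker, hrange] at hcard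
  rw [hcard]

theorem card_secW [Finite X] (h : IsSec L L₁ ℓ) : Nat.card (SecW h) * Nat.card ↥L₁ = Nat.card ↥L := by
  haveI := h.normal_subgroupOf
  have := Subgroup.card_eq_card_quotient_mul_card_subgroup (L₁.subgroupOf L)
  rw [Nat.card_congr (Subgroup.subgroupOfEquivOfLe h.le).toEquiv] at this
  rw [this]
  rfl

instance [Finite X] (h : IsSec L L₁ ℓ) : Finite (SecW h) :=
  inferInstanceAs (Finite (Additive (↥L ⧸ L₁.subgroupOf L)))

end Count

end Cfsg.Agent.Helper8.SecRep
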