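import Mathlib
import Cfsg.Agent.Lib.Helper8.SecRep3
import Cfsg.Agent.Lib.Helper8.FrobLin3

/-!
# The Frobenius–Wielandt formula on an elementary abelian section (helper8 library)
-/

set_option autoImplicit false
set_option linter.unusedSectionVars false

namespace Cfsg.Agent.Helper8.SecRep

open Module TensorProduct Cfsg.Agent.Helper8.FrobLin

section General

variable {F : Type*} [Field F] {G : Type*} [Group G] {V : Type*} [AddCommGroup V] [Module F V]

theorem fixedBy_sup (ρ : Representation F G V) (A B : Subgroup G) :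
    fixedBy ρ (A ⊔ B) = fixedBy ρ A ⊓ fixedBy ρ B := by
  apply le_antisymm
  · exact le_inf (fixedBy_anti ρ le_sup_left) (fixedBy_anti ρ le_sup_right)
  · intro v hv
    obtain ⟨hA, hB⟩ := Submodule.mem_inf.mp hv
    rw [mem_fixedBy] at hA hB ⊢
    let S : Subgroup G :=
      { carrier := {g | ρ g v = v}
        one_mem' := by show ρ 1 v = v; rw [map_one]; rfl
        mul_mem' := by
          intro a b ha hb
          show ρ (a * b) v = v
          rw [rho_mul_apply, hb, ha]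
        inv_mem' := by
          intro a ha
          show ρ a⁻¹ v = v
          have : ρ a v = v := ha
          conv_lhs => rw [← this]
          exact rho_inv_rho ρ a v }
    have hS : A ⊔ B ≤ S := sup_le (fun a ha => hA a ha) (fun b hb => hB b hb)
    intro x hx
    exact hS hx

theorem fixedBy_comp {G' : Type*} [Group G'] (ρ : Representation F G V) (φ : G' →* G)
    (B : Subgroup G') :
    fixedBy (ρ.comp φ : Representation F G' V) B = fixedBy ρ (B.map φ) := by
  ext v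
  rw [mem_fixedBy, mem_fixedBy]
  constructor
  · rintro h _ ⟨b, hb, rfl⟩
    exact h b hb
  · intro h b hb
    exact h (φ b) ⟨b, hb, rfl⟩

end General


section SecFW

variable {X : Type*} [Group X] [Finite X] {L L₁ : Subgroup X} {ℓ : ℕ} [Fact ℓ.Prime]

/-- the number of fixed points of `A` on the section -/
noncomputable def nfix (h : IsSec L L₁ ℓ) (A : Subgroup X) : ℕ :=
  Nat.card ↥(fixedBy (secRep h) (A.subgroupOf (nn L L₁)))

theorem card_submodule_zmod {W : Type*} [AddCommGroup W] [Module (ZMod ℓ) W] [Finite W]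
    (S : Submodule (ZMod ℓ) W) : Nat.card ↥S = ℓ ^ finrank (ZMod ℓ) ↥S := by
  letI : Fintype ↥S := Fintype.ofFinite _
  rw [Nat.card_eq_fintype_card, card_eq_pow_finrank (K := ZMod ℓ) (V := ↥S), ZMod.card]

theorem card_zmod_module {W : Type*} [AddCommGroup W] [Module (ZMod ℓ) W] [Finite W] :
    Nat.card W = ℓ ^ finrank (ZMod ℓ) W := by
  letI : Fintype W := Fintype.ofFinite _
  rw [Nat.card_eq_fintype_card, card_eq_pow_finrank (K := ZMod ℓ) (V := W), ZMod.card]

theorem natCast_ne_zero_of_not_dvd (K : Type*) [Field K] [CharP K ℓ] {n : ℕ} (hn : ¬ ℓ ∣ n) :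
    (n : K) ≠ 0 := by
  intro h0
  exact hn ((CharP.cast_eq_zero_iff K ℓ n).mp h0)

/-- **The Frobenius–Wielandt formula on a section.** -/
theorem sec_fw (h : IsSec L L₁ ℓ) (U E : Subgroup X) (hU : U ≤ nn L L₁) (hE : E ≤ nn L L₁)
    (hUn : ∀ e ∈ E, ∀ u ∈ U, e * u * e⁻¹ ∈ U)
    (hfpf : ∀ e ∈ E, e ≠ 1 → ∀ u ∈ U, e * u = u * e → u = 1)
    (hnil : Group.IsNilpotent ↥U) (hℓ : ¬ ℓ ∣ Nat.card ↥(U ⊔ E)) :
    Nat.card (SecW h) * nfix h (U ⊔ E) ^ Nat.card E = nfix h U * nfix h E ^ Nat.card E := by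
  classical
  have hΓ : U ⊔ E ≤ nn L L₁ := sup_le hU hE
  set φ : ↥(U ⊔ E) →* ↥(nn L L₁) := Subgroup.inclusion hΓ with hφ
  set ρ₀ : Representation (ZMod ℓ) ↥(U ⊔ E) (SecW h) := (secRep h).comp φ with hρ₀
  have hfix : ∀ A : Subgroup X, A ≤ U ⊔ E →
      fixedBy ρ₀ (A.subgroupOf (U ⊔ E)) = fixedBy (secRep h) (A.subgroupOf (nn L L₁)) := by
    intro A hA
    rw [hρ₀, fixedBy_comp]
    congr 1
    ext x
    rw [Subgroup.mem_map, Subgroup.mem_subgroupOf]
    constructor
    · rintro ⟨y, hy, rfl⟩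
      rw [Subgroup.mem_subgroupOf] at hy
      exact hy
    · intro hx
      exact ⟨⟨(x : X), hA hx⟩, by rw [Subgroup.mem_subgroupOf]; exact hx, rfl⟩
  -- the algebraic closure
  let K := AlgebraicClosure (ZMod ℓ)
  set ρ : Representation K ↥(U ⊔ E) (K ⊗[ZMod ℓ] SecW h) := bc K ρ₀ with hρ
  haveI hUnorm : (U.subgroupOf (U ⊔ E)).Normal := by
    constructor
    intro u hu g
    rw [Subgroup.mem_subgroupOf] at hu ⊢
    have hN : U ⊔ E ≤ Subgroup.normalizer (U : Set X) := by
      apply sup_le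
      · exact Subgroup.le_normalizer
      · intro e he
        rw [Subgroup.mem_normalizer_iff]
        intro x
        constructor
        · intro hx; exact hUn e he x hx
        · intro hx
          have := hUn e⁻¹ (E.inv_mem he) _ hx
          have h2 : e⁻¹ * (e * x * e⁻¹) * e⁻¹⁻¹ = x := by group
          rwa [h2] at this
    exact conj_mem_of_mem_normalizer (hN g.2) hu
  have hnil' : Group.IsNilpotent ↥(U.subgroupOf (U ⊔ E)) :=
    (Group.isNilpotent_congr (Subgroup.subgroupOfEquivOfLe (le_sup_left : U ≤ U ⊔ E))).mpr hnil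
  have hfpf' : ∀ e ∈ E.subgroupOf (U ⊔ E), e ≠ 1 → ∀ u ∈ U.subgroupOf (U ⊔ E),
      e * u = u * e → u = 1 := by
    intro e he he1 u hu heu
    rw [Subgroup.mem_subgroupOf] at he hu
    apply Subtype.ext
    apply hfpf (e : X) he (fun h1 => he1 (Subtype.ext h1)) (u : X) hu
    exact congrArg Subtype.val heu
  have hcardU : Nat.card ↥(U.subgroupOf (U ⊔ E)) = Nat.card ↥U :=
    Nat.card_congr (Subgroup.subgroupOfEquivOfLe (le_sup_left : U ≤ U ⊔ E)).toEquiv
  have hcardE : Nat.card ↥(E.subgroupOf (U ⊔ E)) = Nat.card ↥E :=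
    Nat.card_congr (Subgroup.subgroupOfEquivOfLe (le_sup_right : E ≤ U ⊔ E)).toEquiv
  have hℓU : ¬ ℓ ∣ Nat.card ↥U := fun hd => hℓ (hd.trans (Subgroup.card_dvd_of_le le_sup_left))
  have hℓE : ¬ ℓ ∣ Nat.card ↥E := fun hd => hℓ (hd.trans (Subgroup.card_dvd_of_le le_sup_right))
  have hcharU : (Nat.card ↥(U.subgroupOf (U ⊔ E)) : K) ≠ 0 := by
    rw [hcardU]; exact natCast_ne_zero_of_not_dvd K hℓU
  have key := fw_lin ρ (U.subgroupOf (U ⊔ E)) (E.subgroupOf (U ⊔ E)) hnil' hfpf' hcharU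
  -- the intersection
  have htop : U.subgroupOf (U ⊔ E) ⊔ E.subgroupOf (U ⊔ E) = (U ⊔ E).subgroupOf (U ⊔ E) :=
    (Subgroup.subgroupOf_sup le_sup_left le_sup_right).symm
  rw [← fixedBy_sup, htop] at key
  -- back to the prime field
  have hcardΓ : Nat.card ↥((U ⊔ E).subgroupOf (U ⊔ E)) = Nat.card ↥(U ⊔ E) :=
    Nat.card_congr (Subgroup.subgroupOfEquivOfLe (le_refl (U ⊔ E))).toEquiv
  have e1 := finrank_fixedBy_bc K ρ₀ (U.subgroupOf (U ⊔ E))
    (by rw [hcardU]; exact natCast_ne_zero_of_not_dvd (ZMod ℓ) hℓU)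
  have e2 := finrank_fixedBy_bc K ρ₀ (E.subgroupOf (U ⊔ E))
    (by rw [hcardE]; exact natCast_ne_zero_of_not_dvd (ZMod ℓ) hℓE)
  have e3 := finrank_fixedBy_bc K ρ₀ ((U ⊔ E).subgroupOf (U ⊔ E))
    (by rw [hcardΓ]; exact natCast_ne_zero_of_not_dvd (ZMod ℓ) hℓ)
  rw [← hρ] at e1 e2 e3
  rw [e1, e2, e3, Module.finrank_baseChange, hcardE, hfix U le_sup_left, hfix E le_sup_right,
    hfix (U ⊔ E) le_rfl] at key
  -- exponentiate
  unfold nfix
  rw [card_submodule_zmod, card_submodule_zmod, card_submodule_zmod, card_zmod_module (ℓ := ℓ) (W := SecW h),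
    ← pow_mul, ← pow_mul, ← pow_add, ← pow_add]
  congr 1
  linarith

end SecFW

end Cfsg.Agent.Helper8.SecRep
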