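import Mathlib
import Cfsg.Agent.Lib.Helper8.SecRep4

/-!
# Elementary abelian top sections of solvable groups, and the Frobenius–Wielandt formula (helper8)
-/

set_option autoImplicit false
set_option linter.unusedSectionVars false

namespace Cfsg.Agent.Helper8.SecRep

open Module

section ExistsSec

variable {X : Type*} [Group X] [Finite X]

/-- a nontrivial solvable subgroup has a proper subgroup, invariant under its normaliser, with
elementary abelian quotient -/
theorem exists_sec (L : Subgroup X) (hL : L ≠ ⊥) (hsolv : Group.IsSolvable ↥L) :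
    ∃ (ℓ : ℕ) (L₁ : Subgroup X), ℓ.Prime ∧ ℓ ∣ Nat.card ↥L ∧ IsSec L L₁ ℓ ∧ L₁ < L ∧
      Subgroup.normalizer (L : Set X) ≤ Subgroup.normalizer (L₁ : Set X) := by
  classical
  haveI : Nontrivial ↥L := (Subgroup.nontrivial_iff_ne_bot L).mpr hL
  have hcomm : commutator ↥L < ⊤ := Group.IsSolvable.commutator_lt_top_of_nontrivial ↥L
  haveI : Nontrivial (Abelianization ↥L) := by
    obtain ⟨y, _, hy⟩ := Set.exists_of_ssubset hcomm
    refine ⟨⟨Abelianization.of y, 1, ?_⟩⟩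
    intro h1
    apply hy
    rw [← Abelianization.ker_of]
    exact h1
  haveI : Finite (Abelianization ↥L) := by
    unfold Abelianization; infer_instance
  letI : Fintype (Abelianization ↥L) := Fintype.ofFinite _
  have hcard1 : Nat.card (Abelianization ↥L) ≠ 1 := by
    intro h1
    have := (Nat.card_eq_one_iff_unique.mp h1).1
    exact not_subsingleton (Abelianization ↥L) this
  obtain ⟨ℓ, hℓ, hℓd⟩ := Nat.exists_prime_and_dvd hcard1
  haveI : Fact ℓ.Prime := ⟨hℓ⟩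
  have hℓL : ℓ ∣ Nat.card ↥L := by
    refine hℓd.trans ?_
    have := Subgroup.card_eq_card_quotient_mul_card_subgroup (commutator ↥L)
    exact ⟨_, this⟩
  set pw : Abelianization ↥L →* Abelianization ↥L := powMonoidHom ℓ with hpw
  have hR : pw.range ≠ ⊤ := by
    intro htop
    have hsurj : Function.Surjective pw := MonoidHom.range_eq_top.mp htop
    have hinj : Function.Injective pw := Finite.injective_iff_surjective.mpr hsurj
    rw [Nat.card_eq_fintype_card] at hℓd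
    obtain ⟨q, hq⟩ := exists_prime_orderOf_dvd_card ℓ hℓd
    have h1 : pw q = pw 1 := by
      rw [map_one, hpw, powMonoidHom_apply, ← hq, pow_orderOf_eq_one]
    have h2 := hinj h1
    rw [h2, orderOf_one] at hq
    exact hℓ.one_lt.ne hq
  set L₁ : Subgroup X := (pw.range.comap Abelianization.of).map L.subtype with hL₁
  have hmem : ∀ x : X, x ∈ L₁ ↔ ∃ hx : x ∈ L, Abelianization.of (⟨x, hx⟩ : ↥L) ∈ pw.range := by
    intro x
    rw [hL₁, Subgroup.mem_map]
    constructor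
    · rintro ⟨y, hy, rfl⟩
      exact ⟨y.2, hy⟩
    · rintro ⟨hx, h1⟩
      exact ⟨⟨x, hx⟩, h1, rfl⟩
  have hle : L₁ ≤ L := fun x hx => ((hmem x).mp hx).1
  have hsec : IsSec L L₁ ℓ := by
    refine ⟨hle, ?_, ?_, ?_⟩
    · intro x hx n hn
      obtain ⟨hnL, hn2⟩ := (hmem n).mp hn
      rw [hmem]
      refine ⟨L.mul_mem (L.mul_mem hx hnL) (L.inv_mem hx), ?_⟩
      have : Abelianization.of (⟨x * n * x⁻¹, L.mul_mem (L.mul_mem hx hnL) (L.inv_mem hx)⟩ : ↥L) =
          Abelianization.of (⟨n, hnL⟩ : ↥L) := by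
        have h1 : (⟨x * n * x⁻¹, L.mul_mem (L.mul_mem hx hnL) (L.inv_mem hx)⟩ : ↥L) =
            ⟨x, hx⟩ * ⟨n, hnL⟩ * (⟨x, hx⟩ : ↥L)⁻¹ := rfl
        rw [h1, map_mul, map_mul, map_inv, mul_comm, inv_mul_cancel_left]
      rw [this]
      exact hn2
    · intro x hx y hy
      rw [hmem]
      refine ⟨L.mul_mem (L.mul_mem (L.mul_mem hx hy) (L.inv_mem hx)) (L.inv_mem hy), ?_⟩
      have : Abelianization.of (⟨x * y * x⁻¹ * y⁻¹,
          L.mul_mem (L.mul_mem (L.mul_mem hx hy) (L.inv_mem hx)) (L.inv_mem hy)⟩ : ↥L) = 1 := by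
        have h1 : (⟨x * y * x⁻¹ * y⁻¹,
            L.mul_mem (L.mul_mem (L.mul_mem hx hy) (L.inv_mem hx)) (L.inv_mem hy)⟩ : ↥L) =
            ⟨x, hx⟩ * ⟨y, hy⟩ * (⟨x, hx⟩ : ↥L)⁻¹ * (⟨y, hy⟩ : ↥L)⁻¹ := rfl
        rw [h1, map_mul, map_mul, map_mul, map_inv, map_inv]
        rw [mul_comm (Abelianization.of (⟨x, hx⟩ : ↥L)), mul_inv_cancel_right, mul_inv_cancel]
      rw [this]
      exact Subgroup.one_mem _
    · intro x hx
      rw [hmem]
      refine ⟨L.pow_mem hx ℓ, ?_⟩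
      refine ⟨Abelianization.of (⟨x, hx⟩ : ↥L), ?_⟩
      rw [hpw, powMonoidHom_apply, ← map_pow]
      rfl
  have hlt : L₁ < L := by
    refine lt_of_le_of_ne hle ?_
    intro heq
    apply hR
    rw [eq_top_iff]
    intro q _
    obtain ⟨y, rfl⟩ := QuotientGroup.mk_surjective q
    have hy : (y : X) ∈ L₁ := by rw [heq]; exact y.2
    obtain ⟨_, h2⟩ := (hmem _).mp hy
    exact h2
  refine ⟨ℓ, L₁, hℓ, hℓL, hsec, hlt, ?_⟩
  -- invariance under the normaliser
  have hinv : ∀ g ∈ Subgroup.normalizer (L : Set X), ∀ x ∈ L₁, g * x * g⁻¹ ∈ L₁ := by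
    intro g hg x hx
    obtain ⟨hxL, q, hq⟩ := (hmem x).mp hx
    rw [hmem]
    refine ⟨conj_mem_of_mem_normalizer hg hxL, ?_⟩
    refine ⟨Abelianization.map (cj L g hg).toMonoidHom q, ?_⟩
    have h1 : pw (Abelianization.map (cj L g hg).toMonoidHom q) =
        Abelianization.map (cj L g hg).toMonoidHom (pw q) := by
      rw [hpw, powMonoidHom_apply, powMonoidHom_apply, map_pow]
    rw [h1, hq, Abelianization.map_of]
    rfl
  intro g hg
  rw [Subgroup.mem_normalizer_iff]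
  intro x
  constructor
  · exact hinv g hg x
  · intro hx
    have := hinv g⁻¹ (Subgroup.inv_mem _ hg) _ hx
    have h2 : g⁻¹ * (g * x * g⁻¹) * g⁻¹⁻¹ = x := by group
    rwa [h2] at this

end ExistsSec


section FWGroup

variable {X : Type*} [Group X] [Finite X]

theorem normalizer_of_conj {L Γ : Subgroup X} (h : ∀ x ∈ Γ, ∀ l ∈ L, x * l * x⁻¹ ∈ L) :
    Γ ≤ Subgroup.normalizer (L : Set X) := by
  intro g hg
  rw [Subgroup.mem_normalizer_iff]
  intro x
  constructor
  · exact h g hg x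
  · intro hx
    have := h g⁻¹ (Γ.inv_mem hg) _ hx
    have h2 : g⁻¹ * (g * x * g⁻¹) * g⁻¹⁻¹ = x := by group
    rwa [h2] at this

theorem fw_arith (w nΓ nU nE cΓ cE cU l₁ e : ℕ) (hfw : w * nΓ ^ e = nU * nE ^ e)
    (hIH : cΓ ^ e * l₁ = cE ^ e * cU) :
    (nΓ * cΓ) ^ e * (w * l₁) = (nE * cE) ^ e * (nU * cU) := by
  calc (nΓ * cΓ) ^ e * (w * l₁) = (w * nΓ ^ e) * (cΓ ^ e * l₁) := by ring
    _ = (nU * nE ^ e) * (cE ^ e * cU) := by rw [hfw, hIH]
    _ = _ := by ring

/-- **Frobenius–Wielandt fixed point formula**, for a nilpotent kernel. -/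
theorem fw_group (U E : Subgroup X)
    (hUn : ∀ e ∈ E, ∀ u ∈ U, e * u * e⁻¹ ∈ U)
    (hfpf : ∀ e ∈ E, e ≠ 1 → ∀ u ∈ U, e * u = u * e → u = 1)
    (hnil : Group.IsNilpotent ↥U) :
    ∀ (n : ℕ) (L : Subgroup X), Nat.card ↥L = n → Group.IsSolvable ↥L →
      U ⊔ E ≤ Subgroup.normalizer (L : Set X) →
      (Nat.card ↥L).Coprime (Nat.card ↥(U ⊔ E)) →
      Nat.card ↥(L ⊓ Subgroup.centralizer ((U ⊔ E : Subgroup X) : Set X)) ^ Nat.card ↥E *
          Nat.card ↥L =
        Nat.card ↥(L ⊓ Subgroup.centralizer (E : Set X)) ^ Nat.card ↥E *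
          Nat.card ↥(L ⊓ Subgroup.centralizer (U : Set X)) := by
  intro n
  induction n using Nat.strong_induction_on with
  | _ n ih =>
    intro L hn hsolv hnorm hcop
    by_cases hL : L = ⊥
    · subst hL
      simp
    · obtain ⟨ℓ, L₁, hℓ, hℓL, hsec, hlt, hN⟩ := exists_sec L hL hsolv
      haveI : Fact ℓ.Prime := ⟨hℓ⟩
      have hcardlt : Nat.card ↥L₁ < Nat.card ↥L := by
        have h1 := Subgroup.card_le_of_le hlt.le
        rcases eq_or_lt_of_le h1 with h2 | h2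
        · exact absurd (Subgroup.eq_of_le_of_card_ge hlt.le h2.ge) hlt.ne
        · exact h2
      have hsolv₁ : Group.IsSolvable ↥L₁ :=
        solvable_of_solvable_injective (Subgroup.inclusion_injective hlt.le)
      have hnorm₁ : U ⊔ E ≤ Subgroup.normalizer (L₁ : Set X) := hnorm.trans hN
      have hdvd₁ : Nat.card ↥L₁ ∣ Nat.card ↥L := Subgroup.card_dvd_of_le hlt.le
      have hcop₁ : (Nat.card ↥L₁).Coprime (Nat.card ↥(U ⊔ E)) :=
        Nat.Coprime.coprime_dvd_left hdvd₁ hcop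
      have hIH := ih (Nat.card ↥L₁) (by rw [← hn]; exact hcardlt) L₁ rfl hsolv₁ hnorm₁ hcop₁
      have hΓ : U ⊔ E ≤ nn L L₁ := fun g hg => mem_nn.mpr ⟨hnorm hg, hnorm₁ hg⟩
      have hUnn : U ≤ nn L L₁ := le_sup_left.trans hΓ
      have hEnn : E ≤ nn L L₁ := le_sup_right.trans hΓ
      have hℓΓ : ¬ ℓ ∣ Nat.card ↥(U ⊔ E) := by
        intro hd
        have := Nat.dvd_gcd hℓL hd
        rw [hcop] at this
        exact hℓ.one_lt.ne' (Nat.dvd_one.mp this)
      have hfw := sec_fw hsec U E hUnn hEnn hUn hfpf hnil hℓΓ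
      have hcU : (Nat.card ↥U).Coprime (Nat.card ↥L₁) :=
        (Nat.Coprime.coprime_dvd_right (Subgroup.card_dvd_of_le le_sup_left) hcop₁).symm
      have hcE : (Nat.card ↥E).Coprime (Nat.card ↥L₁) :=
        (Nat.Coprime.coprime_dvd_right (Subgroup.card_dvd_of_le le_sup_right) hcop₁).symm
      have h1 := card_fixed_section hsec (U ⊔ E) hΓ hcop₁.symm (Or.inr hsolv₁)
      have h2 := card_fixed_section hsec E hEnn hcE (Or.inr hsolv₁)
      have h3 := card_fixed_section hsec U hUnn hcU (Or.inr hsolv₁)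
      have h4 := card_secW hsec
      unfold nfix at hfw
      rw [← h1, ← h2, ← h3, ← h4]
      exact fw_arith _ _ _ _ _ _ _ _ _ hfw hIH

end FWGroup

end Cfsg.Agent.Helper8.SecRep
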