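import Mathlib
import Cfsg.Agent.Lib.Helper8.SecRep5
import Cfsg.Agent.Lib.Helper8.FrobLin4

/-!
# Small fixed point sets on a section force abelian action (helper8 library)
-/

set_option autoImplicit false
set_option linter.unusedSectionVars false

namespace Cfsg.Agent.Helper8.SecRep

open Module TensorProduct Cfsg.Agent.Helper8.FrobLin

section SecComm

variable {X : Type*} [Group X] [Finite X] {L L₁ : Subgroup X} {ℓ : ℕ} [Fact ℓ.Prime]

/-- **Commutators act trivially on a section with few fixed points.** -/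
theorem sec_comm (h : IsSec L L₁ ℓ) (U E : Subgroup X) (hU : U ≤ nn L L₁) (hE : E ≤ nn L L₁)
    (hUn : ∀ e ∈ E, ∀ u ∈ U, e * u * e⁻¹ ∈ U)
    (hfpf : ∀ e ∈ E, e ≠ 1 → ∀ u ∈ U, e * u = u * e → u = 1)
    (hnil : Group.IsNilpotent ↥U) (hℓ : ¬ ℓ ∣ Nat.card ↥(U ⊔ E))
    (hfixE : nfix h E ≤ ℓ) :
    ∀ a ∈ U, ∀ b ∈ U, ∀ x ∈ L,
      (a * b * a⁻¹ * b⁻¹) * x * (a * b * a⁻¹ * b⁻¹)⁻¹ * x⁻¹ ∈ L₁ := by
  classical
  have hΓ : U ⊔ E ≤ nn L L₁ := sup_le hU hE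
  set φ : ↥(U ⊔ E) →* ↥(nn L L₁) := Subgroup.inclusion hΓ with hφ
  set ρ₀ : Representation (ZMod ℓ) ↥(U ⊔ E) (SecW h) := (secRep h).comp φ with hρ₀
  have hfix : ∀ A : Subgroup X, A ≤ U ⊔ E →
      fixedBy ρ₀ (A.subgroupOf (U ⊔ E)) = fixedBy (secRep h) (A.subgroupOf (nn L L₁)) := by
    intro A hA
    rw [hρ₀, fixedBy_comp]
    congr 1
    ext x
    rw [Subgroup.mem_map, Subgroup.mem_subgroupOf]
    constructor
    · rintro ⟨y, hy, rfl⟩
      rw [Subgroup.mem_subgroupOf] at hy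
      exact hy
    · intro hx
      exact ⟨⟨(x : X), hA hx⟩, by rw [Subgroup.mem_subgroupOf]; exact hx, rfl⟩
  -- the algebraic closure
  let K := AlgebraicClosure (ZMod ℓ)
  set ρ : Representation K ↥(U ⊔ E) (K ⊗[ZMod ℓ] SecW h) := bc K ρ₀ with hρ
  haveI hUnorm : (U.subgroupOf (U ⊔ E)).Normal := by
    constructor
    intro u hu g
    rw [Subgroup.mem_subgroupOf] at hu ⊢
    have hN : U ⊔ E ≤ Subgroup.normalizer (U : Set X) := by
      apply sup_le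
      · exact Subgroup.le_normalizer
      · exact normalizer_of_conj hUn
    exact conj_mem_of_mem_normalizer (hN g.2) hu
  have hnil' : Group.IsNilpotent ↥(U.subgroupOf (U ⊔ E)) :=
    (Group.isNilpotent_congr (Subgroup.subgroupOfEquivOfLe (le_sup_left : U ≤ U ⊔ E))).mpr hnil
  have hfpf' : ∀ e ∈ E.subgroupOf (U ⊔ E), e ≠ 1 → ∀ u ∈ U.subgroupOf (U ⊔ E),
      e * u = u * e → u = 1 := by
    intro e he he1 u hu heu
    rw [Subgroup.mem_subgroupOf] at he hu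
    apply Subtype.ext
    apply hfpf (e : X) he (fun h1 => he1 (Subtype.ext h1)) (u : X) hu
    exact congrArg Subtype.val heu
  have hcardU : Nat.card ↥(U.subgroupOf (U ⊔ E)) = Nat.card ↥U :=
    Nat.card_congr (Subgroup.subgroupOfEquivOfLe (le_sup_left : U ≤ U ⊔ E)).toEquiv
  have hcardE : Nat.card ↥(E.subgroupOf (U ⊔ E)) = Nat.card ↥E :=
    Nat.card_congr (Subgroup.subgroupOfEquivOfLe (le_sup_right : E ≤ U ⊔ E)).toEquiv
  have hℓU : ¬ ℓ ∣ Nat.card ↥U := fun hd => hℓ (hd.trans (Subgroup.card_dvd_of_le le_sup_left))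
  have hℓE : ¬ ℓ ∣ Nat.card ↥E := fun hd => hℓ (hd.trans (Subgroup.card_dvd_of_le le_sup_right))
  have hcharU : (Nat.card ↥(U.subgroupOf (U ⊔ E)) : K) ≠ 0 := by
    rw [hcardU]; exact natCast_ne_zero_of_not_dvd K hℓU
  have e2 := finrank_fixedBy_bc K ρ₀ (E.subgroupOf (U ⊔ E))
    (by rw [hcardE]; exact natCast_ne_zero_of_not_dvd (ZMod ℓ) hℓE)
  rw [← hρ] at e2
  have hdim : finrank K (fixedBy ρ (E.subgroupOf (U ⊔ E))) ≤ 1 := by
    rw [e2, hfix E le_sup_right]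
    unfold nfix at hfixE
    rw [card_submodule_zmod] at hfixE
    have hℓ1 : 1 < ℓ := (Fact.out : ℓ.Prime).one_lt
    by_contra hcon
    push_neg at hcon
    have : ℓ ^ 2 ≤ ℓ ^ finrank (ZMod ℓ) ↥(fixedBy (secRep h) (E.subgroupOf (nn L L₁))) :=
      Nat.pow_le_pow_right (by omega) hcon
    nlinarith
  have key := comm_of_fixed_le_one ρ (U.subgroupOf (U ⊔ E)) (E.subgroupOf (U ⊔ E)) hnil' hfpf'
    hcharU hdim
  -- descend to the prime field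
  have hinj : Function.Injective (TensorProduct.mk (ZMod ℓ) K (SecW h) 1) :=
    Module.Flat.tensorProduct_mk_injective (ZMod ℓ) (SecW h) K
  have key0 : ∀ a ∈ U.subgroupOf (U ⊔ E), ∀ b ∈ U.subgroupOf (U ⊔ E), ∀ w : SecW h,
      ρ₀ a (ρ₀ b w) = ρ₀ b (ρ₀ a w) := by
    intro a ha b hb w
    apply hinj
    have := key a ha b hb ((1 : K) ⊗ₜ[ZMod ℓ] w)
    rw [hρ, bc_apply, bc_apply, LinearMap.baseChange_tmul, LinearMap.baseChange_tmul,
      LinearMap.baseChange_tmul, LinearMap.baseChange_tmul] at this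
    exact this
  intro a ha b hb
  have haΓ : a ∈ U ⊔ E := (le_sup_left : U ≤ U ⊔ E) ha
  have hbΓ : b ∈ U ⊔ E := (le_sup_left : U ≤ U ⊔ E) hb
  have H : ∀ x ∈ L, (a * (b * x * b⁻¹) * a⁻¹)⁻¹ * (b * (a * x * a⁻¹) * b⁻¹) ∈ L₁ := by
    intro x hx
    have h1 := key0 ⟨a, haΓ⟩ (by rw [Subgroup.mem_subgroupOf]; exact ha) ⟨b, hbΓ⟩
      (by rw [Subgroup.mem_subgroupOf]; exact hb) (secMk h ⟨x, hx⟩)
    rw [hρ₀] at h1
    simp only [MonoidHom.comp_apply] at h1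
    rw [secRep_mk, secRep_mk, secRep_mk, secRep_mk, secMk_eq_iff] at h1
    simp only [cj_coe, hφ, Subgroup.coe_inclusion] at h1
    exact h1
  intro x hx
  have hbaN : b * a ∈ Subgroup.normalizer (L : Set X) :=
    Subgroup.mul_mem _ (mem_nn.mp (hU hb)).1 (mem_nn.mp (hU ha)).1
  have hx' : (b * a)⁻¹ * x * (b * a) ∈ L := conj_mem_of_mem_normalizer' hbaN hx
  have h2 := H _ hx'
  have h3 : (a * (b * ((b * a)⁻¹ * x * (b * a)) * b⁻¹) * a⁻¹)⁻¹ *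
      (b * (a * ((b * a)⁻¹ * x * (b * a)) * a⁻¹) * b⁻¹) =
      ((a * b * a⁻¹ * b⁻¹) * x * (a * b * a⁻¹ * b⁻¹)⁻¹)⁻¹ * x := by group
  rw [h3] at h2
  have h4 : a * b * a⁻¹ * b⁻¹ * x * (a * b * a⁻¹ * b⁻¹)⁻¹ * x⁻¹ =
      x * (((a * b * a⁻¹ * b⁻¹) * x * (a * b * a⁻¹ * b⁻¹)⁻¹)⁻¹ * x)⁻¹ * x⁻¹ := by group
  rw [h4]
  exact h.normal x hx _ (L₁.inv_mem h2)

end SecComm

end Cfsg.Agent.Helper8.SecRep
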