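import Mathlib
import Cfsg.Agent.Lib.Helper8.SecRep6

/-!
# Frobenius groups acting on elementary abelian groups with small centraliser (helper8 library)
-/

set_option autoImplicit false
set_option linter.unusedSectionVars false

namespace Cfsg.Agent.Helper8.SecRep

open Module TensorProduct Cfsg.Agent.Helper8.FrobLin

section ElemAb

variable {X : Type*} [Group X] [Finite X]

theorem isSec_bot (V : Subgroup X) (ℓ : ℕ) (hVc : ∀ x ∈ V, ∀ y ∈ V, x * y = y * x)
    (hVp : ∀ x ∈ V, x ^ ℓ = 1) : IsSec V ⊥ ℓ := by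
  refine ⟨bot_le, ?_, ?_, ?_⟩
  · intro x _ n hn
    rw [Subgroup.mem_bot] at hn ⊢
    rw [hn]; group
  · intro x hx y hy
    rw [Subgroup.mem_bot, hVc x hx y hy]
    group
  · intro x hx
    rw [Subgroup.mem_bot]
    exact hVp x hx

theorem normalizer_bot : Subgroup.normalizer (((⊥ : Subgroup X)) : Set X) = ⊤ := by
  rw [eq_top_iff]
  intro g _
  rw [Subgroup.mem_normalizer_iff]
  intro x
  rw [Subgroup.mem_bot, Subgroup.mem_bot]
  constructor
  · intro hx; rw [hx]; group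
  · intro hx
    have : x = g⁻¹ * (g * x * g⁻¹) * g := by group
    rw [this, hx]; group

/-- a Frobenius group `UE` acting on an elementary abelian `ℓ`-group `V` with `|C_V(E)| ≤ ℓ`:
commutators of `U` centralise `V` -/
theorem elem_abelian_comm (U E V : Subgroup X) (ℓ : ℕ) [Fact ℓ.Prime]
    (hVc : ∀ x ∈ V, ∀ y ∈ V, x * y = y * x) (hVp : ∀ x ∈ V, x ^ ℓ = 1)
    (hUV : U ≤ Subgroup.normalizer (V : Set X)) (hEV : E ≤ Subgroup.normalizer (V : Set X))
    (hUn : ∀ e ∈ E, ∀ u ∈ U, e * u * e⁻¹ ∈ U)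
    (hfpf : ∀ e ∈ E, e ≠ 1 → ∀ u ∈ U, e * u = u * e → u = 1)
    (hnil : Group.IsNilpotent ↥U) (hℓ : ¬ ℓ ∣ Nat.card ↥(U ⊔ E))
    (hfix : Nat.card ↥(V ⊓ Subgroup.centralizer (E : Set X)) ≤ ℓ) :
    ∀ a ∈ U, ∀ b ∈ U, a * b * a⁻¹ * b⁻¹ ∈ Subgroup.centralizer (V : Set X) := by
  have h := isSec_bot V ℓ hVc hVp
  have hnn : nn V ⊥ = Subgroup.normalizer (V : Set X) := by
    unfold nn
    rw [normalizer_bot, inf_top_eq]
  have hU : U ≤ nn V ⊥ := by rw [hnn]; exact hUV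
  have hE : E ≤ nn V ⊥ := by rw [hnn]; exact hEV
  have hcard := card_fixed_section h E hE (by rw [Subgroup.card_bot]; exact Nat.coprime_one_right _)
    (Or.inr (inferInstance : Group.IsSolvable ↥(⊥ : Subgroup X)))
  have hbot : Nat.card ↥((⊥ : Subgroup X) ⊓ Subgroup.centralizer (E : Set X)) = 1 := by
    rw [bot_inf_eq, Subgroup.card_bot]
  rw [hbot, mul_one] at hcard
  have hfixE : nfix h E ≤ ℓ := by
    unfold nfix
    rw [hcard]
    exact hfix
  have key := sec_comm h U E hU hE hUn hfpf hnil hℓ hfixE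
  intro a ha b hb
  rw [Subgroup.mem_centralizer_iff]
  intro x hx
  have h1 := key a ha b hb x hx
  rw [Subgroup.mem_bot] at h1
  have h2 : a * b * a⁻¹ * b⁻¹ * x = (a * b * a⁻¹ * b⁻¹ * x * (a * b * a⁻¹ * b⁻¹)⁻¹ * x⁻¹) * x *
      (a * b * a⁻¹ * b⁻¹) := by group
  rw [h2, h1, one_mul]

end ElemAb

end Cfsg.Agent.Helper8.SecRep
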