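import Mathlib
import Cfsg.Agent.Lib.Helper8.SecRep7

/-!
# Linearisation of the action on an elementary abelian subgroup (helper8 library)

For an elementary abelian `p`-subgroup `V` of a finite group `X` and a subgroup `Γ` normalising `V`,
`linRep` is the representation of `Γ` on `K ⊗ V` over the algebraic closure `K` of `𝔽_p`.
-/

set_option autoImplicit false
set_option linter.unusedSectionVars false

namespace Cfsg.Agent.Helper8.SecRep

open Module TensorProduct Cfsg.Agent.Helper8.FrobLin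

section Lin

variable {X : Type*} [Group X] [Finite X]

/-- the algebraic closure of the prime field -/
abbrev LK (p : ℕ) [Fact p.Prime] : Type := AlgebraicClosure (ZMod p)

variable (V Γ : Subgroup X) (p : ℕ) [Fact p.Prime]
  (hVc : ∀ x ∈ V, ∀ y ∈ V, x * y = y * x) (hVp : ∀ x ∈ V, x ^ p = 1)
  (hΓ : Γ ≤ Subgroup.normalizer (V : Set X))

theorem le_nn_bot {V Γ : Subgroup X} (hΓ : Γ ≤ Subgroup.normalizer (V : Set X)) : Γ ≤ nn V ⊥ := by
  unfold nn
  rw [normalizer_bot, inf_top_eq]
  exact hΓ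

/-- the representation over the prime field -/
noncomputable def linRep₀ :
    Representation (ZMod p) ↥Γ (SecW (isSec_bot V p hVc hVp)) :=
  (secRep (isSec_bot V p hVc hVp)).comp (Subgroup.inclusion (le_nn_bot hΓ))

/-- the representation over the algebraic closure -/
noncomputable def linRep :
    Representation (LK p) ↥Γ (LK p ⊗[ZMod p] SecW (isSec_bot V p hVc hVp)) :=
  bc (LK p) (linRep₀ V Γ p hVc hVp hΓ)

theorem linRep₀_mk (g : ↥Γ) (x : ↥V) :
    linRep₀ V Γ p hVc hVp hΓ g (secMk (isSec_bot V p hVc hVp) x) =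
      secMk (isSec_bot V p hVc hVp) ⟨(g : X) * x * (g : X)⁻¹,
        conj_mem_of_mem_normalizer (hΓ g.2) x.2⟩ := by
  unfold linRep₀
  rw [MonoidHom.comp_apply, secRep_mk]
  rfl

theorem linRep₀_eq_one_iff (g : ↥Γ) :
    linRep₀ V Γ p hVc hVp hΓ g = 1 ↔ (g : X) ∈ Subgroup.centralizer (V : Set X) := by
  constructor
  · intro h1
    rw [Subgroup.mem_centralizer_iff]
    intro x hx
    have h2 := LinearMap.congr_fun h1 (secMk (isSec_bot V p hVc hVp) ⟨x, hx⟩)
    rw [linRep₀_mk] at h2
    have h3 : (1 : SecW (isSec_bot V p hVc hVp) →ₗ[ZMod p] SecW (isSec_bot V p hVc hVp))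
        (secMk (isSec_bot V p hVc hVp) ⟨x, hx⟩) = secMk (isSec_bot V p hVc hVp) ⟨x, hx⟩ := rfl
    rw [h3, secMk_eq_iff, Subgroup.mem_bot] at h2
    simp only at h2
    have h4 : (g : X) * x = ((g : X) * x * (g : X)⁻¹) * g := by group
    have h5 : (g : X) * x * (g : X)⁻¹ = x := by
      rw [inv_mul_eq_one] at h2
      exact h2
    rw [h4, h5]
  · intro hg
    rw [Subgroup.mem_centralizer_iff] at hg
    apply LinearMap.ext
    intro w
    obtain ⟨x, rfl⟩ := secMk_surjective (isSec_bot V p hVc hVp) w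
    rw [linRep₀_mk]
    show _ = secMk (isSec_bot V p hVc hVp) x
    congr 1
    apply Subtype.ext
    show (g : X) * x * (g : X)⁻¹ = x
    rw [← hg x x.2]
    group

theorem linRep_eq_one_iff (g : ↥Γ) :
    linRep V Γ p hVc hVp hΓ g = 1 ↔ (g : X) ∈ Subgroup.centralizer (V : Set X) := by
  rw [← linRep₀_eq_one_iff V Γ p hVc hVp hΓ]
  unfold linRep
  rw [bc_apply]
  constructor
  · intro h1
    have hinj : Function.Injective
        (TensorProduct.mk (ZMod p) (LK p) (SecW (isSec_bot V p hVc hVp)) 1) :=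
      Module.Flat.tensorProduct_mk_injective (ZMod p) (SecW (isSec_bot V p hVc hVp)) (LK p)
    apply LinearMap.ext
    intro w
    apply hinj
    have := LinearMap.congr_fun h1 ((1 : LK p) ⊗ₜ[ZMod p] w)
    rw [LinearMap.baseChange_tmul] at this
    exact this
  · intro h1
    rw [h1]
    exact LinearMap.baseChange_id

theorem linRep_fixed (A : Subgroup X) (hA : A ≤ Γ) (hpA : ¬ p ∣ Nat.card ↥A) :
    p ^ finrank (LK p) (fixedBy (linRep V Γ p hVc hVp hΓ) (A.subgroupOf Γ)) =
      Nat.card ↥(V ⊓ Subgroup.centralizer (A : Set X)) := by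
  have hcardA : Nat.card ↥(A.subgroupOf Γ) = Nat.card ↥A :=
    Nat.card_congr (Subgroup.subgroupOfEquivOfLe hA).toEquiv
  have e1 := finrank_fixedBy_bc (LK p) (linRep₀ V Γ p hVc hVp hΓ) (A.subgroupOf Γ)
    (by rw [hcardA]; exact natCast_ne_zero_of_not_dvd (ZMod p) hpA)
  unfold linRep
  rw [e1]
  have hfix : fixedBy (linRep₀ V Γ p hVc hVp hΓ) (A.subgroupOf Γ) =
      fixedBy (secRep (isSec_bot V p hVc hVp)) (A.subgroupOf (nn V ⊥)) := by
    unfold linRep₀
    rw [fixedBy_comp]
    congr 1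
    ext x
    rw [Subgroup.mem_map, Subgroup.mem_subgroupOf]
    constructor
    · rintro ⟨y, hy, rfl⟩
      rw [Subgroup.mem_subgroupOf] at hy
      exact hy
    · intro hx
      exact ⟨⟨(x : X), hA hx⟩, by rw [Subgroup.mem_subgroupOf]; exact hx, rfl⟩
  rw [hfix, ← card_submodule_zmod]
  have hcard := card_fixed_section (isSec_bot V p hVc hVp) A (hA.trans (le_nn_bot hΓ))
    (by rw [Subgroup.card_bot]; exact Nat.coprime_one_right _)
    (Or.inr (inferInstance : Group.IsSolvable ↥(⊥ : Subgroup X)))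
  have hbot : Nat.card ↥((⊥ : Subgroup X) ⊓ Subgroup.centralizer (A : Set X)) = 1 := by
    rw [bot_inf_eq, Subgroup.card_bot]
  rw [hbot, mul_one] at hcard
  exact hcard

end Lin

end Cfsg.Agent.Helper8.SecRep
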