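import Mathlib
import Cfsg.Agent.Lib.Helper8.HHLin5

/-!
# The Hall–Higman type bound for a central subgroup of prime order (helper8 library)
-/

set_option autoImplicit false
set_option linter.unusedSectionVars false

namespace Cfsg.Agent.Helper8.HHLin

open Module Cfsg.Agent.Helper8.FrobLin

section Central

variable {F : Type*} [Field F] [IsAlgClosed F] {G : Type*} [Group G] [Finite G]
  {V : Type*} [AddCommGroup V] [Module F V] [FiniteDimensional F V]
  (ρ : Representation F G V) (M N : Subgroup G) [M.Normal] [N.Normal]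

attribute [local instance] dualAct

/-- **Hall–Higman type bound**, when `N` is central of prime order with `Z(M) ≤ N`. -/
theorem hh_central (E : Subgroup G) (hNM : N ≤ M)
    (hcomm : ∀ a ∈ M, ∀ b ∈ M, a * b * a⁻¹ * b⁻¹ ∈ N)
    (hcentral : ∀ z ∈ N, ∀ g : G, g * z = z * g)
    (hq : (Nat.card ↥N).Prime)
    (hZ : ∀ g ∈ M, (∀ y ∈ M, y * g = g * y) → g ∈ N)
    (hfpf : ∀ e ∈ E, e ≠ 1 → ∀ m ∈ M, e * m * e⁻¹ * m⁻¹ ∈ N → m ∈ N)
    (hab : ∀ a ∈ E, ∀ b ∈ E, a * b = b * a)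
    (hcharM : (Nat.card ↥M : F) ≠ 0) (hcharE : (Nat.card ↥E : F) ≠ 0)
    (hfix : fixedBy ρ E = ⊥) (hact : ∃ z ∈ N, ρ z ≠ 1) :
    Nat.card ↥M ≤ (Nat.card ↥E - 1) ^ 2 * Nat.card ↥N := by
  classical
  set N₀ : Subgroup G := ⊥ with hN₀
  letI : Fintype ↥N := Fintype.ofFinite _
  letI : Fintype ((↥N ⧸ N₀.subgroupOf N) →* Fˣ) := Fintype.ofFinite _
  have hcharN : (Nat.card ↥N : F) ≠ 0 := by
    intro h0
    apply hcharM
    obtain ⟨k, hk⟩ := Subgroup.card_dvd_of_le hNM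
    rw [hk]; push_cast; rw [h0, zero_mul]
  have hcomm₀ : ∀ a ∈ N, ∀ b ∈ N, a * b * a⁻¹ * b⁻¹ ∈ N₀ := by
    intro a _ b hb
    rw [hN₀, Subgroup.mem_bot, hcentral b hb a]
    group
  set P : ((↥N ⧸ N₀.subgroupOf N) →* Fˣ) → (V →ₗ[F] V) := fun χ => wproj ρ N N₀ χ with hP
  have horth : ∀ χ χ' : (↥N ⧸ N₀.subgroupOf N) →* Fˣ, ∀ v : V,
      P χ (P χ' v) = if χ = χ' then P χ v else 0 := fun χ χ' v => wproj_orth ρ N N₀ hcharN χ χ' v
  have hrS : LinearMap.range (∑ χ, P χ) = ⊤ := by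
    rw [range_sum_wproj ρ N N₀ bot_le hcomm₀ hcharN, eq_top_iff]
    intro v _
    rw [mem_fixedBy]
    intro x hx
    rw [hN₀, Subgroup.mem_bot] at hx
    rw [hx, map_one]; rfl
  have hr1 : LinearMap.range (P 1) = fixedBy ρ N := range_wproj_one ρ N N₀ hcharN
  -- a non-trivial weight
  obtain ⟨lmb, hlmb1, hlmb0⟩ : ∃ χ : (↥N ⧸ N₀.subgroupOf N) →* Fˣ, χ ≠ 1 ∧ P χ ≠ 0 := by
    by_contra hcon
    push_neg at hcon
    have hsumP : ∑ χ, P χ = P 1 := by
      rw [← Finset.add_sum_erase Finset.univ P (Finset.mem_univ 1)]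
      rw [Finset.sum_eq_zero, add_zero]
      intro χ hχ
      exact hcon χ (Finset.ne_of_mem_erase hχ)
    rw [hsumP, hr1] at hrS
    obtain ⟨z, hz, hz1⟩ := hact
    apply hz1
    apply LinearMap.ext
    intro v
    have hv : v ∈ fixedBy ρ N := by rw [hrS]; trivial
    rw [mem_fixedBy] at hv
    rw [hv z hz]; rfl
  set W : Submodule F V := LinearMap.range (P lmb) with hW
  have hWinv : ∀ g : G, W ≤ W.comap (ρ g) := by
    intro g w hw
    obtain ⟨v, rfl⟩ := hw
    rw [Submodule.mem_comap]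
    refine ⟨ρ g v, ?_⟩
    have h1 := wproj_equi ρ N N₀ g lmb v
    rw [smul_eq_of_comm N N₀ (fun m hm => hcentral m hm g) lmb] at h1
    exact h1.symm
  set ρ' : Representation F G W := ρ.subrepresentation W hWinv with hρ'
  have hρ'_apply : ∀ (g : G) (w : W), ((ρ' g w : W) : V) = ρ g (w : V) := fun g w => rfl
  have hWne : W ≠ ⊥ := by
    rw [hW, ne_eq, LinearMap.range_eq_bot]
    exact hlmb0
  have hV : 0 < finrank F W := by
    rw [Nat.pos_iff_ne_zero, ne_eq, Submodule.finrank_eq_zero]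
    exact hWne
  set lam : ↥N →* Fˣ := lmb.comp (QuotientGroup.mk' (N₀.subgroupOf N)) with hlam_def
  have hlam : ∀ (z : ↥N) (w : W), ρ' (z : G) w = ((lam z : Fˣ) : F) • w := by
    intro z w
    apply Subtype.ext
    rw [hρ'_apply]
    obtain ⟨v, hv⟩ := w.2
    rw [Submodule.coe_smul, ← hv]
    exact wproj_act ρ N N₀ lmb z v
  have hfix' : fixedBy ρ' E = ⊥ := by
    rw [eq_bot_iff]
    intro w hw
    rw [Submodule.mem_bot]
    apply Subtype.ext
    have h1 : (w : V) ∈ fixedBy ρ E := by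
      rw [mem_fixedBy] at hw ⊢
      intro x hx
      have := hw x hx
      rw [← hρ'_apply, this]
    rw [hfix, Submodule.mem_bot] at h1
    exact h1
  have hlam_ne : lam ≠ 1 := by
    intro h1
    apply hlmb1
    apply MonoidHom.ext
    intro a
    obtain ⟨z, rfl⟩ := QuotientGroup.mk'_surjective (N₀.subgroupOf N) a
    exact DFunLike.congr_fun h1 z
  have hker : lam.ker = ⊥ := by
    haveI : Fact (Nat.card ↥N).Prime := ⟨hq⟩
    rcases lam.ker.eq_bot_or_eq_top_of_prime_card with h | h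
    · exact h
    · exfalso
      apply hlam_ne
      apply MonoidHom.ext
      intro z
      have : z ∈ lam.ker := by rw [h]; trivial
      exact this
  have hnd : ∀ g ∈ M, (∀ y ∈ M, ρ' (y * g * y⁻¹ * g⁻¹) = 1) → g ∈ N := by
    intro g hg hall
    apply hZ g hg
    intro y hy
    have hzN := hcomm y hy g hg
    have h1 := hall y hy
    have h2 : lam ⟨y * g * y⁻¹ * g⁻¹, hzN⟩ = 1 := by
      apply Units.ext
      have h3 := rho_scalar ρ' N lam hlam ⟨y * g * y⁻¹ * g⁻¹, hzN⟩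
      simp only at h3
      rw [h1] at h3
      have h4 : (1 : F) • ρ' (1 : G) = ((lam ⟨y * g * y⁻¹ * g⁻¹, hzN⟩ : Fˣ) : F) • ρ' (1 : G) := by
        rw [map_one, one_smul]
        exact h3
      exact (smul_cancel_rho ρ' hV 1 h4).symm
    have h5 : (⟨y * g * y⁻¹ * g⁻¹, hzN⟩ : ↥N) ∈ lam.ker := h2
    rw [hker, Subgroup.mem_bot] at h5
    have h6 : y * g * y⁻¹ * g⁻¹ = 1 := congrArg Subtype.val h5
    calc y * g = (y * g * y⁻¹ * g⁻¹) * g * y := by group
      _ = g * y := by rw [h6, one_mul]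
  exact hh_bound ρ' M N E hNM hcomm lam hlam hnd hfpf hab hcharM hcharE hfix' hV

end Central

end Cfsg.Agent.Helper8.HHLin
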