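import Mathlib
import Cfsg.Agent.Lib.Helper8.HHLin6
import Cfsg.Agent.Lib.Helper8.SecRep9

/-!
# The Hall–Higman type bound for groups (helper8 library)

`extraspecial_bound`: the bound `|Q| ≤ (r - 1)² q` for an extraspecial-like `q`-group `Q` acted on
by `X` of order `r` with `C_Q(X) = Z(Q)`, when `XQ` acts faithfully on an elementary abelian
`p`-group `V` with `C_V(X) = 1`.
-/

set_option autoImplicit false
set_option linter.unusedSectionVars false

namespace Cfsg.Agent.Helper8.HHLin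

open Module Cfsg.Agent.Helper8.FrobLin Cfsg.Agent.Helper8.SecRep

section RelFpf

variable {G : Type*} [Group G] [Finite G]

/-- a coprime automorphism whose fixed points in `M` lie in `N` has no fixed points on `M / N` -/
theorem rel_fpf' (M N : Subgroup G) [N.Normal] (hNM : N ≤ M) (e : G)
    (hcop : (orderOf e).Coprime (Nat.card ↥N))
    (hcent : ∀ m ∈ M, e * m = m * e → m ∈ N) :
    ∀ m ∈ M, e * m * e⁻¹ * m⁻¹ ∈ N → m ∈ N := by
  intro m hmM hm
  have hcop' : (Nat.card ↥(Subgroup.zpowers e)).Coprime (Nat.card ↥N) := by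
    rw [Nat.card_zpowers]
    exact hcop
  have hx : ∀ a ∈ Subgroup.zpowers e, m⁻¹ * a * m * a⁻¹ ∈ N := by
    intro a ha
    let S : Subgroup G :=
      { carrier := {a | m⁻¹ * a * m * a⁻¹ ∈ N}
        one_mem' := by simp
        mul_mem' := by
          intro a b ha hb
          simp only [Set.mem_setOf_eq] at ha hb ⊢
          have h1 : m⁻¹ * (a * b) * m * (a * b)⁻¹ =
              (m⁻¹ * a * m * a⁻¹) * (a * (m⁻¹ * b * m * b⁻¹) * a⁻¹) := by group
          rw [h1]
          exact N.mul_mem ha (‹N.Normal›.conj_mem _ hb a)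
        inv_mem' := by
          intro a ha
          simp only [Set.mem_setOf_eq] at ha ⊢
          have h1 : m⁻¹ * a⁻¹ * m * a⁻¹⁻¹ = a⁻¹ * (m⁻¹ * a * m * a⁻¹)⁻¹ * a⁻¹⁻¹ := by group
          rw [h1]
          exact ‹N.Normal›.conj_mem _ (N.inv_mem ha) a⁻¹ }
    have heS : e ∈ S := by
      show m⁻¹ * e * m * e⁻¹ ∈ N
      have h1 : m⁻¹ * e * m * e⁻¹ = m⁻¹ * (e * m * e⁻¹ * m⁻¹) * m⁻¹⁻¹ := by group
      rw [h1]
      exact ‹N.Normal›.conj_mem _ hm m⁻¹
    exact (Subgroup.zpowers_le.mpr heS) ha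
  obtain ⟨c, hc, hcN⟩ := Helper1.exists_centralizer_mem_coset N (Subgroup.zpowers e)
    (by rw [Subgroup.normalizer_eq_top]; exact le_top) hcop'
    (Or.inl inferInstance) m hx
  have hcM : c ∈ M := by
    have : c = m * (m⁻¹ * c) := by group
    rw [this]
    exact M.mul_mem hmM (hNM hcN)
  have hcN' : c ∈ N := by
    apply hcent c hcM
    rw [Subgroup.mem_centralizer_iff] at hc
    exact hc e (Subgroup.mem_zpowers e)
  have h1 : m = c * (m⁻¹ * c)⁻¹ := by group
  rw [h1]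
  exact N.mul_mem hcN' (N.inv_mem hcN)

end RelFpf

section GroupBound

variable {G : Type*} [Group G] [Finite G]

theorem card_subgroupOf_of_le {A Γ : Subgroup G} (h : A ≤ Γ) :
    Nat.card ↥(A.subgroupOf Γ) = Nat.card ↥A :=
  Nat.card_congr (Subgroup.subgroupOfEquivOfLe h).toEquiv

/-- **Hall–Higman type bound, group form.** -/
theorem group_hh_bound (p : ℕ) [Fact p.Prime] (X Q Z V : Subgroup G)
    (hXcard : (Nat.card ↥X).Prime) (hZQ : Z ≤ Q) (hZcard : (Nat.card ↥Z).Prime)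
    (hXQ : X ≤ Subgroup.normalizer (Q : Set G))
    (hQcomm : ∀ a ∈ Q, ∀ b ∈ Q, a * b * a⁻¹ * b⁻¹ ∈ Z)
    (hZcenter : ∀ g ∈ Q, (∀ y ∈ Q, y * g = g * y) → g ∈ Z)
    (hZQc : ∀ z ∈ Z, ∀ g ∈ Q, g * z = z * g)
    (hZX : ∀ z ∈ Z, ∀ g ∈ X, g * z = z * g)
    (hCQ : ∀ g ∈ Q, (∀ x ∈ X, x * g = g * x) → g ∈ Z)
    (hVc : ∀ x ∈ V, ∀ y ∈ V, x * y = y * x) (hVp : ∀ x ∈ V, x ^ p = 1)
    (hXV : X ≤ Subgroup.normalizer (V : Set G)) (hQV : Q ≤ Subgroup.normalizer (V : Set G))
    (hpQ : ¬ p ∣ Nat.card ↥Q) (hpX : ¬ p ∣ Nat.card ↥X)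
    (hcopXZ : (Nat.card ↥X).Coprime (Nat.card ↥Z))
    (hfaithZ : Z ⊓ Subgroup.centralizer (V : Set G) = ⊥)
    (hCV : V ⊓ Subgroup.centralizer (X : Set G) = ⊥) :
    Nat.card ↥Q ≤ (Nat.card ↥X - 1) ^ 2 * Nat.card ↥Z := by
  classical
  set Γ : Subgroup G := X ⊔ Q with hΓ
  have hXΓ : X ≤ Γ := le_sup_left
  have hQΓ : Q ≤ Γ := le_sup_right
  have hZΓ : Z ≤ Γ := hZQ.trans hQΓ
  have hΓV : Γ ≤ Subgroup.normalizer (V : Set G) := sup_le hXV hQV
  have hΓQ : Γ ≤ Subgroup.normalizer (Q : Set G) := sup_le hXQ Subgroup.le_normalizer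
  set ρ := linRep V Γ p hVc hVp hΓV with hρ
  set M : Subgroup ↥Γ := Q.subgroupOf Γ with hM
  set N : Subgroup ↥Γ := Z.subgroupOf Γ with hN
  set E : Subgroup ↥Γ := X.subgroupOf Γ with hE
  have hZcentral : ∀ z ∈ Z, ∀ g ∈ Γ, g * z = z * g := by
    intro z hz
    have h1 : Γ ≤ Subgroup.centralizer ({z} : Set G) := by
      apply sup_le
      · intro g hg
        rw [Subgroup.mem_centralizer_iff]
        intro y hy
        rw [Set.mem_singleton_iff] at hy
        rw [hy]
        exact (hZX z hz g hg).symm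
      · intro g hg
        rw [Subgroup.mem_centralizer_iff]
        intro y hy
        rw [Set.mem_singleton_iff] at hy
        rw [hy]
        exact (hZQc z hz g hg).symm
    intro g hg
    have := Subgroup.mem_centralizer_iff.mp (h1 hg) z (Set.mem_singleton z)
    exact this.symm
  haveI hMn : M.Normal := by
    constructor
    intro m hm g
    rw [hM, Subgroup.mem_subgroupOf] at hm ⊢
    exact conj_mem_of_mem_normalizer (hΓQ g.2) hm
  haveI hNn : N.Normal := by
    constructor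
    intro z hz g
    rw [hN, Subgroup.mem_subgroupOf] at hz ⊢
    have h1 : ((g * z * g⁻¹ : ↥Γ) : G) = (g : G) * z * (g : G)⁻¹ := rfl
    rw [h1, hZcentral z hz g g.2, mul_inv_cancel_right]
    exact hz
  have hNM : N ≤ M := by
    intro x hx
    rw [hN, Subgroup.mem_subgroupOf] at hx
    rw [hM, Subgroup.mem_subgroupOf]
    exact hZQ hx
  have hcardM : Nat.card ↥M = Nat.card ↥Q := card_subgroupOf_of_le hQΓ
  have hcardN : Nat.card ↥N = Nat.card ↥Z := card_subgroupOf_of_le hZΓ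
  have hcardE : Nat.card ↥E = Nat.card ↥X := card_subgroupOf_of_le hXΓ
  have hcomm : ∀ a ∈ M, ∀ b ∈ M, a * b * a⁻¹ * b⁻¹ ∈ N := by
    intro a ha b hb
    rw [hM, Subgroup.mem_subgroupOf] at ha hb
    rw [hN, Subgroup.mem_subgroupOf]
    exact hQcomm a ha b hb
  have hcentral : ∀ z ∈ N, ∀ g : ↥Γ, g * z = z * g := by
    intro z hz g
    rw [hN, Subgroup.mem_subgroupOf] at hz
    apply Subtype.ext
    exact hZcentral z hz g g.2
  have hq : (Nat.card ↥N).Prime := by rw [hcardN]; exact hZcard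
  have hZ' : ∀ g ∈ M, (∀ y ∈ M, y * g = g * y) → g ∈ N := by
    intro g hg hall
    rw [hM, Subgroup.mem_subgroupOf] at hg
    rw [hN, Subgroup.mem_subgroupOf]
    apply hZcenter g hg
    intro y hy
    have := hall ⟨y, hQΓ hy⟩ (by rw [hM, Subgroup.mem_subgroupOf]; exact hy)
    exact congrArg Subtype.val this
  haveI : Fact (Nat.card ↥X).Prime := ⟨hXcard⟩
  have hfpf : ∀ e ∈ E, e ≠ 1 → ∀ m ∈ M, e * m * e⁻¹ * m⁻¹ ∈ N → m ∈ N := by
    intro e he he1
    rw [hE, Subgroup.mem_subgroupOf] at he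
    apply rel_fpf' M N hNM e
    · have h1 : orderOf e ∣ Nat.card ↥E := Subgroup.orderOf_dvd_natCard E (by
        rw [hE, Subgroup.mem_subgroupOf]; exact he)
      rw [hcardE] at h1
      rw [hcardN]
      exact Nat.Coprime.coprime_dvd_left h1 hcopXZ
    · intro m hm hem
      rw [hM, Subgroup.mem_subgroupOf] at hm
      rw [hN, Subgroup.mem_subgroupOf]
      apply hCQ m hm
      intro x hx
      have hgen : Subgroup.zpowers (⟨(e : G), he⟩ : ↥X) = ⊤ := by
        apply zpowers_eq_top_of_prime_card (p := Nat.card ↥X) rfl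
        intro h1
        apply he1
        apply Subtype.ext
        have h2 : (e : G) = 1 := congrArg Subtype.val h1
        exact h2
      have hxz : (⟨x, hx⟩ : ↥X) ∈ Subgroup.zpowers (⟨(e : G), he⟩ : ↥X) := by
        rw [hgen]; trivial
      obtain ⟨k, hk⟩ := Subgroup.mem_zpowers_iff.mp hxz
      have hk' : (e : G) ^ k = x := by
        have := congrArg Subtype.val hk
        rw [Subgroup.coe_zpow] at this
        exact this
      have hc : Commute (e : G) (m : G) := congrArg Subtype.val hem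
      rw [← hk']
      exact (hc.zpow_left k).eq
  have hab : ∀ a ∈ E, ∀ b ∈ E, a * b = b * a := by
    intro a ha b hb
    rw [hE, Subgroup.mem_subgroupOf] at ha hb
    haveI : IsCyclic ↥X := isCyclic_of_prime_card rfl
    have := (IsCyclic.isMulCommutative (α := ↥X)).is_comm.comm ⟨a, ha⟩ ⟨b, hb⟩
    have h2 : (a : G) * (b : G) = (b : G) * (a : G) := congrArg Subtype.val this
    apply Subtype.ext
    exact h2
  have hcharM : (Nat.card ↥M : LK p) ≠ 0 := by
    rw [hcardM]; exact natCast_ne_zero_of_not_dvd (LK p) hpQ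
  have hcharE : (Nat.card ↥E : LK p) ≠ 0 := by
    rw [hcardE]; exact natCast_ne_zero_of_not_dvd (LK p) hpX
  have hfix : fixedBy ρ E = ⊥ := by
    have h1 := linRep_fixed V Γ p hVc hVp hΓV X hXΓ hpX
    rw [hCV, Subgroup.card_bot] at h1
    have h2 : finrank (LK p) (fixedBy (linRep V Γ p hVc hVp hΓV) (X.subgroupOf Γ)) = 0 := by
      rcases Nat.pow_eq_one.mp h1 with h3 | h3
      · exact absurd h3 (Fact.out : p.Prime).one_lt.ne'
      · exact h3
    exact Submodule.finrank_eq_zero.mp h2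
  have hact : ∃ z ∈ N, ρ z ≠ 1 := by
    have hZne : Z ≠ ⊥ := by
      intro h0
      rw [h0, Subgroup.card_bot] at hZcard
      exact Nat.not_prime_one hZcard
    obtain ⟨⟨z, hz⟩, hz1'⟩ := (Subgroup.ne_bot_iff_exists_ne_one).mp hZne
    have hz1 : z ≠ 1 := fun h => hz1' (Subtype.ext h)
    refine ⟨⟨z, hZΓ hz⟩, by rw [hN, Subgroup.mem_subgroupOf]; exact hz, ?_⟩
    intro h1
    rw [hρ, linRep_eq_one_iff] at h1
    have : z ∈ Z ⊓ Subgroup.centralizer (V : Set G) := Subgroup.mem_inf.mpr ⟨hz, h1⟩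
    rw [hfaithZ, Subgroup.mem_bot] at this
    exact hz1 this
  have key := hh_central ρ M N E hNM hcomm hcentral hq hZ' hfpf hab hcharM hcharE hfix hact
  rw [hcardM, hcardN, hcardE] at key
  exact key

end GroupBound

end Cfsg.Agent.Helper8.HHLin
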