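import Mathlib
import Cfsg.Agent.Lib.Helper8.HHLin14
import Cfsg.Agent.Lib.Helper8.HHGlue1

/-!
# The Hall–Higman type theorem for groups (helper8 library)

`group_lin_hh`: `X` of prime order `r` normalising a `q`-group `Q`, both normalising an elementary
abelian `p`-group `V` (`p, q, r` distinct) with `C_V(X) = 1`: then `[X, Q]` centralises `V`, unless
`q = 2`, `r` is a Fermat prime and `Q` acts non-commutatively.
-/

set_option autoImplicit false
set_option linter.unusedSectionVars false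

namespace Cfsg.Agent.Helper8.HHLin

open Module Cfsg.Agent.Helper8.FrobLin Cfsg.Agent.Helper8.SecRep

section GroupLin

variable {G : Type*} [Group G] [Finite G]

theorem group_lin_hh (p : ℕ) [Fact p.Prime] {q r : ℕ} (hq : q.Prime) (hr : r.Prime)
    (hpq : p ≠ q) (hpr : p ≠ r) (hqr : q ≠ r)
    (X Q V : Subgroup G) (hX : Nat.card ↥X = r) (hQ : IsPGroup q ↥Q)
    (hXQ : X ≤ Subgroup.normalizer (Q : Set G))
    (hVc : ∀ x ∈ V, ∀ y ∈ V, x * y = y * x) (hVp : ∀ x ∈ V, x ^ p = 1)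
    (hXV : X ≤ Subgroup.normalizer (V : Set G)) (hQV : Q ≤ Subgroup.normalizer (V : Set G))
    (hCV : V ⊓ Subgroup.centralizer (X : Set G) = ⊥)
    (hexc : ¬ (q = 2 ∧ ∃ m : ℕ, r = 2 ^ m + 1) ∨
      ∀ a ∈ Q, ∀ b ∈ Q, a * b * a⁻¹ * b⁻¹ ∈ Subgroup.centralizer (V : Set G)) :
    ∀ g ∈ Q, ∀ x ∈ X, x * g * x⁻¹ * g⁻¹ ∈ Subgroup.centralizer (V : Set G) := by
  classical
  have hpp : p.Prime := Fact.out
  set Γ : Subgroup G := X ⊔ Q with hΓ
  have hXΓ : X ≤ Γ := le_sup_left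
  have hQΓ : Q ≤ Γ := le_sup_right
  have hΓV : Γ ≤ Subgroup.normalizer (V : Set G) := sup_le hXV hQV
  set ρ := linRep V Γ p hVc hVp hΓV with hρ
  have hpX : ¬ p ∣ Nat.card ↥X := by
    rw [hX]
    intro h
    exact hpr ((Nat.prime_dvd_prime_iff_eq hpp hr).mp h)
  have hfix : fixedBy ρ (X.subgroupOf Γ) = ⊥ := by
    have h1 := linRep_fixed V Γ p hVc hVp hΓV X hXΓ hpX
    rw [hCV, Subgroup.card_bot] at h1
    have h2 : finrank (LK p) (fixedBy (linRep V Γ p hVc hVp hΓV) (X.subgroupOf Γ)) = 0 := by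
      rcases Nat.pow_eq_one.mp h1 with h3 | h3
      · exact absurd h3 hpp.one_lt.ne'
      · exact h3
    exact Submodule.finrank_eq_zero.mp h2
  have hqF : (q : LK p) ≠ 0 := natCast_ne_zero_of_not_dvd (LK p) (by
    intro h
    exact hpq ((Nat.prime_dvd_prime_iff_eq hpp hq).mp h))
  have hrF : (r : LK p) ≠ 0 := natCast_ne_zero_of_not_dvd (LK p) (by
    intro h
    exact hpr ((Nat.prime_dvd_prime_iff_eq hpp hr).mp h))
  have hcX : Nat.card ↥(X.subgroupOf Γ) = r := by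
    rw [card_subgroupOf_of_le hXΓ]; exact hX
  have h1 : ∀ x ∈ X.subgroupOf Γ, ∀ g ∈ Q.subgroupOf Γ, x * g * x⁻¹ ∈ Q.subgroupOf Γ := by
    intro x hx g hg
    rw [Subgroup.mem_subgroupOf] at hx hg ⊢
    exact conj_mem_of_mem_normalizer (hXQ hx) hg
  have h2 : ¬ (q = 2 ∧ ∃ m : ℕ, r = 2 ^ m + 1) ∨
      ∀ a ∈ Q.subgroupOf Γ, ∀ b ∈ Q.subgroupOf Γ, ρ a * ρ b = ρ b * ρ a := by
    rcases hexc with h | h
    · exact Or.inl h
    · right
      intro a ha b hb
      rw [Subgroup.mem_subgroupOf] at ha hb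
      rw [rho_comm_iff_commutator, hρ, linRep_eq_one_iff]
      exact h _ ha _ hb
  have key := lin_hh hq hr hqr hqF hrF ρ (Q.subgroupOf Γ) (X.subgroupOf Γ) h1 hQ.comap_subtype
    hcX hfix h2
  intro g hg x hx
  have h3 := key ⟨g, hQΓ hg⟩ hg ⟨x, hXΓ hx⟩ hx
  rw [rho_comm_iff_commutator, hρ, linRep_eq_one_iff] at h3
  exact h3

end GroupLin

end Cfsg.Agent.Helper8.HHLin
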