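import Mathlib
import Cfsg.Agent.Lib.Helper8.SecRep9

/-!
# Linearisation of the action on an elementary abelian section (helper8 library)

`secLin`: for an elementary abelian `ℓ`-section `L / L₁` of a finite group and a subgroup `Γ`
normalising `L` and `L₁`, the representation of `Γ` on `K ⊗ (L / L₁)` over the algebraic closure
`K` of `𝔽_ℓ`.
-/

set_option autoImplicit false
set_option linter.unusedSectionVars false

namespace Cfsg.Agent.Helper8.SecRep

open Module TensorProduct Cfsg.Agent.Helper8.FrobLin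

section SecLin

variable {X : Type*} [Group X] [Finite X] {L L₁ : Subgroup X} {ℓ : ℕ} [Fact ℓ.Prime]
  (h : IsSec L L₁ ℓ) (Γ : Subgroup X) (hΓ : Γ ≤ nn L L₁)

/-- the representation over the prime field -/
noncomputable def secLin₀ : Representation (ZMod ℓ) ↥Γ (SecW h) :=
  (secRep h).comp (Subgroup.inclusion hΓ)

/-- the representation over the algebraic closure -/
noncomputable def secLin : Representation (LK ℓ) ↥Γ (LK ℓ ⊗[ZMod ℓ] SecW h) :=
  bc (LK ℓ) (secLin₀ h Γ hΓ)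

theorem secLin₀_mk (g : ↥Γ) (x : ↥L) :
    secLin₀ h Γ hΓ g (secMk h x) =
      secMk h ⟨(g : X) * x * (g : X)⁻¹,
        conj_mem_of_mem_normalizer (mem_nn.mp (hΓ g.2)).1 x.2⟩ := by
  unfold secLin₀
  rw [MonoidHom.comp_apply, secRep_mk]
  rfl

theorem secLin₀_eq_one_iff (g : ↥Γ) :
    secLin₀ h Γ hΓ g = 1 ↔ ∀ a ∈ L, (g : X) * a * (g : X)⁻¹ * a⁻¹ ∈ L₁ := by
  constructor
  · intro h1 a ha
    have h2 := LinearMap.congr_fun h1 (secMk h ⟨a, ha⟩)
    rw [secLin₀_mk] at h2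
    have h3 : (1 : SecW h →ₗ[ZMod ℓ] SecW h) (secMk h ⟨a, ha⟩) = secMk h ⟨a, ha⟩ := rfl
    rw [h3, secMk_eq_iff] at h2
    simp only at h2
    have h4 := L₁.inv_mem h2
    have h5 : (((g : X) * a * (g : X)⁻¹)⁻¹ * a)⁻¹ = a⁻¹ * ((g : X) * a * (g : X)⁻¹ * a⁻¹) * a⁻¹⁻¹ := by
      group
    rw [h5] at h4
    have h6 := h.normal a ha _ h4
    have h7 : a * (a⁻¹ * ((g : X) * a * (g : X)⁻¹ * a⁻¹) * a⁻¹⁻¹) * a⁻¹ =
        (g : X) * a * (g : X)⁻¹ * a⁻¹ := by group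
    rw [h7] at h6
    exact h6
  · intro hg
    apply LinearMap.ext
    intro w
    obtain ⟨x, rfl⟩ := secMk_surjective h w
    rw [secLin₀_mk]
    show _ = secMk h x
    rw [secMk_eq_iff]
    simp only
    have h1 := hg x x.2
    have h2 := L₁.inv_mem h1
    have h3 : ((g : X) * x * (g : X)⁻¹ * (x : X)⁻¹)⁻¹ =
        (x : X) * (((g : X) * x * (g : X)⁻¹)⁻¹ * x) * (x : X)⁻¹ := by group
    rw [h3] at h2
    have h4 := h.normal (x : X)⁻¹ (L.inv_mem x.2) _ h2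
    have h5 : (x : X)⁻¹ * ((x : X) * (((g : X) * x * (g : X)⁻¹)⁻¹ * x) * (x : X)⁻¹) * (x : X)⁻¹⁻¹ =
        ((g : X) * x * (g : X)⁻¹)⁻¹ * x := by group
    rw [h5] at h4
    exact h4

theorem secLin_eq_one_iff (g : ↥Γ) :
    secLin h Γ hΓ g = 1 ↔ ∀ a ∈ L, (g : X) * a * (g : X)⁻¹ * a⁻¹ ∈ L₁ := by
  rw [← secLin₀_eq_one_iff h Γ hΓ]
  unfold secLin
  rw [bc_apply]
  constructor
  · intro h1
    have hinj : Function.Injective (TensorProduct.mk (ZMod ℓ) (LK ℓ) (SecW h) 1) :=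
      Module.Flat.tensorProduct_mk_injective (ZMod ℓ) (SecW h) (LK ℓ)
    apply LinearMap.ext
    intro w
    apply hinj
    have := LinearMap.congr_fun h1 ((1 : LK ℓ) ⊗ₜ[ZMod ℓ] w)
    rw [LinearMap.baseChange_tmul] at this
    exact this
  · intro h1
    rw [h1]
    exact LinearMap.baseChange_id

theorem secLin_fixed_eq_bot (A : Subgroup X) (hA : A ≤ Γ) (hℓA : ¬ ℓ ∣ Nat.card ↥A)
    (hcop : (Nat.card ↥A).Coprime (Nat.card ↥L₁))
    (hsolv : Group.IsSolvable ↥A ∨ Group.IsSolvable ↥L₁)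
    (hCL : L ⊓ Subgroup.centralizer (A : Set X) = ⊥) :
    fixedBy (secLin h Γ hΓ) (A.subgroupOf Γ) = ⊥ := by
  have hcardA : Nat.card ↥(A.subgroupOf Γ) = Nat.card ↥A :=
    Nat.card_congr (Subgroup.subgroupOfEquivOfLe hA).toEquiv
  have e1 := finrank_fixedBy_bc (LK ℓ) (secLin₀ h Γ hΓ) (A.subgroupOf Γ)
    (by rw [hcardA]; exact natCast_ne_zero_of_not_dvd (ZMod ℓ) hℓA)
  have hfix : fixedBy (secLin₀ h Γ hΓ) (A.subgroupOf Γ) =
      fixedBy (secRep h) (A.subgroupOf (nn L L₁)) := by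
    unfold secLin₀
    rw [fixedBy_comp]
    congr 1
    ext x
    rw [Subgroup.mem_map, Subgroup.mem_subgroupOf]
    constructor
    · rintro ⟨y, hy, rfl⟩
      rw [Subgroup.mem_subgroupOf] at hy
      exact hy
    · intro hx
      exact ⟨⟨(x : X), hA hx⟩, by rw [Subgroup.mem_subgroupOf]; exact hx, rfl⟩
  have hcard := card_fixed_section h A (hA.trans hΓ) hcop hsolv
  rw [hCL, Subgroup.card_bot] at hcard
  have h1 : Nat.card ↥(fixedBy (secRep h) (A.subgroupOf (nn L L₁))) = 1 :=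
    Nat.eq_one_of_mul_eq_one_right hcard
  have h2 : finrank (ZMod ℓ) ↥(fixedBy (secLin₀ h Γ hΓ) (A.subgroupOf Γ)) = 0 := by
    rw [hfix]
    have h3 := card_submodule_zmod (ℓ := ℓ) (fixedBy (secRep h) (A.subgroupOf (nn L L₁)))
    rw [h1] at h3
    rcases Nat.pow_eq_one.mp h3.symm with h4 | h4
    · exact absurd h4 (Fact.out : ℓ.Prime).one_lt.ne'
    · exact h4
  have h5 : finrank (LK ℓ) ↥(fixedBy (secLin h Γ hΓ) (A.subgroupOf Γ)) = 0 := by
    unfold secLin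
    rw [e1, h2]
  exact Submodule.finrank_eq_zero.mp h5

end SecLin

end Cfsg.Agent.Helper8.SecRep
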