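import Mathlib
import Cfsg.Agent.Lib.Helper8.HHGlue2
import Cfsg.Agent.Lib.Helper8.SecRep10
import Cfsg.Agent.Lib.Helper21.PGroupFrattini
import Cfsg.Agent.Lib.Helper23.BurnsideFrattini

/-!
# The Hall–Higman type theorem on sections and on `p`-groups (helper8 library)

* `sec_lin_hh`: the section version of `group_lin_hh`.
* `commutator_le_centralizer_pgroup`: `X` of prime order `r` normalising a `q`-group `Q`, both
  normalising an `ℓ`-group `P` (`ℓ, q, r` distinct, `q` odd) with `C_P(X) = 1`: then `[X, Q]`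
  centralises `P`.
-/

set_option autoImplicit false
set_option linter.unusedSectionVars false

namespace Cfsg.Agent.Helper8.HHLin

open Module Cfsg.Agent.Helper8.FrobLin Cfsg.Agent.Helper8.SecRep
open scoped commutatorElement

section SecLinHH

variable {G : Type*} [Group G] [Finite G]

/-- the elements of the common normaliser acting trivially on the section `L / L₁` -/
def actKer (L L₁ : Subgroup G) : Subgroup G where
  carrier := {g | g ∈ nn L L₁ ∧ ∀ a ∈ L, g * a * g⁻¹ * a⁻¹ ∈ L₁}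
  one_mem' := ⟨Subgroup.one_mem _, fun a _ => by
    have e : (1 : G) * a * (1 : G)⁻¹ * a⁻¹ = 1 := by group
    rw [e]; exact L₁.one_mem⟩
  mul_mem' := by
    rintro g k ⟨hg, hg'⟩ ⟨hk, hk'⟩
    refine ⟨Subgroup.mul_mem _ hg hk, fun a ha => ?_⟩
    have e : g * k * a * (g * k)⁻¹ * a⁻¹ =
        g * (k * a * k⁻¹ * a⁻¹) * g⁻¹ * (g * a * g⁻¹ * a⁻¹) := by group
    rw [e]
    exact L₁.mul_mem (conj_mem_of_mem_normalizer (mem_nn.mp hg).2 (hk' a ha)) (hg' a ha)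
  inv_mem' := by
    rintro g ⟨hg, hg'⟩
    refine ⟨Subgroup.inv_mem _ hg, fun a ha => ?_⟩
    have ha' : g⁻¹ * a * g ∈ L := conj_mem_of_mem_normalizer' (mem_nn.mp hg).1 ha
    have e : g⁻¹ * a * g⁻¹⁻¹ * a⁻¹ = (g * (g⁻¹ * a * g) * g⁻¹ * (g⁻¹ * a * g)⁻¹)⁻¹ := by group
    rw [e]
    exact L₁.inv_mem (hg' _ ha')

theorem mem_actKer {L L₁ : Subgroup G} {g : G} :
    g ∈ actKer L L₁ ↔ g ∈ nn L L₁ ∧ ∀ a ∈ L, g * a * g⁻¹ * a⁻¹ ∈ L₁ := Iff.rfl

theorem sec_lin_hh (ℓ : ℕ) [Fact ℓ.Prime] {q r : ℕ} (hq : q.Prime) (hr : r.Prime)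
    (hℓq : ℓ ≠ q) (hℓr : ℓ ≠ r) (hqr : q ≠ r)
    (X Q L L₁ : Subgroup G) (h : IsSec L L₁ ℓ) (hX : Nat.card ↥X = r) (hQ : IsPGroup q ↥Q)
    (hXQ : X ≤ Subgroup.normalizer (Q : Set G))
    (hXL : X ≤ nn L L₁) (hQL : Q ≤ nn L L₁)
    (hcop : (Nat.card ↥X).Coprime (Nat.card ↥L₁))
    (hCL : L ⊓ Subgroup.centralizer (X : Set G) = ⊥)
    (hexc : ¬ (q = 2 ∧ ∃ m : ℕ, r = 2 ^ m + 1) ∨
      ∀ a ∈ Q, ∀ b ∈ Q, a * b * a⁻¹ * b⁻¹ ∈ actKer L L₁) :
    ⁅X, Q⁆ ≤ actKer L L₁ := by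
  classical
  have hℓp : ℓ.Prime := Fact.out
  set Γ : Subgroup G := X ⊔ Q with hΓ
  have hXΓ : X ≤ Γ := le_sup_left
  have hQΓ : Q ≤ Γ := le_sup_right
  have hΓL : Γ ≤ nn L L₁ := sup_le hXL hQL
  set ρ := secLin h Γ hΓL with hρ
  have hℓX : ¬ ℓ ∣ Nat.card ↥X := by
    rw [hX]
    intro hd
    exact hℓr ((Nat.prime_dvd_prime_iff_eq hℓp hr).mp hd)
  have hXsolv : Group.IsSolvable ↥X := by
    haveI : Fact (Nat.card ↥X).Prime := ⟨by rw [hX]; exact hr⟩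
    haveI : IsCyclic ↥X := isCyclic_of_prime_card rfl
    exact isSolvable_of_comm (fun a b => (IsCyclic.isMulCommutative (α := ↥X)).is_comm.comm a b)
  have hfix : fixedBy ρ (X.subgroupOf Γ) = ⊥ :=
    secLin_fixed_eq_bot h Γ hΓL X hXΓ hℓX hcop (Or.inl hXsolv) hCL
  have hqF : (q : LK ℓ) ≠ 0 := natCast_ne_zero_of_not_dvd (LK ℓ) (by
    intro hd
    exact hℓq ((Nat.prime_dvd_prime_iff_eq hℓp hq).mp hd))
  have hrF : (r : LK ℓ) ≠ 0 := natCast_ne_zero_of_not_dvd (LK ℓ) (by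
    intro hd
    exact hℓr ((Nat.prime_dvd_prime_iff_eq hℓp hr).mp hd))
  have hcX : Nat.card ↥(X.subgroupOf Γ) = r := by
    rw [card_subgroupOf_of_le hXΓ]; exact hX
  have h1 : ∀ x ∈ X.subgroupOf Γ, ∀ g ∈ Q.subgroupOf Γ, x * g * x⁻¹ ∈ Q.subgroupOf Γ := by
    intro x hx g hg
    rw [Subgroup.mem_subgroupOf] at hx hg ⊢
    exact conj_mem_of_mem_normalizer (hXQ hx) hg
  have h2 : ¬ (q = 2 ∧ ∃ m : ℕ, r = 2 ^ m + 1) ∨
      ∀ a ∈ Q.subgroupOf Γ, ∀ b ∈ Q.subgroupOf Γ, ρ a * ρ b = ρ b * ρ a := by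
    rcases hexc with h' | h'
    · exact Or.inl h'
    · right
      intro a ha b hb
      rw [Subgroup.mem_subgroupOf] at ha hb
      rw [rho_comm_iff_commutator, hρ, secLin_eq_one_iff]
      exact (mem_actKer.mp (h' _ ha _ hb)).2
  have key := lin_hh hq hr hqr hqF hrF ρ (Q.subgroupOf Γ) (X.subgroupOf Γ) h1 hQ.comap_subtype
    hcX hfix h2
  rw [Subgroup.commutator_le]
  intro x hx g hg
  rw [commutatorElement_def, mem_actKer]
  have hxΓ : x ∈ Γ := hXΓ hx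
  have hgΓ : g ∈ Γ := hQΓ hg
  refine ⟨hΓL (Γ.mul_mem (Γ.mul_mem (Γ.mul_mem hxΓ hgΓ) (Γ.inv_mem hxΓ)) (Γ.inv_mem hgΓ)), ?_⟩
  have h3 := key ⟨g, hgΓ⟩ hg ⟨x, hxΓ⟩ hx
  rw [rho_comm_iff_commutator, hρ, secLin_eq_one_iff] at h3
  exact h3

/-- conjugation by an element normalising `P` preserves the Frattini subgroup of `P` -/
theorem conj_mem_map_frattini' (P : Subgroup G) {n : G}
    (hn : n ∈ Subgroup.normalizer (P : Set G))
    {x : G} (hx : x ∈ (frattini ↥P).map P.subtype) :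
    n * x * n⁻¹ ∈ (frattini ↥P).map P.subtype := by
  obtain ⟨y, hy, rfl⟩ := hx
  set φ : MulAut ↥P := P.normalizerMonoidHom ⟨n, hn⟩ with hφ
  have h1 : (frattini ↥P).map φ.toMonoidHom = frattini ↥P :=
    Subgroup.characteristic_iff_map_eq.mp inferInstance φ
  have h2 : φ y ∈ frattini ↥P := by
    rw [← h1]; exact Subgroup.mem_map_of_mem _ hy
  exact ⟨φ y, h2, rfl⟩

theorem normalizer_le_nn_frattini (P : Subgroup G) :
    Subgroup.normalizer (P : Set G) ≤ nn P ((frattini ↥P).map P.subtype) := by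
  intro n hn
  rw [mem_nn]
  refine ⟨hn, ?_⟩
  rw [Subgroup.mem_normalizer_iff]
  intro x
  constructor
  · intro hx
    exact conj_mem_map_frattini' P hn hx
  · intro hx
    have := conj_mem_map_frattini' P (Subgroup.inv_mem _ hn) hx
    have e : n⁻¹ * (n * x * n⁻¹) * n⁻¹⁻¹ = x := by group
    rwa [e] at this

theorem isSec_frattini (ℓ : ℕ) [Fact ℓ.Prime] (P : Subgroup G) (hP : IsPGroup ℓ ↥P) :
    IsSec P ((frattini ↥P).map P.subtype) ℓ where
  le := Subgroup.map_subtype_le _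
  normal := by
    intro x hx n hn
    exact conj_mem_map_frattini' P (Subgroup.le_normalizer hx) hn
  comm := by
    intro x hx y hy
    exact ⟨_, Helper21.commutator_mem_frattini_of_isPGroup hP ⟨x, hx⟩ ⟨y, hy⟩, rfl⟩
  pow := by
    intro x hx
    exact ⟨_, Helper21.pow_mem_frattini_of_isPGroup hP ⟨x, hx⟩, rfl⟩

/-- **Hall–Higman type theorem for the action on a `p`-group.** -/
theorem commutator_le_centralizer_pgroup (ℓ : ℕ) [Fact ℓ.Prime] {q r : ℕ} (hq : q.Prime)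
    (hr : r.Prime) (hℓq : ℓ ≠ q) (hℓr : ℓ ≠ r) (hqr : q ≠ r)
    (hexc : ¬ (q = 2 ∧ ∃ m : ℕ, r = 2 ^ m + 1))
    (X Q P : Subgroup G) (hP : IsPGroup ℓ ↥P) (hX : Nat.card ↥X = r) (hQ : IsPGroup q ↥Q)
    (hXQ : X ≤ Subgroup.normalizer (Q : Set G))
    (hXP : X ≤ Subgroup.normalizer (P : Set G)) (hQP : Q ≤ Subgroup.normalizer (P : Set G))
    (hCP : P ⊓ Subgroup.centralizer (X : Set G) = ⊥) :
    ⁅X, Q⁆ ≤ Subgroup.centralizer (P : Set G) := by
  classical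
  haveI : Fact q.Prime := ⟨hq⟩
  have hℓp : ℓ.Prime := Fact.out
  set Φ : Subgroup G := (frattini ↥P).map P.subtype with hΦ
  have hsec : IsSec P Φ ℓ := isSec_frattini ℓ P hP
  have hΦp : IsPGroup ℓ ↥Φ := hP.to_le hsec.le
  have hcop : (Nat.card ↥X).Coprime (Nat.card ↥Φ) := by
    obtain ⟨n, hn⟩ := hΦp.exists_card_eq
    rw [hX, hn]
    exact Nat.Coprime.pow_right n ((Nat.coprime_primes hr hℓp).mpr (Ne.symm hℓr))
  have hT := sec_lin_hh ℓ hq hr hℓq hℓr hqr X Q P Φ hsec hX hQ hXQ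
    (hXP.trans (normalizer_le_nn_frattini P)) (hQP.trans (normalizer_le_nn_frattini P)) hcop hCP
    (Or.inl hexc)
  set T : Subgroup G := ⁅X, Q⁆ with hTdef
  have hTQ : T ≤ Q := by
    rw [hTdef, Subgroup.commutator_le]
    intro a ha b hb
    rw [commutatorElement_def]
    exact Q.mul_mem (conj_mem_of_mem_normalizer (hXQ ha) hb) (Q.inv_mem hb)
  have hTq : IsPGroup q ↥T := hQ.to_le hTQ
  have hTcop : (Nat.card ↥T).Coprime ℓ := by
    obtain ⟨n, hn⟩ := hTq.exists_card_eq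
    rw [hn]
    exact Nat.Coprime.pow_left n ((Nat.coprime_primes hq hℓp).mpr (Ne.symm hℓq))
  have hTsolv : Group.IsSolvable ↥T := by
    haveI := hTq.isNilpotent
    infer_instance
  have hTΦ : T ≤ Subgroup.normalizer (Φ : Set G) := by
    intro t ht
    exact (mem_nn.mp (mem_actKer.mp (hT ht)).1).2
  have key := Helper23.centralizes_of_frattini P hP T hTcop hTsolv hTΦ
    (fun a ha r hr => (mem_actKer.mp (hT ha)).2 r hr)
  intro t ht
  rw [Subgroup.mem_centralizer_iff]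
  intro p hp
  have := Subgroup.mem_centralizer_iff.mp (key hp) t ht
  exact this.symm

end SecLinHH

end Cfsg.Agent.Helper8.HHLin
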