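import Mathlib
import Cfsg.Agent.Lib.Helper8.HHGlue3
import Cfsg.Agent.Lib.Helper15.CoprimeGen

/-!
# Prime order action with no fixed points on the Fitting subgroup, I (helper8 library)

`commutator_mem_of_qquot`: the key step: if `F = ∏ P ℓ` is a normal nilpotent subgroup with
`C_F(R₀) = 1` and `Qh / F` is a `q`-group, then `[Qh, R₀] ≤ F`, provided normal `q`-subgroups of
`Qh` lie in `F`.
-/

set_option autoImplicit false
set_option linter.unusedSectionVars false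

namespace Cfsg.Agent.Helper8.FitPrime

open Cfsg.Agent.Helper8.HHLin Cfsg.Agent.Helper8.SecRep
open scoped commutatorElement

section Lemmas

variable {G : Type*} [Group G]

theorem conj_mem_commutator_right (X Q : Subgroup G) :
    ∀ b ∈ Q, ∀ t ∈ ⁅X, Q⁆, b * t * b⁻¹ ∈ ⁅X, Q⁆ := by
  intro b hb t ht
  have h1 : ⁅X, Q⁆ ≤ (⁅X, Q⁆).comap (MulAut.conj b).toMonoidHom := by
    rw [Subgroup.commutator_le]
    intro a ha b' hb'
    rw [Subgroup.mem_comap]
    show b * ⁅a, b'⁆ * b⁻¹ ∈ _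
    have e : b * ⁅a, b'⁆ * b⁻¹ = ⁅a, b⁆⁻¹ * ⁅a, b * b'⁆ := by
      simp only [commutatorElement_def]; group
    rw [e]
    exact Subgroup.mul_mem _ (Subgroup.inv_mem _ (Subgroup.commutator_mem_commutator ha hb))
      (Subgroup.commutator_mem_commutator ha (Q.mul_mem hb hb'))
  exact h1 ht

/-- the elements `y` with `[x, y] ∈ F` for all `x ∈ R₀`, for a normal subgroup `F` -/
def commSub (R₀ F : Subgroup G) [hF : F.Normal] : Subgroup G where
  carrier := {y | ∀ x ∈ R₀, x * y * x⁻¹ * y⁻¹ ∈ F}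
  one_mem' := fun x _ => by
    have e : x * 1 * x⁻¹ * (1 : G)⁻¹ = 1 := by group
    rw [e]; exact F.one_mem
  mul_mem' := by
    intro a b ha hb x hx
    have e : x * (a * b) * x⁻¹ * (a * b)⁻¹ =
        (x * a * x⁻¹ * a⁻¹) * (a * (x * b * x⁻¹ * b⁻¹) * a⁻¹) := by group
    rw [e]
    exact F.mul_mem (ha x hx) (hF.conj_mem _ (hb x hx) a)
  inv_mem' := by
    intro a ha x hx
    have e : x * a⁻¹ * x⁻¹ * a⁻¹⁻¹ = a⁻¹ * (x * a * x⁻¹ * a⁻¹)⁻¹ * a⁻¹⁻¹ := by group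
    rw [e]
    exact hF.conj_mem _ (F.inv_mem (ha x hx)) a⁻¹

theorem mem_commSub {R₀ F : Subgroup G} [F.Normal] {y : G} :
    y ∈ commSub R₀ F ↔ ∀ x ∈ R₀, x * y * x⁻¹ * y⁻¹ ∈ F := Iff.rfl

theorem le_commSub (R₀ F : Subgroup G) [hF : F.Normal] : F ≤ commSub R₀ F := by
  intro y hy x _
  exact F.mul_mem (hF.conj_mem y hy x) (F.inv_mem hy)

end Lemmas

section Sylow

variable {G : Type*} [Group G] [Finite G]

/-- a Sylow `q`-subgroup of `Qh` covers the `q`-quotient `Qh / F` -/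
theorem sup_sylow_eq {q : ℕ} (hq : q.Prime) (F Qh Q : Subgroup G) [hF : F.Normal]
    (hFQ : F ≤ Qh) (hQQh : Q ≤ Qh)
    (hQcard : Nat.card ↥Q = q ^ (Nat.card ↥Qh).factorization q)
    (hquot : ∀ y ∈ Qh, ∃ n : ℕ, y ^ q ^ n ∈ F) : F ⊔ Q = Qh := by
  haveI : Fact q.Prime := ⟨hq⟩
  apply le_antisymm (sup_le hFQ hQQh)
  rw [← Subgroup.relIndex_eq_one]
  have h1 : (F ⊔ Q).relIndex Qh ∣ Q.relIndex Qh := Subgroup.relIndex_dvd_of_le_left Qh le_sup_right
  have h2 : (F ⊔ Q).relIndex Qh ∣ F.relIndex Qh := Subgroup.relIndex_dvd_of_le_left Qh le_sup_left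
  -- `Qh / F` is a `q`-group
  haveI : (F.subgroupOf Qh).Normal := hF.subgroupOf Qh
  have hqg : IsPGroup q (↥Qh ⧸ F.subgroupOf Qh) := by
    intro g
    induction g using QuotientGroup.induction_on with
    | H y =>
      obtain ⟨n, hn⟩ := hquot (y : G) y.2
      refine ⟨n, ?_⟩
      rw [← QuotientGroup.mk_pow, QuotientGroup.eq_one_iff, Subgroup.mem_subgroupOf]
      exact hn
  obtain ⟨a, ha⟩ := hqg.exists_card_eq
  have h3 : F.relIndex Qh = q ^ a := by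
    rw [← ha]
    rfl
  rw [h3] at h2
  obtain ⟨c, _, hc⟩ := (Nat.dvd_prime_pow hq).mp h2
  have h4 : Q.relIndex Qh * Nat.card ↥Q = Nat.card ↥Qh := by
    have := (Q.subgroupOf Qh).index_mul_card
    rw [card_subgroupOf_of_le hQQh] at this
    exact this
  have hpos : Nat.card ↥Qh ≠ 0 := Nat.card_pos.ne'
  have h5 : Q.relIndex Qh = (Nat.card ↥Qh) / q ^ (Nat.card ↥Qh).factorization q := by
    rw [← hQcard]
    exact (Nat.div_eq_of_eq_mul_left Nat.card_pos h4.symm).symm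
  have h6 : ¬ q ∣ Q.relIndex Qh := by
    rw [h5]
    exact Nat.not_dvd_ordCompl hq hpos
  rcases Nat.eq_zero_or_pos c with h0 | hcpos
  · rw [hc, h0, pow_zero]
  · exfalso
    apply h6
    refine dvd_trans ?_ h1
    rw [hc]
    exact dvd_pow_self q hcpos.ne'

/-- a normal `q`-subgroup lies in every Sylow `q`-subgroup -/
theorem normal_le_sylow {q : ℕ} (hq : q.Prime) (Pq Qh Q : Subgroup G) [hPn : Pq.Normal]
    (hPq : IsPGroup q ↥Pq) (hPQh : Pq ≤ Qh) (hQQh : Q ≤ Qh) (hQq : IsPGroup q ↥Q)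
    (hQcard : Nat.card ↥Q = q ^ (Nat.card ↥Qh).factorization q) : Pq ≤ Q := by
  haveI : Fact q.Prime := ⟨hq⟩
  have h1 : IsPGroup q ↥(Pq ⊔ Q) := hPq.to_sup_of_normal_left hQq
  obtain ⟨b, hb⟩ := h1.exists_card_eq
  have h2 : Nat.card ↥(Pq ⊔ Q) ∣ Nat.card ↥Qh := Subgroup.card_dvd_of_le (sup_le hPQh hQQh)
  rw [hb] at h2
  have hpos : Nat.card ↥Qh ≠ 0 := Nat.card_pos.ne'
  have h3 : b ≤ (Nat.card ↥Qh).factorization q := (hq.pow_dvd_iff_le_factorization hpos).mp h2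
  have h4 : Nat.card ↥(Pq ⊔ Q) ≤ Nat.card ↥Q := by
    rw [hb, hQcard]
    exact Nat.pow_le_pow_right hq.pos h3
  have h5 : Q = Pq ⊔ Q := Subgroup.eq_of_le_of_card_ge le_sup_right h4
  rw [h5]
  exact le_sup_left

end Sylow

end Cfsg.Agent.Helper8.FitPrime
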