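import Mathlib
import Cfsg.Agent.Lib.Helper8.FitPrime1

/-!
# Prime order action with no fixed points on the Fitting subgroup, II (helper8 library)
-/

set_option autoImplicit false
set_option linter.unusedSectionVars false

namespace Cfsg.Agent.Helper8.FitPrime

open Cfsg.Agent.Helper8.HHLin Cfsg.Agent.Helper8.SecRep
open scoped commutatorElement

section Key

variable {G : Type*} [Group G] [Finite G]

/-- **Key step.** -/
theorem commutator_mem_of_qquot {q r : ℕ} (hq : q.Prime) (hr : r.Prime) (hqr : q ≠ r)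
    (hq2 : q ≠ 2) (R₀ F Qh : Subgroup G) (hR₀ : Nat.card ↥R₀ = r) [hF : F.Normal]
    [hQh : Qh.Normal] (P : ℕ → Subgroup G) (hPn : ∀ ℓ, ℓ.Prime → (P ℓ).Normal)
    (hPp : ∀ ℓ, ℓ.Prime → IsPGroup ℓ ↥(P ℓ))
    (hFP : F = ⨆ ℓ : Nat.Primes, P (ℓ : ℕ))
    (hFR : F ⊓ Subgroup.centralizer (R₀ : Set G) = ⊥) (hFQ : F ≤ Qh)
    (hrQ : ¬ r ∣ Nat.card ↥Qh)
    (hquot : ∀ y ∈ Qh, ∃ n : ℕ, y ^ q ^ n ∈ F)
    (hmax : ∀ T : Subgroup G, T ≤ Qh → IsPGroup q ↥T →
      Qh ≤ Subgroup.normalizer (T : Set G) → T ≤ F) :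
    ∀ y ∈ Qh, ∀ x ∈ R₀, x * y * x⁻¹ * y⁻¹ ∈ F := by
  classical
  haveI : Fact q.Prime := ⟨hq⟩
  haveI : Fact r.Prime := ⟨hr⟩
  have hRp : IsPGroup r ↥R₀ := IsPGroup.of_card (n := 1) (by rw [hR₀, pow_one])
  have hcop : (Nat.card ↥Qh).Coprime r := ((Nat.Prime.coprime_iff_not_dvd hr).mpr hrQ).symm
  have hRQh : R₀ ≤ Subgroup.normalizer (Qh : Set G) := by
    rw [Subgroup.normalizer_eq_top_iff.mpr hQh]; exact le_top
  obtain ⟨Q, hQQh, hQq, hQcard, hRQ⟩ :=
    Cfsg.Agent.Helper15.exists_invariant_sylow_of_coprime (p := r) q hRp hcop hRQh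
  have hPF : ∀ ℓ : ℕ, ℓ.Prime → P ℓ ≤ F := by
    intro ℓ hℓ
    rw [hFP]
    exact le_iSup (fun ℓ : Nat.Primes => P (ℓ : ℕ)) ⟨ℓ, hℓ⟩
  set T : Subgroup G := ⁅R₀, Q⁆ with hT
  have hTQ : T ≤ Q := by
    rw [hT, Subgroup.commutator_le]
    intro a ha b hb
    rw [commutatorElement_def]
    exact Q.mul_mem (conj_mem_of_mem_normalizer (hRQ ha) hb) (Q.inv_mem hb)
  -- `T` centralises `P ℓ` for `ℓ ≠ q`
  have hcent : ∀ ℓ : ℕ, ℓ.Prime → ℓ ≠ q → T ≤ Subgroup.centralizer (P ℓ : Set G) := by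
    intro ℓ hℓ hℓq
    haveI : Fact ℓ.Prime := ⟨hℓ⟩
    haveI := hPn ℓ hℓ
    by_cases hℓr : ℓ = r
    · -- `P r` is trivial
      have h1 : Nat.card ↥(P ℓ) ∣ Nat.card ↥Qh := Subgroup.card_dvd_of_le ((hPF ℓ hℓ).trans hFQ)
      obtain ⟨n, hn⟩ := (hPp ℓ hℓ).exists_card_eq
      have h2 : n = 0 := by
        by_contra hn0
        apply hrQ
        refine dvd_trans ?_ h1
        rw [hn, hℓr]
        exact dvd_pow_self r hn0
      rw [h2, pow_zero, Subgroup.card_eq_one] at hn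
      rw [hn]
      intro t _
      rw [Subgroup.mem_centralizer_iff]
      intro p hp
      rw [Subgroup.coe_bot, Set.mem_singleton_iff] at hp
      rw [hp, one_mul, mul_one]
    · have hN : ∀ A : Subgroup G, A ≤ Subgroup.normalizer (P ℓ : Set G) := by
        intro A
        rw [Subgroup.normalizer_eq_top_iff.mpr (hPn ℓ hℓ)]; exact le_top
      have hCP : P ℓ ⊓ Subgroup.centralizer (R₀ : Set G) = ⊥ := by
        rw [eq_bot_iff, ← hFR]
        exact inf_le_inf_right _ (hPF ℓ hℓ)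
      exact commutator_le_centralizer_pgroup ℓ hq hr hℓq hℓr hqr (fun h => hq2 h.1) R₀ Q (P ℓ)
        (hPp ℓ hℓ) hR₀ hQq hRQ (hN R₀) (hN Q) hCP
  -- `P q ≤ Q`
  haveI := hPn q hq
  have hPqQ : P q ≤ Q := normal_le_sylow hq (P q) Qh Q (hPp q hq) ((hPF q hq).trans hFQ) hQQh hQq
    hQcard
  -- `Qh = F ⊔ Q`
  have hsup : F ⊔ Q = Qh := sup_sylow_eq hq F Qh Q hFQ hQQh hQcard hquot
  -- `Qh` normalises `T`
  have hQT : Q ≤ Subgroup.normalizer (T : Set G) := by
    intro b hb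
    rw [Subgroup.mem_normalizer_iff]
    intro t
    constructor
    · intro ht
      exact conj_mem_commutator_right R₀ Q b hb t ht
    · intro ht
      have := conj_mem_commutator_right R₀ Q b⁻¹ (Q.inv_mem hb) _ ht
      have e : b⁻¹ * (b * t * b⁻¹) * b⁻¹⁻¹ = t := by group
      rwa [e] at this
  have hFT : F ≤ Subgroup.normalizer (T : Set G) := by
    rw [hFP]
    apply iSup_le
    intro ℓ
    by_cases hℓq : (ℓ : ℕ) = q
    · rw [hℓq]
      exact hPqQ.trans hQT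
    · have h1 := hcent ℓ ℓ.2 hℓq
      have h2 : P (ℓ : ℕ) ≤ Subgroup.centralizer (T : Set G) := by
        intro p hp
        rw [Subgroup.mem_centralizer_iff]
        intro t ht
        have := Subgroup.mem_centralizer_iff.mp (h1 ht) p hp
        exact this.symm
      exact h2.trans (Subgroup.centralizer_le_normalizer _)
  have hQhT : Qh ≤ Subgroup.normalizer (T : Set G) := by
    rw [← hsup]
    exact sup_le hFT hQT
  have hTF : T ≤ F := hmax T (hTQ.trans hQQh) (hQq.to_le hTQ) hQhT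
  -- conclusion
  have hS : Qh ≤ commSub R₀ F := by
    rw [← hsup]
    apply sup_le (le_commSub R₀ F)
    intro g hg x hx
    apply hTF
    rw [hT, ← commutatorElement_def]
    exact Subgroup.commutator_mem_commutator hx hg
  intro y hy x hx
  exact hS hy x hx

end Key

end Cfsg.Agent.Helper8.FitPrime
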