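import Mathlib
import Cfsg.Agent.Lib.Helper8.FitPrime2
import Cfsg.Agent.Lib.Helper7.Bender
import Cfsg.Agent.Lib.Helper7.Fitting2
import Cfsg.Agent.Lib.Helper1.FittingSolvable
import Cfsg.Prelude.Def_OddOrderLocal

/-!
# Prime order action with no fixed points on the Fitting subgroup, III (helper8 library)

`comm_of_comm_pCore`: an element of order prime to `|K|` centralising every `O_q(K)` of a solvable
normal subgroup `K` centralises `K`.
-/

set_option autoImplicit false
set_option linter.unusedSectionVars false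

namespace Cfsg.Agent.Helper8.FitPrime

open Cfsg.Agent.Helper8.HHLin Cfsg.Agent.Helper8.SecRep

section LemmaZ

universe u

variable {G : Type u} [Group G] [Finite G]

/-- `O_q(K)` as a subgroup of the ambient group -/
def pCoreOf (q : ℕ) (K : Subgroup G) : Subgroup G := (Cfsg.pCore q ↥K).map K.subtype

theorem pCoreOf_le (q : ℕ) (K : Subgroup G) : pCoreOf q K ≤ K := Subgroup.map_subtype_le _

theorem pCoreOf_normal (q : ℕ) (K : Subgroup G) [K.Normal] : (pCoreOf q K).Normal := by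
  haveI := Helper7.pCore_characteristic (G := ↥K) q
  unfold pCoreOf
  infer_instance

theorem pCoreOf_isPGroup (q : ℕ) [Fact q.Prime] (K : Subgroup G) : IsPGroup q ↥(pCoreOf q K) :=
  (Helper7.pCore_isPGroup (G := ↥K) q).map K.subtype

theorem fittingOf_eq_iSup (K : Subgroup G) :
    Cfsg.fittingOf K = ⨆ ℓ : Nat.Primes, pCoreOf (ℓ : ℕ) K := by
  unfold Cfsg.fittingOf pCoreOf
  rw [Helper7.fittingSubgroup_eq_iSup_pCore, Subgroup.map_iSup]

theorem fittingOf_normal (K : Subgroup G) [K.Normal] : (Cfsg.fittingOf K).Normal := by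
  haveI := Helper7.fittingSubgroup_characteristic (G := ↥K)
  unfold Cfsg.fittingOf
  infer_instance

theorem fittingOf_le (K : Subgroup G) : Cfsg.fittingOf K ≤ K := Subgroup.map_subtype_le _

theorem comm_of_comm_pCore (K : Subgroup G) [hK : K.Normal] (hsolv : Group.IsSolvable ↥K)
    (x : G) {r : ℕ} (hxr : x ^ r = 1) (hcop : r.Coprime (Nat.card ↥K))
    (hcent : ∀ q : ℕ, q.Prime → ∀ y ∈ pCoreOf q K, x * y = y * x) :
    ∀ k ∈ K, x * k = k * x := by
  haveI hFn : (Cfsg.fittingOf K).Normal := fittingOf_normal K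
  have hF : ∀ f ∈ Cfsg.fittingOf K, x * f = f * x := by
    have h1 : Cfsg.fittingOf K ≤ Subgroup.centralizer ({x} : Set G) := by
      rw [fittingOf_eq_iSup]
      apply iSup_le
      intro ℓ y hy
      rw [Subgroup.mem_centralizer_iff]
      intro z hz
      rw [Set.mem_singleton_iff] at hz
      rw [hz]
      exact hcent ℓ ℓ.2 y hy
    intro f hf
    exact Subgroup.mem_centralizer_iff.mp (h1 hf) x rfl
  intro k hk
  set c : G := x * k * x⁻¹ * k⁻¹ with hc
  have hcK : c ∈ K := K.mul_mem (hK.conj_mem k hk x) (K.inv_mem hk)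
  have hcf : ∀ f ∈ Cfsg.fittingOf K, f * c = c * f := by
    intro f hf
    have hf₁ : k⁻¹ * f * k ∈ Cfsg.fittingOf K := by
      have := hFn.conj_mem f hf k⁻¹
      rwa [inv_inv] at this
    have e1 : x⁻¹ * (k⁻¹ * f * k) * x = k⁻¹ * f * k := by
      rw [mul_assoc, ← hF _ hf₁, inv_mul_cancel_left]
    have e2 : x * f * x⁻¹ = f := by
      rw [hF f hf, mul_inv_cancel_right]
    have e3 : c * f * c⁻¹ = f := by
      calc c * f * c⁻¹ = x * (k * (x⁻¹ * (k⁻¹ * f * k) * x) * k⁻¹) * x⁻¹ := by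
            rw [hc]; group
        _ = x * (k * (k⁻¹ * f * k) * k⁻¹) * x⁻¹ := by rw [e1]
        _ = x * f * x⁻¹ := by group
        _ = f := e2
    calc f * c = (c * f * c⁻¹) * c := by rw [e3]
      _ = c * f := by group
  have hcF : c ∈ Cfsg.fittingOf K := by
    have h1 : (⟨c, hcK⟩ : ↥K) ∈ Subgroup.centralizer (Cfsg.fittingSubgroup ↥K : Set ↥K) := by
      rw [Subgroup.mem_centralizer_iff]
      intro f hf
      apply Subtype.ext
      exact hcf (f : G) ⟨f, hf, rfl⟩
    have h2 := Helper1.centralizer_fittingSubgroup_le_of_isSolvable (G := ↥K) h1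
    exact ⟨⟨c, hcK⟩, h2, rfl⟩
  have hxc : x * (x * k * x⁻¹ * k⁻¹) = (x * k * x⁻¹ * k⁻¹) * x := hF c hcF
  have hcm : (x * k * x⁻¹ * k⁻¹) ^ Nat.card ↥K = 1 := by
    have h1 : (⟨c, hcK⟩ : ↥K) ^ Nat.card ↥K = 1 := pow_card_eq_one'
    have h2 : ((⟨c, hcK⟩ : ↥K) ^ Nat.card ↥K : ↥K).1 = c ^ Nat.card ↥K := by
      rw [Subgroup.coe_pow]
    rw [h1] at h2
    exact h2.symm
  have h1 := comm_eq_one_of_coprime x k hxc hxr hcm hcop
  have h2 : x * k = (x * k * x⁻¹ * k⁻¹) * (k * x) := by group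
  rw [h2, h1, one_mul]

end LemmaZ

end Cfsg.Agent.Helper8.FitPrime
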