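import Mathlib
import Cfsg.Prelude.Def_OddOrderLocal
import Cfsg.Agent.Lib.Helper8.PGroup

set_option autoImplicit false
set_option linter.style.haveILetI false

/-! The Puig series, relative to a subgroup of an ambient group. -/

namespace Cfsg.Agent.Helper8.Puig

variable {G : Type*} [Group G]

/-- `L_H(X)`: generated by the abelian subgroups of `H` normalized by `X`. -/
def LL (H X : Subgroup G) : Subgroup G :=
  sSup {A : Subgroup G | A ≤ H ∧ IsMulCommutative A ∧ X ≤ Subgroup.normalizer (A : Set G)}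

/-- The Puig series of `H` inside the ambient group. -/
def sq (H : Subgroup G) : ℕ → Subgroup G
  | 0 => ⊥
  | n + 1 => LL H (sq H n)

theorem sq_zero (H : Subgroup G) : sq H 0 = ⊥ := rfl

theorem sq_succ (H : Subgroup G) (n : ℕ) : sq H (n + 1) = LL H (sq H n) := rfl

theorem le_LL {H X A : Subgroup G} (hA : A ≤ H) (hAc : IsMulCommutative A)
    (hX : X ≤ Subgroup.normalizer (A : Set G)) : A ≤ LL H X :=
  le_sSup ⟨hA, hAc, hX⟩

theorem LL_le {H X K : Subgroup G}
    (h : ∀ A : Subgroup G, A ≤ H → IsMulCommutative A → X ≤ Subgroup.normalizer (A : Set G) →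
      A ≤ K) : LL H X ≤ K :=
  sSup_le fun A hA => h A hA.1 hA.2.1 hA.2.2

theorem LL_le_self (H X : Subgroup G) : LL H X ≤ H := LL_le fun _ hA _ _ => hA

theorem LL_antitone (H : Subgroup G) {X X' : Subgroup G} (h : X ≤ X') : LL H X' ≤ LL H X :=
  LL_le fun _ hA hAc hX => le_LL hA hAc (h.trans hX)

theorem LL_mono {H H' : Subgroup G} (h : H ≤ H') (X : Subgroup G) : LL H X ≤ LL H' X :=
  LL_le fun _ hA hAc hX => le_LL (hA.trans h) hAc hX

theorem sq_le_self (H : Subgroup G) (n : ℕ) : sq H n ≤ H := by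
  cases n with
  | zero => exact bot_le
  | succ n => exact LL_le_self H _

/-! ### Transport from the group `↥H` -/

theorem map_puigStep (H : Subgroup G) (X : Subgroup ↥H) :
    (Cfsg.puigStep X).map H.subtype = LL H (X.map H.subtype) := by
  apply le_antisymm
  · rw [Subgroup.map_le_iff_le_comap]
    apply sSup_le
    rintro A ⟨hAc, hXA⟩
    rw [← Subgroup.map_le_iff_le_comap]
    haveI := hAc
    refine le_LL (Subgroup.map_subtype_le A) inferInstance ?_
    rintro _ ⟨x, hx, rfl⟩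
    have hxn := hXA hx
    rw [Subgroup.mem_normalizer_iff] at hxn ⊢
    intro y
    constructor
    · rintro ⟨a, ha, rfl⟩
      exact ⟨x * a * x⁻¹, (hxn a).1 ha, by simp⟩
    · rintro ⟨b, hb, hby⟩
      have hyH : y ∈ H := by
        have h1 : H.subtype x * y * (H.subtype x)⁻¹ ∈ H := by rw [← hby]; exact b.2
        have h2 : y = (H.subtype x)⁻¹ * (H.subtype x * y * (H.subtype x)⁻¹) * H.subtype x := by
          group
        rw [h2]
        exact H.mul_mem (H.mul_mem (H.inv_mem x.2) h1) x.2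
      refine ⟨⟨y, hyH⟩, ?_, rfl⟩
      have h3 : x * ⟨y, hyH⟩ * x⁻¹ = b := by
        apply Subtype.ext
        simpa using hby.symm
      exact (hxn ⟨y, hyH⟩).2 (h3 ▸ hb)
  · apply LL_le
    intro A hA hAc hXA
    haveI := hAc
    rw [← Subgroup.map_subgroupOf_eq_of_le hA]
    apply Subgroup.map_mono
    refine le_sSup ⟨inferInstance, ?_⟩
    intro x hx
    have hxn := hXA ⟨x, hx, rfl⟩
    rw [Subgroup.mem_normalizer_iff] at hxn ⊢
    intro y
    rw [Subgroup.mem_subgroupOf, Subgroup.mem_subgroupOf]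
    exact hxn y

theorem map_puigSeq (H : Subgroup G) (n : ℕ) :
    (Cfsg.puigSeq ↥H n).map H.subtype = sq H n := by
  induction n with
  | zero => exact Subgroup.map_bot _
  | succ n ih =>
    show (Cfsg.puigStep (Cfsg.puigSeq ↥H n)).map H.subtype = LL H (sq H n)
    rw [map_puigStep, ih]

/-- `L(H)` inside the ambient group. -/
def Lu (H : Subgroup G) : Subgroup G := ⨅ n : ℕ, sq H (2 * n + 1)

/-- `L_*(H)` inside the ambient group. -/
def Ls (H : Subgroup G) : Subgroup G := ⨆ n : ℕ, sq H (2 * n)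

theorem map_puigSubgroup (H : Subgroup G) :
    (Cfsg.puigSubgroup ↥H).map H.subtype = Lu H := by
  unfold Cfsg.puigSubgroup Lu
  rw [Subgroup.map_iInf _ H.subtype_injective]
  congr 1
  funext n
  exact map_puigSeq H _

theorem map_puigLower (H : Subgroup G) :
    (Cfsg.puigLower ↥H).map H.subtype = Ls H := by
  unfold Cfsg.puigLower Ls
  rw [Subgroup.map_iSup]
  congr 1
  funext n
  exact map_puigSeq H _

/-! ### The order relations in the series -/

theorem sq_chain (H : Subgroup G) (m : ℕ) :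
    (∀ k, 2 * m ≤ k → sq H (2 * m) ≤ sq H k) ∧
      (∀ k, 2 * m + 1 ≤ k → sq H k ≤ sq H (2 * m + 1)) := by
  induction m with
  | zero =>
    have h0 : ∀ k, 2 * 0 ≤ k → sq H (2 * 0) ≤ sq H k := fun k _ => by
      rw [Nat.mul_zero, sq_zero]; exact bot_le
    refine ⟨h0, ?_⟩
    intro k hk
    obtain ⟨j, rfl⟩ : ∃ j, k = j + 1 := ⟨k - 1, by omega⟩
    rw [sq_succ, show 2 * 0 + 1 = 0 + 1 from rfl, sq_succ]
    exact LL_antitone H (h0 j (by omega))
  | succ m ih =>
    have hP : ∀ k, 2 * (m + 1) ≤ k → sq H (2 * (m + 1)) ≤ sq H k := by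
      intro k hk
      obtain ⟨j, rfl⟩ : ∃ j, k = j + 1 := ⟨k - 1, by omega⟩
      rw [show 2 * (m + 1) = (2 * m + 1) + 1 by ring, sq_succ, sq_succ]
      exact LL_antitone H (ih.2 j (by omega))
    refine ⟨hP, ?_⟩
    intro k hk
    obtain ⟨j, rfl⟩ : ∃ j, k = j + 1 := ⟨k - 1, by omega⟩
    rw [sq_succ, sq_succ]
    exact LL_antitone H (hP j (by omega))

theorem sq_even_le_odd (H : Subgroup G) (m n : ℕ) : sq H (2 * m) ≤ sq H (2 * n + 1) := by
  by_cases h : 2 * m ≤ 2 * n + 1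
  · exact (sq_chain H m).1 _ h
  · exact (sq_chain H n).2 _ (by omega)

theorem sq_even_mono (H : Subgroup G) {m n : ℕ} (h : m ≤ n) : sq H (2 * m) ≤ sq H (2 * n) :=
  (sq_chain H m).1 _ (by omega)

theorem sq_odd_anti (H : Subgroup G) {m n : ℕ} (h : m ≤ n) :
    sq H (2 * n + 1) ≤ sq H (2 * m + 1) :=
  (sq_chain H m).2 _ (by omega)

theorem Ls_le_Lu (H : Subgroup G) : Ls H ≤ Lu H :=
  iSup_le fun m => le_iInf fun n => sq_even_le_odd H m n

theorem Lu_le_self (H : Subgroup G) : Lu H ≤ H :=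
  (iInf_le _ 0).trans (sq_le_self H _)

/-! ### Abelian normal subgroups and centralizers -/

/-- Lemma B.1(e): abelian normal subgroups of `H` lie in every positive term. -/
theorem le_sq_of_normal {H A : Subgroup G} (hA : A ≤ H) (hAc : IsMulCommutative A)
    (hHA : H ≤ Subgroup.normalizer (A : Set G)) {n : ℕ} (hn : 0 < n) : A ≤ sq H n := by
  obtain ⟨j, rfl⟩ : ∃ j, n = j + 1 := ⟨n - 1, by omega⟩
  rw [sq_succ]
  exact le_LL hA hAc ((sq_le_self H j).trans hHA)

/-- Lemma B.1(f): in a `p`-group, the positive terms contain their centralizers. -/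
theorem centralizer_sq_le [Finite G] {p : ℕ} [Fact p.Prime] {H : Subgroup G} (hH : IsPGroup p H)
    {n : ℕ} (hn : 0 < n) : H ⊓ Subgroup.centralizer (sq H n : Set G) ≤ sq H n := by
  obtain ⟨A₀, hA₀n, hA₀c, hA₀s⟩ :=
    Cfsg.Agent.Helper8.exists_normal_abelian_self_centralizing (R := ↥H) hH
  haveI := hA₀c
  set A := A₀.map H.subtype with hA
  have hAH : A ≤ H := Subgroup.map_subtype_le A₀
  have hAc : IsMulCommutative A := inferInstance
  have hHA : H ≤ Subgroup.normalizer (A : Set G) := by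
    intro x hx
    rw [Subgroup.mem_normalizer_iff]
    intro y
    constructor
    · rintro ⟨a, ha, rfl⟩
      exact ⟨⟨x, hx⟩ * a * ⟨x, hx⟩⁻¹, hA₀n.conj_mem a ha _, by simp⟩
    · rintro ⟨b, hb, hby⟩
      have hyH : y ∈ H := by
        have h1 : x * y * x⁻¹ ∈ H := by rw [← hby]; exact b.2
        have h2 : y = x⁻¹ * (x * y * x⁻¹) * x := by group
        rw [h2]
        exact H.mul_mem (H.mul_mem (H.inv_mem hx) h1) hx
      refine ⟨⟨y, hyH⟩, ?_, rfl⟩
      have h3 : (⟨y, hyH⟩ : ↥H) = ⟨x, hx⟩⁻¹ * b * ⟨x, hx⟩⁻¹⁻¹ := by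
        apply Subtype.ext
        simp only [Subgroup.coe_mul, Subgroup.coe_inv, inv_inv]
        have hby' : (b : G) = x * y * x⁻¹ := hby
        rw [hby']; group
      rw [h3]
      exact hA₀n.conj_mem b hb _
  have hAsq : A ≤ sq H n := le_sq_of_normal hAH hAc hHA hn
  intro x ⟨hxH, hxC⟩
  apply hAsq
  refine ⟨⟨x, hxH⟩, ?_, rfl⟩
  apply hA₀s
  rw [Subgroup.mem_centralizer_iff]
  intro a ha
  apply Subtype.ext
  have := Subgroup.mem_centralizer_iff.mp hxC (a : G) (hAsq ⟨a, ha, rfl⟩)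
  simpa using this

/-! ### Invariance under automorphisms -/

theorem map_LL (φ : G ≃* G) (H X : Subgroup G) :
    (LL H X).map φ.toMonoidHom = LL (H.map φ.toMonoidHom) (X.map φ.toMonoidHom) := by
  have key : ∀ (ψ : G ≃* G) (H X : Subgroup G),
      (LL H X).map ψ.toMonoidHom ≤ LL (H.map ψ.toMonoidHom) (X.map ψ.toMonoidHom) := by
    intro ψ H X
    rw [Subgroup.map_le_iff_le_comap]
    apply LL_le
    intro A hA hAc hXA
    rw [← Subgroup.map_le_iff_le_comap]
    haveI := hAc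
    refine le_LL (Subgroup.map_mono hA) inferInstance ?_
    rintro _ ⟨x, hx, rfl⟩
    have hxn := hXA hx
    rw [Subgroup.mem_normalizer_iff] at hxn ⊢
    intro y
    obtain ⟨y', rfl⟩ := ψ.surjective y
    constructor
    · rintro ⟨a, ha, hay⟩
      have : a = y' := ψ.injective hay
      subst this
      exact ⟨x * a * x⁻¹, (hxn a).1 ha, by simp⟩
    · rintro ⟨b, hb, hby⟩
      have hb' : b = x * y' * x⁻¹ := by
        apply ψ.injective
        rw [show ψ b = ψ.toMonoidHom b from rfl, hby]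
        simp
      refine ⟨y', (hxn y').2 (hb' ▸ hb), rfl⟩
  apply le_antisymm (key φ H X)
  have h1 := key φ.symm (H.map φ.toMonoidHom) (X.map φ.toMonoidHom)
  have hcancel : ∀ K : Subgroup G, (K.map φ.toMonoidHom).map φ.symm.toMonoidHom = K := by
    intro K
    rw [Subgroup.map_map]
    have : φ.symm.toMonoidHom.comp φ.toMonoidHom = MonoidHom.id G := by
      ext x; simp
    rw [this, Subgroup.map_id]
  rw [hcancel, hcancel] at h1
  have h2 := Subgroup.map_mono (f := φ.toMonoidHom) h1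
  rw [Subgroup.map_map] at h2
  have : φ.toMonoidHom.comp φ.symm.toMonoidHom = MonoidHom.id G := by
    ext x; simp
  rw [this, Subgroup.map_id] at h2
  exact h2

theorem map_sq (φ : G ≃* G) (H : Subgroup G) (n : ℕ) :
    (sq H n).map φ.toMonoidHom = sq (H.map φ.toMonoidHom) n := by
  induction n with
  | zero => exact Subgroup.map_bot _
  | succ n ih => rw [sq_succ, sq_succ, map_LL, ih]

/-- The terms of the Puig series of `H` are normalized by `N_G(H)`. -/
theorem normalizer_le_normalizer_sq (H : Subgroup G) (n : ℕ) :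
    Subgroup.normalizer (H : Set G) ≤ Subgroup.normalizer (sq H n : Set G) := by
  intro g hg
  rw [Subgroup.mem_normalizer_iff_map_conj_eq] at hg ⊢
  have := map_sq (MulAut.conj g) H n
  have hg' : Subgroup.map (MulEquiv.toMonoidHom (MulAut.conj g)) H = H := hg
  rw [hg'] at this
  exact this

theorem sq_normal (H : Subgroup G) [hH : H.Normal] (n : ℕ) : (sq H n).Normal := by
  rw [← Subgroup.normalizer_eq_top_iff, eq_top_iff]
  refine le_trans ?_ (normalizer_le_normalizer_sq H n)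
  rw [Subgroup.normalizer_eq_top_iff.mpr hH]


/-- Lemma B.1(c): the even and odd terms are eventually constant. -/
theorem exists_limit [Finite G] (H : Subgroup G) :
    ∃ m : ℕ, ∀ k, m ≤ k → sq H (2 * k) = Ls H ∧ sq H (2 * k + 1) = Lu H := by
  obtain ⟨n₁, hn₁⟩ := WellFoundedGT.monotone_chain_condition
    (⟨fun k => sq H (2 * k), fun _ _ h => sq_even_mono H h⟩ : ℕ →o Subgroup G)
  obtain ⟨n₂, hn₂⟩ := WellFoundedLT.antitone_chain_condition
    (f := fun k => sq H (2 * k + 1)) (fun _ _ h => sq_odd_anti H h)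
  replace hn₁ : ∀ m, n₁ ≤ m → sq H (2 * n₁) = sq H (2 * m) := hn₁
  replace hn₂ : ∀ m, n₂ ≤ m → sq H (2 * n₂ + 1) = sq H (2 * m + 1) := hn₂
  have hLs : Ls H = sq H (2 * n₁) := by
    apply le_antisymm
    · apply iSup_le
      intro k
      rcases le_total k n₁ with h | h
      · exact sq_even_mono H h
      · rw [hn₁ k h]
    · exact le_iSup (fun k => sq H (2 * k)) n₁
  have hLu : Lu H = sq H (2 * n₂ + 1) := by
    apply le_antisymm
    · exact iInf_le (fun k => sq H (2 * k + 1)) n₂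
    · apply le_iInf
      intro k
      rcases le_total k n₂ with h | h
      · exact sq_odd_anti H h
      · rw [hn₂ k h]
  refine ⟨max n₁ n₂, fun k hk => ⟨?_, ?_⟩⟩
  · rw [hLs, hn₁ k ((le_max_left _ _).trans hk)]
  · rw [hLu, hn₂ k ((le_max_right _ _).trans hk)]

/-- Lemma B.1(d). -/
theorem Lu_eq_LL_Ls [Finite G] (H : Subgroup G) : Lu H = LL H (Ls H) := by
  obtain ⟨m, hm⟩ := exists_limit H
  rw [← (hm m le_rfl).1, ← (hm m le_rfl).2, sq_succ]

theorem Ls_eq_LL_Lu [Finite G] (H : Subgroup G) : Ls H = LL H (Lu H) := by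
  obtain ⟨m, hm⟩ := exists_limit H
  rw [← (hm m le_rfl).2, ← (hm (m + 1) (Nat.le_succ m)).1,
    show 2 * (m + 1) = (2 * m + 1) + 1 by ring, sq_succ]

theorem exists_Ls_eq [Finite G] (H : Subgroup G) : ∃ n : ℕ, 0 < n ∧ Ls H = sq H n := by
  obtain ⟨m, hm⟩ := exists_limit H
  exact ⟨2 * (m + 1), by omega, ((hm (m + 1) (Nat.le_succ m)).1).symm⟩

theorem exists_Lu_eq [Finite G] (H : Subgroup G) : ∃ n : ℕ, 0 < n ∧ Lu H = sq H n := by
  obtain ⟨m, hm⟩ := exists_limit H
  exact ⟨2 * m + 1, by omega, ((hm m le_rfl).2).symm⟩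

/-- Lemma B.2: if `L(H₂) ≤ H₁ ≤ H₂` then `L(H₁) = L(H₂)`. -/
theorem Lu_eq_of_le [Finite G] {H₁ H₂ : Subgroup G} (h12 : H₁ ≤ H₂) (hL : Lu H₂ ≤ H₁) :
    Lu H₁ = Lu H₂ := by
  have hLs : Ls H₂ ≤ H₁ := (Ls_le_Lu H₂).trans hL
  have clA : ∀ n, sq H₁ (2 * n) ≤ Ls H₂ ∧ Lu H₂ ≤ sq H₁ (2 * n + 1) := by
    intro n
    induction n with
    | zero =>
      refine ⟨by rw [Nat.mul_zero, sq_zero]; exact bot_le, ?_⟩
      rw [Lu_eq_LL_Ls H₂, show 2 * 0 + 1 = 0 + 1 from rfl, sq_succ, sq_zero]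
      apply LL_le
      intro A hA hAc hXA
      have hAL : A ≤ Lu H₂ := by rw [Lu_eq_LL_Ls H₂]; exact le_LL hA hAc hXA
      exact le_LL (hAL.trans hL) hAc bot_le
    | succ n ih =>
      have h1 : sq H₁ (2 * (n + 1)) ≤ Ls H₂ := by
        rw [show 2 * (n + 1) = (2 * n + 1) + 1 by ring, sq_succ, Ls_eq_LL_Lu H₂]
        exact (LL_antitone H₁ ih.2).trans (LL_mono h12 _)
      refine ⟨h1, ?_⟩
      rw [Lu_eq_LL_Ls H₂, show 2 * (n + 1) + 1 = (2 * (n + 1)) + 1 from rfl, sq_succ]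
      apply LL_le
      intro A hA hAc hXA
      have hAL : A ≤ Lu H₂ := by rw [Lu_eq_LL_Ls H₂]; exact le_LL hA hAc hXA
      exact le_LL (hAL.trans hL) hAc (h1.trans hXA)
  have clB : ∀ n, sq H₂ (2 * n) ≤ sq H₁ (2 * n) ∧ sq H₁ (2 * n + 1) ≤ sq H₂ (2 * n + 1) := by
    intro n
    induction n with
    | zero =>
      refine ⟨by rw [Nat.mul_zero, sq_zero]; exact bot_le, ?_⟩
      rw [show 2 * 0 + 1 = 0 + 1 from rfl, sq_succ, sq_succ, sq_zero, sq_zero]
      exact LL_mono h12 ⊥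
    | succ n ih =>
      have h1 : sq H₂ (2 * (n + 1)) ≤ sq H₁ (2 * (n + 1)) := by
        rw [show 2 * (n + 1) = (2 * n + 1) + 1 by ring, sq_succ, sq_succ]
        refine (LL_antitone H₂ ih.2).trans ?_
        apply LL_le
        intro A hA hAc hXA
        have hAL : A ≤ Ls H₂ := by
          rw [Ls_eq_LL_Lu H₂]
          exact le_LL hA hAc ((clA n).2.trans hXA)
        exact le_LL (hAL.trans hLs) hAc hXA
      refine ⟨h1, ?_⟩
      rw [show 2 * (n + 1) + 1 = (2 * (n + 1)) + 1 from rfl, sq_succ, sq_succ]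
      exact (LL_antitone H₁ h1).trans (LL_mono h12 _)
  apply le_antisymm
  · exact iInf_mono fun n => (clB n).2
  · exact le_iInf fun n => (clA n).2


theorem normalizer_le_normalizer_Lu (H : Subgroup G) :
    Subgroup.normalizer (H : Set G) ≤ Subgroup.normalizer (Lu H : Set G) := by
  intro g hg
  have key : ∀ g ∈ Subgroup.normalizer (H : Set G), ∀ x ∈ Lu H, g * x * g⁻¹ ∈ Lu H := by
    intro g hg x hx
    unfold Lu at hx ⊢
    rw [Subgroup.mem_iInf] at hx ⊢
    intro n
    have := normalizer_le_normalizer_sq H (2 * n + 1) hg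
    rw [Subgroup.mem_normalizer_iff] at this
    exact (this x).1 (hx n)
  rw [Subgroup.mem_normalizer_iff]
  intro x
  refine ⟨key g hg x, fun h => ?_⟩
  have := key g⁻¹ (Subgroup.inv_mem _ hg) _ h
  have e : g⁻¹ * (g * x * g⁻¹) * g⁻¹⁻¹ = x := by group
  rwa [e] at this

/-- `Z(L(H))` inside the ambient group. -/
def ZL (H : Subgroup G) : Subgroup G := Lu H ⊓ Subgroup.centralizer (Lu H : Set G)

theorem normalizer_le_normalizer_center (L : Subgroup G) :
    Subgroup.normalizer (L : Set G) ≤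
      Subgroup.normalizer ((L ⊓ Subgroup.centralizer (L : Set G) : Subgroup G) : Set G) := by
  have key : ∀ g ∈ Subgroup.normalizer (L : Set G),
      ∀ x ∈ L ⊓ Subgroup.centralizer (L : Set G), g * x * g⁻¹ ∈ L ⊓ Subgroup.centralizer (L : Set G) := by
    intro g hg x hx
    obtain ⟨hxL, hxC⟩ := Subgroup.mem_inf.mp hx
    rw [Subgroup.mem_normalizer_iff] at hg
    refine Subgroup.mem_inf.mpr ⟨(hg x).1 hxL, ?_⟩
    rw [Subgroup.mem_centralizer_iff] at hxC ⊢
    intro l hl
    have hl' : g⁻¹ * l * g ∈ L := by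
      have e : g * (g⁻¹ * l * g) * g⁻¹ = l := by group
      apply (hg _).2
      rw [e]
      exact hl
    have := hxC _ hl'
    calc l * (g * x * g⁻¹) = g * ((g⁻¹ * l * g) * x) * g⁻¹ := by group
      _ = g * (x * (g⁻¹ * l * g)) * g⁻¹ := by rw [this]
      _ = g * x * g⁻¹ * l := by group
  intro g hg
  rw [Subgroup.mem_normalizer_iff]
  intro x
  refine ⟨key g hg x, fun h => ?_⟩
  have := key g⁻¹ (Subgroup.inv_mem _ hg) _ h
  have e : g⁻¹ * (g * x * g⁻¹) * g⁻¹⁻¹ = x := by group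
  rwa [e] at this

theorem normalizer_le_normalizer_ZL (H : Subgroup G) :
    Subgroup.normalizer (H : Set G) ≤ Subgroup.normalizer (ZL H : Set G) :=
  (normalizer_le_normalizer_Lu H).trans (normalizer_le_normalizer_center _)

theorem normal_of_normalizer_eq_top {K : Subgroup G} (h : ∀ g : G, g ∈ Subgroup.normalizer (K : Set G)) :
    K.Normal := by
  rw [← Subgroup.normalizer_eq_top_iff, eq_top_iff]
  intro g _
  exact h g

theorem ZL_normal (H : Subgroup G) [hH : H.Normal] : (ZL H).Normal := by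
  apply normal_of_normalizer_eq_top
  intro g
  apply normalizer_le_normalizer_ZL H
  rw [Subgroup.normalizer_eq_top_iff.mpr hH]
  trivial

theorem Lu_normal (H : Subgroup G) [hH : H.Normal] : (Lu H).Normal := by
  apply normal_of_normalizer_eq_top
  intro g
  apply normalizer_le_normalizer_Lu H
  rw [Subgroup.normalizer_eq_top_iff.mpr hH]
  trivial

/-- The centre of a subgroup of a subgroup, in the ambient group. -/
theorem map_center_map (H : Subgroup G) (K : Subgroup ↥H) :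
    ((Subgroup.center ↥K).map K.subtype).map H.subtype =
      K.map H.subtype ⊓ Subgroup.centralizer ((K.map H.subtype : Subgroup G) : Set G) := by
  ext x
  constructor
  · rintro ⟨_, ⟨z, hz, rfl⟩, rfl⟩
    refine Subgroup.mem_inf.mpr ⟨⟨z, z.2, rfl⟩, ?_⟩
    rw [SetLike.mem_coe] at hz
    rw [Subgroup.mem_centralizer_iff]
    rintro _ ⟨k, hk, rfl⟩
    have := Subgroup.mem_center_iff.mp hz ⟨k, hk⟩
    have h2 := congrArg (fun y : ↥K => ((y : ↥H) : G)) this
    simpa using h2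
  · intro hx
    obtain ⟨⟨k, hk, rfl⟩, hC⟩ := Subgroup.mem_inf.mp hx
    refine ⟨k, ⟨⟨k, hk⟩, ?_, rfl⟩, rfl⟩
    rw [SetLike.mem_coe, Subgroup.mem_center_iff]
    intro y
    apply Subtype.ext
    apply Subtype.ext
    have := Subgroup.mem_centralizer_iff.mp hC ((y : ↥H) : G) ⟨y, y.2, rfl⟩
    simpa using this

theorem map_center_puigSubgroup (H : Subgroup G) :
    ((Subgroup.center ↥(Cfsg.puigSubgroup ↥H)).map (Cfsg.puigSubgroup ↥H).subtype).map H.subtype =
      ZL H := by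
  rw [map_center_map, map_puigSubgroup]
  rfl

section InjOn

variable {G' : Type*} [Group G']

theorem map_LL_of_injOn (f : G →* G') (H X : Subgroup G) (hf : Set.InjOn f H) (hX : X ≤ H) :
    (LL H X).map f = LL (H.map f) (X.map f) := by
  apply le_antisymm
  · rw [Subgroup.map_le_iff_le_comap]
    apply LL_le
    intro A hA hAc hXA
    rw [← Subgroup.map_le_iff_le_comap]
    haveI := hAc
    refine le_LL (Subgroup.map_mono hA) inferInstance ?_
    rintro _ ⟨x, hx, rfl⟩
    have hxn := hXA hx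
    have hxn' := hXA (X.inv_mem hx)
    rw [Subgroup.mem_normalizer_iff] at hxn hxn' ⊢
    intro y
    constructor
    · rintro ⟨a, ha, rfl⟩
      exact ⟨x * a * x⁻¹, (hxn a).1 ha, by simp⟩
    · rintro ⟨b, hb, hby⟩
      refine ⟨x⁻¹ * b * x⁻¹⁻¹, (hxn' b).1 hb, ?_⟩
      rw [inv_inv, map_mul, map_mul, hby, map_inv]
      group
  · apply LL_le
    intro B hB hBc hXB
    set A : Subgroup G := B.comap f ⊓ H with hA
    have hAB : A.map f = B := by
      apply le_antisymm
      · rintro _ ⟨x, ⟨hx, _⟩, rfl⟩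
        exact hx
      · intro y hy
        obtain ⟨x, hx, rfl⟩ := hB hy
        exact ⟨x, ⟨hy, hx⟩, rfl⟩
    have hAH : A ≤ H := inf_le_right
    have hAc : IsMulCommutative A := by
      refine ⟨⟨fun x y => ?_⟩⟩
      apply Subtype.ext
      apply hf (H.mul_mem (hAH x.2) (hAH y.2)) (H.mul_mem (hAH y.2) (hAH x.2))
      have := hBc.is_comm.comm ⟨f x, x.2.1⟩ ⟨f y, y.2.1⟩
      have h2 := congrArg Subtype.val this
      simpa using h2
    have hXA : X ≤ Subgroup.normalizer (A : Set G) := by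
      have key : ∀ x ∈ X, ∀ a ∈ A, x * a * x⁻¹ ∈ A := by
        intro x hx a ha
        refine ⟨?_, H.mul_mem (H.mul_mem (hX hx) ha.2) (H.inv_mem (hX hx))⟩
        show f (x * a * x⁻¹) ∈ B
        have hn := hXB ⟨x, hx, rfl⟩
        rw [Subgroup.mem_normalizer_iff] at hn
        rw [map_mul, map_mul, map_inv]
        exact (hn (f a)).1 ha.1
      intro x hx
      rw [Subgroup.mem_normalizer_iff]
      intro a
      refine ⟨key x hx a, fun h => ?_⟩
      have := key x⁻¹ (X.inv_mem hx) _ h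
      have e : x⁻¹ * (x * a * x⁻¹) * x⁻¹⁻¹ = a := by group
      rwa [e] at this
    rw [← hAB]
    exact Subgroup.map_mono (le_LL hAH hAc hXA)

theorem map_sq_of_injOn (f : G →* G') (H : Subgroup G) (hf : Set.InjOn f H) (n : ℕ) :
    (sq H n).map f = sq (H.map f) n := by
  induction n with
  | zero => exact Subgroup.map_bot _
  | succ n ih => rw [sq_succ, sq_succ, map_LL_of_injOn f H _ hf (sq_le_self H n), ih]

theorem map_Lu_of_injOn [Finite G] [Finite G'] (f : G →* G') (H : Subgroup G)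
    (hf : Set.InjOn f H) : (Lu H).map f = Lu (H.map f) := by
  obtain ⟨m₁, hm₁⟩ := exists_limit H
  obtain ⟨m₂, hm₂⟩ := exists_limit (H.map f)
  rw [← (hm₁ (max m₁ m₂) (le_max_left _ _)).2, ← (hm₂ (max m₁ m₂) (le_max_right _ _)).2]
  exact map_sq_of_injOn f H hf _

theorem map_ZL_of_injOn [Finite G] [Finite G'] (f : G →* G') (H : Subgroup G)
    (hf : Set.InjOn f H) : (ZL H).map f = ZL (H.map f) := by
  unfold ZL
  rw [← map_Lu_of_injOn f H hf]
  have hLH : Lu H ≤ H := Lu_le_self H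
  ext y
  constructor
  · rintro ⟨x, hx, rfl⟩
    obtain ⟨hxL, hxC⟩ := Subgroup.mem_inf.mp hx
    refine Subgroup.mem_inf.mpr ⟨⟨x, hxL, rfl⟩, ?_⟩
    rw [Subgroup.mem_centralizer_iff] at hxC ⊢
    rintro _ ⟨l, hl, rfl⟩
    rw [← map_mul, ← map_mul, hxC l hl]
  · intro hy
    obtain ⟨⟨x, hxL, rfl⟩, hC⟩ := Subgroup.mem_inf.mp hy
    refine ⟨x, Subgroup.mem_inf.mpr ⟨hxL, ?_⟩, rfl⟩
    rw [Subgroup.mem_centralizer_iff] at hC ⊢
    intro l hl
    apply hf (H.mul_mem (hLH hl) (hLH hxL)) (H.mul_mem (hLH hxL) (hLH hl))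
    rw [map_mul, map_mul]
    exact hC (f l) ⟨l, hl, rfl⟩

end InjOn

end Cfsg.Agent.Helper8.Puig
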