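import Mathlib
import Cfsg.Agent.Lib.Helper8.Puig
import Cfsg.Agent.S1465
import Cfsg.Agent.Lib.Helper10.SylowMore
import Cfsg.Agent.Lib.Helper7.Frattini

set_option autoImplicit false
set_option linter.style.haveILetI false

/-! The Puig series of a Sylow subgroup and of `O_p(G)` in a solvable group of odd order
(Bender--Glauberman, Appendix B). -/

namespace Cfsg.Agent.Helper8.Puig

open Cfsg

variable {G : Type*} [Group G] [Finite G] [Group.IsSolvable G]

/-- Lemma B.3, term by term. -/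
theorem sq_compare (hodd : Odd (Nat.card G)) (p : ℕ) [Fact p.Prime] (hp : p ≠ 2)
    (hO : Cfsg.pPrimeCore p G = ⊥) (S : Sylow p G) (n : ℕ) :
    sq (S : Subgroup G) (2 * n) ≤ sq (Cfsg.pCore p G) (2 * n) ∧
      sq (Cfsg.pCore p G) (2 * n + 1) ≤ sq (S : Subgroup G) (2 * n + 1) := by
  set T := Cfsg.pCore p G with hT
  haveI : T.Characteristic := Cfsg.Agent.Helper7.pCore_characteristic p
  haveI hTn : T.Normal := inferInstance
  have hTp : IsPGroup p T := Cfsg.Agent.Helper7.pCore_isPGroup p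
  have hTS : T ≤ (S : Subgroup G) := Cfsg.Agent.Helper23.PSolv.pCore_le_sylow S
  induction n with
  | zero =>
    refine ⟨by rw [Nat.mul_zero, sq_zero]; exact bot_le, ?_⟩
    rw [show 2 * 0 + 1 = 0 + 1 from rfl, sq_succ, sq_succ, sq_zero, sq_zero]
    exact LL_mono hTS ⊥
  | succ n ih =>
    obtain ⟨ih1, ih2⟩ := ih
    have h1 : sq (S : Subgroup G) (2 * (n + 1)) ≤ sq T (2 * (n + 1)) := by
      rw [show 2 * (n + 1) = (2 * n + 1) + 1 by ring, sq_succ, sq_succ]
      refine le_trans (LL_antitone _ ih2) ?_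
      apply LL_le
      intro A hA hAc hPA
      haveI hPn : (sq T (2 * n + 1)).Normal := sq_normal T _
      have hPp : IsPGroup p (sq T (2 * n + 1)) := hTp.to_le (sq_le_self T _)
      have hQC : Cfsg.pCore p G ⊓ Subgroup.centralizer (sq T (2 * n + 1) : Set G) ≤
          sq T (2 * n + 1) := centralizer_sq_le hTp (by omega)
      have key := (Cfsg.Agent.S1465.result hodd p hp (sq T (2 * n + 1)) hPp {A} (by
        intro B hB
        rw [Set.mem_singleton_iff] at hB
        subst hB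
        exact ⟨hAc, S.2.to_le hA, hPA⟩)).2 hO hQC
      rw [sSup_singleton] at key
      exact le_LL key hAc hPA
    refine ⟨h1, ?_⟩
    rw [show 2 * (n + 1) + 1 = (2 * (n + 1)) + 1 from rfl, sq_succ, sq_succ]
    exact le_trans (LL_antitone _ h1) (LL_mono hTS _)

/-- Lemma B.3: `L_*(S) ≤ L_*(T) ≤ L(T) ≤ L(S)` for `T = O_p(G)`. -/
theorem Ls_Lu_compare (hodd : Odd (Nat.card G)) (p : ℕ) [Fact p.Prime] (hp : p ≠ 2)
    (hO : Cfsg.pPrimeCore p G = ⊥) (S : Sylow p G) :
    Ls (S : Subgroup G) ≤ Ls (Cfsg.pCore p G) ∧ Ls (Cfsg.pCore p G) ≤ Lu (Cfsg.pCore p G) ∧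
      Lu (Cfsg.pCore p G) ≤ Lu (S : Subgroup G) := by
  refine ⟨?_, Ls_le_Lu _, ?_⟩
  · exact iSup_mono fun n => (sq_compare hodd p hp hO S n).1
  · exact iInf_mono fun n => (sq_compare hodd p hp hO S n).2

/-- Theorem B.4(b): `Z(L(S))` is normal when `O_{p'}(G) = 1`. -/
theorem ZL_normal_of_pPrimeCore_eq_bot (hodd : Odd (Nat.card G)) (p : ℕ) [Fact p.Prime]
    (hp : p ≠ 2) (hO : Cfsg.pPrimeCore p G = ⊥) (S : Sylow p G) :
    (ZL (S : Subgroup G)).Normal := by
  set T := Cfsg.pCore p G with hT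
  haveI : T.Characteristic := Cfsg.Agent.Helper7.pCore_characteristic p
  haveI hTn : T.Normal := inferInstance
  have hTp : IsPGroup p T := Cfsg.Agent.Helper7.pCore_isPGroup p
  have hTS : T ≤ (S : Subgroup G) := Cfsg.Agent.Helper23.PSolv.pCore_le_sylow S
  obtain ⟨hLs_ST, hLsLuT, hLu_TS⟩ := Ls_Lu_compare hodd p hp hO S
  rw [← hT] at hLs_ST hLsLuT hLu_TS
  set Y := ZL T with hY
  haveI hYn : Y.Normal := ZL_normal T
  have hYT : Y ≤ T := inf_le_left.trans (Lu_le_self T)
  have hYS : Y ≤ (S : Subgroup G) := hYT.trans hTS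
  have hYp : IsPGroup p Y := hTp.to_le hYT
  have hYc : IsMulCommutative Y := by
    refine ⟨⟨fun x y => ?_⟩⟩
    apply Subtype.ext
    have hx := (Subgroup.mem_inf.mp x.2).2
    have hy := (Subgroup.mem_inf.mp y.2).1
    exact (Subgroup.mem_centralizer_iff.mp hx (y : G) hy).symm
  obtain ⟨n, hn, hLsn⟩ := exists_Ls_eq (S : Subgroup G)
  -- Step 1
  have hZY : ZL (S : Subgroup G) ≤ Y := by
    intro x hx
    obtain ⟨hxL, hxC⟩ := Subgroup.mem_inf.mp hx
    have hxS : x ∈ (S : Subgroup G) := Lu_le_self _ hxL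
    have hxC' : x ∈ Subgroup.centralizer (sq (S : Subgroup G) n : Set G) := by
      rw [← hLsn]
      exact Subgroup.centralizer_le (Ls_le_Lu _) hxC
    have hxLs : x ∈ Ls (S : Subgroup G) := by
      rw [hLsn]
      exact centralizer_sq_le S.2 hn ⟨hxS, hxC'⟩
    refine Subgroup.mem_inf.mpr ⟨hLsLuT (hLs_ST hxLs), ?_⟩
    exact Subgroup.centralizer_le hLu_TS hxC
  -- Step 3
  set CY := Subgroup.centralizer (Y : Set G) with hCY
  have hYLs : Y ≤ Ls (S : Subgroup G) := by
    rw [hLsn]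
    refine le_sq_of_normal hYS hYc ?_ hn
    rw [Subgroup.normalizer_eq_top_iff.mpr hYn]
    exact le_top
  have hLmap : (Lu (S : Subgroup G)).map (QuotientGroup.mk' CY) ≤ Cfsg.pCore p (G ⧸ CY) := by
    rw [Lu_eq_LL_Ls]
    exact (Cfsg.Agent.S1465.result hodd p hp Y hYp
      {A : Subgroup G | A ≤ (S : Subgroup G) ∧ IsMulCommutative A ∧
        Ls (S : Subgroup G) ≤ Subgroup.normalizer (A : Set G)} (by
      rintro B ⟨hBS, hBc, hBN⟩
      exact ⟨hBc, S.2.to_le hBS, hYLs.trans hBN⟩)).1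
  haveI : (Cfsg.pCore p (G ⧸ CY)).Characteristic := Cfsg.Agent.Helper7.pCore_characteristic p
  set C : Subgroup G := (Cfsg.pCore p (G ⧸ CY)).comap (QuotientGroup.mk' CY) with hC
  haveI hCn : C.Normal := inferInstance
  have hLC : Lu (S : Subgroup G) ≤ C := Subgroup.map_le_iff_le_comap.mp hLmap
  have hCYC : CY ≤ C := by
    intro y hy
    show QuotientGroup.mk' CY y ∈ Cfsg.pCore p (G ⧸ CY)
    rw [QuotientGroup.mk'_apply, (QuotientGroup.eq_one_iff y).mpr hy]
    exact Subgroup.one_mem _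
  -- Step 4
  set H₁ : Subgroup G := (S : Subgroup G) ⊓ C with hH₁
  have hLuH₁ : Lu H₁ = Lu (S : Subgroup G) :=
    Lu_eq_of_le inf_le_left (le_inf (Lu_le_self _) hLC)
  have hZLH₁ : ZL H₁ = ZL (S : Subgroup G) := by
    unfold ZL
    rw [hLuH₁]
  have hNH₁ : Subgroup.normalizer (H₁ : Set G) ≤
      Subgroup.normalizer (ZL (S : Subgroup G) : Set G) := by
    rw [← hZLH₁]
    exact normalizer_le_normalizer_ZL H₁
  -- Step 5
  have hCN : C ≤ Subgroup.normalizer (ZL (S : Subgroup G) : Set G) := by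
    intro c hc
    have hsurj : Function.Surjective (QuotientGroup.mk' CY) := QuotientGroup.mk'_surjective CY
    have h1 : Cfsg.pCore p (G ⧸ CY) ≤ (S.mapSurjective hsurj : Sylow p (G ⧸ CY)) :=
      Cfsg.Agent.Helper23.PSolv.pCore_le_sylow _
    have h2 : QuotientGroup.mk' CY c ∈
        ((S.mapSurjective hsurj : Sylow p (G ⧸ CY)) : Subgroup (G ⧸ CY)) := h1 hc
    rw [Sylow.coe_mapSurjective] at h2
    obtain ⟨s, hs, hsc⟩ := h2
    have hy : s⁻¹ * c ∈ CY := by
      rw [← QuotientGroup.eq_one_iff, QuotientGroup.mk_mul, QuotientGroup.mk_inv]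
      have : (QuotientGroup.mk s : G ⧸ CY) = QuotientGroup.mk c := hsc
      rw [this, inv_mul_cancel]
    have hsC : s ∈ C := by
      have : s = c * (s⁻¹ * c)⁻¹ := by group
      rw [this]
      exact C.mul_mem hc (C.inv_mem (hCYC hy))
    have hsN : s ∈ Subgroup.normalizer (ZL (S : Subgroup G) : Set G) :=
      hNH₁ (Subgroup.le_normalizer (Subgroup.mem_inf.mpr ⟨hs, hsC⟩))
    have hyN : s⁻¹ * c ∈ Subgroup.normalizer (ZL (S : Subgroup G) : Set G) := by
      have h3 : s⁻¹ * c ∈ Subgroup.centralizer (ZL (S : Subgroup G) : Set G) :=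
        Subgroup.centralizer_le hZY hy
      exact Subgroup.centralizer_le_normalizer _ h3
    have : c = s * (s⁻¹ * c) := by group
    rw [this]
    exact Subgroup.mul_mem _ hsN hyN
  apply normal_of_normalizer_eq_top
  intro g
  obtain ⟨c, hc, hgc⟩ := Cfsg.Agent.Helper10.frattini_elt C H₁ inf_le_right
    (S.2.to_le inf_le_left)
    (Cfsg.Agent.Helper10.inf_normal_relSylow (S : Subgroup G) C S.2 S.not_dvd_index) g
  have : g = (g * c) * c⁻¹ := by group
  rw [this]
  exact Subgroup.mul_mem _ (hNH₁ hgc) (Subgroup.inv_mem _ (hCN hc))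

/-- Theorem B.4(a): the Puig factorization `G = O_{p'}(G) N_G(Z(L(S)))`. -/
theorem pPrimeCore_sup_normalizer_ZL (hodd : Odd (Nat.card G)) (p : ℕ) [Fact p.Prime]
    (hp : p ≠ 2) (S : Sylow p G) :
    Cfsg.pPrimeCore p G ⊔ Subgroup.normalizer (ZL (S : Subgroup G) : Set G) = ⊤ := by
  set K := Cfsg.pPrimeCore p G with hK
  haveI hKn : K.Normal := Cfsg.Agent.Helper7.pPrimeCore_normal' p
  have hKc : (Nat.card K).Coprime p := Cfsg.Agent.Helper22.card_pPrimeCore_coprime p
  set f := QuotientGroup.mk' K with hf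
  have hsurj : Function.Surjective f := QuotientGroup.mk'_surjective K
  have hoddq : Odd (Nat.card (G ⧸ K)) := by
    refine Odd.of_dvd_nat hodd ?_
    rw [← Subgroup.index_eq_card]
    exact Subgroup.index_dvd_card K
  have hO : Cfsg.pPrimeCore p (G ⧸ K) = ⊥ :=
    Cfsg.Agent.Helper23.PSolv.pPrimeCore_quotient_pPrimeCore p
  have hinj : Set.InjOn f (S : Subgroup G) := by
    intro x hx y hy hxy
    have h1 : x⁻¹ * y ∈ K := by
      rw [← QuotientGroup.eq_one_iff]
      have : (QuotientGroup.mk x : G ⧸ K) = QuotientGroup.mk y := hxy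
      rw [QuotientGroup.mk_mul, QuotientGroup.mk_inv, this, inv_mul_cancel]
    have h2 : x⁻¹ * y ∈ (S : Subgroup G) ⊓ K :=
      Subgroup.mem_inf.mpr ⟨Subgroup.mul_mem _ (Subgroup.inv_mem _ hx) hy, h1⟩
    rw [Cfsg.Agent.Helper7.inf_eq_bot_of_isPGroup_of_coprime S.2 hKc, Subgroup.mem_bot] at h2
    exact inv_mul_eq_one.mp h2
  have hnorm := ZL_normal_of_pPrimeCore_eq_bot hoddq p hp hO (S.mapSurjective hsurj)
  rw [Sylow.coe_mapSurjective, ← map_ZL_of_injOn f _ hinj] at hnorm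
  have hZp : IsPGroup p (ZL (S : Subgroup G)) :=
    S.2.to_le (inf_le_left.trans (Lu_le_self _))
  have hN := Cfsg.Agent.Helper7.normalizer_map_mk'_eq (R := K) hZp hKc
  rw [Subgroup.normalizer_eq_top_iff.mpr hnorm] at hN
  rw [eq_top_iff]
  intro g _
  have hg : f g ∈ (Subgroup.normalizer (ZL (S : Subgroup G) : Set G)).map f := by
    rw [← hN]; trivial
  obtain ⟨n, hn, hng⟩ := hg
  have h1 : n⁻¹ * g ∈ K := by
    rw [← QuotientGroup.eq_one_iff]
    have : (QuotientGroup.mk n : G ⧸ K) = QuotientGroup.mk g := hng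
    rw [QuotientGroup.mk_mul, QuotientGroup.mk_inv, this, inv_mul_cancel]
  have : g = n * (n⁻¹ * g) := by group
  rw [this]
  exact Subgroup.mul_mem _ (Subgroup.mem_sup_right hn) (Subgroup.mem_sup_left h1)

end Cfsg.Agent.Helper8.Puig
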