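import Mathlib

/-!
# Automorphisms induced on a characteristic quotient, and Burnside's Frattini-quotient lemma
(helper8's shared library)

* `autQuot N : MulAut X →* MulAut (X ⧸ N)` for a characteristic subgroup `N`;
* `eq_one_of_autQuot_frattini` : a `p'`-automorphism of a finite `p`-group acting trivially on the
  Frattini quotient is trivial.
-/

set_option autoImplicit false

namespace Cfsg.Agent.Helper8

section AutQuot

variable {X : Type*} [Group X] (N : Subgroup X) [hN : N.Characteristic]

theorem map_eq_of_characteristic (f : MulAut X) : N.map f.toMonoidHom = N := by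
  apply le_antisymm
  · exact (Subgroup.characteristic_iff_map_le.mp hN) f
  · intro x hx
    have h1 := (Subgroup.characteristic_iff_map_le.mp hN) f.symm
    refine ⟨f.symm x, h1 ⟨x, hx, rfl⟩, ?_⟩
    simp

/-- the automorphism of `X ⧸ N` induced by an automorphism of `X` -/
noncomputable def autQuot : MulAut X →* MulAut (X ⧸ N) where
  toFun f := QuotientGroup.congr N N f (map_eq_of_characteristic N f)
  map_one' := by
    ext q
    induction q using QuotientGroup.induction_on with
    | _ x => rfl
  map_mul' f g := by
    ext q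
    induction q using QuotientGroup.induction_on with
    | _ x => rfl

theorem autQuot_mk (f : MulAut X) (x : X) :
    autQuot N f (QuotientGroup.mk x) = QuotientGroup.mk (f x) := rfl

theorem mem_ker_autQuot (f : MulAut X) :
    f ∈ (autQuot N).ker ↔ ∀ x : X, x⁻¹ * f x ∈ N := by
  rw [MonoidHom.mem_ker]
  constructor
  · intro h x
    have h1 := DFunLike.congr_fun h (QuotientGroup.mk x)
    rw [autQuot_mk] at h1
    have h2 : ((f x : X) : X ⧸ N) = (x : X ⧸ N) := h1
    exact QuotientGroup.eq.mp h2.symm
  · intro h
    ext q
    induction q using QuotientGroup.induction_on with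
    | _ x =>
      rw [autQuot_mk]
      exact (QuotientGroup.eq.mpr (h x)).symm

end AutQuot

section Burnside

variable {X : Type*} [Group X] [Finite X]

/-- Burnside: an automorphism of prime power order `q ^ k`, `q ≠ p`, of a finite `p`-group acting
trivially on the Frattini quotient is trivial. -/
theorem eq_one_of_autQuot_frattini_of_prime_pow {p : ℕ} [Fact p.Prime] (hX : IsPGroup p X)
    (a : MulAut X) {q k : ℕ} [hq : Fact q.Prime] (hqp : q ≠ p) (hak : a ^ q ^ k = 1)
    (ha : a ∈ (autQuot (frattini X)).ker) : a = 1 := by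
  classical
  rw [mem_ker_autQuot] at ha
  let C : Subgroup X :=
    { carrier := {x | a x = x}
      one_mem' := map_one a
      mul_mem' := fun {x y} hx hy => by
        show a (x * y) = x * y
        rw [map_mul, show a x = x from hx, show a y = y from hy]
      inv_mem' := fun {x} hx => by
        show a x⁻¹ = x⁻¹
        rw [map_inv, show a x = x from hx] }
  have hΦa : ∀ y ∈ frattini X, a y ∈ frattini X := by
    intro y hy
    have h1 := map_eq_of_characteristic (frattini X) a
    rw [← h1]
    exact ⟨y, hy, rfl⟩
  have hsup : C ⊔ frattini X = ⊤ := by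
    rw [eq_top_iff]
    intro x _
    -- the coset of `x`
    let S := {y : X // x⁻¹ * y ∈ frattini X}
    haveI : Fintype S := Fintype.ofFinite S
    have hmap : ∀ y : S, x⁻¹ * a y.1 ∈ frattini X := by
      intro y
      have h1 : x⁻¹ * a y.1 = (x⁻¹ * a x) * a (x⁻¹ * y.1) := by
        rw [map_mul, map_inv]; group
      rw [h1]
      exact (frattini X).mul_mem (ha x) (hΦa _ y.2)
    let f : Function.End S := fun y => ⟨a y.1, hmap y⟩
    have hpow : ∀ (n : ℕ) (y : S), (((f ^ n) y : S) : X) = (a ^ n) y.1 := by
      intro n
      induction n with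
      | zero => intro y; rfl
      | succ n ih =>
        intro y
        rw [pow_succ, pow_succ, MulAut.mul_apply]
        show (((f ^ n) (f y) : S) : X) = (a ^ n) (a y.1)
        rw [ih]
    have hf : f ^ q ^ k = 1 := by
      funext y
      apply Subtype.ext
      rw [hpow, hak]
      rfl
    have hmod := Equiv.Perm.card_fixedPoints_modEq hf
    have hcardS : Fintype.card S = Nat.card (frattini X) := by
      rw [← Nat.card_eq_fintype_card]
      apply Nat.card_congr
      refine ⟨fun y => ⟨x⁻¹ * y.1, y.2⟩, fun z => ⟨x * z.1, by simpa using z.2⟩, ?_, ?_⟩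
      · intro y; apply Subtype.ext; simp
      · intro z; apply Subtype.ext; simp
    obtain ⟨m, hm⟩ := (hX.to_subgroup (frattini X)).exists_card_eq
    have hne : Fintype.card (Function.fixedPoints f) ≠ 0 := by
      intro h0
      rw [h0, hcardS, hm] at hmod
      have h1 : q ∣ p ^ m := (Nat.modEq_zero_iff_dvd).mp hmod
      have h2 := hq.out.dvd_of_dvd_pow h1
      exact hqp ((Nat.prime_dvd_prime_iff_eq hq.out (Fact.out : p.Prime)).mp h2)
    obtain ⟨⟨c, hc⟩⟩ := Fintype.card_pos_iff.mp (Nat.pos_of_ne_zero hne)
    have hcfix : a c.1 = c.1 := congrArg Subtype.val hc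
    have hx : x = c.1 * (x⁻¹ * c.1)⁻¹ := by group
    rw [hx]
    exact Subgroup.mul_mem_sup (show c.1 ∈ C from hcfix) ((frattini X).inv_mem c.2)
  have htop : C = ⊤ := frattini_nongenerating hsup
  ext x
  have : x ∈ C := by rw [htop]; trivial
  exact this

/-- Burnside: a `p'`-automorphism of a finite `p`-group acting trivially on the Frattini quotient
is trivial. -/
theorem eq_one_of_autQuot_frattini {p : ℕ} [Fact p.Prime] (hX : IsPGroup p X)
    (a : MulAut X) (hcop : (orderOf a).Coprime p)
    (ha : a ∈ (autQuot (frattini X)).ker) : a = 1 := by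
  by_contra hne
  have ho1 : orderOf a ≠ 1 := fun h => hne (orderOf_eq_one_iff.mp h)
  have ho0 : orderOf a ≠ 0 := (orderOf_pos a).ne'
  obtain ⟨q, hq, hqd⟩ := Nat.exists_prime_and_dvd ho1
  haveI : Fact q.Prime := ⟨hq⟩
  have hqp : q ≠ p := by
    rintro rfl
    have := Nat.Coprime.eq_one_of_dvd hcop.symm hqd
    exact hq.one_lt.ne' this
  have hb := orderOf_pow_orderOf_div ho0 hqd
  set b := a ^ (orderOf a / q) with hb_def
  have hbk : b ^ q ^ 1 = 1 := by
    rw [pow_one, ← hb]; exact pow_orderOf_eq_one b
  have hbker : b ∈ (autQuot (frattini X)).ker := Subgroup.pow_mem _ ha _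
  have hb1 := eq_one_of_autQuot_frattini_of_prime_pow hX b hqp hbk hbker
  rw [hb1, orderOf_one] at hb
  exact hq.one_lt.ne hb

end Burnside

end Cfsg.Agent.Helper8
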