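import Mathlib
import Cfsg.Agent.Lib.Helper8.GL2Odd

/-!
# Odd-order solvable subgroups of `GL₂` in odd characteristic (helper8's shared library)

* `comm_of_odd_pprime` : a solvable `p'`-group of odd order with a faithful two-dimensional
  representation in odd characteristic `p` is commutative;
* `commutator_isPGroup` : the derived subgroup of a solvable group of odd order with a faithful
  two-dimensional representation in odd characteristic `p` is a `p`-group.
-/

set_option autoImplicit false
set_option linter.style.haveILetI false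

namespace Cfsg.Agent.Helper8.GL2Odd

open Matrix
open scoped MatrixGroups

universe u

variable {F : Type u} [Field F]

theorem comm_of_odd_pprime (p : ℕ) [Fact p.Prime] [CharP F p] (hp : p ≠ 2) :
    ∀ (n : ℕ) (H : Type u) [Group H] [Finite H], Nat.card H = n → Odd (Nat.card H) →
      Group.IsSolvable H → ¬ p ∣ Nat.card H →
      ∀ ρ : H →* GL (Fin 2) F, Function.Injective ρ → ∀ a b : H, a * b = b * a := by
  intro n
  induction n using Nat.strong_induction_on with
  | _ n ih =>
    intro H _ _ hn hodd hsolv hpH ρ hρ a b
    rcases subsingleton_or_nontrivial H with hsub | hnt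
    · exact Subsingleton.elim _ _
    have hlt : commutator H < ⊤ := Group.IsSolvable.commutator_lt_top_of_nontrivial (G := H)
    have hcardlt : Nat.card (commutator H) < n := by
      rw [← hn]
      have h1 : (commutator H).index ≠ 1 := fun h => hlt.ne (Subgroup.index_eq_one.mp h)
      have h2 := (commutator H).card_mul_index
      have h3 : 0 < Nat.card (commutator H) := Nat.card_pos
      have h4 : (commutator H).index ≠ 0 := Subgroup.index_ne_zero_of_finite
      have h5 : 2 ≤ (commutator H).index := by omega
      calc Nat.card (commutator H) < Nat.card (commutator H) * 2 := by omega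
        _ ≤ Nat.card (commutator H) * (commutator H).index := Nat.mul_le_mul_left _ h5
        _ = Nat.card H := h2
    have hoddK : Odd (Nat.card (commutator H)) :=
      Odd.of_dvd_nat hodd (Subgroup.card_subgroup_dvd_card _)
    have hpK : ¬ p ∣ Nat.card (commutator H) :=
      fun h => hpH (h.trans (Subgroup.card_subgroup_dvd_card _))
    have hKcomm := ih _ hcardlt (commutator H) rfl hoddK inferInstance hpK
      (ρ.comp (commutator H).subtype) (hρ.comp Subtype.val_injective)
    have hpo : ∀ x : H, ¬ p ∣ orderOf x := fun x h => hpH (h.trans (orderOf_dvd_natCard x))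
    have hoo : ∀ x : H, Odd (orderOf x) := fun x => odd_orderOf_of_odd_card hodd x
    -- the derived subgroup is central
    have hcent : ∀ k ∈ commutator H, ∀ g : H, g * k * g⁻¹ = k := by
      intro k hk g
      have hn : (commutator H).Normal := inferInstance
      have hk' : g * k * g⁻¹ ∈ commutator H := hn.conj_mem k hk g
      have hc : Commute k (g * k * g⁻¹) := by
        have := hKcomm ⟨k, hk⟩ ⟨_, hk'⟩
        exact congrArg Subtype.val this
      exact conj_eq_of_commute_GL p hp ρ hρ g k (hoo g) (hpo k) hc
    have hab : a * b * a⁻¹ * b⁻¹ ∈ commutator H := by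
      have := Subgroup.commutator_mem_commutator (Subgroup.mem_top a) (Subgroup.mem_top b)
      rw [commutatorElement_def] at this
      exact this
    set c := a * b * a⁻¹ * b⁻¹ with hc_def
    have hcb : a * b * a⁻¹ = c * b := by rw [hc_def]; group
    have hcc : ∀ g : H, g * c = c * g := by
      intro g
      have := hcent c hab g
      calc g * c = (g * c * g⁻¹) * g := by group
        _ = c * g := by rw [this]
    have hcomm : Commute b (a * b * a⁻¹) := by
      rw [hcb]
      show b * (c * b) = c * b * b
      rw [← mul_assoc, hcc b]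
    have := conj_eq_of_commute_GL p hp ρ hρ a b (hoo a) (hpo b) hcomm
    calc a * b = (a * b * a⁻¹) * a := by group
      _ = b * a := by rw [this]

theorem commutator_isPGroup (p : ℕ) [Fact p.Prime] [CharP F p] (hp : p ≠ 2)
    {X : Type u} [Group X] [Finite X] (hodd : Odd (Nat.card X)) (hsolv : Group.IsSolvable X)
    (ρ : X →* GL (Fin 2) F) (hρ : Function.Injective ρ) : IsPGroup p (commutator X) := by
  obtain ⟨P, hPn⟩ := exists_normal_sylow p hp (Nat.card X) X rfl hodd ρ hρ
  obtain ⟨Hc, hHc⟩ := Subgroup.exists_right_complement'_of_coprime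
    (N := (P : Subgroup X)) P.card_coprime_index
  have hcardH : (P : Subgroup X).index = Nat.card Hc := hHc.symm.index_eq_card
  have hpH : ¬ p ∣ Nat.card Hc := by
    rw [← hcardH]; exact P.not_dvd_index
  have hoddH : Odd (Nat.card Hc) := Odd.of_dvd_nat hodd (Subgroup.card_subgroup_dvd_card _)
  have hHcomm := comm_of_odd_pprime p hp (Nat.card Hc) Hc rfl hoddH inferInstance hpH
    (ρ.comp Hc.subtype) (hρ.comp Subtype.val_injective)
  have hdec : ∀ x : X, ∃ h ∈ Hc, (QuotientGroup.mk x : X ⧸ (P : Subgroup X)) = QuotientGroup.mk h := by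
    intro x
    obtain ⟨⟨⟨a, ha⟩, ⟨h, hh⟩⟩, hx⟩ := hHc.2 x
    refine ⟨h, hh, ?_⟩
    simp only at hx
    rw [← hx, QuotientGroup.mk_mul, (QuotientGroup.eq_one_iff a).mpr ha, one_mul]
  have hle : commutator X ≤ (P : Subgroup X) := by
    rw [commutator_def, Subgroup.commutator_le]
    intro x _ y _
    obtain ⟨h₁, hh₁, e1⟩ := hdec x
    obtain ⟨h₂, hh₂, e2⟩ := hdec y
    have hc : h₁ * h₂ = h₂ * h₁ := congrArg Subtype.val (hHcomm ⟨h₁, hh₁⟩ ⟨h₂, hh₂⟩)
    rw [← QuotientGroup.eq_one_iff, commutatorElement_def, QuotientGroup.mk_mul,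
      QuotientGroup.mk_mul, QuotientGroup.mk_mul, QuotientGroup.mk_inv, QuotientGroup.mk_inv,
      e1, e2, ← QuotientGroup.mk_inv, ← QuotientGroup.mk_inv, ← QuotientGroup.mk_mul,
      ← QuotientGroup.mk_mul, ← QuotientGroup.mk_mul, hc]
    have : h₂ * h₁ * h₁⁻¹ * h₂⁻¹ = 1 := by group
    rw [this, QuotientGroup.mk_one]
  exact P.isPGroup'.to_le hle

end Cfsg.Agent.Helper8.GL2Odd
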