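import Mathlib
import Cfsg.Prelude.Def_CaseTheorems
import Cfsg.Agent.S0093
import Cfsg.Agent.S0096
import Cfsg.Agent.S0120
import Cfsg.Agent.S0121
import Cfsg.Agent.S3771
import Cfsg.Agent.Lib.Helper21.PGroupFrattini
import Cfsg.Agent.Lib.Helper26.RankTwoAut
import Cfsg.Agent.Lib.Helper8.AutQuot
import Cfsg.Agent.Lib.Helper8.GL2Odd2

/-!
# Odd-order automorphism groups of `p`-groups of rank at most two (helper8's shared library)

`derived_isPGroup` : if a solvable group `Γ` of odd order acts faithfully on a finite `p`-group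
`R` (`p` odd) without elementary abelian subgroups of order `p ^ 3`, then `Γ'` is a `p`-group.
-/

set_option autoImplicit false
set_option linter.style.haveILetI false

namespace Cfsg.Agent.Helper8.RankTwo

open Cfsg

section Omega

variable {Y : Type*} [Group Y]

/-- the subgroup generated by the elements of order dividing `p` -/
def omega (p : ℕ) (Y : Type*) [Group Y] : Subgroup Y := Subgroup.closure {x : Y | x ^ p = 1}

instance omega_characteristic (p : ℕ) : (omega p Y).Characteristic := by
  rw [Subgroup.characteristic_iff_map_le]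
  intro φ
  unfold omega
  rw [MonoidHom.map_closure, Subgroup.closure_le]
  rintro _ ⟨x, hx, rfl⟩
  apply Subgroup.subset_closure
  show (φ x) ^ p = 1
  have hx' : x ^ p = 1 := hx
  show (φ.toMonoidHom x) ^ p = 1
  rw [← map_pow, hx', map_one]

theorem mem_omega {p : ℕ} {x : Y} (hx : x ^ p = 1) : x ∈ omega p Y :=
  Subgroup.subset_closure hx

end Omega

section Rank

/-- the rank condition passes to groups that embed -/
theorem pRankLE_of_injective {p k : ℕ} {Y Z : Type*} [Group Y] [Group Z] (f : Y →* Z)
    (hf : Function.Injective f) (h : PRankLE p k Z) : PRankLE p k Y := by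
  intro E hEc hEe
  have h1 := h (E.map f) ?_ ?_
  · rwa [Subgroup.card_map_of_injective hf] at h1
  · rw [isMulCommutative_iff_of_setLike] at hEc ⊢
    rintro _ ⟨a, ha, rfl⟩ _ ⟨b, hb, rfl⟩
    rw [← map_mul, ← map_mul, hEc a ha b hb]
  · rintro _ ⟨a, ha, rfl⟩
    rw [← map_pow, hEe a ha, map_one]

end Rank

section Main

theorem exists_pow_eq_one_of_pprime_trivial {K : Type*} [Group K] [Finite K] {p : ℕ}
    [Fact p.Prime] (S : Subgroup K) (h : ∀ b ∈ S, (orderOf b).Coprime p → b = 1) :
    ∀ b ∈ S, ∃ k : ℕ, b ^ p ^ k = 1 := by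
  intro b hb
  have hpp : p.Prime := Fact.out
  have hn0 : orderOf b ≠ 0 := (orderOf_pos b).ne'
  obtain ⟨e, m, hm, hn⟩ := Nat.exists_eq_pow_mul_and_not_dvd hn0 p hpp.ne_one
  refine ⟨e, ?_⟩
  apply h _ (S.pow_mem hb _)
  have hpe : p ^ e ≠ 0 := pow_ne_zero _ hpp.ne_zero
  rw [orderOf_pow_of_dvd hpe (Dvd.intro _ hn.symm), hn, Nat.mul_div_cancel_left _ (Nat.pos_of_ne_zero hpe)]
  exact ((Nat.Prime.coprime_iff_not_dvd hpp).mpr hm).symm

theorem mulAut_comm_of_isCyclic {V : Type*} [Group V] [IsCyclic V] (f g : MulAut V) :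
    f * g = g * f := by
  apply (IsCyclic.mulAutMulEquiv V).injective
  rw [map_mul, map_mul, mul_comm]

/-- **Main theorem.** A solvable group of odd order acting faithfully on a `p`-group of rank at most
two (`p` odd) has a derived subgroup that is a `p`-group. -/
theorem derived_isPGroup {R Γ : Type*} [Group R] [Finite R] [Group Γ] [Finite Γ]
    (p : ℕ) [Fact p.Prime] (hp : p ≠ 2) (hR : IsPGroup p R) (hr : PRankLE p 2 R)
    (hsolv : Group.IsSolvable Γ) (hodd : Odd (Nat.card Γ))
    (φ : Γ →* MulAut R) (hφ : Function.Injective φ) : IsPGroup p (commutator Γ) := by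
  classical
  have hpp : p.Prime := Fact.out
  obtain ⟨H, hHchar, hH1, hH2, hH3⟩ := Cfsg.Agent.S0093.result hR
  haveI := hHchar
  have hHp : IsPGroup p H := hR.to_subgroup H
  -- `H` has class at most two
  have hcl2 : ⁅commutator H, (⊤ : Subgroup H)⁆ = ⊥ := by
    rw [Subgroup.commutator_eq_bot_iff_le_centralizer]
    intro z hz
    have hle : commutator H ≤ frattini H := by
      rw [commutator_def, Subgroup.commutator_le]
      intro x _ y _
      rw [commutatorElement_def]
      exact Helper21.commutator_mem_frattini_of_isPGroup hHp x y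
    have hzΦ : z ∈ frattini H := hle hz
    rw [Subgroup.mem_centralizer_iff]
    intro y _
    have h1 : ((z : H) : R) ∈ Subgroup.centralizer (H : Set R) := hH1 ⟨z, hzΦ, rfl⟩
    rw [Subgroup.mem_centralizer_iff] at h1
    apply Subtype.ext
    exact h1 y y.2
  -- `D = Ω₁(H)`
  set D : Subgroup H := omega p H with hD
  have hDp : IsPGroup p D := hHp.to_subgroup D
  have hDexp : ∀ x : D, x ^ p = 1 := by
    intro x
    apply Subtype.ext
    exact Cfsg.Agent.S0096.result hp hHp hcl2 x.1 x.2
  have hDrank : PRankLE p 2 D :=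
    pRankLE_of_injective (H.subtype.comp D.subtype)
      (Subtype.val_injective.comp Subtype.val_injective) hr
  have hDcard : Nat.card D ≤ p ^ 3 := Cfsg.Agent.S3771.result hDp hDrank hDexp
  -- the action on `V = D / Φ(D)`
  set ψ : Γ →* MulAut (D ⧸ frattini D) :=
    (autQuot (frattini D)).comp ((MulAut.characteristic D).comp
      ((MulAut.characteristic H).comp φ)) with hψ
  have hker : ∀ b ∈ ψ.ker, (orderOf b).Coprime p → b = 1 := by
    intro b hb hcop
    have ho0 : (orderOf (φ b)).Coprime p :=
      Nat.Coprime.coprime_dvd_left (orderOf_map_dvd φ b) hcop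
    have ho1 : (orderOf (MulAut.characteristic H (φ b))).Coprime p :=
      Nat.Coprime.coprime_dvd_left (orderOf_map_dvd _ (φ b)) ho0
    have ho2 : (orderOf (MulAut.characteristic D (MulAut.characteristic H (φ b)))).Coprime p :=
      Nat.Coprime.coprime_dvd_left (orderOf_map_dvd _ _) ho1
    have h2 : MulAut.characteristic D (MulAut.characteristic H (φ b)) = 1 :=
      eq_one_of_autQuot_frattini hDp _ ho2 hb
    have h1 : MulAut.characteristic H (φ b) = 1 := by
      apply Cfsg.Agent.S0120.result hp hHp _ ho1
      intro x hx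
      have hxD : x ∈ D := mem_omega hx
      have := DFunLike.congr_fun h2 ⟨x, hxD⟩
      exact congrArg Subtype.val this
    have h0 : φ b = 1 := by
      apply Cfsg.Agent.S0121.result hR H hHchar hH1 hH2 hH3 _ ho0
      intro x hx
      have := DFunLike.congr_fun h1 ⟨x, hx⟩
      exact congrArg Subtype.val this
    exact hφ (h0.trans (map_one φ).symm)
  have hBp := exists_pow_eq_one_of_pprime_trivial ψ.ker hker
  -- `V` is elementary abelian
  have hVexp : ∀ v : D ⧸ frattini D, v ^ p = 1 := by
    intro v
    induction v using QuotientGroup.induction_on with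
    | _ x => rw [← QuotientGroup.mk_pow, hDexp x, QuotientGroup.mk_one]
  have hVcomm : ∀ a b : D ⧸ frattini D, a * b = b * a := by
    intro a b
    induction a using QuotientGroup.induction_on with
    | _ x =>
      induction b using QuotientGroup.induction_on with
      | _ y =>
        rw [← QuotientGroup.mk_mul, ← QuotientGroup.mk_mul, QuotientGroup.eq]
        have := Helper21.commutator_mem_frattini_of_isPGroup hDp y⁻¹ x⁻¹
        have e : (x * y)⁻¹ * (y * x) = y⁻¹ * x⁻¹ * y⁻¹⁻¹ * x⁻¹⁻¹ := by group
        rw [e]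
        exact this
  have hcardV : Nat.card (D ⧸ frattini D) * Nat.card (frattini D) = Nat.card D :=
    (Subgroup.card_eq_card_quotient_mul_card_subgroup (frattini D)).symm
  obtain ⟨j, hj⟩ := (hDp.to_quotient (frattini D)).exists_card_eq
  have hj2 : j ≤ 2 := by
    by_contra hcon
    have hj3 : 3 ≤ j := by omega
    have h1 : p ^ 3 ≤ Nat.card (D ⧸ frattini D) := by
      rw [hj]; exact Nat.pow_le_pow_right hpp.pos hj3
    have hΦpos : 0 < Nat.card (frattini D) := Nat.card_pos
    have hΦ1 : Nat.card (frattini D) = 1 := by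
      by_contra hne
      have h2 : 2 ≤ Nat.card (frattini D) := by omega
      have : Nat.card (D ⧸ frattini D) * 2 ≤ Nat.card D := by
        rw [← hcardV]; exact Nat.mul_le_mul_left _ h2
      have hVpos : 0 < Nat.card (D ⧸ frattini D) := Nat.card_pos
      omega
    have hΦbot : frattini D = ⊥ := Subgroup.card_eq_one.mp hΦ1
    have hDcomm : ∀ x y : D, x * y = y * x := by
      intro x y
      have := Helper21.commutator_mem_frattini_of_isPGroup hDp x y
      rw [hΦbot, Subgroup.mem_bot] at this
      calc x * y = (x * y * x⁻¹ * y⁻¹) * (y * x) := by group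
        _ = y * x := by rw [this, one_mul]
    have h3 := hDrank ⊤ (isMulCommutative_iff_of_setLike.mpr (fun a _ b _ => hDcomm a b))
      (fun a _ => hDexp a)
    rw [Subgroup.card_top] at h3
    have h4 : Nat.card D = Nat.card (D ⧸ frattini D) := by
      rw [← hcardV, hΦ1, mul_one]
    have h5 : p ^ 2 < p ^ 3 := Nat.pow_lt_pow_right hpp.one_lt (by norm_num)
    omega
  -- it suffices to treat the elements of the derived subgroup
  suffices hsuff : ∀ g ∈ commutator Γ, ∃ k : ℕ, g ^ p ^ k = 1 by
    intro g
    obtain ⟨k, hk⟩ := hsuff g.1 g.2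
    exact ⟨k, Subtype.ext hk⟩
  by_cases hj2' : j = 2
  · -- the two-dimensional case
    rw [hj2'] at hj
    obtain ⟨ρ, hρ⟩ := Helper26.exists_injective_GL2 p hVcomm hVexp hj
    set χ : Γ →* GL (Fin 2) (ZMod p) := ρ.comp ψ with hχ
    have hoddX : Odd (Nat.card χ.range) := Odd.of_dvd_nat hodd (Subgroup.card_range_dvd χ)
    haveI : Group.IsSolvable χ.range :=
      Group.isSolvable_of_surjective χ.rangeRestrict_surjective
    have hX := GL2Odd.commutator_isPGroup (F := ZMod p) p hp hoddX inferInstance
      χ.range.subtype Subtype.val_injective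
    intro g hg
    have hmem : χ.rangeRestrict g ∈ commutator χ.range := by
      have h1 : (commutator Γ).map χ.rangeRestrict ≤ commutator χ.range := by
        rw [commutator_def, commutator_def, Subgroup.map_commutator]
        exact Subgroup.commutator_mono le_top le_top
      exact h1 ⟨g, hg, rfl⟩
    obtain ⟨k, hk⟩ := hX ⟨_, hmem⟩
    have hk' : χ (g ^ p ^ k) = 1 := by
      have h1 := congrArg (fun z : commutator χ.range => ((z : χ.range) : GL (Fin 2) (ZMod p))) hk
      simpa using h1
    have hkψ : g ^ p ^ k ∈ ψ.ker := by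
      rw [MonoidHom.mem_ker]
      apply hρ
      rw [map_one]
      exact hk'
    obtain ⟨k', hk'⟩ := hBp _ hkψ
    refine ⟨k + k', ?_⟩
    rw [pow_add, pow_mul]
    exact hk'
  · -- the cyclic case
    have hj1 : j ≤ 1 := by omega
    haveI : IsCyclic (D ⧸ frattini D) := by
      rcases Nat.le_one_iff_eq_zero_or_eq_one.mp hj1 with h | h
      · rw [h, pow_zero] at hj
        haveI : Subsingleton (D ⧸ frattini D) := (Nat.card_eq_one_iff_unique.mp hj).1
        exact isCyclic_of_subsingleton
      · rw [h, pow_one] at hj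
        exact isCyclic_of_prime_card hj
    have hle : commutator Γ ≤ ψ.ker := by
      rw [commutator_def, Subgroup.commutator_le]
      intro x _ y _
      rw [MonoidHom.mem_ker, map_commutatorElement, commutatorElement_def,
        mulAut_comm_of_isCyclic (ψ x) (ψ y)]
      group
    intro g hg
    exact hBp g (hle hg)

end Main

end Cfsg.Agent.Helper8.RankTwo
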