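import Mathlib
import Cfsg.Prelude.Def_OddOrderLocal
import Cfsg.Agent.S0093
import Cfsg.Agent.S0096
import Cfsg.Agent.S0120
import Cfsg.Agent.S0121
import Cfsg.Agent.S0640
import Cfsg.Agent.Lib.Helper19.PGroupBasic
import Cfsg.Agent.Lib.Helper21.PGroupFrattini
import Cfsg.Agent.Lib.Helper7.Cores
import Cfsg.Agent.Lib.Helper8.RankTwoAut

/-!
# Automorphisms of narrow `p`-groups (helper8's shared library)

A `p`-group `R` (`p` odd) is narrow when it has rank at most two or contains a subgroup `R₀` of
order `p` with `C_R(R₀) = R₀ × R₁`, `R₁` cyclic.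

* `quotAction` : the action induced on a quotient by an invariant normal subgroup;
* `exists_faithful_char` : a characteristic subgroup `U` of exponent `p` with `[U, R] ≤ Z(U)` on
  which every `p'`-automorphism acts faithfully;
* `exists_normal_pGroup` : for a narrow `R` of rank at least three and a group `Γ` acting
  faithfully, a normal `p`-subgroup `B` of `Γ` with `Γ / B` abelian of exponent dividing `p - 1`;
* `aut` : the consequences for a solvable `Γ` of odd order acting faithfully on a narrow `R`.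
-/

set_option autoImplicit false
set_option linter.style.haveILetI false

namespace Cfsg.Agent.Helper8.Narrow

open Cfsg
open scoped commutatorElement Pointwise

section QuotAction

variable {Γ Y : Type*} [Group Γ] [Group Y]

theorem map_eq_of_invariant (θ : Γ →* MulAut Y) (N : Subgroup Y)
    (h : ∀ g : Γ, ∀ n ∈ N, θ g n ∈ N) (g : Γ) : N.map (θ g).toMonoidHom = N := by
  apply le_antisymm
  · rintro _ ⟨n, hn, rfl⟩
    exact h g n hn
  · intro x hx
    refine ⟨θ g⁻¹ x, h g⁻¹ x hx, ?_⟩
    show θ g (θ g⁻¹ x) = x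
    rw [← MulAut.mul_apply, ← map_mul, mul_inv_cancel, map_one]
    rfl

/-- the action on `Y ⧸ N` induced by an action on `Y` stabilising the normal subgroup `N` -/
noncomputable def quotAction (θ : Γ →* MulAut Y) (N : Subgroup Y) [N.Normal]
    (h : ∀ g : Γ, ∀ n ∈ N, θ g n ∈ N) : Γ →* MulAut (Y ⧸ N) where
  toFun g := QuotientGroup.congr N N (θ g) (map_eq_of_invariant θ N h g)
  map_one' := by
    ext q
    induction q using QuotientGroup.induction_on with
    | _ x =>
      show ((θ 1 x : Y) : Y ⧸ N) = (x : Y ⧸ N)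
      rw [map_one]
      rfl
  map_mul' f g := by
    ext q
    induction q using QuotientGroup.induction_on with
    | _ x =>
      show ((θ (f * g) x : Y) : Y ⧸ N) = ((θ f (θ g x) : Y) : Y ⧸ N)
      rw [map_mul]
      rfl

theorem quotAction_mk (θ : Γ →* MulAut Y) (N : Subgroup Y) [N.Normal]
    (h : ∀ g : Γ, ∀ n ∈ N, θ g n ∈ N) (g : Γ) (y : Y) :
    quotAction θ N h g (QuotientGroup.mk y) = QuotientGroup.mk (θ g y) := rfl

theorem mem_ker_quotAction (θ : Γ →* MulAut Y) (N : Subgroup Y) [N.Normal]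
    (h : ∀ g : Γ, ∀ n ∈ N, θ g n ∈ N) (g : Γ) :
    g ∈ (quotAction θ N h).ker ↔ ∀ y : Y, y⁻¹ * θ g y ∈ N := by
  rw [MonoidHom.mem_ker]
  constructor
  · intro hg y
    have h1 := DFunLike.congr_fun hg (QuotientGroup.mk y)
    rw [quotAction_mk] at h1
    have h2 : ((θ g y : Y) : Y ⧸ N) = (y : Y ⧸ N) := h1
    exact QuotientGroup.eq.mp h2.symm
  · intro hg
    ext q
    induction q using QuotientGroup.induction_on with
    | _ y =>
      rw [quotAction_mk]
      exact (QuotientGroup.eq.mpr (hg y)).symm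

end QuotAction

section Faithful

variable {R : Type*} [Group R] [Finite R]

/-- A characteristic subgroup of exponent `p` whose commutators with `R` are central in it and on
which every `p'`-automorphism of `R` acts faithfully. -/
theorem exists_faithful_char {p : ℕ} [Fact p.Prime] (hp : p ≠ 2) (hR : IsPGroup p R) :
    ∃ U : Subgroup R, U.Characteristic ∧ (∀ x ∈ U, x ^ p = 1) ∧
      (∀ x ∈ U, ∀ r : R, ⁅x, r⁆ ∈ Subgroup.centralizer (U : Set R)) ∧
      (∀ a : MulAut R, (orderOf a).Coprime p → (∀ x ∈ U, a x = x) → a = 1) := by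
  obtain ⟨H, hHchar, hH1, hH2, hH3⟩ := Cfsg.Agent.S0093.result hR
  haveI := hHchar
  have hHp : IsPGroup p H := hR.to_subgroup H
  have hcl2 : ⁅commutator H, (⊤ : Subgroup H)⁆ = ⊥ := by
    rw [Subgroup.commutator_eq_bot_iff_le_centralizer]
    intro z hz
    have hle : commutator H ≤ frattini H := by
      rw [commutator_def, Subgroup.commutator_le]
      intro x _ y _
      rw [commutatorElement_def]
      exact Helper21.commutator_mem_frattini_of_isPGroup hHp x y
    have hzΦ : z ∈ frattini H := hle hz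
    rw [Subgroup.mem_centralizer_iff]
    intro y _
    have h1 : ((z : H) : R) ∈ Subgroup.centralizer (H : Set R) := hH1 ⟨z, hzΦ, rfl⟩
    rw [Subgroup.mem_centralizer_iff] at h1
    apply Subtype.ext
    exact h1 y y.2
  set U : Subgroup R := (RankTwo.omega p H).map H.subtype with hU
  have hUH : U ≤ H := by
    rintro _ ⟨x, _, rfl⟩
    exact x.2
  refine ⟨U, ?_, ?_, ?_, ?_⟩
  · rw [Subgroup.characteristic_iff_map_le]
    intro φ
    rintro _ ⟨_, ⟨x, hx, rfl⟩, rfl⟩
    have h1 := (Subgroup.characteristic_iff_map_le.mp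
      (inferInstance : (RankTwo.omega p H).Characteristic)) (MulAut.characteristic H φ)
    have h2 : (MulAut.characteristic H φ) x ∈ RankTwo.omega p H := h1 ⟨x, hx, rfl⟩
    exact ⟨_, h2, rfl⟩
  · rintro _ ⟨x, hx, rfl⟩
    have := Cfsg.Agent.S0096.result hp hHp hcl2 x hx
    have h2 := congrArg Subtype.val this
    simpa using h2
  · intro x hx r
    have h1 : ⁅x, r⁆ ∈ ⁅H, (⊤ : Subgroup R)⁆ :=
      Subgroup.commutator_mem_commutator (hUH hx) (Subgroup.mem_top r)
    have h2 := (hH2 h1).2
    exact Subgroup.centralizer_le hUH h2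
  · intro a ha hfix
    have ho1 : (orderOf (MulAut.characteristic H a)).Coprime p :=
      Nat.Coprime.coprime_dvd_left (orderOf_map_dvd _ a) ha
    have h1 : MulAut.characteristic H a = 1 := by
      apply Cfsg.Agent.S0120.result hp hHp _ ho1
      intro x hx
      have hxU : (x : R) ∈ U := ⟨x, RankTwo.mem_omega hx, rfl⟩
      apply Subtype.ext
      exact hfix _ hxU
    apply Cfsg.Agent.S0121.result hR H hHchar hH1 hH2 hH3 _ ha
    intro x hx
    have := DFunLike.congr_fun h1 ⟨x, hx⟩
    exact congrArg Subtype.val this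

end Faithful

section NarrowData

variable {R : Type*} [Group R] [Finite R] {p : ℕ} [Fact p.Prime]

/-- the data of a narrow `p`-group: `C_R(R₀) = R₀ R₁` with `R₀` of order `p`, `R₁` cyclic -/
structure Data (p : ℕ) (R : Type*) [Group R] where
  /-- the subgroup of order `p` -/
  R₀ : Subgroup R
  /-- the cyclic factor of its centralizer -/
  R₁ : Subgroup R
  card₀ : Nat.card R₀ = p
  cyc : IsCyclic R₁
  comm : ∀ a ∈ R₀, ∀ b ∈ R₁, a * b = b * a
  sup : R₀ ⊔ R₁ = Subgroup.centralizer (R₀ : Set R)

namespace Data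

variable (D : Data p R)

theorem pow_eq_one {a : R} (ha : a ∈ D.R₀) : a ^ p = 1 := by
  have h1 : (⟨a, ha⟩ : D.R₀) ^ Nat.card D.R₀ = 1 := pow_card_eq_one'
  rw [D.card₀] at h1
  exact congrArg Subtype.val h1

theorem comm₀ {a a' : R} (ha : a ∈ D.R₀) (ha' : a' ∈ D.R₀) : a * a' = a' * a := by
  haveI : IsCyclic D.R₀ := isCyclic_of_prime_card D.card₀
  have := (IsCyclic.isMulCommutative (α := D.R₀)).is_comm.comm ⟨a, ha⟩ ⟨a', ha'⟩
  exact congrArg Subtype.val this

theorem comm₁ {b b' : R} (hb : b ∈ D.R₁) (hb' : b' ∈ D.R₁) : b * b' = b' * b := by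
  haveI : IsCyclic D.R₁ := D.cyc
  have := (IsCyclic.isMulCommutative (α := D.R₁)).is_comm.comm ⟨b, hb⟩ ⟨b', hb'⟩
  exact congrArg Subtype.val this

theorem le_centralizer : D.R₀ ≤ Subgroup.centralizer (D.R₀ : Set R) := by
  rw [← D.sup]; exact le_sup_left

theorem exists_mul {x : R} (hx : x ∈ Subgroup.centralizer (D.R₀ : Set R)) :
    ∃ a ∈ D.R₀, ∃ b ∈ D.R₁, x = a * b := by
  have hnorm : D.R₀ ≤ Subgroup.normalizer (D.R₁ : Set R) := by
    intro a ha
    rw [Subgroup.mem_normalizer_iff]
    intro h
    constructor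
    · intro hh
      have : a * h * a⁻¹ = h := by rw [D.comm a ha h hh]; group
      rw [this]; exact hh
    · intro hh
      have h1 := D.comm a⁻¹ (D.R₀.inv_mem ha) _ hh
      have h2 : h = a⁻¹ * (a * h * a⁻¹) * a := by group
      rw [h2, h1]
      have : a * h * a⁻¹ * a⁻¹ * a = a * h * a⁻¹ := by group
      rw [this]; exact hh
  rw [← D.sup, ← SetLike.mem_coe, Subgroup.coe_mul_of_left_le_normalizer_right _ _ hnorm] at hx
  obtain ⟨a, ha, b, hb, hab⟩ := Set.mem_mul.mp hx
  exact ⟨a, ha, b, hb, hab.symm⟩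

theorem centralizer_comm {x y : R} (hx : x ∈ Subgroup.centralizer (D.R₀ : Set R))
    (hy : y ∈ Subgroup.centralizer (D.R₀ : Set R)) : x * y = y * x := by
  obtain ⟨a, ha, b, hb, rfl⟩ := D.exists_mul hx
  obtain ⟨a', ha', b', hb', rfl⟩ := D.exists_mul hy
  have e1 := D.comm a ha b' hb'
  have e2 := D.comm a' ha' b hb
  have e3 := D.comm₀ ha ha'
  have e4 := D.comm₁ hb hb'
  calc a * b * (a' * b') = a * (b * a') * b' := by group
    _ = a * (a' * b) * b' := by rw [e2]
    _ = (a * a') * (b * b') := by group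
    _ = (a' * a) * (b' * b) := by rw [e3, e4]
    _ = a' * (a * b') * b := by group
    _ = a' * (b' * a) * b := by rw [e1]
    _ = a' * b' * (a * b) := by group

/-- the elements of order dividing `p` in the centralizer of `R₀` -/
def omegaSet : Set R := {x | x ∈ Subgroup.centralizer (D.R₀ : Set R) ∧ x ^ p = 1}

theorem card_omegaSet_le : Nat.card D.omegaSet ≤ p ^ 2 := by
  classical
  have hpp : p.Prime := Fact.out
  set S₁ : Set R := {b | b ∈ D.R₁ ∧ b ^ p = 1} with hS₁
  have hS₁card : Nat.card S₁ ≤ p := by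
    haveI : Fintype D.R₁ := Fintype.ofFinite _
    haveI : IsCyclic D.R₁ := D.cyc
    have h := IsCyclic.card_pow_eq_one_le (α := D.R₁) (n := p) hpp.pos
    have himg : S₁ = Subtype.val ''
        ((Finset.univ.filter fun a : D.R₁ => a ^ p = 1 : Finset D.R₁) : Set D.R₁) := by
      ext b
      constructor
      · rintro ⟨hb, hbp⟩
        refine ⟨⟨b, hb⟩, ?_, rfl⟩
        simp only [Finset.coe_filter, Finset.mem_univ, true_and, Set.mem_setOf_eq]
        exact Subtype.ext hbp
      · rintro ⟨c, hc, rfl⟩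
        simp only [Finset.coe_filter, Finset.mem_univ, true_and, Set.mem_setOf_eq] at hc
        exact ⟨c.2, by simpa using congrArg Subtype.val hc⟩
    rw [himg, Nat.card_image_of_injective Subtype.val_injective, Nat.card_coe_set_eq,
      Set.ncard_coe_finset]
    exact h
  have hsub : D.omegaSet ⊆ (D.R₀ : Set R) * S₁ := by
    rintro x ⟨hx, hxp⟩
    obtain ⟨a, ha, b, hb, rfl⟩ := D.exists_mul hx
    refine Set.mem_mul.mpr ⟨a, ha, b, ⟨hb, ?_⟩, rfl⟩
    have hc : Commute a b := D.comm a ha b hb
    rw [hc.mul_pow, D.pow_eq_one ha, one_mul] at hxp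
    exact hxp
  calc Nat.card D.omegaSet ≤ Nat.card ((D.R₀ : Set R) * S₁ : Set R) :=
        Nat.card_mono (Set.toFinite _) hsub
    _ ≤ Nat.card (D.R₀ : Set R) * Nat.card S₁ := Set.natCard_mul_le
    _ ≤ p * p := by
        have : Nat.card (D.R₀ : Set R) = p := D.card₀
        rw [this]
        exact Nat.mul_le_mul_left _ hS₁card
    _ = p ^ 2 := by ring

theorem card_le {X : Subgroup R} (hX : X ≤ Subgroup.centralizer (D.R₀ : Set R))
    (hXp : ∀ x ∈ X, x ^ p = 1) :
    Nat.card X ≤ p ^ 2 ∧ (Nat.card X = p ^ 2 → D.R₀ ≤ X) := by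
  have hsub : (X : Set R) ⊆ D.omegaSet := fun x hx => ⟨hX hx, hXp x hx⟩
  have h1 : Nat.card X ≤ Nat.card D.omegaSet := Nat.card_mono (Set.toFinite _) hsub
  refine ⟨h1.trans D.card_omegaSet_le, ?_⟩
  intro hc
  have heq : (X : Set R) = D.omegaSet := by
    apply Set.eq_of_subset_of_ncard_le hsub _ (Set.toFinite _)
    rw [← Nat.card_coe_set_eq, ← Nat.card_coe_set_eq]
    have : Nat.card (X : Set R) = p ^ 2 := hc
    rw [this]
    exact D.card_omegaSet_le
  intro a ha
  have : a ∈ D.omegaSet := ⟨D.le_centralizer ha, D.pow_eq_one ha⟩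
  rw [← heq] at this
  exact this

end Data

end NarrowData

section Counting

variable {R : Type*} [Group R] [Finite R]

/-- If `u ↦ ⁅e, u⁆` maps `Y` into a subgroup `Z` centralized by `Y`, then
`|Y| ≤ |C_Y(e)| |Z|`. -/
theorem card_le_mul_of_commutator (Y Z : Subgroup R) (e : R)
    (h1 : ∀ u ∈ Y, ⁅e, u⁆ ∈ Z) (h2 : ∀ u ∈ Y, ∀ z ∈ Z, u * z = z * u) :
    Nat.card Y ≤ Nat.card (Y ⊓ Subgroup.centralizer {e} : Subgroup R) * Nat.card Z := by
  let ψ : Y →* Z :=
    { toFun := fun u => ⟨⁅e, (u : R)⁆, h1 u u.2⟩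
      map_one' := by
        apply Subtype.ext
        show ⁅e, (1 : R)⁆ = 1
        rw [commutatorElement_def]; group
      map_mul' := by
        intro u v
        apply Subtype.ext
        show ⁅e, (u : R) * (v : R)⁆ = ⁅e, (u : R)⁆ * ⁅e, (v : R)⁆
        have hc := h2 u u.2 _ (h1 v v.2)
        rw [commutatorElement_def] at hc
        have hc' : (e * (v : R) * e⁻¹ * (v : R)⁻¹) * (u : R)⁻¹ =
            (u : R)⁻¹ * (e * (v : R) * e⁻¹ * (v : R)⁻¹) := by
          calc (e * (v : R) * e⁻¹ * (v : R)⁻¹) * (u : R)⁻¹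
              = (u : R)⁻¹ * ((u : R) * (e * (v : R) * e⁻¹ * (v : R)⁻¹)) * (u : R)⁻¹ := by group
            _ = (u : R)⁻¹ * ((e * (v : R) * e⁻¹ * (v : R)⁻¹) * (u : R)) * (u : R)⁻¹ := by rw [hc]
            _ = (u : R)⁻¹ * (e * (v : R) * e⁻¹ * (v : R)⁻¹) := by group
        rw [commutatorElement_def, commutatorElement_def, commutatorElement_def]
        calc e * ((u : R) * v) * e⁻¹ * ((u : R) * v)⁻¹
            = e * u * e⁻¹ * ((e * (v : R) * e⁻¹ * (v : R)⁻¹) * (u : R)⁻¹) := by group
          _ = e * u * e⁻¹ * ((u : R)⁻¹ * (e * (v : R) * e⁻¹ * (v : R)⁻¹)) := by rw [hc']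
          _ = e * u * e⁻¹ * (u : R)⁻¹ * (e * v * e⁻¹ * (v : R)⁻¹) := by group }
  have hcard : Nat.card Y = Nat.card (Y ⧸ ψ.ker) * Nat.card ψ.ker :=
    Subgroup.card_eq_card_quotient_mul_card_subgroup ψ.ker
  have hq : Nat.card (Y ⧸ ψ.ker) = Nat.card ψ.range :=
    Nat.card_congr (QuotientGroup.quotientKerEquivRange ψ).toEquiv
  have hr : Nat.card ψ.range ≤ Nat.card Z := Subgroup.card_le_card_group _
  have hk : Nat.card ψ.ker ≤ Nat.card (Y ⊓ Subgroup.centralizer {e} : Subgroup R) := by
    let f : ψ.ker → (Y ⊓ Subgroup.centralizer {e} : Subgroup R) := fun u =>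
      ⟨((u : Y) : R), by
        refine Subgroup.mem_inf.mpr ⟨(u : Y).2, ?_⟩
        rw [Subgroup.mem_centralizer_iff]
        intro d hd
        rw [Set.mem_singleton_iff] at hd
        subst hd
        have h3 : ψ (u : Y) = 1 := MonoidHom.mem_ker.mp u.2
        have h4 : ⁅d, ((u : Y) : R)⁆ = 1 := congrArg Subtype.val h3
        rw [commutatorElement_def] at h4
        calc d * ((u : Y) : R) = (d * ((u : Y) : R) * d⁻¹ * ((u : Y) : R)⁻¹) * (((u : Y) : R) * d) := by
              group
          _ = ((u : Y) : R) * d := by rw [h4, one_mul]⟩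
    apply Nat.card_le_card_of_injective f
    intro u v huv
    have := congrArg Subtype.val huv
    exact Subtype.ext (Subtype.ext this)
  rw [hcard, hq, mul_comm]
  exact Nat.mul_le_mul hk hr

/-- If all `X`-conjugates of `e` lie in a set with fewer than `p ^ 2` elements then `C_X(e)` has
index at most `p` in `X`. -/
theorem card_le_mul_of_conj_mem {p : ℕ} [Fact p.Prime] (hR : IsPGroup p R) (X : Subgroup R)
    (e : R) (T : Set R) (hT : Nat.card T < p ^ 2) (hconj : ∀ x ∈ X, x * e * x⁻¹ ∈ T) :
    Nat.card X ≤ p * Nat.card (X ⊓ Subgroup.centralizer {e} : Subgroup R) := by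
  have hpp : p.Prime := Fact.out
  set K : Subgroup X := (Subgroup.centralizer ({e} : Set R)).subgroupOf X with hK
  have hKmem : ∀ x : X, x ∈ K ↔ e * (x : R) = (x : R) * e := by
    intro x
    rw [hK, Subgroup.mem_subgroupOf, Subgroup.mem_centralizer_iff]
    constructor
    · intro h; exact h e rfl
    · intro h d hd
      rw [Set.mem_singleton_iff] at hd
      rw [hd]; exact h
  obtain ⟨n, hn⟩ := (hR.to_subgroup X).index K
  let f : X ⧸ K → T := fun q => Quotient.liftOn' q (fun x => (⟨(x : R) * e * (x : R)⁻¹, hconj x x.2⟩ : T))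
    (by
      intro a b hab
      rw [QuotientGroup.leftRel_apply, hKmem] at hab
      apply Subtype.ext
      show (a : R) * e * (a : R)⁻¹ = (b : R) * e * (b : R)⁻¹
      have h1 : e * ((a : R)⁻¹ * (b : R)) = ((a : R)⁻¹ * (b : R)) * e := by
        simpa using hab
      calc (a : R) * e * (a : R)⁻¹ = (a : R) * (e * ((a : R)⁻¹ * b)) * (b : R)⁻¹ := by group
        _ = (a : R) * (((a : R)⁻¹ * b) * e) * (b : R)⁻¹ := by rw [h1]
        _ = (b : R) * e * (b : R)⁻¹ := by group)
  have hf : Function.Injective f := by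
    intro q₁ q₂
    induction q₁ using QuotientGroup.induction_on with
    | _ a =>
      induction q₂ using QuotientGroup.induction_on with
      | _ b =>
        intro hab
        have h1 : (a : R) * e * (a : R)⁻¹ = (b : R) * e * (b : R)⁻¹ := congrArg Subtype.val hab
        apply QuotientGroup.eq.mpr
        rw [hKmem]
        have h2 : e = (a : R)⁻¹ * ((b : R) * e * (b : R)⁻¹) * a := by rw [← h1]; group
        calc e * ((a⁻¹ * b : X) : R) = e * ((a : R)⁻¹ * b) := by simp
          _ = (a : R)⁻¹ * ((b : R) * e * (b : R)⁻¹) * a * ((a : R)⁻¹ * b) := by rw [← h2]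
          _ = ((a : R)⁻¹ * b) * e := by group
          _ = ((a⁻¹ * b : X) : R) * e := by simp
  have hidx : K.index ≤ Nat.card T := by
    rw [Subgroup.index_eq_card]
    exact Nat.card_le_card_of_injective f hf
  have hn1 : n ≤ 1 := by
    by_contra hcon
    have h2 : 2 ≤ n := by omega
    have : p ^ 2 ≤ p ^ n := Nat.pow_le_pow_right hpp.pos h2
    rw [hn] at hidx
    omega
  have hidxp : K.index ≤ p := by
    rw [hn]
    calc p ^ n ≤ p ^ 1 := Nat.pow_le_pow_right hpp.pos hn1
      _ = p := pow_one p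
  have hcard : Nat.card X = K.index * Nat.card K := by
    rw [mul_comm]; exact (Subgroup.card_mul_index K).symm
  have hKc : Nat.card K = Nat.card (X ⊓ Subgroup.centralizer {e} : Subgroup R) := by
    rw [hK, ← Subgroup.inf_subgroupOf_left]
    exact Helper7.card_subgroupOf_of_le inf_le_left
  rw [hcard, hKc]
  exact Nat.mul_le_mul_right _ hidxp

end Counting

section Structure

variable {R : Type*} [Group R] [Finite R] {p : ℕ} [Fact p.Prime]

namespace Data

variable (D : Data p R)

theorem exists_gen : ∃ e ∈ D.R₀, e ≠ 1 := by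
  have hpp : p.Prime := Fact.out
  rcases Subgroup.bot_or_exists_ne_one D.R₀ with h | h
  · exfalso
    have h1 := D.card₀
    rw [h, Subgroup.card_bot] at h1
    exact hpp.one_lt.ne h1
  · exact h

theorem centralizer_singleton {e : R} (he : e ∈ D.R₀) (he1 : e ≠ 1) :
    Subgroup.centralizer ({e} : Set R) = Subgroup.centralizer (D.R₀ : Set R) := by
  apply le_antisymm
  · intro x hx
    rw [Subgroup.mem_centralizer_iff] at hx ⊢
    intro a ha
    have hmem : (⟨a, ha⟩ : D.R₀) ∈ Subgroup.zpowers (⟨e, he⟩ : D.R₀) :=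
      mem_zpowers_of_prime_card D.card₀ (fun h => he1 (congrArg Subtype.val h))
    obtain ⟨k, hk⟩ := Subgroup.mem_zpowers_iff.mp hmem
    have hak : a = e ^ k := by
      have := congrArg Subtype.val hk
      simpa using this.symm
    have hc : Commute e x := hx e rfl
    rw [hak]
    exact (hc.zpow_left k).eq
  · apply Subgroup.centralizer_le
    intro a ha
    rw [Set.mem_singleton_iff] at ha
    rw [ha]; exact he

/-- If all conjugates of a generator of `R₀` lie in a set with fewer than `p ^ 2` elements, then `R`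
has rank at most two. -/
theorem pRankLE_of_conj (hR : IsPGroup p R) {e : R} (he : e ∈ D.R₀) (he1 : e ≠ 1) (T : Set R)
    (hT : Nat.card T < p ^ 2) (hconj : ∀ x : R, x * e * x⁻¹ ∈ T) : PRankLE p 2 R := by
  have hpp : p.Prime := Fact.out
  intro X hXc hXe
  have hXcomm : ∀ a ∈ X, ∀ b ∈ X, a * b = b * a := isMulCommutative_iff_of_setLike.mp hXc
  have h1 := card_le_mul_of_conj_mem hR X e T hT (fun x _ => hconj x)
  rw [D.centralizer_singleton he he1] at h1
  set X₀ : Subgroup R := X ⊓ Subgroup.centralizer (D.R₀ : Set R) with hX₀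
  obtain ⟨c1, c2⟩ := D.card_le (X := X₀) inf_le_right (fun x hx => hXe x hx.1)
  by_cases hc : Nat.card X₀ = p ^ 2
  · have heX : e ∈ X := (c2 hc he).1
    have hle : X ≤ Subgroup.centralizer (D.R₀ : Set R) := by
      rw [← D.centralizer_singleton he he1]
      intro x hx
      rw [Subgroup.mem_centralizer_iff]
      intro d hd
      rw [Set.mem_singleton_iff] at hd
      rw [hd]
      exact hXcomm e heX x hx
    have : X₀ = X := inf_eq_left.mpr hle
    rw [this] at hc
    exact hc.le
  · obtain ⟨k, hk⟩ := (hR.to_subgroup X₀).exists_card_eq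
    have hk1 : k ≤ 1 := by
      by_contra hcon
      have h2 : 2 ≤ k := by omega
      have h3 : p ^ 2 ≤ p ^ k := Nat.pow_le_pow_right hpp.pos h2
      rw [hk] at c1 hc
      exact hc (le_antisymm c1 h3)
    have h4 : Nat.card X₀ ≤ p := by
      rw [hk]
      calc p ^ k ≤ p ^ 1 := Nat.pow_le_pow_right hpp.pos hk1
        _ = p := pow_one p
    calc Nat.card X ≤ p * Nat.card X₀ := h1
      _ ≤ p * p := Nat.mul_le_mul_left _ h4
      _ = p ^ 2 := by ring

/-- The key structural fact: in a narrow group of rank at least three, a normal subgroup `U` of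
exponent `p` with `[U, R] ≤ Z(U)` is abelian and `C_U(R₀)` has order at most `p`. -/
theorem abelian_and_card (hR : IsPGroup p R) (hrk : ¬ PRankLE p 2 R) (U : Subgroup R)
    [hUn : U.Normal] (hUe : ∀ x ∈ U, x ^ p = 1)
    (hUc : ∀ x ∈ U, ∀ r : R, ⁅x, r⁆ ∈ Subgroup.centralizer (U : Set R)) :
    U ≤ Subgroup.centralizer (U : Set R) ∧
      Nat.card (U ⊓ Subgroup.centralizer (D.R₀ : Set R) : Subgroup R) ≤ p := by
  have hpp : p.Prime := Fact.out
  obtain ⟨e, he, he1⟩ := D.exists_gen
  have hCe := D.centralizer_singleton he he1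
  set ZU : Subgroup R := U ⊓ Subgroup.centralizer (U : Set R) with hZU
  have hcommU : ∀ u ∈ U, ∀ r : R, ⁅u, r⁆ ∈ U := by
    intro u hu r
    rw [commutatorElement_def]
    have h1 : r * u⁻¹ * r⁻¹ ∈ U := hUn.conj_mem _ (U.inv_mem hu) r
    have h2 : u * r * u⁻¹ * r⁻¹ = u * (r * u⁻¹ * r⁻¹) := by group
    rw [h2]
    exact U.mul_mem hu h1
  have hcomm' : ∀ u ∈ U, ∀ r : R, ⁅r, u⁆ ∈ ZU := by
    intro u hu r
    have h1 : ⁅r, u⁆ = (⁅u, r⁆)⁻¹ := (commutatorElement_inv u r).symm
    rw [h1]
    exact ZU.inv_mem ⟨hcommU u hu r, hUc u hu r⟩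
  have hcount : Nat.card U ≤
      Nat.card (U ⊓ Subgroup.centralizer (D.R₀ : Set R) : Subgroup R) * Nat.card ZU := by
    have := card_le_mul_of_commutator U ZU e (fun u hu => hcomm' u hu e)
      (fun u hu z hz => (Subgroup.mem_centralizer_iff.mp hz.2) u hu)
    rwa [hCe] at this
  set UC : Subgroup R := U ⊓ Subgroup.centralizer (D.R₀ : Set R) with hUC
  obtain ⟨c1, c2⟩ := D.card_le (X := UC) inf_le_right (fun x hx => hUe x hx.1)
  -- `|U ∩ C|` is `p ^ 2` or at most `p`
  have hdich : Nat.card UC = p ^ 2 ∨ Nat.card UC ≤ p := by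
    by_cases hc : Nat.card UC = p ^ 2
    · exact Or.inl hc
    · right
      obtain ⟨k, hk⟩ := (hR.to_subgroup UC).exists_card_eq
      have hk1 : k ≤ 1 := by
        by_contra hcon
        have h2 : 2 ≤ k := by omega
        have h3 : p ^ 2 ≤ p ^ k := Nat.pow_le_pow_right hpp.pos h2
        rw [hk] at c1 hc
        exact hc (le_antisymm c1 h3)
      rw [hk]
      calc p ^ k ≤ p ^ 1 := Nat.pow_le_pow_right hpp.pos hk1
        _ = p := pow_one p
  -- if `e ∈ U` centralizes `U` then `|U| = p ^ 2`
  have hUle : e ∈ U → e ∈ Subgroup.centralizer (U : Set R) →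
      U ≤ Subgroup.centralizer (D.R₀ : Set R) := by
    intro _ hec
    rw [← hCe]
    intro x hx
    rw [Subgroup.mem_centralizer_iff]
    intro d hd
    rw [Set.mem_singleton_iff] at hd
    rw [hd]
    exact ((Subgroup.mem_centralizer_iff.mp hec) x hx).symm
  by_cases hab : U ≤ Subgroup.centralizer (U : Set R)
  · refine ⟨hab, ?_⟩
    rcases hdich with hc | hc
    · exfalso
      have heU : e ∈ U := (c2 hc he).1
      have hle := hUle heU (hab heU)
      have hUCU : UC = U := inf_eq_left.mpr hle
      rw [hUCU] at hc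
      -- all conjugates of `e` lie in `U \ {1}`
      apply hrk
      apply D.pRankLE_of_conj hR he he1 ((U : Set R) \ {1})
      · rw [Nat.card_coe_set_eq, Set.ncard_diff_singleton_of_mem (U.one_mem),
          ← Nat.card_coe_set_eq]
        have : Nat.card (U : Set R) = p ^ 2 := hc
        rw [this]
        have : 0 < p ^ 2 := pow_pos hpp.pos 2
        omega
      · intro x
        refine ⟨hUn.conj_mem e heU x, ?_⟩
        rw [Set.mem_singleton_iff]
        intro h
        apply he1
        calc e = x⁻¹ * (x * e * x⁻¹) * x := by group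
          _ = 1 := by rw [h]; group
    · exact hc
  · exfalso
    -- the centre of `U` has index at least `p ^ 2`
    have hcen : Subgroup.center U = ZU.subgroupOf U := by
      ext x
      rw [Subgroup.mem_center_iff, Subgroup.mem_subgroupOf]
      constructor
      · intro h
        refine Subgroup.mem_inf.mpr ⟨x.2, ?_⟩
        rw [Subgroup.mem_centralizer_iff]
        intro g hg
        exact congrArg Subtype.val (h ⟨g, hg⟩)
      · intro h g
        apply Subtype.ext
        exact (Subgroup.mem_centralizer_iff.mp h.2) g g.2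
    have hcencard : Nat.card (Subgroup.center U) = Nat.card ZU := by
      rw [hcen]
      exact Helper7.card_subgroupOf_of_le inf_le_left
    have hquot : Nat.card U = Nat.card (U ⧸ Subgroup.center U) * Nat.card (Subgroup.center U) :=
      Subgroup.card_eq_card_quotient_mul_card_subgroup _
    obtain ⟨k, hk⟩ := ((hR.to_subgroup U).to_quotient (Subgroup.center U)).exists_card_eq
    have hk2 : 2 ≤ k := by
      by_contra hcon
      have hk1 : k ≤ 1 := by omega
      haveI : IsCyclic (U ⧸ Subgroup.center U) := by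
        rcases Nat.le_one_iff_eq_zero_or_eq_one.mp hk1 with h | h
        · rw [h, pow_zero] at hk
          haveI : Subsingleton (U ⧸ Subgroup.center U) := (Nat.card_eq_one_iff_unique.mp hk).1
          exact isCyclic_of_subsingleton
        · rw [h, pow_one] at hk
          exact isCyclic_of_prime_card hk
      have hcommU := MonoidHom.isMulCommutative_of_isCyclic_of_ker_le_center
        (QuotientGroup.mk' (Subgroup.center U)) (by rw [QuotientGroup.ker_mk'])
      apply hab
      intro x hx
      rw [Subgroup.mem_centralizer_iff]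
      intro g hg
      have := hcommU.is_comm.comm (⟨g, hg⟩ : U) ⟨x, hx⟩
      exact congrArg Subtype.val this
    have hbig : p ^ 2 * Nat.card ZU ≤ Nat.card U := by
      rw [hquot, hk, hcencard]
      exact Nat.mul_le_mul_right _ (Nat.pow_le_pow_right hpp.pos hk2)
    have hZpos : 0 < Nat.card ZU := Nat.card_pos
    have hUC2 : Nat.card UC = p ^ 2 := by
      rcases hdich with hc | hc
      · exact hc
      · exfalso
        have h1 : p ^ 2 * Nat.card ZU ≤ p * Nat.card ZU :=
          hbig.trans (hcount.trans (Nat.mul_le_mul_right _ hc))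
        have h2 : p ^ 2 ≤ p := Nat.le_of_mul_le_mul_right h1 hZpos
        have h3 : p < p ^ 2 := by
          calc p = p ^ 1 := (pow_one p).symm
            _ < p ^ 2 := Nat.pow_lt_pow_right hpp.one_lt (by norm_num)
        omega
    have heU : e ∈ U := (c2 hUC2 he).1
    have heZ : e ∉ ZU := by
      intro hez
      have hle := hUle heU hez.2
      have hUCU : UC = U := inf_eq_left.mpr hle
      rw [hUCU] at hUC2
      rw [hUC2] at hbig
      have h1 : Nat.card ZU ≤ 1 := by
        have : p ^ 2 * Nat.card ZU ≤ p ^ 2 * 1 := by rw [mul_one]; exact hbig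
        exact Nat.le_of_mul_le_mul_left this (pow_pos hpp.pos 2)
      have h2 : Nat.card ZU = 1 := le_antisymm h1 hZpos
      have h3 : ZU = ⊥ := Subgroup.card_eq_one.mp h2
      rw [h3, Subgroup.mem_bot] at hez
      exact he1 hez
    have hZle : ZU ≤ UC := by
      intro z hz
      refine Subgroup.mem_inf.mpr ⟨hz.1, ?_⟩
      rw [← hCe, Subgroup.mem_centralizer_iff]
      intro d hd
      rw [Set.mem_singleton_iff] at hd
      rw [hd]
      exact (Subgroup.mem_centralizer_iff.mp hz.2) e heU
    have hZlt : ZU < UC := by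
      refine lt_of_le_of_ne hZle ?_
      intro h
      apply heZ
      rw [h]
      exact ⟨heU, D.le_centralizer he⟩
    have hZp : Nat.card ZU ≤ p := by
      have h1 := Helper19.mul_card_le_of_lt hR hZlt
      rw [hUC2] at h1
      have h2 : p * Nat.card ZU ≤ p * p := by rw [← sq]; exact h1
      exact Nat.le_of_mul_le_mul_left h2 hpp.pos
    apply hrk
    apply D.pRankLE_of_conj hR he he1 ((fun z => z * e) '' (ZU : Set R))
    · calc Nat.card ((fun z => z * e) '' (ZU : Set R)) ≤ Nat.card (ZU : Set R) :=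
          Nat.card_image_le (Set.toFinite _)
        _ ≤ p := hZp
        _ < p ^ 2 := by
          calc p = p ^ 1 := (pow_one p).symm
            _ < p ^ 2 := Nat.pow_lt_pow_right hpp.one_lt (by norm_num)
    · intro x
      refine ⟨⁅x, e⁆, hcomm' e heU x, ?_⟩
      show ⁅x, e⁆ * e = x * e * x⁻¹
      rw [commutatorElement_def]; group

end Data

end Structure

section Chain

variable {R : Type*} [Group R] [Finite R] {p : ℕ} [Fact p.Prime]

/-- the chain `U ∩ Z_i(R)` -/
def chain (U : Subgroup R) (i : ℕ) : Subgroup R := U ⊓ Subgroup.upperCentralSeries R i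

omit [Finite R] in
theorem chain_zero (U : Subgroup R) : chain U 0 = ⊥ := by
  rw [chain, Subgroup.upperCentralSeries_zero, inf_bot_eq]

omit [Finite R] in
theorem chain_le_succ (U : Subgroup R) (i : ℕ) : chain U i ≤ chain U (i + 1) :=
  inf_le_inf_left _ (Subgroup.upperCentralSeries_mono R (Nat.le_succ i))

omit [Finite R] in
theorem chain_le (U : Subgroup R) (i : ℕ) : chain U i ≤ U := inf_le_left

omit [Finite R] in
instance chain_characteristic (U : Subgroup R) [hU : U.Characteristic] (i : ℕ) :
    (chain U i).Characteristic := by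
  rw [Subgroup.characteristic_iff_map_le]
  intro φ
  have h1 := (Subgroup.characteristic_iff_map_le.mp hU) φ
  have h2 := (Subgroup.characteristic_iff_map_le.mp
    (inferInstance : (Subgroup.upperCentralSeries R i).Characteristic)) φ
  exact (Subgroup.map_inf_le _ _ _).trans (inf_le_inf h1 h2)

theorem exists_chain_eq (hR : IsPGroup p R) (U : Subgroup R) : ∃ n, chain U n = U := by
  haveI : Group.IsNilpotent R := hR.isNilpotent
  obtain ⟨n, hn⟩ := Group.IsNilpotent.nilpotent R
  exact ⟨n, by rw [chain, hn, inf_top_eq]⟩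

theorem Data.card_chain_succ_le (D : Data p R) (U : Subgroup R) [hUn : U.Normal]
    (hab : U ≤ Subgroup.centralizer (U : Set R))
    (hc : Nat.card (U ⊓ Subgroup.centralizer (D.R₀ : Set R) : Subgroup R) ≤ p) (i : ℕ) :
    Nat.card (chain U (i + 1)) ≤ p * Nat.card (chain U i) := by
  obtain ⟨e, he, he1⟩ := D.exists_gen
  have hCe := D.centralizer_singleton he he1
  have h1 : ∀ u ∈ chain U (i + 1), ⁅e, u⁆ ∈ chain U i := by
    intro u hu
    refine Subgroup.mem_inf.mpr ⟨?_, ?_⟩
    · rw [commutatorElement_def]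
      exact U.mul_mem (hUn.conj_mem u hu.1 e) (U.inv_mem hu.1)
    · have h2 := (Subgroup.mem_upperCentralSeries_succ_iff.mp hu.2) e
      have h3 : ⁅e, u⁆ = (⁅u, e⁆)⁻¹ := (commutatorElement_inv u e).symm
      rw [h3]
      exact Subgroup.inv_mem _ h2
  have h2 : ∀ u ∈ chain U (i + 1), ∀ z ∈ chain U i, u * z = z * u := by
    intro u hu z hz
    exact (Subgroup.mem_centralizer_iff.mp (hab hz.1)) u hu.1
  have h3 := card_le_mul_of_commutator (chain U (i + 1)) (chain U i) e h1 h2
  rw [hCe] at h3
  have h4 : Nat.card (chain U (i + 1) ⊓ Subgroup.centralizer (D.R₀ : Set R) : Subgroup R) ≤ p :=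
    (Subgroup.card_le_of_le (inf_le_inf_right _ (chain_le U (i + 1)))).trans hc
  exact h3.trans (Nat.mul_le_mul_right _ h4)

omit [Finite R] in
theorem eq_of_chain_trivial (W : ℕ → Subgroup R) (hW0 : W 0 = ⊥)
    (hexp : ∀ i, ∀ w ∈ W i, w ^ p = 1) (α : MulAut R)
    (hα : (orderOf α).Coprime p) (h : ∀ i, ∀ w ∈ W (i + 1), w⁻¹ * α w ∈ W i) :
    ∀ i, ∀ w ∈ W i, α w = w := by
  intro i
  induction i with
  | zero =>
    intro w hw
    rw [hW0, Subgroup.mem_bot] at hw
    rw [hw, map_one]
  | succ i ih =>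
    intro w hw
    set m := w⁻¹ * α w with hm
    have hmW : m ∈ W i := h i w hw
    have hαm : α m = m := ih m hmW
    have hαw : α w = w * m := by rw [hm]; group
    have hpow : ∀ k : ℕ, (α ^ k) w = w * m ^ k := by
      intro k
      induction k with
      | zero => simp
      | succ k ihk =>
        rw [pow_succ', MulAut.mul_apply, ihk, map_mul, map_pow, hαm, hαw, pow_succ']
        group
    have h1 := hpow (orderOf α)
    rw [pow_orderOf_eq_one, MulAut.one_apply] at h1
    have h2 : m ^ orderOf α = 1 := by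
      have : w * m ^ orderOf α = w * 1 := by rw [mul_one]; exact h1.symm
      exact mul_left_cancel this
    have h3 : m ^ p = 1 := hexp i m hmW
    have h4 : orderOf m ∣ Nat.gcd (orderOf α) p :=
      Nat.dvd_gcd (orderOf_dvd_of_pow_eq_one h2) (orderOf_dvd_of_pow_eq_one h3)
    rw [hα.gcd_eq_one, Nat.dvd_one, orderOf_eq_one_iff] at h4
    rw [hαw, h4, mul_one]

end Chain

section Main

variable {R : Type*} [Group R] [Finite R] {p : ℕ} [Fact p.Prime]

omit [Finite R] in
/-- automorphisms of a group of order `1` or `p` have exponent dividing `p - 1` -/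
theorem mulAut_pow_eq_one {Q : Type*} [Group Q] [Finite Q] (hQ : Nat.card Q = 1 ∨ Nat.card Q = p)
    (f : MulAut Q) : f ^ (p - 1) = 1 := by
  have hpp : p.Prime := Fact.out
  rcases hQ with h | h
  · haveI : Subsingleton Q := (Nat.card_eq_one_iff_unique.mp h).1
    have : f = 1 := by
      ext q
      exact Subsingleton.elim _ _
    rw [this, one_pow]
  · haveI : IsCyclic Q := isCyclic_of_prime_card h
    haveI : NeZero (Nat.card Q) := ⟨by rw [h]; exact hpp.ne_zero⟩
    have h1 : Nat.card (MulAut Q) = p - 1 := by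
      rw [Nat.card_congr (IsCyclic.mulAutMulEquiv Q).toEquiv, Nat.card_eq_fintype_card,
        ZMod.card_units_eq_totient, h, Nat.totient_prime hpp]
    haveI : Finite (MulAut Q) := by
      apply Nat.finite_of_card_ne_zero
      rw [h1]
      have := hpp.two_le
      omega
    rw [← h1]
    exact pow_card_eq_one'

omit [Finite R] in
theorem isCyclic_of_card {Q : Type*} [Group Q] [Finite Q] (hQ : Nat.card Q = 1 ∨ Nat.card Q = p) :
    IsCyclic Q := by
  rcases hQ with h | h
  · haveI : Subsingleton Q := (Nat.card_eq_one_iff_unique.mp h).1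
    exact isCyclic_of_subsingleton
  · exact isCyclic_of_prime_card h

/-- **Narrow groups of rank at least three.**  A group acting faithfully on a narrow `p`-group
of rank at least three has a normal `p`-subgroup with abelian quotient of exponent dividing
`p - 1`. -/
theorem exists_normal_pGroup {Γ : Type*} [Group Γ] [Finite Γ] (hp : p ≠ 2) (hR : IsPGroup p R)
    (D : Data p R) (hrk : ¬ PRankLE p 2 R) (φ : Γ →* MulAut R) (hφ : Function.Injective φ) :
    ∃ B : Subgroup Γ, B.Normal ∧ IsPGroup p B ∧ (∀ x y : Γ, ⁅x, y⁆ ∈ B) ∧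
      ∀ x : Γ, x ^ (p - 1) ∈ B := by
  have hpp : p.Prime := Fact.out
  obtain ⟨U, hUchar, hUe, hUc, hUf⟩ := exists_faithful_char hp hR
  haveI := hUchar
  haveI hUn : U.Normal := inferInstance
  obtain ⟨hab, hcard⟩ := D.abelian_and_card hR hrk U hUe hUc
  -- the induced actions on the sections of the chain
  let θ : ∀ i : ℕ, Γ →* MulAut ↥(chain U (i + 1)) :=
    fun i => (MulAut.characteristic (chain U (i + 1))).comp φ
  have hθ : ∀ (i : ℕ) (g : Γ) (y : ↥(chain U (i + 1))), ((θ i g y : ↥(chain U (i + 1))) : R) = φ g y :=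
    fun i g y => rfl
  have hinv : ∀ (i : ℕ) (g : Γ), ∀ n ∈ (chain U i).subgroupOf (chain U (i + 1)),
      θ i g n ∈ (chain U i).subgroupOf (chain U (i + 1)) := by
    intro i g n hn
    rw [Subgroup.mem_subgroupOf] at hn ⊢
    rw [hθ]
    have h1 := (Subgroup.characteristic_iff_map_le.mp
      (inferInstance : (chain U i).Characteristic)) (φ g)
    exact h1 ⟨_, hn, rfl⟩
  let Θ : ∀ i : ℕ, Γ →* MulAut (↥(chain U (i + 1)) ⧸ (chain U i).subgroupOf (chain U (i + 1))) :=
    fun i => quotAction (θ i) _ (hinv i)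
  -- the sections have order `1` or `p`
  have hsec : ∀ i : ℕ,
      Nat.card (↥(chain U (i + 1)) ⧸ (chain U i).subgroupOf (chain U (i + 1))) = 1 ∨
      Nat.card (↥(chain U (i + 1)) ⧸ (chain U i).subgroupOf (chain U (i + 1))) = p := by
    intro i
    have h1 := D.card_chain_succ_le U hab hcard i
    have h2 : Nat.card (chain U (i + 1)) =
        Nat.card (↥(chain U (i + 1)) ⧸ (chain U i).subgroupOf (chain U (i + 1))) *
          Nat.card ((chain U i).subgroupOf (chain U (i + 1))) :=
      Subgroup.card_eq_card_quotient_mul_card_subgroup _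
    rw [Helper7.card_subgroupOf_of_le (chain_le_succ U i)] at h2
    rw [h2] at h1
    have hpos : 0 < Nat.card (chain U i) := Nat.card_pos
    have h3 : Nat.card (↥(chain U (i + 1)) ⧸ (chain U i).subgroupOf (chain U (i + 1))) ≤ p :=
      Nat.le_of_mul_le_mul_right h1 hpos
    obtain ⟨k, hk⟩ := ((hR.to_subgroup (chain U (i + 1))).to_quotient
      ((chain U i).subgroupOf (chain U (i + 1)))).exists_card_eq
    rw [hk] at h3 ⊢
    have hk1 : k ≤ 1 := by
      by_contra hcon
      have h4 : 2 ≤ k := by omega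
      have h5 : p ^ 2 ≤ p ^ k := Nat.pow_le_pow_right hpp.pos h4
      have h6 : p < p ^ 2 := by
        calc p = p ^ 1 := (pow_one p).symm
          _ < p ^ 2 := Nat.pow_lt_pow_right hpp.one_lt (by norm_num)
      omega
    rcases Nat.le_one_iff_eq_zero_or_eq_one.mp hk1 with h | h
    · left; rw [h, pow_zero]
    · right; rw [h, pow_one]
  set B : Subgroup Γ := ⨅ i : ℕ, (Θ i).ker with hB
  have hBn : B.Normal := Subgroup.normal_iInf_normal fun i => MonoidHom.normal_ker _
  refine ⟨B, hBn, ?_, ?_, ?_⟩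
  · -- `B` is a `p`-group
    have hker : ∀ b ∈ B, (orderOf b).Coprime p → b = 1 := by
      intro b hb hcop
      have ho : (orderOf (φ b)).Coprime p :=
        Nat.Coprime.coprime_dvd_left (orderOf_map_dvd φ b) hcop
      have hstep : ∀ i, ∀ w ∈ chain U (i + 1), w⁻¹ * φ b w ∈ chain U i := by
        intro i w hw
        have hbi : b ∈ (Θ i).ker := (Subgroup.mem_iInf.mp hb) i
        have h1 := (mem_ker_quotAction (θ i) _ (hinv i) b).mp hbi ⟨w, hw⟩
        rw [Subgroup.mem_subgroupOf] at h1
        simpa [hθ] using h1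
      have hfix := eq_of_chain_trivial (chain U) (chain_zero U)
        (fun i w hw => hUe w (chain_le U i hw)) (φ b) ho hstep
      obtain ⟨n, hn⟩ := exists_chain_eq hR U
      have h1 : φ b = 1 := by
        apply hUf _ ho
        intro x hx
        rw [← hn] at hx
        exact hfix n x hx
      exact hφ (h1.trans (map_one φ).symm)
    have hBp := RankTwo.exists_pow_eq_one_of_pprime_trivial B hker
    intro b
    obtain ⟨k, hk⟩ := hBp b.1 b.2
    exact ⟨k, Subtype.ext hk⟩
  · intro x y
    rw [hB, Subgroup.mem_iInf]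
    intro i
    haveI : IsCyclic (↥(chain U (i + 1)) ⧸ (chain U i).subgroupOf (chain U (i + 1))) :=
      isCyclic_of_card (hsec i)
    rw [MonoidHom.mem_ker, map_commutatorElement, commutatorElement_def,
      RankTwo.mulAut_comm_of_isCyclic (Θ i x) (Θ i y)]
    group
  · intro x
    rw [hB, Subgroup.mem_iInf]
    intro i
    rw [MonoidHom.mem_ker, map_pow]
    exact mulAut_pow_eq_one (hsec i) _

end Main

section Aut

/-- **Automorphisms of narrow `p`-groups.**  For a solvable group `Γ` of odd order acting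
faithfully on a narrow `p`-group `R` (`p` odd): `Γ'` is a `p`-group, the primes dividing `|Γ|` are
at most `p`, and if `R` has rank at least three the `p'`-elements of `Γ` have order dividing
`p - 1`. -/
theorem aut {R Γ : Type*} [Group R] [Finite R] [Group Γ] [Finite Γ] (p : ℕ) [Fact p.Prime]
    (hp : p ≠ 2) (hR : IsPGroup p R) (hnar : IsNarrow p R) (hsolv : Group.IsSolvable Γ)
    (hodd : Odd (Nat.card Γ)) (φ : Γ →* MulAut R) (hφ : Function.Injective φ) :
    IsPGroup p (commutator Γ) ∧ (∀ q : ℕ, q.Prime → q ∣ Nat.card Γ → q ≤ p) ∧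
      (¬ PRankLE p 2 R → ∀ a : Γ, (orderOf a).Coprime p → orderOf a ∣ p - 1) := by
  have hpp : p.Prime := Fact.out
  by_cases hrk : PRankLE p 2 R
  · refine ⟨RankTwo.derived_isPGroup p hp hR hrk hsolv hodd φ hφ, ?_, fun h => absurd hrk h⟩
    intro q hq hqd
    by_cases hqp : q = p
    · exact hqp.le
    · have h1 : q ∣ Nat.card (MulAut R) := hqd.trans (Subgroup.card_dvd_of_injective φ hφ)
      exact (Cfsg.Agent.S0640.result hp hR hrk q hq hqp h1).2.le
  · rcases hnar with h | ⟨R₀, R₁, h0, hcyc, -, hcomm, hsup⟩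
    · exact absurd h hrk
    let D : Data p R := ⟨R₀, R₁, h0, hcyc, hcomm, hsup⟩
    obtain ⟨B, hBn, hBp, hBc, hBe⟩ := exists_normal_pGroup hp hR D hrk φ hφ
    have hord : ∀ a : Γ, (orderOf a).Coprime p → orderOf a ∣ p - 1 := by
      intro a ha
      obtain ⟨k, hk⟩ := hBp ⟨a ^ (p - 1), hBe a⟩
      have hk' : a ^ ((p - 1) * p ^ k) = 1 := by
        have := congrArg Subtype.val hk
        rw [pow_mul]
        simpa using this
      have h1 : orderOf a ∣ (p - 1) * p ^ k := orderOf_dvd_of_pow_eq_one hk'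
      exact (Nat.Coprime.pow_right k ha).dvd_of_dvd_mul_right h1
    refine ⟨?_, ?_, fun _ => hord⟩
    · apply hBp.to_le
      rw [commutator_def, Subgroup.commutator_le]
      intro x _ y _
      exact hBc x y
    · intro q hq hqd
      by_cases hqp : q = p
      · exact hqp.le
      · haveI : Fact q.Prime := ⟨hq⟩
        obtain ⟨a, ha⟩ := exists_prime_orderOf_dvd_card' (G := Γ) q hqd
        have hcop : (orderOf a).Coprime p := by
          rw [ha]
          exact (Nat.coprime_primes hq hpp).mpr hqp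
        have h1 := hord a hcop
        rw [ha] at h1
        have h2 : 0 < p - 1 := by have := hpp.two_le; omega
        have h3 := Nat.le_of_dvd h2 h1
        omega

/-- narrowness is invariant under isomorphism -/
theorem isNarrow_of_mulEquiv {R S : Type*} [Group R] [Group S] {p : ℕ} (f : R ≃* S)
    (h : IsNarrow p R) : IsNarrow p S := by
  rcases h with h | ⟨R₀, R₁, h0, hcyc, hint, hcomm, hsup⟩
  · left
    exact RankTwo.pRankLE_of_injective f.symm.toMonoidHom f.symm.injective h
  · right
    refine ⟨R₀.map f.toMonoidHom, R₁.map f.toMonoidHom, ?_, ?_, ?_, ?_, ?_⟩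
    · rw [Subgroup.card_map_of_injective f.injective]
      exact h0
    · haveI := hcyc
      exact isCyclic_of_surjective (R₁.equivMapOfInjective f.toMonoidHom f.injective)
        (R₁.equivMapOfInjective f.toMonoidHom f.injective).surjective
    · rw [← Subgroup.map_inf _ _ _ f.injective, hint, Subgroup.map_bot]
    · rintro _ ⟨a, ha, rfl⟩ _ ⟨b, hb, rfl⟩
      show f a * f b = f b * f a
      rw [← map_mul, ← map_mul, hcomm a ha b hb]
    · rw [← Subgroup.map_sup, hsup]
      ext y
      constructor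
      · rintro ⟨x, hx, rfl⟩
        rw [Subgroup.mem_centralizer_iff]
        rintro _ ⟨a, ha, rfl⟩
        show f a * f x = f x * f a
        rw [← map_mul, ← map_mul, (Subgroup.mem_centralizer_iff.mp hx) a ha]
      · intro hy
        refine ⟨f.symm y, ?_, by simp⟩
        rw [SetLike.mem_coe, Subgroup.mem_centralizer_iff]
        intro a ha
        apply f.injective
        rw [map_mul, map_mul, f.apply_symm_apply]
        exact (Subgroup.mem_centralizer_iff.mp hy) (f a) ⟨a, ha, rfl⟩

end Aut

end Cfsg.Agent.Helper8.Narrow
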