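import Mathlib
import Cfsg.Prelude.Def_OddOrderLocal
import Cfsg.Agent.Lib.Helper7.Bender
import Cfsg.Agent.Lib.Helper1.FittingSolvable
import Cfsg.Agent.Lib.Helper22.PPrimeCore
import Cfsg.Agent.Lib.Helper10.PiCore
import Cfsg.Agent.Lib.Helper8.Narrow

/-!
# The derived subgroup lies in the Fitting subgroup (helper8's shared library)

* `le_fitting_of_pow_centralizes` : in a finite solvable group, a normal subgroup `K` such that for
  every prime `q` every element of `K` has a `q`-power centralizing `O_q(G)` lies in `F(G)`;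
* `commutator_le_fitting` : a solvable group of odd order all of whose `O_q(G)` are narrow has
  `G' ≤ F(G)`.
-/

set_option autoImplicit false
set_option linter.style.haveILetI false

namespace Cfsg.Agent.Helper8.NarrowFit

open Cfsg
open scoped commutatorElement Pointwise

universe u

section General

variable {G : Type u} [Group G]

theorem normal_iSup {ι : Sort*} (f : ι → Subgroup G) (h : ∀ i, (f i).Normal) :
    (⨆ i, f i).Normal := by
  constructor
  intro n hn g
  refine Subgroup.iSup_induction f (C := fun x => g * x * g⁻¹ ∈ ⨆ i, f i) hn ?_ ?_ ?_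
  · intro i x hx
    exact (le_iSup f i) ((h i).conj_mem x hx g)
  · simp
  · intro x y hx hy
    have : g * (x * y) * g⁻¹ = (g * x * g⁻¹) * (g * y * g⁻¹) := by group
    rw [this]
    exact mul_mem hx hy

theorem mem_of_pow_mem_of_coprime (C : Subgroup G) {x : G} {m n : ℕ} (h : m.Coprime n)
    (hm : x ^ m ∈ C) (hn : x ^ n ∈ C) : x ∈ C := by
  have h1 := Nat.gcd_eq_gcd_ab m n
  rw [h.gcd_eq_one] at h1
  have h2 : x = (x ^ m) ^ (m.gcdA n) * (x ^ n) ^ (m.gcdB n) := by
    rw [← zpow_natCast, ← zpow_natCast, ← zpow_mul, ← zpow_mul, ← zpow_add, ← h1]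
    simp
  rw [h2]
  exact C.mul_mem (C.zpow_mem hm _) (C.zpow_mem hn _)

end General

section Fit

variable {G : Type u} [Group G] [Finite G]

/-- the product of the `O_q(G)`, `q ≠ r` -/
def coFit (r : Nat.Primes) : Subgroup G :=
  ⨆ (q : Nat.Primes) (_ : q ≠ r), pCore (q : ℕ) G

omit [Finite G] in
instance coFit_normal (r : Nat.Primes) : (coFit (G := G) r).Normal :=
  normal_iSup _ fun q => normal_iSup _ fun _ => Helper7.pCore_normal (q : ℕ)

theorem fitting_eq_sup (r : Nat.Primes) :
    fittingSubgroup G = pCore (r : ℕ) G ⊔ coFit r := by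
  rw [Helper7.fittingSubgroup_eq_iSup_pCore, coFit]
  exact iSup_split_single _ r

theorem card_coFit_coprime (r : Nat.Primes) : (Nat.card (coFit (G := G) r)).Coprime (r : ℕ) := by
  have hle : coFit (G := G) r ≤ pPrimeCore (r : ℕ) G := by
    apply iSup_le
    intro q
    apply iSup_le
    intro hq
    haveI : Fact (q : ℕ).Prime := ⟨q.2⟩
    apply Helper22.le_pPrimeCore _ _ (Helper7.pCore_normal (q : ℕ))
    obtain ⟨k, hk⟩ := (Helper7.pCore_isPGroup (G := G) (q : ℕ)).exists_card_eq
    rw [hk]
    apply Nat.Coprime.pow_left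
    rw [Nat.coprime_primes q.2 r.2]
    intro h
    exact hq (Subtype.ext h)
  exact Nat.Coprime.coprime_dvd_left (Subgroup.card_dvd_of_le hle)
    (Helper22.card_pPrimeCore_coprime (r : ℕ))

omit [Finite G] in
theorem coFit_le_centralizer_singleton (r : Nat.Primes) (x : G)
    (h : ∀ q : Nat.Primes, q ≠ r → x ∈ Subgroup.centralizer (pCore (q : ℕ) G : Set G)) :
    coFit r ≤ Subgroup.centralizer ({x} : Set G) := by
  apply iSup_le
  intro q
  apply iSup_le
  intro hq
  intro y hy
  rw [Subgroup.mem_centralizer_iff]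
  intro d hd
  rw [Set.mem_singleton_iff] at hd
  rw [hd]
  exact ((Subgroup.mem_centralizer_iff.mp (h q hq)) y hy).symm

end Fit

section Main

variable {G : Type u} [Group G] [Finite G]

/-- `K ∩ C_G(O_{r'}(F(G)))` is nilpotent when `K` acts on `O_r(G)` as an `r`-group -/
theorem aux_le_fitting [Group.IsSolvable G] (K : Subgroup G) [hK : K.Normal] (r : Nat.Primes)
    (h : ∀ g ∈ K, ∃ k : ℕ, g ^ (r : ℕ) ^ k ∈ Subgroup.centralizer (pCore (r : ℕ) G : Set G)) :
    K ⊓ Subgroup.centralizer (coFit (G := G) r : Set G) ≤ fittingSubgroup G := by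
  haveI : Fact (r : ℕ).Prime := ⟨r.2⟩
  set M := coFit (G := G) r with hM
  set D : Subgroup G := K ⊓ Subgroup.centralizer (M : Set G) with hD
  haveI hDn : D.Normal := inferInstance
  let θ : D →* G ⧸ M := (QuotientGroup.mk' M).comp D.subtype
  have hθ : ∀ d : D, θ d = ((d : G) : G ⧸ M) := fun d => rfl
  have hker : θ.ker ≤ Subgroup.center D := by
    intro x hx
    rw [MonoidHom.mem_ker, hθ, QuotientGroup.eq_one_iff] at hx
    rw [Subgroup.mem_center_iff]
    intro y
    apply Subtype.ext
    have hy : (y : G) ∈ Subgroup.centralizer (M : Set G) := y.2.2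
    exact ((Subgroup.mem_centralizer_iff.mp hy) x hx).symm
  have hrange : IsPGroup (r : ℕ) θ.range := by
    rintro ⟨_, ⟨d, rfl⟩⟩
    obtain ⟨k, hk⟩ := h d d.2.1
    set c := (d : G) ^ (r : ℕ) ^ k with hc
    have hcM : c ∈ Subgroup.centralizer (M : Set G) := Subgroup.pow_mem _ d.2.2 _
    have hcF : c ∈ Subgroup.centralizer (fittingSubgroup G : Set G) := by
      rw [fitting_eq_sup r]
      have hle : pCore (r : ℕ) G ⊔ M ≤ Subgroup.centralizer ({c} : Set G) := by
        apply sup_le
        · intro z hz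
          rw [Subgroup.mem_centralizer_iff]
          intro e he
          rw [Set.mem_singleton_iff] at he
          rw [he]
          exact ((Subgroup.mem_centralizer_iff.mp hk) z hz).symm
        · intro z hz
          rw [Subgroup.mem_centralizer_iff]
          intro e he
          rw [Set.mem_singleton_iff] at he
          rw [he]
          exact ((Subgroup.mem_centralizer_iff.mp hcM) z hz).symm
      rw [Subgroup.mem_centralizer_iff]
      intro y hy
      exact ((Subgroup.mem_centralizer_iff.mp (hle hy)) c rfl).symm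
    have hcF' : c ∈ fittingSubgroup G :=
      Helper1.centralizer_fittingSubgroup_le_of_isSolvable hcF
    rw [fitting_eq_sup r, ← SetLike.mem_coe, Subgroup.mul_normal] at hcF'
    obtain ⟨a, ha, m, hm, ham⟩ := Set.mem_mul.mp hcF'
    obtain ⟨j, hj⟩ := (Helper7.pCore_isPGroup (G := G) (r : ℕ)) ⟨a, ha⟩
    have haj : a ^ (r : ℕ) ^ j = 1 := by
      have := congrArg Subtype.val hj
      simpa using this
    refine ⟨k + j, ?_⟩
    apply Subtype.ext
    show (θ d) ^ (r : ℕ) ^ (k + j) = 1
    rw [hθ, pow_add, pow_mul, ← QuotientGroup.mk_pow, ← hc, ← ham, ← QuotientGroup.mk_pow]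
    have h1 : ((a * m : G) : G ⧸ M) = ((a : G) : G ⧸ M) := by
      rw [QuotientGroup.mk_mul, (QuotientGroup.eq_one_iff m).mpr hm, mul_one]
    rw [QuotientGroup.mk_pow, h1, ← QuotientGroup.mk_pow, haj, QuotientGroup.mk_one]
  haveI : Group.IsNilpotent θ.range := hrange.isNilpotent
  have hnil : Group.IsNilpotent D :=
    Subgroup.isNilpotent_of_ker_le_center θ.rangeRestrict
      (by rw [MonoidHom.ker_rangeRestrict]; exact hker)
  exact Helper7.le_fittingSubgroup D hnil

/-- **Fitting lemma.**  In a finite solvable group, a normal subgroup `K` all of whose elements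
act on each `O_q(G)` as `q`-elements lies in the Fitting subgroup. -/
theorem le_fitting_of_pow_centralizes [Group.IsSolvable G] (K : Subgroup G) [hK : K.Normal]
    (h : ∀ q : Nat.Primes, ∀ g ∈ K,
      ∃ k : ℕ, g ^ (q : ℕ) ^ k ∈ Subgroup.centralizer (pCore (q : ℕ) G : Set G)) :
    K ≤ fittingSubgroup G := by
  have hel : ∀ (r : Nat.Primes) (x : G), x ∈ K → (∃ m : ℕ, x ^ (r : ℕ) ^ m = 1) →
      x ∈ fittingSubgroup G := by
    rintro r x hxK ⟨m, hm⟩
    apply aux_le_fitting K r (h r)
    refine Subgroup.mem_inf.mpr ⟨hxK, ?_⟩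
    have h1 : coFit (G := G) r ≤ Subgroup.centralizer ({x} : Set G) := by
      apply coFit_le_centralizer_singleton r x
      intro q hq
      obtain ⟨k, hk⟩ := h q x hxK
      have hcop : ((q : ℕ) ^ k).Coprime ((r : ℕ) ^ m) := by
        apply Nat.Coprime.pow
        rw [Nat.coprime_primes q.2 r.2]
        intro h'
        exact hq (Subtype.ext h')
      apply mem_of_pow_mem_of_coprime _ hcop hk
      rw [hm]
      exact Subgroup.one_mem _
    rw [Subgroup.mem_centralizer_iff]
    intro y hy
    exact ((Subgroup.mem_centralizer_iff.mp (h1 hy)) x rfl).symm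
  have hdvd : Nat.card K ∣ Nat.card (K ⊓ fittingSubgroup G : Subgroup G) := by
    rw [Nat.dvd_iff_prime_pow_dvd_dvd]
    intro r k hr hrk
    haveI : Fact r.Prime := ⟨hr⟩
    obtain ⟨P⟩ : Nonempty (Sylow r K) := inferInstance
    have h1 : r ^ k ∣ Nat.card (P : Subgroup K) := P.pow_dvd_card_of_pow_dvd_card hrk
    have hle : (P : Subgroup K).map K.subtype ≤ K ⊓ fittingSubgroup G := by
      rintro _ ⟨x, hx, rfl⟩
      refine Subgroup.mem_inf.mpr ⟨x.2, ?_⟩
      obtain ⟨m, hm⟩ := P.isPGroup' ⟨x, hx⟩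
      apply hel ⟨r, hr⟩ x x.2 ⟨m, ?_⟩
      have := congrArg Subtype.val (congrArg Subtype.val hm)
      simpa using this
    have h2 : Nat.card ((P : Subgroup K).map K.subtype) = Nat.card (P : Subgroup K) :=
      Subgroup.card_map_of_injective (Subgroup.subtype_injective _)
    exact dvd_trans (h2 ▸ h1) (Subgroup.card_dvd_of_le hle)
  have heq : K ⊓ fittingSubgroup G = K :=
    Subgroup.eq_of_le_of_card_ge inf_le_left (Nat.le_of_dvd Nat.card_pos hdvd)
  rw [← heq]
  exact inf_le_right

end Main

section Derived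

variable {G : Type u} [Group G] [Finite G]

/-- elements of the derived subgroup act on a narrow `O_q(G)` as `q`-elements -/
theorem exists_pow_mem_centralizer [Group.IsSolvable G] (hodd : Odd (Nat.card G)) (q : ℕ)
    [Fact q.Prime] (hq2 : q ≠ 2) (hnar : IsNarrow q ↥(pCore q G)) (g : G)
    (hg : g ∈ commutator G) :
    ∃ k : ℕ, g ^ q ^ k ∈ Subgroup.centralizer (pCore q G : Set G) := by
  haveI hPn : (pCore q G).Normal := Helper7.pCore_normal q
  have hPp : IsPGroup q (pCore q G) := Helper7.pCore_isPGroup q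
  set conj : G →* MulAut (pCore q G) := MulAut.conjNormal with hconj
  have hker : conj.ker ≤ Subgroup.centralizer (pCore q G : Set G) := by
    intro x hx
    rw [Subgroup.mem_centralizer_iff]
    intro y hy
    have h0 := DFunLike.congr_fun (MonoidHom.mem_ker.mp hx) ⟨y, hy⟩
    have h1 : x * y * x⁻¹ = y := by
      have := congrArg Subtype.val h0
      rwa [hconj, MulAut.conjNormal_apply] at this
    calc y * x = (x * y * x⁻¹) * x := by rw [h1]
      _ = x * y := by group
  have hinj : Function.Injective (QuotientGroup.kerLift conj) := QuotientGroup.kerLift_injective conj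
  have hoddΓ : Odd (Nat.card (G ⧸ conj.ker)) :=
    Odd.of_dvd_nat hodd (Subgroup.card_quotient_dvd_card _)
  have hΓ := (Narrow.aut q hq2 hPp hnar inferInstance hoddΓ (QuotientGroup.kerLift conj) hinj).1
  have hmem : (QuotientGroup.mk' conj.ker) g ∈ commutator (G ⧸ conj.ker) := by
    have h1 : (commutator G).map (QuotientGroup.mk' conj.ker) ≤ commutator (G ⧸ conj.ker) := by
      rw [commutator_def, commutator_def, Subgroup.map_commutator]
      exact Subgroup.commutator_mono le_top le_top
    exact h1 ⟨g, hg, rfl⟩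
  obtain ⟨k, hk⟩ := hΓ ⟨_, hmem⟩
  refine ⟨k, hker ?_⟩
  have h2 := congrArg Subtype.val hk
  rw [← QuotientGroup.eq_one_iff]
  simpa using h2

/-- **`G' ≤ F(G)`** for a solvable group of odd order all of whose `O_q(G)` are narrow. -/
theorem commutator_le_fitting [Group.IsSolvable G] (hodd : Odd (Nat.card G))
    (hnar : ∀ q : ℕ, q.Prime → q ≠ 2 → IsNarrow q ↥(pCore q G)) :
    commutator G ≤ fittingSubgroup G := by
  apply le_fitting_of_pow_centralizes (commutator G)
  intro q g hg
  haveI : Fact (q : ℕ).Prime := ⟨q.2⟩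
  by_cases hq2 : (q : ℕ) = 2
  · refine ⟨0, ?_⟩
    have hbot : pCore (q : ℕ) G = ⊥ := by
      rw [← Subgroup.card_eq_one]
      obtain ⟨k, hk⟩ := (Helper7.pCore_isPGroup (G := G) (q : ℕ)).exists_card_eq
      rw [hk, hq2]
      have h1 : Nat.card (pCore (q : ℕ) G) ∣ Nat.card G := Subgroup.card_subgroup_dvd_card _
      rw [hk, hq2] at h1
      rcases Nat.eq_zero_or_pos k with h0 | h0
      · rw [h0, pow_zero]
      · exfalso
        have h2 : 2 ∣ Nat.card G := (dvd_pow_self 2 h0.ne').trans h1
        exact (Nat.not_even_iff_odd.mpr hodd) (even_iff_two_dvd.mpr h2)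
    rw [hbot, Subgroup.mem_centralizer_iff]
    intro y hy
    rw [Subgroup.coe_bot, Set.mem_singleton_iff] at hy
    rw [hy, one_mul, mul_one]
  · exact exists_pow_mem_centralizer hodd (q : ℕ) hq2 (hnar q q.2 hq2) g hg

end Derived

section Parts

variable {G : Type u} [Group G]

theorem pCore_le_centralizer_pCore [Finite G] {q r : ℕ} [Fact q.Prime] [Fact r.Prime] (h : q ≠ r) :
    pCore q G ≤ Subgroup.centralizer (pCore r G : Set G) := by
  rw [← Subgroup.commutator_eq_bot_iff_le_centralizer]
  exact Helper7.pCore_commutator_pCore_of_ne h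

theorem coFit_le_centralizer_pCore [Finite G] (r : Nat.Primes) :
    coFit (G := G) r ≤ Subgroup.centralizer (pCore (r : ℕ) G : Set G) := by
  haveI : Fact (r : ℕ).Prime := ⟨r.2⟩
  apply iSup_le
  intro q
  apply iSup_le
  intro hq
  haveI : Fact (q : ℕ).Prime := ⟨q.2⟩
  exact pCore_le_centralizer_pCore (fun h => hq (Subtype.ext h))

/-- the product of the `O_q(G)` for the primes `q` satisfying `P` -/
def fitPart (G : Type u) [Group G] (P : ℕ → Prop) : Subgroup G :=
  ⨆ (q : Nat.Primes) (_ : P (q : ℕ)), pCore (q : ℕ) G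

instance fitPart_normal (P : ℕ → Prop) : (fitPart G P).Normal :=
  normal_iSup _ fun q => normal_iSup _ fun _ => Helper7.pCore_normal (q : ℕ)

theorem fitting_eq_fitPart_sup [Finite G] (P : ℕ → Prop) :
    fittingSubgroup G = fitPart G P ⊔ fitPart G (fun q => ¬ P q) := by
  rw [Helper7.fittingSubgroup_eq_iSup_pCore, fitPart, fitPart]
  exact iSup_split _ _

theorem fitPart_le_piCore [Finite G] (P : ℕ → Prop) :
    fitPart G P ≤ piCore {q | q.Prime ∧ P q} G := by
  apply iSup_le
  intro q
  apply iSup_le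
  intro hq
  haveI : Fact (q : ℕ).Prime := ⟨q.2⟩
  apply Helper10.le_piCore _ (Helper7.pCore_normal (q : ℕ))
  obtain ⟨k, hk⟩ := (Helper7.pCore_isPGroup (G := G) (q : ℕ)).exists_card_eq
  rw [hk]
  intro s hs hsd
  have := (Nat.prime_dvd_prime_iff_eq hs q.2).mp (hs.dvd_of_dvd_pow hsd)
  rw [this]
  exact ⟨q.2, hq⟩

theorem fitPart_le_centralizer_fitPart [Finite G] (P Q : ℕ → Prop) (h : ∀ q, P q → Q q → False) :
    fitPart G P ≤ Subgroup.centralizer (fitPart G Q : Set G) := by
  apply iSup_le
  intro q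
  apply iSup_le
  intro hq
  haveI : Fact (q : ℕ).Prime := ⟨q.2⟩
  rw [Subgroup.le_centralizer_iff]
  apply iSup_le
  intro r
  apply iSup_le
  intro hr
  haveI : Fact (r : ℕ).Prime := ⟨r.2⟩
  apply pCore_le_centralizer_pCore
  intro hrq
  rw [hrq] at hr
  exact h _ hq hr

theorem fitPart_le_centralizer_singleton (P : ℕ → Prop) (x : G)
    (h : ∀ q : Nat.Primes, P (q : ℕ) → x ∈ Subgroup.centralizer (pCore (q : ℕ) G : Set G)) :
    fitPart G P ≤ Subgroup.centralizer ({x} : Set G) := by
  apply iSup_le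
  intro q
  apply iSup_le
  intro hq
  intro y hy
  rw [Subgroup.mem_centralizer_iff]
  intro d hd
  rw [Set.mem_singleton_iff] at hd
  rw [hd]
  exact ((Subgroup.mem_centralizer_iff.mp (h q hq)) y hy).symm

end Parts

end Cfsg.Agent.Helper8.NarrowFit
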