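import Mathlib
import Cfsg.Prelude.Def_Local
import Cfsg.Prelude.Def_Transfer
import Cfsg.Agent.S0017
import Cfsg.Agent.S0640
import Cfsg.Agent.Lib.Helper7.Cores
import Cfsg.Agent.Lib.Helper23.PSolvable
import Cfsg.Agent.Lib.Helper8.RankTwoAut

/-!
# Solvable groups of odd order with Sylow `p`-subgroups of rank at most two
(helper8's shared library)

* `hasNormalPComplement_of` : a normal `p'`-subgroup of `p`-power index is a normal `p`-complement;
* `lift` : the five conclusions on `G` from three facts on `G ⧸ O_{p'}(G)`;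
* `core` : the three facts for a solvable group `X` of odd order with `O_{p'}(X) = 1` whose
  `O_p(X)` has rank at most two;
* `pRankLE_pCore_quotient` : the rank of `O_p(G ⧸ O_{p'}(G))` is at most the `p`-rank of `G`.
-/

set_option autoImplicit false
set_option linter.style.haveILetI false

namespace Cfsg.Agent.Helper8.RankTwoSolv

open Cfsg

universe u

section NPC

variable {X : Type u} [Group X] [Finite X]

theorem hasNormalPComplement_of (p : ℕ) [Fact p.Prime] (N : Subgroup X) [hN : N.Normal]
    (hcop : (Nat.card N).Coprime p) {m : ℕ} (hidx : N.index = p ^ m) :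
    HasNormalPComplement p X := by
  have hpp : p.Prime := Fact.out
  obtain ⟨P⟩ : Nonempty (Sylow p X) := inferInstance
  refine ⟨P, N, hN, ?_⟩
  have hcardX : Nat.card X = Nat.card N * p ^ m := by
    rw [← hidx]; exact (N.card_mul_index).symm
  have hfac : (Nat.card X).factorization p = m := by
    rw [hcardX, Nat.factorization_mul (Nat.card_pos (α := N)).ne' (pow_ne_zero _ hpp.ne_zero)]
    rw [Finsupp.add_apply, Nat.factorization_eq_zero_of_not_dvd
      (fun h => hpp.one_lt.ne' (Nat.Coprime.eq_one_of_dvd hcop.symm h)),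
      hpp.factorization_pow, zero_add]
    simp
  have hcardP : Nat.card (P : Subgroup X) = p ^ m := by
    rw [Sylow.card_eq_multiplicity, hfac]
  apply Subgroup.isComplement'_of_coprime
  · rw [hcardP, ← hcardX]
  · rw [hcardP]; exact Nat.Coprime.pow_right m hcop

end NPC

section Lift

variable {G : Type u} [Group G] [Finite G]

theorem lift (hodd : Odd (Nat.card G)) (p : ℕ) [Fact p.Prime]
    (h1 : haveI := Helper7.pPrimeCore_normal' (G := G) p
      commutator (G ⧸ pPrimeCore p G) ≤ pCore p (G ⧸ pPrimeCore p G))
    (h2 : haveI := Helper7.pPrimeCore_normal' (G := G) p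
      ((pCore p (G ⧸ pPrimeCore p G)).index).Coprime p)
    (h3 : haveI := Helper7.pPrimeCore_normal' (G := G) p
      ∀ q : ℕ, q.Prime → q ∣ Nat.card (G ⧸ pPrimeCore p G) → q ≤ p) :
    (∀ q : ℕ, q.Prime → q ∣ (pPrimeCore p G).index → q ≤ p) ∧
      ((p = 3 ∨ ∀ q : ℕ, q.Prime → q ∣ Nat.card G → p ≤ q) → HasNormalPComplement p G) ∧
      HasNormalPComplement p ↥(commutator G) ∧
      (∀ L : Subgroup ↥(commutator G), (Nat.card L).Coprime p →
        L ≤ pPrimeCore p ↥(commutator G)) ∧
      commutator G ≤ pPrimePCore p G ∧ ((pPrimePCore p G).index).Coprime p := by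
  have hpp : p.Prime := Fact.out
  haveI hKn : (pPrimeCore p G).Normal := Helper7.pPrimeCore_normal' (G := G) p
  set K := pPrimeCore p G with hK
  have hKcop : (Nat.card K).Coprime p := Helper22.card_pPrimeCore_coprime p
  set f := QuotientGroup.mk' K with hf
  have hsurj : Function.Surjective f := QuotientGroup.mk'_surjective K
  set Pb := pCore p (G ⧸ K) with hPb
  have hPbp : IsPGroup p Pb := Helper7.pCore_isPGroup p
  have hidxK : K.index = Nat.card (G ⧸ K) := Subgroup.index_eq_card K
  -- the image of the derived subgroup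
  have hmapG' : (commutator G).map f ≤ Pb := by
    refine le_trans ?_ h1
    rw [commutator_def, commutator_def, Subgroup.map_commutator]
    exact Subgroup.commutator_mono le_top le_top
  -- the restriction of `f` to the derived subgroup
  set g : ↥(commutator G) →* G ⧸ K := f.comp (commutator G).subtype with hg
  have hgker : g.ker = K.subgroupOf (commutator G) := by
    ext x
    rw [MonoidHom.mem_ker, Subgroup.mem_subgroupOf]
    show f (x : G) = 1 ↔ _
    rw [hf, QuotientGroup.mk'_apply, QuotientGroup.eq_one_iff]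
  have hgrange : g.range ≤ Pb := by
    rintro _ ⟨x, rfl⟩
    exact hmapG' ⟨x, x.2, rfl⟩
  have hNcop : (Nat.card g.ker).Coprime p := by
    have h : Nat.card g.ker ∣ Nat.card K := by
      have e : Nat.card g.ker = Nat.card ↥(K ⊓ commutator G) := by
        rw [hgker, ← Subgroup.inf_subgroupOf_right]
        exact Nat.card_congr (Subgroup.subgroupOfEquivOfLe inf_le_right).toEquiv
      rw [e]
      exact Subgroup.card_dvd_of_le inf_le_left
    exact Nat.Coprime.coprime_dvd_left h hKcop
  refine ⟨?_, ?_, ?_, ?_, ?_, ?_⟩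
  · intro q hq hqd
    rw [hidxK] at hqd
    exact h3 q hq hqd
  · intro hcase
    have hpow : ∃ m : ℕ, K.index = p ^ m := by
      refine ⟨_, Nat.eq_prime_pow_of_unique_prime_dvd Subgroup.index_ne_zero_of_finite ?_⟩
      intro q hq hqd
      have hle : q ≤ p := by
        rw [hidxK] at hqd
        exact h3 q hq hqd
      have hqG : q ∣ Nat.card G := hqd.trans (Subgroup.index_dvd_card K)
      have hge : p ≤ q := by
        rcases hcase with h | h
        · have hq2 : q ≠ 2 := by
            rintro rfl
            exact (Nat.not_even_iff_odd.mpr hodd) (even_iff_two_dvd.mpr hqG)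
          have := hq.two_le
          omega
        · exact h q hq hqG
      omega
    obtain ⟨m, hm⟩ := hpow
    exact hasNormalPComplement_of p K hKcop hm
  · -- the derived subgroup
    have hidxN : ∃ m : ℕ, g.ker.index = p ^ m := by
      rw [Subgroup.index_ker]
      have h : Nat.card g.range ∣ Nat.card Pb := Subgroup.card_dvd_of_le hgrange
      obtain ⟨a, ha⟩ := hPbp.exists_card_eq
      rw [ha] at h
      obtain ⟨m, -, hm⟩ := (Nat.dvd_prime_pow hpp).mp h
      exact ⟨m, hm⟩
    obtain ⟨m, hm⟩ := hidxN
    exact hasNormalPComplement_of p g.ker hNcop hm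
  · intro L hL
    refine le_trans ?_ (Helper22.le_pPrimeCore p g.ker inferInstance hNcop)
    intro l hl
    rw [MonoidHom.mem_ker]
    have h1' : orderOf (g l) ∣ orderOf l := orderOf_map_dvd g l
    have h2' : orderOf l ∣ Nat.card L := by
      have := orderOf_dvd_natCard (⟨l, hl⟩ : L)
      rwa [Subgroup.orderOf_mk] at this
    have hcop' : (orderOf (g l)).Coprime p :=
      Nat.Coprime.coprime_dvd_left (h1'.trans h2') hL
    obtain ⟨k, hk⟩ := hPbp ⟨g l, hgrange ⟨l, rfl⟩⟩
    have hk' : (g l) ^ p ^ k = 1 := by
      have := congrArg Subtype.val hk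
      simpa using this
    have h3' : orderOf (g l) ∣ p ^ k := orderOf_dvd_of_pow_eq_one hk'
    have h4' : orderOf (g l) = 1 :=
      Nat.Coprime.eq_one_of_dvd (Nat.Coprime.pow_right k hcop') h3'
    exact orderOf_eq_one_iff.mp h4'
  · intro x hx
    show f x ∈ Pb
    exact hmapG' ⟨x, hx, rfl⟩
  · have : pPrimePCore p G = Pb.comap f := rfl
    rw [this, Subgroup.index_comap_of_surjective Pb hsurj]
    exact h2

end Lift

section Core

variable {X : Type u} [Group X] [Finite X]

theorem core (hsolv : Group.IsSolvable X) (hodd : Odd (Nat.card X)) (p : ℕ) [Fact p.Prime]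
    (hp : p ≠ 2) (hO : pPrimeCore p X = ⊥) (hr : PRankLE p 2 ↥(pCore p X)) :
    commutator X ≤ pCore p X ∧ ((pCore p X).index).Coprime p ∧
      ∀ q : ℕ, q.Prime → q ∣ Nat.card X → q ≤ p := by
  have hpp : p.Prime := Fact.out
  haveI : (pCore p X).Characteristic := Helper7.pCore_characteristic p
  haveI hPn : (pCore p X).Normal := inferInstance
  have hPbp : IsPGroup p (pCore p X) := Helper7.pCore_isPGroup p
  have hC : Subgroup.centralizer (pCore p X : Set X) ≤ pCore p X := Cfsg.Agent.S0017.result p hO
  set conj : X →* MulAut (pCore p X) := MulAut.conjNormal with hconj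
  have hker : conj.ker ≤ pCore p X := by
    intro g hg
    apply hC
    rw [Subgroup.mem_centralizer_iff]
    intro x hx
    have h0 := DFunLike.congr_fun (MonoidHom.mem_ker.mp hg) ⟨x, hx⟩
    have h1 : g * x * g⁻¹ = x := by
      have := congrArg Subtype.val h0
      rwa [hconj, MulAut.conjNormal_apply] at this
    calc x * g = (g * x * g⁻¹) * g := by rw [h1]
      _ = g * x := by group
  have hinj : Function.Injective (QuotientGroup.kerLift conj) := QuotientGroup.kerLift_injective conj
  have hoddΓ : Odd (Nat.card (X ⧸ conj.ker)) :=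
    Odd.of_dvd_nat hodd (Subgroup.card_quotient_dvd_card _)
  have hΓ := RankTwo.derived_isPGroup p hp hPbp hr inferInstance hoddΓ
    (QuotientGroup.kerLift conj) hinj
  have hcomm : commutator X ≤ pCore p X := by
    apply Helper7.le_pCore inferInstance
    intro g
    have hmem : (QuotientGroup.mk' conj.ker) (g : X) ∈ commutator (X ⧸ conj.ker) := by
      have h1 : (commutator X).map (QuotientGroup.mk' conj.ker) ≤ commutator (X ⧸ conj.ker) := by
        rw [commutator_def, commutator_def, Subgroup.map_commutator]
        exact Subgroup.commutator_mono le_top le_top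
      exact h1 ⟨g, g.2, rfl⟩
    obtain ⟨k, hk⟩ := hΓ ⟨_, hmem⟩
    have hk' : (g : X) ^ p ^ k ∈ conj.ker := by
      have h2 := congrArg Subtype.val hk
      rw [← QuotientGroup.eq_one_iff]
      simpa using h2
    obtain ⟨k', hk''⟩ := hPbp ⟨_, hker hk'⟩
    refine ⟨k + k', ?_⟩
    apply Subtype.ext
    have h3 := congrArg Subtype.val hk''
    rw [pow_add, pow_mul]
    simpa using h3
  refine ⟨hcomm, ?_, ?_⟩
  · obtain ⟨S⟩ : Nonempty (Sylow p X) := inferInstance
    have hPS : pCore p X ≤ S := Helper23.PSolv.pCore_le_sylow S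
    have hSn : (S : Subgroup X).Normal := by
      constructor
      intro n hn g
      have h1 : g * n * g⁻¹ * n⁻¹ ∈ commutator X := by
        have := Subgroup.commutator_mem_commutator (Subgroup.mem_top g) (Subgroup.mem_top n)
        rwa [commutatorElement_def] at this
      have h2 : g * n * g⁻¹ = (g * n * g⁻¹ * n⁻¹) * n := by group
      rw [h2]
      exact (S : Subgroup X).mul_mem (hPS (hcomm h1)) hn
    have hSP : (S : Subgroup X) ≤ pCore p X := Helper7.le_pCore hSn S.2
    have heq : pCore p X = S := le_antisymm hPS hSP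
    rw [heq]
    exact ((Nat.Prime.coprime_iff_not_dvd hpp).mpr S.not_dvd_index).symm
  · intro q hq hqd
    by_cases hqp : q = p
    · exact hqp.le
    have hcard : Nat.card X = Nat.card (X ⧸ conj.ker) * Nat.card conj.ker :=
      Subgroup.card_eq_card_quotient_mul_card_subgroup conj.ker
    have hq1 : ¬ q ∣ Nat.card conj.ker := by
      intro h
      have h1 : Nat.card conj.ker ∣ Nat.card (pCore p X) := Subgroup.card_dvd_of_le hker
      obtain ⟨a, ha⟩ := hPbp.exists_card_eq
      rw [ha] at h1
      have h2 := hq.dvd_of_dvd_pow (h.trans h1)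
      exact hqp ((Nat.prime_dvd_prime_iff_eq hq hpp).mp h2)
    have hq2 : q ∣ Nat.card (X ⧸ conj.ker) := by
      rw [hcard] at hqd
      exact (hq.dvd_mul.mp hqd).resolve_right hq1
    have hq3 : q ∣ Nat.card (MulAut (pCore p X)) :=
      hq2.trans (Subgroup.card_dvd_of_injective _ hinj)
    exact (Cfsg.Agent.S0640.result hp hPbp hr q hq hqp hq3).2.le

end Core

section Rank

variable {G : Type u} [Group G] [Finite G]

theorem pRankLE_pCore_quotient (p : ℕ) [Fact p.Prime] (k : ℕ) (h : PRankLE p k G) :
    haveI := Helper7.pPrimeCore_normal' (G := G) p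
    PRankLE p k ↥(pCore p (G ⧸ pPrimeCore p G)) := by
  haveI hKn : (pPrimeCore p G).Normal := Helper7.pPrimeCore_normal' (G := G) p
  have hpp : p.Prime := Fact.out
  have hKcop : (Nat.card (pPrimeCore p G)).Coprime p := Helper22.card_pPrimeCore_coprime p
  set f := QuotientGroup.mk' (pPrimeCore p G) with hf
  have hsurj : Function.Surjective f := QuotientGroup.mk'_surjective _
  obtain ⟨S⟩ : Nonempty (Sylow p G) := inferInstance
  set g : ↥(S : Subgroup G) →* G ⧸ pPrimeCore p G := f.comp (S : Subgroup G).subtype with hg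
  have hginj : Function.Injective g := by
    rw [injective_iff_map_eq_one]
    intro s hs
    have hsK : (s : G) ∈ pPrimeCore p G := by
      rw [← QuotientGroup.eq_one_iff]
      exact hs
    obtain ⟨a, ha⟩ := S.2 s
    have h1 : orderOf (s : G) ∣ p ^ a := by
      apply orderOf_dvd_of_pow_eq_one
      have := congrArg Subtype.val ha
      simpa using this
    have h2 : orderOf (s : G) ∣ Nat.card (pPrimeCore p G) := by
      have := orderOf_dvd_natCard (⟨(s : G), hsK⟩ : pPrimeCore p G)
      rwa [Subgroup.orderOf_mk] at this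
    have h3 : orderOf (s : G) = 1 :=
      Nat.Coprime.eq_one_of_dvd (Nat.Coprime.pow_right a
        (Nat.Coprime.coprime_dvd_left h2 hKcop)) h1
    exact Subtype.ext (orderOf_eq_one_iff.mp h3)
  have hle : pCore p (G ⧸ pPrimeCore p G) ≤ g.range := by
    have h1 := Helper23.PSolv.pCore_le_sylow (S.mapSurjective hsurj)
    intro x hx
    have h2 := h1 hx
    rw [Sylow.coe_mapSurjective] at h2
    obtain ⟨s, hs, rfl⟩ := h2
    exact ⟨⟨s, hs⟩, rfl⟩
  set e := MonoidHom.ofInjective hginj with he
  set ι : ↥(pCore p (G ⧸ pPrimeCore p G)) →* G :=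
    ((S : Subgroup G).subtype.comp e.symm.toMonoidHom).comp (Subgroup.inclusion hle) with hι
  have hιinj : Function.Injective ι := by
    intro a b hab
    have h1 : e.symm (Subgroup.inclusion hle a) = e.symm (Subgroup.inclusion hle b) :=
      Subtype.val_injective hab
    exact Subgroup.inclusion_injective hle (e.symm.injective h1)
  exact RankTwo.pRankLE_of_injective ι hιinj h

end Rank

end Cfsg.Agent.Helper8.RankTwoSolv
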