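import Mathlib
import Cfsg.Agent.Lib.Helper8.FitPrime3

/-!
# Prime order action with no fixed points on the Fitting subgroup, IV (helper8 library)

`commutator_mem_fittingOf`: `K` a solvable normal subgroup of odd order, `R₀` of prime order not
dividing `|K|` with `C_{F(K)}(R₀) = 1`: then `[K, R₀] ≤ F(K)`.
-/

set_option autoImplicit false
set_option linter.unusedSectionVars false

namespace Cfsg.Agent.Helper8.FitPrime

open Cfsg.Agent.Helper8.HHLin Cfsg.Agent.Helper8.SecRep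

section Main

universe u

variable {G : Type u} [Group G] [Finite G]

/-- normal `q`-subgroups of a normal subgroup `Qh ≤ K` lie in `F(K)` -/
theorem le_fittingOf_of_normal_pgroup {q : ℕ} (hq : q.Prime) (K Qh T : Subgroup G)
    [hQh : Qh.Normal] (hTQ : T ≤ Qh) (hQK : Qh ≤ K) (hTq : IsPGroup q ↥T)
    (hN : Qh ≤ Subgroup.normalizer (T : Set G)) : T ≤ Cfsg.fittingOf K := by
  haveI : Fact q.Prime := ⟨hq⟩
  have h1 : T.IsSubnormal := by
    refine Subgroup.IsSubnormal.step T Qh hTQ hQh.isSubnormal ?_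
    rw [Subgroup.normal_subgroupOf_iff_le_normalizer hTQ]
    exact hN
  have h2 : (T.subgroupOf K).IsSubnormal := h1.subgroupOf
  have h3 := Helper7.subnormal_isPGroup_le_pCore q (T.subgroupOf K) h2 hTq.comap_subtype
  have h4 : T ≤ pCoreOf q K := by
    have := Subgroup.map_mono (f := K.subtype) h3
    rw [Subgroup.map_subgroupOf_eq_of_le (hTQ.trans hQK)] at this
    exact this
  rw [fittingOf_eq_iSup]
  exact h4.trans (le_iSup (fun ℓ : Nat.Primes => pCoreOf (ℓ : ℕ) K) ⟨q, hq⟩)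

/-- **Prime order action without fixed points on the Fitting subgroup.** -/
theorem commutator_mem_fittingOf (K R₀ : Subgroup G) [hK : K.Normal]
    (hsolv : Group.IsSolvable ↥K) (hodd : Odd (Nat.card ↥K)) {r : ℕ} (hr : r.Prime)
    (hR₀ : Nat.card ↥R₀ = r) (hrK : ¬ r ∣ Nat.card ↥K)
    (hFR : Cfsg.fittingOf K ⊓ Subgroup.centralizer (R₀ : Set G) = ⊥) :
    ∀ k ∈ K, ∀ x ∈ R₀, x * k * x⁻¹ * k⁻¹ ∈ Cfsg.fittingOf K := by
  classical
  set F : Subgroup G := Cfsg.fittingOf K with hF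
  haveI hFn : F.Normal := fittingOf_normal K
  have hFK : F ≤ K := fittingOf_le K
  set π : G →* G ⧸ F := QuotientGroup.mk' F with hπ
  have hπs : Function.Surjective π := QuotientGroup.mk'_surjective F
  have hπ1 : ∀ g : G, π g = 1 ↔ g ∈ F := fun g => QuotientGroup.eq_one_iff g
  set Kb : Subgroup (G ⧸ F) := K.map π with hKb
  haveI hKbn : Kb.Normal := hK.map π hπs
  have hKbsolv : Group.IsSolvable ↥Kb := by
    haveI := hsolv
    exact Group.isSolvable_of_surjective (f := π.subgroupMap K) (π.subgroupMap_surjective K)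
  have hKbcard : Nat.card ↥Kb ∣ Nat.card ↥K := Subgroup.card_map_dvd K π
  have hcopr : r.Coprime (Nat.card ↥Kb) := by
    apply (Nat.Prime.coprime_iff_not_dvd hr).mpr
    intro hd
    exact hrK (hd.trans hKbcard)
  intro k hk x hx
  have hxr : (π x) ^ r = 1 := by
    rw [← map_pow]
    have h1 : (⟨x, hx⟩ : ↥R₀) ^ Nat.card ↥R₀ = 1 := pow_card_eq_one'
    have h2 : ((⟨x, hx⟩ : ↥R₀) ^ Nat.card ↥R₀ : ↥R₀).1 = x ^ Nat.card ↥R₀ := by
      rw [Subgroup.coe_pow]
    rw [h1, hR₀] at h2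
    rw [← h2]
    exact map_one π
  have hmemK : ∀ y : G, π y ∈ Kb → y ∈ K := by
    intro y hy
    obtain ⟨k', hk', hk'y⟩ := hy
    have h1 : π (k'⁻¹ * y) = 1 := by
      rw [map_mul, map_inv, hk'y, inv_mul_cancel]
    have h2 : k'⁻¹ * y ∈ K := hFK ((hπ1 _).mp h1)
    have h3 : y = k' * (k'⁻¹ * y) := by group
    rw [h3]
    exact K.mul_mem hk' h2
  have hcent : ∀ q : ℕ, q.Prime → ∀ yb ∈ pCoreOf q Kb, π x * yb = yb * π x := by
    intro q hq yb hyb
    haveI : Fact q.Prime := ⟨hq⟩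
    have hPb : IsPGroup q ↥(pCoreOf q Kb) := pCoreOf_isPGroup q Kb
    by_cases hqK : q ∣ Nat.card ↥K
    swap
    · -- the core is trivial
      obtain ⟨n, hn⟩ := hPb.exists_card_eq
      have h1 : Nat.card ↥(pCoreOf q Kb) ∣ Nat.card ↥K :=
        (Subgroup.card_dvd_of_le (pCoreOf_le q Kb)).trans hKbcard
      have h2 : n = 0 := by
        by_contra hn0
        apply hqK
        refine dvd_trans ?_ h1
        rw [hn]
        exact dvd_pow_self q hn0
      rw [h2, pow_zero, Subgroup.card_eq_one] at hn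
      rw [hn, Subgroup.mem_bot] at hyb
      rw [hyb, mul_one, one_mul]
    have hq2 : q ≠ 2 := by
      intro h
      rw [h] at hqK
      exact (Nat.not_even_iff_odd.mpr hodd) (even_iff_two_dvd.mpr hqK)
    have hqr : q ≠ r := by
      intro h
      rw [h] at hqK
      exact hrK hqK
    haveI hPbn : (pCoreOf q Kb).Normal := pCoreOf_normal q Kb
    set Qh : Subgroup G := (pCoreOf q Kb).comap π with hQh
    haveI hQhn : Qh.Normal := hPbn.comap π
    have hFQ : F ≤ Qh := by
      intro f hf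
      rw [hQh, Subgroup.mem_comap, (hπ1 f).mpr hf]
      exact Subgroup.one_mem _
    have hQK : Qh ≤ K := by
      intro y hy
      rw [hQh, Subgroup.mem_comap] at hy
      exact hmemK y (pCoreOf_le q Kb hy)
    have hrQ : ¬ r ∣ Nat.card ↥Qh := fun hd => hrK (hd.trans (Subgroup.card_dvd_of_le hQK))
    have hquot : ∀ y ∈ Qh, ∃ n : ℕ, y ^ q ^ n ∈ F := by
      intro y hy
      rw [hQh, Subgroup.mem_comap] at hy
      obtain ⟨n, hn⟩ := hPb ⟨π y, hy⟩
      refine ⟨n, ?_⟩
      rw [← hπ1, map_pow]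
      have h2 : ((⟨π y, hy⟩ : ↥(pCoreOf q Kb)) ^ q ^ n : ↥(pCoreOf q Kb)).1 = (π y) ^ q ^ n := by
        rw [Subgroup.coe_pow]
      rw [hn] at h2
      exact h2.symm
    have hmax : ∀ T : Subgroup G, T ≤ Qh → IsPGroup q ↥T →
        Qh ≤ Subgroup.normalizer (T : Set G) → T ≤ F := by
      intro T hTQ hTq hN
      exact le_fittingOf_of_normal_pgroup hq K Qh T hTQ hQK hTq hN
    have key := commutator_mem_of_qquot hq hr hqr hq2 R₀ F Qh hR₀ (fun ℓ => pCoreOf ℓ K)
      (fun ℓ _ => pCoreOf_normal ℓ K)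
      (fun ℓ hℓ => by
        haveI : Fact ℓ.Prime := ⟨hℓ⟩
        exact pCoreOf_isPGroup ℓ K)
      (fittingOf_eq_iSup K) hFR hFQ hrQ hquot hmax
    obtain ⟨y, rfl⟩ := hπs yb
    have hy : y ∈ Qh := by rw [hQh, Subgroup.mem_comap]; exact hyb
    have h1 := key y hy x hx
    have h2 : π (x * y * x⁻¹ * y⁻¹) = 1 := (hπ1 _).mpr h1
    rw [map_mul, map_mul, map_mul, map_inv, map_inv] at h2
    have h3 : π x * π y = (π x * π y * (π x)⁻¹ * (π y)⁻¹) * (π y * π x) := by group
    rw [h3, h2, one_mul]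
  have hZ := comm_of_comm_pCore Kb hKbsolv (π x) hxr hcopr hcent (π k)
    (Subgroup.mem_map_of_mem π hk)
  rw [← hπ1, map_mul, map_mul, map_mul, map_inv, map_inv, hZ]
  group

end Main

end Cfsg.Agent.Helper8.FitPrime
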