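import Mathlib
import Cfsg.Prelude.Def_OddOrderLocal
import Cfsg.Agent.S0126
import Cfsg.Agent.Lib.Helper19.PGroupBasic
import Cfsg.Agent.Lib.Helper8.Narrow

/-!
# Criteria for narrowness (helper8's shared library)

* `isNarrow_of_selfCentralizing` : a `p`-group (`p` odd) with an elementary abelian subgroup `E` of
  order `p ^ 2` containing all elements of order `p` of its centralizer is narrow;
* `isNarrow_of_centralizer_rank` : a `p`-group with an elementary abelian subgroup whose
  centralizer has rank at most two is narrow.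
-/

set_option autoImplicit false
set_option linter.style.haveILetI false

namespace Cfsg.Agent.Helper8.Narrow

open Cfsg
open scoped commutatorElement Pointwise

section Abstract

variable {R : Type*} [Group R] [Finite R] {p : ℕ} [Fact p.Prime]

/-- abstract form of `Data.pRankLE_of_conj` -/
theorem pRankLE_of_conj' (hR : IsPGroup p R) (e : R)
    (hΩ : ∀ X : Subgroup R, X ≤ Subgroup.centralizer ({e} : Set R) → (∀ x ∈ X, x ^ p = 1) →
      Nat.card X ≤ p ^ 2 ∧ (Nat.card X = p ^ 2 → e ∈ X))
    (T : Set R) (hT : Nat.card T < p ^ 2) (hconj : ∀ x : R, x * e * x⁻¹ ∈ T) : PRankLE p 2 R := by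
  have hpp : p.Prime := Fact.out
  intro X hXc hXe
  have hXcomm : ∀ a ∈ X, ∀ b ∈ X, a * b = b * a := isMulCommutative_iff_of_setLike.mp hXc
  have h1 := card_le_mul_of_conj_mem hR X e T hT (fun x _ => hconj x)
  set X₀ : Subgroup R := X ⊓ Subgroup.centralizer ({e} : Set R) with hX₀
  obtain ⟨c1, c2⟩ := hΩ X₀ inf_le_right (fun x hx => hXe x hx.1)
  by_cases hc : Nat.card X₀ = p ^ 2
  · have heX : e ∈ X := (c2 hc).1
    have hle : X ≤ Subgroup.centralizer ({e} : Set R) := by
      intro x hx
      rw [Subgroup.mem_centralizer_iff]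
      intro d hd
      rw [Set.mem_singleton_iff] at hd
      rw [hd]
      exact hXcomm e heX x hx
    have : X₀ = X := inf_eq_left.mpr hle
    rw [this] at hc
    exact hc.le
  · obtain ⟨k, hk⟩ := (hR.to_subgroup X₀).exists_card_eq
    have hk1 : k ≤ 1 := by
      by_contra hcon
      have h2 : 2 ≤ k := by omega
      have h3 : p ^ 2 ≤ p ^ k := Nat.pow_le_pow_right hpp.pos h2
      rw [hk] at c1 hc
      exact hc (le_antisymm c1 h3)
    have h4 : Nat.card X₀ ≤ p := by
      rw [hk]
      calc p ^ k ≤ p ^ 1 := Nat.pow_le_pow_right hpp.pos hk1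
        _ = p := pow_one p
    calc Nat.card X ≤ p * Nat.card X₀ := h1
      _ ≤ p * p := Nat.mul_le_mul_left _ h4
      _ = p ^ 2 := by ring

omit [Finite R] [Fact p.Prime] in
/-- adjoining a commuting element of order `p` to an elementary abelian subgroup -/
theorem elemAb_sup_zpowers (E : Subgroup R) (x : R) (hEc : ∀ a ∈ E, ∀ b ∈ E, a * b = b * a)
    (hEe : ∀ a ∈ E, a ^ p = 1) (hx : ∀ a ∈ E, a * x = x * a) (hxp : x ^ p = 1) :
    (∀ a ∈ E ⊔ Subgroup.zpowers x, ∀ b ∈ E ⊔ Subgroup.zpowers x, a * b = b * a) ∧
      ∀ a ∈ E ⊔ Subgroup.zpowers x, a ^ p = 1 := by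
  have hc := Helper19.commute_sup_zpowers E hEc x hx
  refine ⟨hc, ?_⟩
  let Ω : Subgroup R :=
    { carrier := {y | y ∈ E ⊔ Subgroup.zpowers x ∧ y ^ p = 1}
      one_mem' := ⟨Subgroup.one_mem _, one_pow p⟩
      mul_mem' := by
        rintro a b ⟨ha, hap⟩ ⟨hb, hbp⟩
        refine ⟨Subgroup.mul_mem _ ha hb, ?_⟩
        have hcom : Commute a b := hc a ha b hb
        rw [hcom.mul_pow, hap, hbp, one_mul]
      inv_mem' := by
        rintro a ⟨ha, hap⟩
        exact ⟨Subgroup.inv_mem _ ha, by rw [inv_pow, hap, inv_one]⟩ }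
  have hle : E ⊔ Subgroup.zpowers x ≤ Ω := by
    apply sup_le
    · intro a ha
      exact ⟨Subgroup.mem_sup_left ha, hEe a ha⟩
    · rw [Subgroup.zpowers_le]
      exact ⟨Subgroup.mem_sup_right (Subgroup.mem_zpowers x), hxp⟩
  intro a ha
  exact (hle ha).2

theorem card_zpowers_eq {z : R} (hz1 : z ≠ 1) (hzp : z ^ p = 1) :
    Nat.card (Subgroup.zpowers z) = p := by
  rw [Nat.card_zpowers]
  exact orderOf_eq_prime hzp hz1

end Abstract

section Crit

variable {R : Type*} [Group R] [Finite R] {p : ℕ} [Fact p.Prime]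

/-- **Maximal elementary abelian subgroups of order `p ^ 2` give narrowness.** -/
theorem isNarrow_of_selfCentralizing (hp : p ≠ 2) (hR : IsPGroup p R) (E : Subgroup R)
    (hEc : ∀ a ∈ E, ∀ b ∈ E, a * b = b * a) (hEe : ∀ a ∈ E, a ^ p = 1)
    (hEcard : Nat.card E = p ^ 2)
    (hmax : ∀ x ∈ Subgroup.centralizer (E : Set R), x ^ p = 1 → x ∈ E) : IsNarrow p R := by
  classical
  have hpp : p.Prime := Fact.out
  by_cases hrk : PRankLE p 2 R
  · exact Or.inl hrk
  right
  have hp2 : p < p ^ 2 := by
    calc p = p ^ 1 := (pow_one p).symm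
      _ < p ^ 2 := Nat.pow_lt_pow_right hpp.one_lt (by norm_num)
  have hsq : p ^ 2 = p * p := sq p
  -- (a) `R` is not cyclic
  have hnc : ¬ IsCyclic R := by
    intro hcyc
    haveI : IsCyclic E := Subgroup.isCyclic E
    haveI : Fintype E := Fintype.ofFinite _
    have h := IsCyclic.card_pow_eq_one_le (α := E) (n := p) hpp.pos
    have h2 : (Finset.univ.filter fun a : E => a ^ p = 1) = Finset.univ := by
      ext a
      simp only [Finset.mem_filter, Finset.mem_univ, true_and, iff_true]
      exact Subtype.ext (by simpa using hEe a a.2)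
    rw [h2, Finset.card_univ, ← Nat.card_eq_fintype_card, hEcard] at h
    omega
  obtain ⟨T, hTn, ⟨hTc, hTe⟩, hTcard⟩ := Cfsg.Agent.S0126.result hp hR hnc
  haveI := hTn
  -- (b) a central element of order `p` in `T`
  have hTne : T ≠ ⊥ := by
    intro h
    rw [h, Subgroup.card_bot] at hTcard
    have := hpp.one_lt
    omega
  have hz := Helper19.normal_inf_center_ne_bot hR T hTne
  obtain ⟨z, hzmem, hz1⟩ := (Subgroup.bot_or_exists_ne_one _).resolve_left hz
  have hzT : z ∈ T := hzmem.1
  have hzc : ∀ g : R, g * z = z * g := fun g => Subgroup.mem_center_iff.mp hzmem.2 g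
  have hzp : z ^ p = 1 := hTe z hzT
  have hzE : z ∈ E := by
    apply hmax z _ hzp
    rw [Subgroup.mem_centralizer_iff]
    intro h _
    exact hzc h
  have hZcard : Nat.card (Subgroup.zpowers z) = p := card_zpowers_eq hz1 hzp
  have hzcen : ∀ S : Set R, z ∈ Subgroup.centralizer S := by
    intro S
    rw [Subgroup.mem_centralizer_iff]
    intro h _
    exact hzc h
  -- subgroups of order `p ^ 2` through `z`
  have hgen : ∀ (H : Subgroup R), Nat.card H = p ^ 2 → z ∈ H → ∀ t ∈ H,
      t ∉ Subgroup.zpowers z → Subgroup.zpowers z ⊔ Subgroup.zpowers t = H := by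
    intro H hH hzH t ht htz
    have hle : Subgroup.zpowers z ⊔ Subgroup.zpowers t ≤ H :=
      sup_le (Subgroup.zpowers_le.mpr hzH) (Subgroup.zpowers_le.mpr ht)
    have hlt : Subgroup.zpowers z < Subgroup.zpowers z ⊔ Subgroup.zpowers t := by
      refine lt_of_le_of_ne le_sup_left ?_
      intro h
      apply htz
      rw [h]
      exact Subgroup.mem_sup_right (Subgroup.mem_zpowers t)
    have h1 := Helper19.mul_card_le_of_lt hR hlt
    rw [hZcard] at h1
    apply Subgroup.eq_of_le_of_card_ge hle
    rw [hH, hsq]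
    exact h1
  have hcen : ∀ (H : Subgroup R), Nat.card H = p ^ 2 → z ∈ H → ∀ t ∈ H,
      t ∉ Subgroup.zpowers z →
      Subgroup.centralizer ({t} : Set R) ≤ Subgroup.centralizer (H : Set R) := by
    intro H hH hzH t ht htz x hx
    have hle : H ≤ Subgroup.centralizer ({x} : Set R) := by
      rw [← hgen H hH hzH t ht htz]
      apply sup_le
      · rw [Subgroup.zpowers_le]
        exact hzcen _
      · rw [Subgroup.zpowers_le, Subgroup.mem_centralizer_iff]
        intro d hd
        rw [Set.mem_singleton_iff] at hd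
        rw [hd]
        exact ((Subgroup.mem_centralizer_iff.mp hx) t rfl).symm
    rw [Subgroup.mem_centralizer_iff]
    intro h hh
    exact ((Subgroup.mem_centralizer_iff.mp (hle hh)) x rfl).symm
  -- (c) an element of `T` outside `⟨z⟩`
  obtain ⟨t, htT, htz⟩ : ∃ t ∈ T, t ∉ Subgroup.zpowers z := by
    by_contra hcon
    push_neg at hcon
    have hle : T ≤ Subgroup.zpowers z := hcon
    have := Subgroup.card_le_of_le hle
    rw [hTcard, hZcard] at this
    omega
  have ht1 : t ≠ 1 := by
    intro h
    apply htz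
    rw [h]
    exact Subgroup.one_mem _
  set CT : Subgroup R := Subgroup.centralizer (T : Set R) with hCT
  have hCTt : Subgroup.centralizer ({t} : Set R) ≤ CT := hcen T hTcard hzT t htT htz
  -- the set `T \ {1}`
  have hTcard' : Nat.card ((T : Set R) \ {1} : Set R) < p ^ 2 := by
    rw [Nat.card_coe_set_eq, Set.ncard_diff_singleton_of_mem (T.one_mem), ← Nat.card_coe_set_eq]
    have : Nat.card (T : Set R) = p ^ 2 := hTcard
    rw [this]
    have : 0 < p ^ 2 := pow_pos hpp.pos 2
    omega
  have hTconj : ∀ x : R, x * t * x⁻¹ ∈ ((T : Set R) \ {1} : Set R) := by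
    intro x
    refine ⟨hTn.conj_mem t htT x, ?_⟩
    rw [Set.mem_singleton_iff]
    intro h
    apply ht1
    calc t = x⁻¹ * (x * t * x⁻¹) * x := by group
      _ = 1 := by rw [h]; group
  -- (d) `C_R(T)` has index at most `p`
  have hidx : Nat.card R ≤ p * Nat.card CT := by
    have h1 := card_le_mul_of_conj_mem hR ⊤ t _ hTcard' (fun x _ => hTconj x)
    rw [Subgroup.card_top, top_inf_eq] at h1
    exact h1.trans (Nat.mul_le_mul_left _ (Subgroup.card_le_of_le hCTt))
  -- (e) `E` does not centralize `T`
  have hECT : ¬ E ≤ CT := by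
    intro hle
    have hTE : T ≤ E := by
      intro x hx
      apply hmax x _ (hTe x hx)
      exact (Subgroup.le_centralizer_iff.mp hle) hx
    have hTeq : T = E := Subgroup.eq_of_le_of_card_ge hTE (by rw [hTcard, hEcard])
    apply hrk
    apply pRankLE_of_conj' hR t _ _ hTcard' hTconj
    intro X hX hXe
    have hXE : X ≤ E := by
      intro x hx
      apply hmax x _ (hXe x hx)
      rw [← hTeq]
      exact hCTt (hX hx)
    refine ⟨(Subgroup.card_le_of_le hXE).trans hEcard.le, ?_⟩
    intro hc
    have : X = E := Subgroup.eq_of_le_of_card_ge hXE (by rw [hc, hEcard])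
    rw [this, ← hTeq]
    exact htT
  -- (f) the generator `e`
  obtain ⟨e, heE, heCT⟩ := SetLike.not_le_iff_exists.mp hECT
  have hZCT : Subgroup.zpowers z ≤ CT := by
    rw [Subgroup.zpowers_le]
    exact hzcen _
  have hez : e ∉ Subgroup.zpowers z := fun h => heCT (hZCT h)
  have he1 : e ≠ 1 := by
    intro h
    apply heCT
    rw [h]
    exact Subgroup.one_mem _
  have hep : e ^ p = 1 := hEe e heE
  have hEcen : Subgroup.centralizer ({e} : Set R) ≤ Subgroup.centralizer (E : Set R) :=
    hcen E hEcard hzE e heE hez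
  have hecard : Nat.card (Subgroup.zpowers e) = p := card_zpowers_eq he1 hep
  -- (g) `E ∩ C_R(T) = ⟨z⟩`
  have hEinf : E ⊓ CT = Subgroup.zpowers z := by
    symm
    apply Subgroup.eq_of_le_of_card_ge (le_inf (Subgroup.zpowers_le.mpr hzE) hZCT)
    have hlt : E ⊓ CT < E := by
      refine lt_of_le_of_ne inf_le_left ?_
      intro h
      apply heCT
      have : e ∈ E ⊓ CT := by rw [h]; exact heE
      exact this.2
    have h1 := Helper19.mul_card_le_of_lt hR hlt
    rw [hEcard, hsq] at h1
    rw [hZcard]
    exact Nat.le_of_mul_le_mul_left h1 hpp.pos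
  set R₁ : Subgroup R := CT ⊓ Subgroup.centralizer ({e} : Set R) with hR₁
  have hR₁z : ∀ x ∈ R₁, x ^ p = 1 → x ∈ Subgroup.zpowers z := by
    intro x hx hxp
    have hxE : x ∈ E := hmax x (hEcen hx.2) hxp
    rw [← hEinf]
    exact ⟨hxE, hx.1⟩
  -- (h) `R₁` is cyclic
  have hcyc : IsCyclic R₁ := by
    by_contra hncyc
    obtain ⟨A, -, ⟨-, hAe⟩, hAcard⟩ := Cfsg.Agent.S0126.result hp (hR.to_subgroup R₁) hncyc
    have hle : A.map R₁.subtype ≤ Subgroup.zpowers z := by
      rintro _ ⟨a, ha, rfl⟩
      apply hR₁z _ a.2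
      have := congrArg Subtype.val (hAe a ha)
      simpa using this
    have h1 := Subgroup.card_le_of_le hle
    rw [Subgroup.card_map_of_injective (Subgroup.subtype_injective _), hAcard, hZcard] at h1
    omega
  -- centralizer of `⟨e⟩`
  have hcene : Subgroup.centralizer ((Subgroup.zpowers e : Subgroup R) : Set R) =
      Subgroup.centralizer ({e} : Set R) := by
    apply le_antisymm
    · apply Subgroup.centralizer_le
      intro d hd
      rw [Set.mem_singleton_iff] at hd
      rw [hd]
      exact Subgroup.mem_zpowers e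
    · intro x hx
      rw [Subgroup.mem_centralizer_iff]
      intro a ha
      obtain ⟨k, rfl⟩ := Subgroup.mem_zpowers_iff.mp ha
      have hc : Commute e x := (Subgroup.mem_centralizer_iff.mp hx) e rfl
      exact (hc.zpow_left k).eq
  haveI hCTn : CT.Normal := inferInstance
  refine ⟨Subgroup.zpowers e, R₁, hecard, hcyc, ?_, ?_, ?_⟩
  · -- trivial intersection
    rw [eq_bot_iff]
    intro x hx
    rw [Subgroup.mem_bot]
    by_contra hx1
    apply heCT
    have hmem : (⟨e, Subgroup.mem_zpowers e⟩ : Subgroup.zpowers e) ∈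
        Subgroup.zpowers (⟨x, hx.1⟩ : Subgroup.zpowers e) :=
      mem_zpowers_of_prime_card hecard (fun h => hx1 (congrArg Subtype.val h))
    obtain ⟨k, hk⟩ := Subgroup.mem_zpowers_iff.mp hmem
    have hek : e = x ^ k := by
      have := congrArg Subtype.val hk
      simpa using this.symm
    rw [hek]
    exact CT.zpow_mem hx.2.1 k
  · -- commuting
    intro a ha b hb
    obtain ⟨k, rfl⟩ := Subgroup.mem_zpowers_iff.mp ha
    have hc : Commute e b := (Subgroup.mem_centralizer_iff.mp hb.2) e rfl
    exact (hc.zpow_left k).eq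
  · -- the centralizer of `⟨e⟩`
    rw [hcene]
    apply le_antisymm
    · apply sup_le
      · rw [Subgroup.zpowers_le, Subgroup.mem_centralizer_iff]
        intro d hd
        rw [Set.mem_singleton_iff] at hd
        rw [hd]
      · exact inf_le_right
    · intro x hx
      -- the quotient by `C_R(T)` has order `p`
      have hq : Nat.card (R ⧸ CT) = p := by
        have h1 : Nat.card R = Nat.card (R ⧸ CT) * Nat.card CT :=
          Subgroup.card_eq_card_quotient_mul_card_subgroup CT
        rw [h1] at hidx
        have hpos : 0 < Nat.card CT := Nat.card_pos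
        have h2 : Nat.card (R ⧸ CT) ≤ p := Nat.le_of_mul_le_mul_right hidx hpos
        obtain ⟨k, hk⟩ := (hR.to_quotient CT).exists_card_eq
        rw [hk] at h2 ⊢
        rcases Nat.eq_zero_or_pos k with h0 | h0
        · exfalso
          rw [h0, pow_zero] at hk
          haveI : Subsingleton (R ⧸ CT) := (Nat.card_eq_one_iff_unique.mp hk).1
          apply heCT
          rw [← QuotientGroup.eq_one_iff]
          exact Subsingleton.elim _ _
        · have hk1 : k ≤ 1 := by
            by_contra hcon
            have h4 : 2 ≤ k := by omega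
            have h5 : p ^ 2 ≤ p ^ k := Nat.pow_le_pow_right hpp.pos h4
            omega
          have : k = 1 := by omega
          rw [this, pow_one]
      have hne : ((e : R) : R ⧸ CT) ≠ 1 := by
        intro h
        exact heCT ((QuotientGroup.eq_one_iff e).mp h)
      have hmem : ((x : R) : R ⧸ CT) ∈ Subgroup.zpowers ((e : R) : R ⧸ CT) :=
        mem_zpowers_of_prime_card hq hne
      obtain ⟨k, hk⟩ := Subgroup.mem_zpowers_iff.mp hmem
      have hk' : ((e ^ k : R) : R ⧸ CT) = ((x : R) : R ⧸ CT) := by
        rw [QuotientGroup.mk_zpow]; exact hk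
      have h1 : (e ^ k)⁻¹ * x ∈ CT := QuotientGroup.eq.mp hk'
      have hek : e ^ k ∈ Subgroup.centralizer ({e} : Set R) := by
        apply Subgroup.zpow_mem
        rw [Subgroup.mem_centralizer_iff]
        intro d hd
        rw [Set.mem_singleton_iff] at hd
        rw [hd]
      have h2 : (e ^ k)⁻¹ * x ∈ R₁ :=
        ⟨h1, Subgroup.mul_mem _ (Subgroup.inv_mem _ hek) hx⟩
      have h3 : x = e ^ k * ((e ^ k)⁻¹ * x) := by group
      rw [h3]
      exact Subgroup.mul_mem _ (Subgroup.mem_sup_left (Subgroup.zpow_mem _ (Subgroup.mem_zpowers e) k))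
        (Subgroup.mem_sup_right h2)

end Crit

section Rank

variable {R : Type*} [Group R] [Finite R] {p : ℕ} [Fact p.Prime]

/-- **Small centralizers give narrowness.**  A `p`-group (`p` odd) with an elementary abelian
subgroup whose centralizer has rank at most two is narrow. -/
theorem isNarrow_of_centralizer_rank (hp : p ≠ 2) (hR : IsPGroup p R) (E : Subgroup R)
    (hEc : ∀ a ∈ E, ∀ b ∈ E, a * b = b * a) (hEe : ∀ a ∈ E, a ^ p = 1)
    (hr : PRankLE p 2 ↥(Subgroup.centralizer (E : Set R))) : IsNarrow p R := by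
  have hpp : p.Prime := Fact.out
  by_cases hrk : PRankLE p 2 R
  · exact Or.inl hrk
  set C : Subgroup R := Subgroup.centralizer (E : Set R) with hC
  have hEC : E ≤ C := by
    intro a ha
    rw [hC, Subgroup.mem_centralizer_iff]
    intro b hb
    exact hEc b hb a ha
  -- the rank condition for subgroups of `C`
  have hrank : ∀ X : Subgroup R, X ≤ C → (∀ a ∈ X, ∀ b ∈ X, a * b = b * a) →
      (∀ a ∈ X, a ^ p = 1) → Nat.card X ≤ p ^ 2 := by
    intro X hXC hXc hXe
    have h1 := hr (X.subgroupOf C)
      (isMulCommutative_iff_of_setLike.mpr (fun a ha b hb => by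
        apply Subtype.ext
        exact hXc a ha b hb))
      (fun a ha => by
        apply Subtype.ext
        exact hXe a ha)
    rwa [Helper7.card_subgroupOf_of_le hXC] at h1
  have hsq : p ^ 2 = p * p := sq p
  -- an elementary abelian subgroup of order `p ^ 2` between `E` and `C`
  have hE₂ : ∃ E₂ : Subgroup R, E ≤ E₂ ∧ E₂ ≤ C ∧ (∀ a ∈ E₂, ∀ b ∈ E₂, a * b = b * a) ∧
      (∀ a ∈ E₂, a ^ p = 1) ∧ Nat.card E₂ = p ^ 2 := by
    by_cases hEcard : Nat.card E = p ^ 2
    · exact ⟨E, le_rfl, hEC, hEc, hEe, hEcard⟩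
    by_cases hex : ∃ x ∈ C, x ^ p = 1 ∧ x ∉ E
    · obtain ⟨x, hxC, hxp, hxE⟩ := hex
      have hxcomm : ∀ a ∈ E, a * x = x * a := fun a ha =>
        (Subgroup.mem_centralizer_iff.mp hxC) a ha
      obtain ⟨hKc, hKe⟩ := elemAb_sup_zpowers E x hEc hEe hxcomm hxp
      have hKC : E ⊔ Subgroup.zpowers x ≤ C :=
        sup_le hEC (Subgroup.zpowers_le.mpr hxC)
      have hlt : E < E ⊔ Subgroup.zpowers x := by
        refine lt_of_le_of_ne le_sup_left ?_
        intro h
        apply hxE
        rw [h]
        exact Subgroup.mem_sup_right (Subgroup.mem_zpowers x)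
      have hKle := hrank _ hKC hKc hKe
      -- `E` has order `p`
      by_cases hE1 : E = ⊥
      · -- then `K = ⟨x⟩` has order `p`; adjoin once more is not needed: use rank of `R`
        exfalso
        apply hrk
        intro X hXc hXe
        apply hrank X _ (isMulCommutative_iff_of_setLike.mp hXc) hXe
        intro y _
        rw [hC, hE1, Subgroup.mem_centralizer_iff]
        intro b hb
        rw [Subgroup.coe_bot, Set.mem_singleton_iff] at hb
        rw [hb, one_mul, mul_one]
      · have hEp : p ≤ Nat.card E := by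
          obtain ⟨k, hk⟩ := (hR.to_subgroup E).exists_card_eq
          rcases Nat.eq_zero_or_pos k with h0 | h0
          · exfalso
            rw [h0, pow_zero] at hk
            exact hE1 (Subgroup.card_eq_one.mp hk)
          · rw [hk]
            calc p = p ^ 1 := (pow_one p).symm
              _ ≤ p ^ k := Nat.pow_le_pow_right hpp.pos h0
        have h1 := Helper19.mul_card_le_of_lt hR hlt
        refine ⟨E ⊔ Subgroup.zpowers x, le_sup_left, hKC, hKc, hKe, le_antisymm hKle ?_⟩
        calc p ^ 2 = p * p := hsq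
          _ ≤ p * Nat.card E := Nat.mul_le_mul_left _ hEp
          _ ≤ _ := h1
    · -- every element of order `p` of `C` lies in `E`
      exfalso
      push_neg at hex
      apply hrk
      by_cases hR1 : Nontrivial R
      · haveI := hR1
        haveI : Nontrivial (Subgroup.center R) := hR.center_nontrivial
        have hdvd : p ∣ Nat.card (Subgroup.center R) := by
          obtain ⟨k, hk⟩ := (hR.to_subgroup (Subgroup.center R)).exists_card_eq
          rcases Nat.eq_zero_or_pos k with h0 | h0
          · exfalso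
            rw [h0, pow_zero] at hk
            have := (Nat.card_eq_one_iff_unique.mp hk).1
            exact not_subsingleton _ this
          · rw [hk]
            exact dvd_pow_self p h0.ne'
        obtain ⟨z, hz⟩ := exists_prime_orderOf_dvd_card' (G := Subgroup.center R) p hdvd
        have hzc : ∀ g : R, g * (z : R) = (z : R) * g := fun g =>
          Subgroup.mem_center_iff.mp z.2 g
        have hzp : (z : R) ^ p = 1 := by
          have : z ^ p = 1 := by rw [← hz]; exact pow_orderOf_eq_one z
          have := congrArg Subtype.val this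
          simpa using this
        have hz1 : (z : R) ≠ 1 := by
          intro h
          have : z = 1 := Subtype.ext h
          rw [this, orderOf_one] at hz
          exact hpp.one_lt.ne hz
        have hzC : (z : R) ∈ C := by
          rw [hC, Subgroup.mem_centralizer_iff]
          intro h _
          exact hzc h
        have hzE : (z : R) ∈ E := hex _ hzC hzp
        -- `E = ⟨z⟩`
        have hEle : Nat.card E ≤ p := by
          obtain ⟨k, hk⟩ := (hR.to_subgroup E).exists_card_eq
          have h2 := hrank E hEC hEc hEe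
          rw [hk] at h2 hEcard ⊢
          have hk1 : k ≤ 1 := by
            by_contra hcon
            have h4 : 2 ≤ k := by omega
            have h5 : p ^ 2 ≤ p ^ k := Nat.pow_le_pow_right hpp.pos h4
            exact hEcard (le_antisymm h2 h5)
          calc p ^ k ≤ p ^ 1 := Nat.pow_le_pow_right hpp.pos hk1
            _ = p := pow_one p
        have hEz : Subgroup.zpowers (z : R) = E := by
          apply Subgroup.eq_of_le_of_card_ge (Subgroup.zpowers_le.mpr hzE)
          rw [card_zpowers_eq hz1 hzp]
          exact hEle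
        have hCtop : ∀ y : R, y ∈ C := by
          intro y
          rw [hC, ← hEz, Subgroup.mem_centralizer_iff]
          intro a ha
          obtain ⟨k, rfl⟩ := Subgroup.mem_zpowers_iff.mp ha
          have hc : Commute (z : R) y := (hzc y).symm
          exact (hc.zpow_left k).eq
        intro X hXc hXe
        exact hrank X (fun y _ => hCtop y) (isMulCommutative_iff_of_setLike.mp hXc) hXe
      · rw [not_nontrivial_iff_subsingleton] at hR1
        intro X _ _
        have : Nat.card X = 1 := Nat.card_eq_one_iff_unique.mpr ⟨inferInstance, ⟨1⟩⟩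
        rw [this]
        exact Nat.one_le_pow _ _ hpp.pos
  obtain ⟨E₂, hEE₂, hE₂C, hE₂c, hE₂e, hE₂card⟩ := hE₂
  apply isNarrow_of_selfCentralizing hp hR E₂ hE₂c hE₂e hE₂card
  intro x hx hxp
  have hxcomm : ∀ a ∈ E₂, a * x = x * a := fun a ha =>
    (Subgroup.mem_centralizer_iff.mp hx) a ha
  obtain ⟨hKc, hKe⟩ := elemAb_sup_zpowers E₂ x hE₂c hE₂e hxcomm hxp
  have hxC : x ∈ C := Subgroup.centralizer_le hEE₂ hx
  have hKC : E₂ ⊔ Subgroup.zpowers x ≤ C := sup_le hE₂C (Subgroup.zpowers_le.mpr hxC)
  have hKle := hrank _ hKC hKc hKe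
  have hEq : E₂ = E₂ ⊔ Subgroup.zpowers x :=
    Subgroup.eq_of_le_of_card_ge le_sup_left (by rw [hE₂card]; exact hKle)
  rw [hEq]
  exact Subgroup.mem_sup_right (Subgroup.mem_zpowers x)

end Rank

end Cfsg.Agent.Helper8.Narrow
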