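import Mathlib
import Cfsg.Prelude.Def_Local
import Cfsg.Prelude.Def_Transfer
import Cfsg.Prelude.Def_OddOrderLocal
import Cfsg.Agent.S0017
import Cfsg.Agent.Lib.Helper7.Cores
import Cfsg.Agent.Lib.Helper19.PLength
import Cfsg.Agent.Lib.Helper23.PSolvable
import Cfsg.Agent.Lib.Helper8.Narrow
import Cfsg.Agent.Lib.Helper8.RankTwoSolv

/-!
# Solvable groups of odd order with narrow Sylow `p`-subgroups (helper8's shared library)

* `core'` : the three facts on a solvable group `X` of odd order with `O_{p'}(X) = 1` and narrow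
  `O_p(X)`;
* `pRankLE_of_sylow` : the `p`-rank of a group is that of a Sylow `p`-subgroup;
* `isNarrow_pCore_quotient` : if `G` has `p`-length one, `O_p(G / O_{p'}(G))` is isomorphic to a
  Sylow `p`-subgroup of `G`.
-/

set_option autoImplicit false
set_option linter.style.haveILetI false

namespace Cfsg.Agent.Helper8.NarrowSolv

open Cfsg

universe u

section Core

variable {X : Type u} [Group X] [Finite X]

theorem core' (hsolv : Group.IsSolvable X) (hodd : Odd (Nat.card X)) (p : ℕ) [Fact p.Prime]
    (hp : p ≠ 2) (hO : pPrimeCore p X = ⊥) (hnar : IsNarrow p ↥(pCore p X)) :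
    commutator X ≤ pCore p X ∧ ((pCore p X).index).Coprime p ∧
      ∀ q : ℕ, q.Prime → q ∣ Nat.card X → q ≤ p := by
  have hpp : p.Prime := Fact.out
  haveI : (pCore p X).Characteristic := Helper7.pCore_characteristic p
  haveI hPn : (pCore p X).Normal := inferInstance
  have hPbp : IsPGroup p (pCore p X) := Helper7.pCore_isPGroup p
  have hC : Subgroup.centralizer (pCore p X : Set X) ≤ pCore p X := Cfsg.Agent.S0017.result p hO
  set conj : X →* MulAut (pCore p X) := MulAut.conjNormal with hconj
  have hker : conj.ker ≤ pCore p X := by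
    intro g hg
    apply hC
    rw [Subgroup.mem_centralizer_iff]
    intro x hx
    have h0 := DFunLike.congr_fun (MonoidHom.mem_ker.mp hg) ⟨x, hx⟩
    have h1 : g * x * g⁻¹ = x := by
      have := congrArg Subtype.val h0
      rwa [hconj, MulAut.conjNormal_apply] at this
    calc x * g = (g * x * g⁻¹) * g := by rw [h1]
      _ = g * x := by group
  have hinj : Function.Injective (QuotientGroup.kerLift conj) := QuotientGroup.kerLift_injective conj
  have hoddΓ : Odd (Nat.card (X ⧸ conj.ker)) :=
    Odd.of_dvd_nat hodd (Subgroup.card_quotient_dvd_card _)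
  obtain ⟨hΓ, hΓq, -⟩ := Narrow.aut p hp hPbp hnar inferInstance hoddΓ
    (QuotientGroup.kerLift conj) hinj
  have hcomm : commutator X ≤ pCore p X := by
    apply Helper7.le_pCore inferInstance
    intro g
    have hmem : (QuotientGroup.mk' conj.ker) (g : X) ∈ commutator (X ⧸ conj.ker) := by
      have h1 : (commutator X).map (QuotientGroup.mk' conj.ker) ≤ commutator (X ⧸ conj.ker) := by
        rw [commutator_def, commutator_def, Subgroup.map_commutator]
        exact Subgroup.commutator_mono le_top le_top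
      exact h1 ⟨g, g.2, rfl⟩
    obtain ⟨k, hk⟩ := hΓ ⟨_, hmem⟩
    have hk' : (g : X) ^ p ^ k ∈ conj.ker := by
      have h2 := congrArg Subtype.val hk
      rw [← QuotientGroup.eq_one_iff]
      simpa using h2
    obtain ⟨k', hk''⟩ := hPbp ⟨_, hker hk'⟩
    refine ⟨k + k', ?_⟩
    apply Subtype.ext
    have h3 := congrArg Subtype.val hk''
    rw [pow_add, pow_mul]
    simpa using h3
  refine ⟨hcomm, ?_, ?_⟩
  · obtain ⟨S⟩ : Nonempty (Sylow p X) := inferInstance
    have hPS : pCore p X ≤ S := Helper23.PSolv.pCore_le_sylow S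
    have hSn : (S : Subgroup X).Normal := by
      constructor
      intro n hn g
      have h1 : g * n * g⁻¹ * n⁻¹ ∈ commutator X := by
        have := Subgroup.commutator_mem_commutator (Subgroup.mem_top g) (Subgroup.mem_top n)
        rwa [commutatorElement_def] at this
      have h2 : g * n * g⁻¹ = (g * n * g⁻¹ * n⁻¹) * n := by group
      rw [h2]
      exact (S : Subgroup X).mul_mem (hPS (hcomm h1)) hn
    have hSP : (S : Subgroup X) ≤ pCore p X := Helper7.le_pCore hSn S.2
    have heq : pCore p X = S := le_antisymm hPS hSP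
    rw [heq]
    exact ((Nat.Prime.coprime_iff_not_dvd hpp).mpr S.not_dvd_index).symm
  · intro q hq hqd
    by_cases hqp : q = p
    · exact hqp.le
    have hcard : Nat.card X = Nat.card (X ⧸ conj.ker) * Nat.card conj.ker :=
      Subgroup.card_eq_card_quotient_mul_card_subgroup conj.ker
    have hq1 : ¬ q ∣ Nat.card conj.ker := by
      intro h
      have h1 : Nat.card conj.ker ∣ Nat.card (pCore p X) := Subgroup.card_dvd_of_le hker
      obtain ⟨a, ha⟩ := hPbp.exists_card_eq
      rw [ha] at h1
      have h2 := hq.dvd_of_dvd_pow (h.trans h1)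
      exact hqp ((Nat.prime_dvd_prime_iff_eq hq hpp).mp h2)
    have hq2 : q ∣ Nat.card (X ⧸ conj.ker) := by
      rw [hcard] at hqd
      exact (hq.dvd_mul.mp hqd).resolve_right hq1
    exact hΓq q hq hq2

end Core

section Sylow

variable {G : Type u} [Group G] [Finite G]

/-- the `p`-rank of `G` is the `p`-rank of a Sylow `p`-subgroup -/
theorem pRankLE_of_sylow {p : ℕ} [Fact p.Prime] (k : ℕ) (S : Sylow p G)
    (h : PRankLE p k ↥(S : Subgroup G)) : PRankLE p k G := by
  intro A hAc hAe
  have hAp : IsPGroup p A := by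
    intro a
    refine ⟨1, ?_⟩
    rw [pow_one]
    apply Subtype.ext
    exact hAe a a.2
  obtain ⟨Q, hQ⟩ := hAp.exists_le_sylow
  obtain ⟨g, hg⟩ := MulAction.exists_smul_eq G Q S
  have hmem : ∀ a : A, g * (a : G) * g⁻¹ ∈ (S : Subgroup G) := by
    intro a
    rw [← hg]
    rw [Sylow.coe_subgroup_smul, Subgroup.mem_pointwise_smul_iff_inv_smul_mem]
    have : (MulAut.conj g)⁻¹ • (g * (a : G) * g⁻¹) = (a : G) := by
      rw [MulAut.smul_def, MulAut.conj_inv_apply]
      group
    rw [this]
    exact hQ a.2
  let f : ↥A →* ↥(S : Subgroup G) :=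
    { toFun := fun a => ⟨g * (a : G) * g⁻¹, hmem a⟩
      map_one' := by
        apply Subtype.ext
        simp
      map_mul' := by
        intro a b
        apply Subtype.ext
        show g * ((a : G) * (b : G)) * g⁻¹ = (g * (a : G) * g⁻¹) * (g * (b : G) * g⁻¹)
        group }
  have hf : Function.Injective f := by
    intro a b hab
    have h1 : g * (a : G) * g⁻¹ = g * (b : G) * g⁻¹ := congrArg Subtype.val hab
    apply Subtype.ext
    have h2 : (a : G) = g⁻¹ * (g * (a : G) * g⁻¹) * g := by group
    rw [h2, h1]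
    group
  have h1 := RankTwo.pRankLE_of_injective f hf h
  have h2 := h1 ⊤ (isMulCommutative_iff_of_setLike.mpr (fun a _ b _ => by
      apply Subtype.ext
      exact (isMulCommutative_iff_of_setLike.mp hAc) a a.2 b b.2))
    (fun a _ => by
      apply Subtype.ext
      exact hAe a a.2)
  rwa [Subgroup.card_top] at h2

end Sylow

section PLengthOne

variable {G : Type u} [Group G] [Finite G]

/-- If `G` has `p`-length one, `O_p(G / O_{p'}(G))` is isomorphic to a Sylow `p`-subgroup. -/
theorem isNarrow_pCore_quotient (p : ℕ) [Fact p.Prime] (S : Sylow p G)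
    (hS : IsNarrow p ↥(S : Subgroup G)) (hpl : PLengthLE p 1 G) :
    haveI := Helper7.pPrimeCore_normal' (G := G) p
    IsNarrow p ↥(pCore p (G ⧸ pPrimeCore p G)) := by
  haveI hKn : (pPrimeCore p G).Normal := Helper7.pPrimeCore_normal' (G := G) p
  have hpp : p.Prime := Fact.out
  have hKcop : (Nat.card (pPrimeCore p G)).Coprime p := Helper22.card_pPrimeCore_coprime p
  set f := QuotientGroup.mk' (pPrimeCore p G) with hf
  have hsurj : Function.Surjective f := QuotientGroup.mk'_surjective _
  set g : ↥(S : Subgroup G) →* G ⧸ pPrimeCore p G := f.comp (S : Subgroup G).subtype with hg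
  have hginj : Function.Injective g := by
    rw [injective_iff_map_eq_one]
    intro s hs
    have hsK : (s : G) ∈ pPrimeCore p G := by
      rw [← QuotientGroup.eq_one_iff]
      exact hs
    obtain ⟨a, ha⟩ := S.2 s
    have h1 : orderOf (s : G) ∣ p ^ a := by
      apply orderOf_dvd_of_pow_eq_one
      have := congrArg Subtype.val ha
      simpa using this
    have h2 : orderOf (s : G) ∣ Nat.card (pPrimeCore p G) := by
      have := orderOf_dvd_natCard (⟨(s : G), hsK⟩ : pPrimeCore p G)
      rwa [Subgroup.orderOf_mk] at this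
    have h3 : orderOf (s : G) = 1 :=
      Nat.Coprime.eq_one_of_dvd (Nat.Coprime.pow_right a
        (Nat.Coprime.coprime_dvd_left h2 hKcop)) h1
    exact Subtype.ext (orderOf_eq_one_iff.mp h3)
  have hle : pCore p (G ⧸ pPrimeCore p G) ≤ g.range := by
    have h1 := Helper23.PSolv.pCore_le_sylow (S.mapSurjective hsurj)
    intro x hx
    have h2 := h1 hx
    rw [Sylow.coe_mapSurjective] at h2
    obtain ⟨s, hs, rfl⟩ := h2
    exact ⟨⟨s, hs⟩, rfl⟩
  set e := MonoidHom.ofInjective hginj with he
  -- the quotient by `O_p` is a `p'`-group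
  have hX1 : PLengthLE p 1 (G ⧸ pPrimeCore p G) := Helper19.PLen.plengthLE_quotient _ hpl
  have hO : pPrimeCore p (G ⧸ pPrimeCore p G) = ⊥ :=
    Helper23.PSolv.pPrimeCore_quotient_pPrimeCore p
  haveI : (pCore p (G ⧸ pPrimeCore p G)).Characteristic := Helper7.pCore_characteristic p
  haveI hPn : (pCore p (G ⧸ pPrimeCore p G)).Normal := inferInstance
  have h0 : PLengthLE p 0 ((G ⧸ pPrimeCore p G) ⧸ pCore p (G ⧸ pPrimeCore p G)) :=
    Helper19.PLen.plengthLE_quotient_pCore hO hX1
  have hcop := Helper19.PLen.coprime_of_plengthLE_zero h0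
  have hcard : Nat.card (G ⧸ pPrimeCore p G) =
      Nat.card ((G ⧸ pPrimeCore p G) ⧸ pCore p (G ⧸ pPrimeCore p G)) *
        Nat.card (pCore p (G ⧸ pPrimeCore p G)) :=
    Subgroup.card_eq_card_quotient_mul_card_subgroup _
  have hrp : IsPGroup p g.range := by
    have h1 : IsPGroup p ↥(S : Subgroup G) := S.isPGroup'
    exact IsPGroup.of_equiv h1 e
  obtain ⟨a, ha⟩ := hrp.exists_card_eq
  have hdvd : p ^ a ∣ Nat.card (pCore p (G ⧸ pPrimeCore p G)) := by
    have h1 : Nat.card g.range ∣ Nat.card (G ⧸ pPrimeCore p G) := Subgroup.card_subgroup_dvd_card _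
    rw [ha, hcard] at h1
    exact (Nat.Coprime.pow_left a hcop.symm).dvd_of_dvd_mul_left h1
  have heq : pCore p (G ⧸ pPrimeCore p G) = g.range :=
    Subgroup.eq_of_le_of_card_ge hle (by rw [ha]; exact Nat.le_of_dvd Nat.card_pos hdvd)
  exact Narrow.isNarrow_of_mulEquiv (e.trans (MulEquiv.subgroupCongr heq.symm)) hS

end PLengthOne

end Cfsg.Agent.Helper8.NarrowSolv
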