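import Mathlib
import Cfsg.Agent.Lib.Helper8.PartThompson
import Cfsg.Agent.Lib.Helper1.Coprime

/-!
# Nilpotency of the kernel in the elementwise Frobenius set-up (helper8 library)
-/

set_option autoImplicit false

namespace Cfsg.Agent.Helper8.SecRep

variable {X : Type*} [Group X] [Finite X]

theorem normalizer_of_conj' {L Γ : Subgroup X} (h : ∀ x ∈ Γ, ∀ l ∈ L, x * l * x⁻¹ ∈ L) :
    Γ ≤ Subgroup.normalizer (L : Set X) := by
  intro g hg
  rw [Subgroup.mem_normalizer_iff]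
  intro x
  constructor
  · exact h g hg x
  · intro hx
    have := h g⁻¹ (Γ.inv_mem hg) _ hx
    have h2 : g⁻¹ * (g * x * g⁻¹) * g⁻¹⁻¹ = x := by group
    rwa [h2] at this

/-- in the coset `U e` of a fixed-point-free `e`, every element is a `U`-conjugate of `e` -/
theorem exists_conj_of_fpf (U : Subgroup X) (e : X)
    (hUn : ∀ u ∈ U, e * u * e⁻¹ ∈ U)
    (hfpf : ∀ u ∈ U, e * u = u * e → u = 1) (u₀ : X) (hu₀ : u₀ ∈ U) :
    ∃ y ∈ U, u₀ * e = y * e * y⁻¹ := by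
  let ψ : ↥U → ↥U := fun y => ⟨(y : X) * (e * (y : X)⁻¹ * e⁻¹),
    U.mul_mem y.2 (hUn _ (U.inv_mem y.2))⟩
  have hinj : Function.Injective ψ := by
    intro y y' hyy
    have h1 : (y : X) * (e * (y : X)⁻¹ * e⁻¹) = (y' : X) * (e * (y' : X)⁻¹ * e⁻¹) :=
      congrArg Subtype.val hyy
    have h2 : e * ((y' : X)⁻¹ * (y : X)) = ((y' : X)⁻¹ * (y : X)) * e := by
      have h3 : (y' : X)⁻¹ * ((y : X) * (e * (y : X)⁻¹ * e⁻¹)) * e * (y : X) =
          (y' : X)⁻¹ * ((y' : X) * (e * (y' : X)⁻¹ * e⁻¹)) * e * (y : X) := by rw [h1]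
      have h4 : (y' : X)⁻¹ * ((y : X) * (e * (y : X)⁻¹ * e⁻¹)) * e * (y : X) =
          ((y' : X)⁻¹ * (y : X)) * e := by group
      have h5 : (y' : X)⁻¹ * ((y' : X) * (e * (y' : X)⁻¹ * e⁻¹)) * e * (y : X) =
          e * ((y' : X)⁻¹ * (y : X)) := by group
      rw [h4, h5] at h3
      exact h3.symm
    have h6 := hfpf _ (U.mul_mem (U.inv_mem y'.2) y.2) h2
    apply Subtype.ext
    rw [inv_mul_eq_one] at h6
    exact h6.symm
  obtain ⟨y, hy⟩ := (Finite.injective_iff_surjective.mp hinj) ⟨u₀, hu₀⟩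
  refine ⟨(y : X), y.2, ?_⟩
  have h1 : (y : X) * (e * (y : X)⁻¹ * e⁻¹) = u₀ := congrArg Subtype.val hy
  rw [← h1]
  group

/-- the kernel of a Frobenius group (elementwise form) is nilpotent -/
theorem kernel_nilpotent (U E : Subgroup X) (hE1 : E ≠ ⊥) (hUE : U ⊓ E = ⊥)
    (hUn : ∀ e ∈ E, ∀ u ∈ U, e * u * e⁻¹ ∈ U)
    (hfpf : ∀ e ∈ E, e ≠ 1 → ∀ u ∈ U, e * u = u * e → u = 1) :
    Group.IsNilpotent ↥U := by
  have hEN : E ≤ Subgroup.normalizer (U : Set X) := normalizer_of_conj' hUn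
  have hΓN : U ⊔ E ≤ Subgroup.normalizer (U : Set X) := sup_le Subgroup.le_normalizer hEN
  apply PartFrob.frobenius_kernel_nilpotent U (U ⊔ E)
  · refine lt_of_le_of_ne le_sup_left ?_
    intro heq
    apply hE1
    have hEU : E ≤ U := by rw [heq]; exact le_sup_right
    rw [eq_bot_iff, ← hUE]
    exact le_inf hEU le_rfl
  · intro x hx h hh
    exact (Subgroup.mem_normalizer_iff.mp (hΓN hx) h).mp hh
  · intro h hh h1 x hx
    obtain ⟨hxΓ, hxC⟩ := Subgroup.mem_inf.mp hx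
    obtain ⟨u₀, hu₀, e, he, rfl⟩ := Helper1.exists_mul_of_mem_sup hEN hxΓ
    by_cases he1 : e = 1
    · rw [he1, mul_one]; exact hu₀
    · exfalso
      obtain ⟨y, hy, hye⟩ := exists_conj_of_fpf U e (hUn e he) (hfpf e he he1) u₀ hu₀
      rw [hye, Subgroup.mem_centralizer_iff] at hxC
      have h2 := hxC h (Set.mem_singleton h)
      have h3 : e * (y⁻¹ * h * y) = (y⁻¹ * h * y) * e := by
        calc e * (y⁻¹ * h * y) = y⁻¹ * ((y * e * y⁻¹) * h) * y := by group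
          _ = y⁻¹ * (h * (y * e * y⁻¹)) * y := by rw [← h2]
          _ = (y⁻¹ * h * y) * e := by group
      have h4 := hfpf e he he1 _ (U.mul_mem (U.mul_mem (U.inv_mem hy) hh) hy) h3
      apply h1
      have : h = y * (y⁻¹ * h * y) * y⁻¹ := by group
      rw [this, h4]
      group

end Cfsg.Agent.Helper8.SecRep
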