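import Mathlib
import Cfsg.Agent.Lib.Helper8.SecRep6

/-!
# Frobenius groups acting with cyclic centraliser of the complement (helper8 library)

`comm_centralizes`: if the Frobenius group `KR` (kernel `K` nilpotent) acts coprimely on the
solvable group `L` and `C_L(R)` is cyclic, then `[K, K]` centralises `L`.
-/

set_option autoImplicit false
set_option linter.unusedSectionVars false

namespace Cfsg.Agent.Helper8.SecRep

open Module TensorProduct Cfsg.Agent.Helper8.FrobLin

section Aux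

variable {X : Type*} [Group X] [Finite X]

/-- in a cyclic group, a subgroup containing all `ℓ`-th powers has index at most `ℓ` -/
theorem card_le_of_pow_mem (C D : Subgroup X) [IsCyclic ↥C] {ℓ : ℕ} (hℓ : 0 < ℓ)
    (hpow : ∀ c ∈ C, c ^ ℓ ∈ D) : Nat.card ↥C ≤ ℓ * Nat.card ↥D := by
  classical
  letI : Fintype ↥C := Fintype.ofFinite _
  letI : Fintype ↥D := Fintype.ofFinite _
  rw [Nat.card_eq_fintype_card, Nat.card_eq_fintype_card, ← Finset.card_univ,
    ← Finset.card_univ (α := ↥D)]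
  apply Finset.card_le_mul_card_image_of_maps_to
    (f := fun c : ↥C => (⟨(c : X) ^ ℓ, hpow c c.2⟩ : ↥D)) (fun _ _ => Finset.mem_univ _)
  intro b _
  by_cases hne : (Finset.univ.filter
      (fun a : ↥C => (⟨(a : X) ^ ℓ, hpow a a.2⟩ : ↥D) = b)).Nonempty
  · obtain ⟨a₀, ha₀⟩ := hne
    rw [Finset.mem_filter] at ha₀
    refine le_trans ?_ (IsCyclic.card_pow_eq_one_le (α := ↥C) hℓ)
    apply Finset.card_le_card_of_injOn (fun a => a * a₀⁻¹)
    · intro a ha
      rw [Finset.mem_coe, Finset.mem_filter] at ha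
      rw [Finset.mem_coe, Finset.mem_filter]
      refine ⟨Finset.mem_univ _, ?_⟩
      have hc : Commute a a₀⁻¹ := (IsCyclic.isMulCommutative (α := ↥C)).is_comm.comm a a₀⁻¹
      have h1 : (a : X) ^ ℓ = (a₀ : X) ^ ℓ := by
        have := ha.2.trans ha₀.2.symm
        exact congrArg Subtype.val this
      have h2 : a ^ ℓ = a₀ ^ ℓ := by
        apply Subtype.ext
        push_cast
        exact h1
      rw [hc.mul_pow, inv_pow, h2, mul_inv_cancel]
    · intro a _ a' _ h
      exact mul_right_cancel h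
  · rw [Finset.not_nonempty_iff_eq_empty] at hne
    rw [hne, Finset.card_empty]
    exact Nat.zero_le _

/-- an element of order prime to `|L₁|` centralising `L₁` and `L / L₁` centralises `L` -/
theorem central_of_stab_chain (c : X) (L L₁ : Subgroup X)
    (hc₁ : ∀ z ∈ L₁, c * z = z * c) (hc₂ : ∀ x ∈ L, c * x * c⁻¹ * x⁻¹ ∈ L₁)
    (hcop : (orderOf c).Coprime (Nat.card ↥L₁)) : ∀ x ∈ L, c * x = x * c := by
  intro x hx
  set z := c * x * c⁻¹ * x⁻¹ with hz
  have hzL : z ∈ L₁ := hc₂ x hx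
  have hcz : c * z = z * c := hc₁ z hzL
  have hpow : ∀ n : ℕ, c ^ n * x * (c ^ n)⁻¹ = z ^ n * x := by
    intro n
    induction n with
    | zero => simp
    | succ n ih =>
      have h1 : c ^ (n + 1) * x * (c ^ (n + 1))⁻¹ = c * (c ^ n * x * (c ^ n)⁻¹) * c⁻¹ := by
        rw [pow_succ']; group
      rw [h1, ih]
      have h2 : c * (z ^ n * x) * c⁻¹ = (c * z ^ n * c⁻¹) * (c * x * c⁻¹ * x⁻¹) * x := by group
      rw [h2, ← hz]
      have h3 : c * z ^ n * c⁻¹ = z ^ n := by
        have : Commute c (z ^ n) := (show Commute c z from hcz).pow_right n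
        rw [this.eq]; group
      rw [h3, pow_succ]
  have h1 := hpow (orderOf c)
  rw [pow_orderOf_eq_one, one_mul, inv_one, mul_one] at h1
  have h2 : z ^ orderOf c = 1 := by
    have : z ^ orderOf c * x = 1 * x := by rw [one_mul]; exact h1.symm
    exact mul_right_cancel this
  have h3 : orderOf z ∣ orderOf c := orderOf_dvd_of_pow_eq_one h2
  have h4 : orderOf z ∣ Nat.card ↥L₁ := Subgroup.orderOf_dvd_natCard L₁ hzL
  have h5 : orderOf z = 1 := Nat.eq_one_of_dvd_coprimes hcop h3 h4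
  rw [orderOf_eq_one_iff] at h5
  have h6 : c * x = (c * x * c⁻¹ * x⁻¹) * x * c := by group
  rw [h6, ← hz, h5, one_mul]

end Aux

section Main

variable {X : Type*} [Group X] [Finite X]

/-- **Cyclic centraliser of the complement forces `[K,K]` to act trivially.** -/
theorem comm_centralizes (K R : Subgroup X)
    (hUn : ∀ e ∈ R, ∀ u ∈ K, e * u * e⁻¹ ∈ K)
    (hfpf : ∀ e ∈ R, e ≠ 1 → ∀ u ∈ K, e * u = u * e → u = 1)
    (hnil : Group.IsNilpotent ↥K) :
    ∀ (n : ℕ) (L : Subgroup X), Nat.card ↥L = n → Group.IsSolvable ↥L →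
      K ⊔ R ≤ Subgroup.normalizer (L : Set X) →
      (Nat.card ↥L).Coprime (Nat.card ↥(K ⊔ R)) →
      IsCyclic ↥(L ⊓ Subgroup.centralizer (R : Set X)) →
      ∀ a ∈ K, ∀ b ∈ K, ∀ x ∈ L, (a * b * a⁻¹ * b⁻¹) * x = x * (a * b * a⁻¹ * b⁻¹) := by
  intro n
  induction n using Nat.strong_induction_on with
  | _ n ih =>
    intro L hLn hsolv hΓL hcop hcyc a ha b hb
    by_cases hL : L = ⊥
    · intro x hx
      rw [hL, Subgroup.mem_bot] at hx
      rw [hx, mul_one, one_mul]
    · obtain ⟨ℓ, L₁, hℓp, hℓL, hsec, hlt, hNN⟩ := exists_sec L hL hsolv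
      haveI : Fact ℓ.Prime := ⟨hℓp⟩
      have hcardlt : Nat.card ↥L₁ < n := by
        rw [← hLn]
        have h1 := Subgroup.card_le_of_le hlt.le
        rcases eq_or_lt_of_le h1 with h2 | h2
        · exact absurd (Subgroup.eq_of_le_of_card_ge hlt.le h2.ge) hlt.ne
        · exact h2
      have hsolv₁ : Group.IsSolvable ↥L₁ :=
        solvable_of_solvable_injective (Subgroup.inclusion_injective hlt.le)
      have hΓL₁ : K ⊔ R ≤ Subgroup.normalizer (L₁ : Set X) := hΓL.trans hNN
      have hdvd₁ : Nat.card ↥L₁ ∣ Nat.card ↥L := Subgroup.card_dvd_of_le hlt.le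
      have hcop₁ : (Nat.card ↥L₁).Coprime (Nat.card ↥(K ⊔ R)) :=
        Nat.Coprime.coprime_dvd_left hdvd₁ hcop
      haveI := hcyc
      have hcyc₁ : IsCyclic ↥(L₁ ⊓ Subgroup.centralizer (R : Set X)) :=
        Subgroup.isCyclic_of_le (inf_le_inf_right _ hlt.le)
      have ih₁ := ih _ hcardlt L₁ rfl hsolv₁ hΓL₁ hcop₁ hcyc₁ a ha b hb
      -- the section
      have hKnn : K ≤ nn L L₁ := fun g hg =>
        mem_nn.mpr ⟨hΓL (le_sup_left (a := K) hg), hΓL₁ (le_sup_left (a := K) hg)⟩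
      have hRnn : R ≤ nn L L₁ := fun g hg =>
        mem_nn.mpr ⟨hΓL (le_sup_right (b := R) hg), hΓL₁ (le_sup_right (b := R) hg)⟩
      have hℓΓ : ¬ ℓ ∣ Nat.card ↥(K ⊔ R) := by
        intro hd
        have := Nat.dvd_gcd hℓL hd
        rw [hcop] at this
        exact hℓp.one_lt.ne' (Nat.dvd_one.mp this)
      have hcopR : (Nat.card ↥R).Coprime (Nat.card ↥L₁) :=
        (Nat.Coprime.coprime_dvd_right (Subgroup.card_dvd_of_le le_sup_right) hcop₁).symm
      have hcard := card_fixed_section hsec R hRnn hcopR (Or.inr hsolv₁)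
      have hle := card_le_of_pow_mem (L ⊓ Subgroup.centralizer (R : Set X))
        (L₁ ⊓ Subgroup.centralizer (R : Set X)) hℓp.pos (by
          intro c hc
          obtain ⟨hcL, hcC⟩ := Subgroup.mem_inf.mp hc
          exact Subgroup.mem_inf.mpr ⟨hsec.pow c hcL, Subgroup.pow_mem _ hcC _⟩)
      have hfixE : nfix hsec R ≤ ℓ := by
        unfold nfix
        rw [← hcard] at hle
        exact Nat.le_of_mul_le_mul_right hle Nat.card_pos
      have key := sec_comm hsec K R hKnn hRnn hUn hfpf hnil hℓΓ hfixE a ha b hb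
      have hcK : a * b * a⁻¹ * b⁻¹ ∈ K :=
        K.mul_mem (K.mul_mem (K.mul_mem ha hb) (K.inv_mem ha)) (K.inv_mem hb)
      have hord : (orderOf (a * b * a⁻¹ * b⁻¹)).Coprime (Nat.card ↥L₁) := by
        have h1 : orderOf (a * b * a⁻¹ * b⁻¹) ∣ Nat.card ↥(K ⊔ R) :=
          (Subgroup.orderOf_dvd_natCard K hcK).trans (Subgroup.card_dvd_of_le le_sup_left)
        exact (Nat.Coprime.coprime_dvd_right h1 hcop₁).symm
      exact central_of_stab_chain _ L L₁ ih₁ key hord

end Main

end Cfsg.Agent.Helper8.SecRep
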