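import Mathlib
import Cfsg.Prelude.Def_OddOrderLocal
import Cfsg.Agent.S0120
import Cfsg.Agent.S0126
import Cfsg.Agent.S0128
import Cfsg.Agent.S3771
import Cfsg.Agent.Lib.Helper7.Cores
import Cfsg.Agent.Lib.Helper19.PGroupBasic
import Cfsg.Agent.Lib.Helper22.MetacyclicCrit
import Cfsg.Agent.Lib.Helper8.Narrow
import Cfsg.Agent.Lib.Helper8.RankTwoAut

/-!
# Automorphisms of prime order `q ∤ p (p - 1)` of `p`-groups of rank at most two
(helper8's shared library)

Let `R` be a `p`-group, `p > 3`, of `p`-rank at most two, and `α` a nontrivial automorphism of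
`R` with `α ^ q = 1` where the prime `q` does not divide `p (p - 1)`.

* `mulAut_eq_one_of_isCyclic` : such an automorphism of a cyclic `p`-group is trivial;
* `inv_mul_mem_of_isCyclic`, `fix_of_isCyclic`, `inv_mul_mem_of_card` : `α` acts trivially on
  cyclic characteristic sections;
* `fix_of_stable` : a `p'`-automorphism stabilising a chain is trivial;
* `comm_of_card_sq` : if `|Ω₁(R)| = p ^ 2` then `R` is abelian;
* `card_eq_cube_of_card_cube` : if `|Ω₁(R)| = p ^ 3` and `R = [R, α]` then `|R| = p ^ 3`;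
* `card_eq_cube` : if `R` is nonabelian and `R = [R, α]` then `|R| = p ^ 3`.
-/

set_option autoImplicit false
set_option linter.style.haveILetI false

namespace Cfsg.Agent.Helper8.NarrowPrime

open Cfsg
open scoped commutatorElement Pointwise

universe u

section Sections

variable {R : Type u} [Group R] [Finite R] {p q : ℕ} [Fact p.Prime]

omit [Finite R] in
/-- An automorphism of a cyclic `p`-group whose `q`-th power is trivial is trivial, if the prime
`q` does not divide `p (p - 1)`. -/
theorem mulAut_eq_one_of_isCyclic {Q : Type*} [Group Q] [Finite Q] [IsCyclic Q]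
    (hQ : IsPGroup p Q) (hq : q.Prime) (hqp : ¬ q ∣ p * (p - 1)) (f : MulAut Q)
    (hf : f ^ q = 1) : f = 1 := by
  have hpp : p.Prime := Fact.out
  obtain ⟨k, hk⟩ := IsPGroup.iff_card.mp hQ
  haveI : NeZero (Nat.card Q) := ⟨Nat.card_pos.ne'⟩
  have h1 : Nat.card (MulAut Q) = Nat.totient (p ^ k) := by
    rw [Nat.card_congr (IsCyclic.mulAutMulEquiv Q).toEquiv, Nat.card_eq_fintype_card,
      ZMod.card_units_eq_totient, hk]
  have h2 : orderOf f ∣ q := orderOf_dvd_of_pow_eq_one hf
  have h3 : orderOf f ∣ Nat.totient (p ^ k) := h1 ▸ orderOf_dvd_natCard f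
  rcases (Nat.dvd_prime hq).mp h2 with h | h
  · exact orderOf_eq_one_iff.mp h
  · exfalso
    rw [h] at h3
    rcases Nat.eq_zero_or_pos k with hk0 | hk0
    · rw [hk0, pow_zero, Nat.totient_one, Nat.dvd_one] at h3
      exact hq.one_lt.ne' h3
    · rw [Nat.totient_prime_pow hpp hk0] at h3
      rcases (hq.dvd_mul).mp h3 with h4 | h4
      · exact hqp (Dvd.dvd.mul_right (hq.dvd_of_dvd_pow h4) _)
      · exact hqp (Dvd.dvd.mul_left h4 _)

/-- `α` acts trivially on a cyclic characteristic section `H / (H ∩ K)`. -/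
theorem inv_mul_mem_of_isCyclic (hR : IsPGroup p R) (hq : q.Prime) (hqp : ¬ q ∣ p * (p - 1))
    (α : MulAut R) (hα : α ^ q = 1) (H K : Subgroup R) [H.Characteristic] [hK : K.Characteristic]
    (hcyc : IsCyclic (↥H ⧸ K.subgroupOf H)) : ∀ x ∈ H, x⁻¹ * α x ∈ K := by
  have hinv : ∀ g : MulAut R, ∀ n ∈ K.subgroupOf H,
      (MulAut.characteristic H) g n ∈ K.subgroupOf H := by
    intro g n hn
    rw [Subgroup.mem_subgroupOf] at hn ⊢
    have h1 := (Subgroup.characteristic_iff_map_le.mp hK) g
    exact h1 ⟨(n : R), hn, rfl⟩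
  set Ψ := Narrow.quotAction (MulAut.characteristic H) (K.subgroupOf H) hinv with hΨ
  have hQ : IsPGroup p (↥H ⧸ K.subgroupOf H) := (hR.to_subgroup H).to_quotient _
  have h1 : Ψ α = 1 := by
    apply mulAut_eq_one_of_isCyclic hQ hq hqp
    rw [← map_pow, hα, map_one]
  have h2 : α ∈ Ψ.ker := MonoidHom.mem_ker.mpr h1
  rw [hΨ, Narrow.mem_ker_quotAction] at h2
  intro x hx
  have h3 := h2 ⟨x, hx⟩
  rw [Subgroup.mem_subgroupOf] at h3
  exact h3

/-- `α` fixes every cyclic characteristic subgroup elementwise. -/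
theorem fix_of_isCyclic (hR : IsPGroup p R) (hq : q.Prime) (hqp : ¬ q ∣ p * (p - 1))
    (α : MulAut R) (hα : α ^ q = 1) (H : Subgroup R) [H.Characteristic] (hcyc : IsCyclic ↥H) :
    ∀ x ∈ H, α x = x := by
  have h1 : MulAut.characteristic H α = 1 := by
    apply mulAut_eq_one_of_isCyclic (hR.to_subgroup H) hq hqp
    rw [← map_pow, hα, map_one]
  intro x hx
  have h2 := DFunLike.congr_fun h1 ⟨x, hx⟩
  exact congrArg Subtype.val h2

/-- `α` acts trivially on a characteristic section of order `p`. -/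
theorem inv_mul_mem_of_card (hR : IsPGroup p R) (hq : q.Prime) (hqp : ¬ q ∣ p * (p - 1))
    (α : MulAut R) (hα : α ^ q = 1) (H K : Subgroup R) [H.Characteristic] [hK : K.Characteristic]
    (hKH : K ≤ H) (hc : Nat.card H = p * Nat.card K) : ∀ x ∈ H, x⁻¹ * α x ∈ K := by
  have hpp : p.Prime := Fact.out
  apply inv_mul_mem_of_isCyclic hR hq hqp α hα H K
  have h1 : Nat.card H = Nat.card (↥H ⧸ K.subgroupOf H) * Nat.card (K.subgroupOf H) :=
    Subgroup.card_eq_card_quotient_mul_card_subgroup _
  rw [Helper7.card_subgroupOf_of_le hKH, hc] at h1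
  have h2 : Nat.card (↥H ⧸ K.subgroupOf H) = p :=
    (Nat.eq_of_mul_eq_mul_right Nat.card_pos h1).symm
  exact isCyclic_of_prime_card h2

omit [Finite R] in
/-- A `p'`-automorphism acting trivially on `K` and on `H` modulo `K` acts trivially on `H`. -/
theorem fix_of_stable (hR : IsPGroup p R) (hq : q.Prime) (hqp : q ≠ p)
    (α : MulAut R) (hα : α ^ q = 1) (H K : Subgroup R) (hK : ∀ x ∈ K, α x = x)
    (hH : ∀ x ∈ H, x⁻¹ * α x ∈ K) : ∀ x ∈ H, α x = x := by
  have hpp : p.Prime := Fact.out
  intro w hw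
  set m := w⁻¹ * α w with hm
  have hmK : m ∈ K := hH w hw
  have hαm : α m = m := hK m hmK
  have hαw : α w = w * m := by rw [hm]; group
  have hpow : ∀ k : ℕ, (α ^ k) w = w * m ^ k := by
    intro k
    induction k with
    | zero => simp
    | succ k ihk =>
      rw [pow_succ', MulAut.mul_apply, ihk, map_mul, map_pow, hαm, hαw, pow_succ']
      group
  have h1 := hpow q
  rw [hα, MulAut.one_apply] at h1
  have h2 : m ^ q = 1 := by
    have : w * m ^ q = w * 1 := by rw [mul_one]; exact h1.symm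
    exact mul_left_cancel this
  obtain ⟨j, hj⟩ := hR m
  have hcop : Nat.Coprime q (p ^ j) :=
    Nat.Coprime.pow_right j ((Nat.coprime_primes hq hpp).mpr hqp)
  have h4 : orderOf m ∣ Nat.gcd q (p ^ j) :=
    Nat.dvd_gcd (orderOf_dvd_of_pow_eq_one h2) (orderOf_dvd_of_pow_eq_one hj)
  rw [hcop.gcd_eq_one, Nat.dvd_one, orderOf_eq_one_iff] at h4
  rw [hαw, h4, mul_one]

end Sections

section CaseSq

variable {R : Type u} [Group R] [Finite R] {p q : ℕ} [Fact p.Prime]

/-- a nontrivial `p`-group has an element of order `p` -/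
theorem exists_orderOf_eq (D : Subgroup R) (hD : IsPGroup p D) (hne : D ≠ ⊥) :
    ∃ d ∈ D, orderOf d = p := by
  have hpp : p.Prime := Fact.out
  obtain ⟨k, hk⟩ := IsPGroup.iff_card.mp hD
  have hk0 : k ≠ 0 := by
    rintro rfl
    rw [pow_zero] at hk
    exact hne (Subgroup.card_eq_one.mp hk)
  have hdvd : p ∣ Nat.card D := by
    rw [hk]
    exact dvd_pow_self p hk0
  obtain ⟨x, hx⟩ := exists_prime_orderOf_dvd_card' p hdvd
  refine ⟨(x : R), x.2, ?_⟩
  rw [← hx, Subgroup.orderOf_coe]

/-- **The case `|Ω₁(R)| = p ^ 2`.**  The group `R` is abelian. -/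
theorem comm_of_card_sq (hp3 : 3 < p) (hR : IsPGroup p R) (hq : q.Prime)
    (hqp : ¬ q ∣ p * (p - 1)) (α : MulAut R) (hα : α ^ q = 1) (hα1 : α ≠ 1)
    (N : Subgroup R) [hNc : N.Characteristic] (hNexp : ∀ x ∈ N, x ^ p = 1)
    (hNall : ∀ x : R, x ^ p = 1 → x ∈ N) (hNcard : Nat.card N = p ^ 2) :
    ∀ x y : R, x * y = y * x := by
  have hpp : p.Prime := Fact.out
  have hp2 : p ≠ 2 := by omega
  have hqne : q ≠ p := by
    rintro rfl
    exact hqp (Dvd.intro _ rfl)
  have hS : Helper22.SmallOmega p R := by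
    intro K hK
    have hKN : K ≤ N := fun x hx => hNall x (hK x hx)
    exact (Subgroup.card_le_of_le hKN).trans hNcard.le
  obtain ⟨C, hCn, hCc, hQc⟩ := Helper22.isMetacyclic_of_smallOmega hp3 hR hS
  haveI := hCn
  haveI := hCc
  have hDC : commutator R ≤ C := by
    letI : CommGroup (R ⧸ C) := hQc.commGroup
    have h1 := Abelianization.commutator_subset_ker (QuotientGroup.mk' C)
    rwa [QuotientGroup.ker_mk'] at h1
  by_contra hcon
  have hcon' : ∃ x y : R, x * y ≠ y * x := by
    by_contra h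
    apply hcon
    intro x y
    by_contra hxy
    exact h ⟨x, y, hxy⟩
  obtain ⟨x₀, y₀, hxy⟩ := hcon'
  set D : Subgroup R := commutator R with hD
  haveI hDchar : D.Characteristic := by
    rw [hD, commutator_def]
    infer_instance
  have hDne : D ≠ ⊥ := by
    intro h
    have h1 : ⁅x₀, y₀⁆ ∈ D := by
      rw [hD, commutator_def]
      exact Subgroup.commutator_mem_commutator (Subgroup.mem_top _) (Subgroup.mem_top _)
    rw [h, Subgroup.mem_bot, commutatorElement_eq_one_iff_mul_comm] at h1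
    exact hxy h1
  set L : Subgroup R := D ⊓ N with hL
  haveI hLchar : L.Characteristic := by
    rw [hL]
    infer_instance
  have hLcyc : IsCyclic ↥L := Subgroup.isCyclic_of_le (inf_le_left.trans hDC)
  obtain ⟨d, hdD, hdo⟩ := exists_orderOf_eq D (hR.to_subgroup D) hDne
  have hdL : d ∈ L := by
    refine Subgroup.mem_inf.mpr ⟨hdD, hNall d ?_⟩
    rw [← hdo]
    exact pow_orderOf_eq_one d
  have hLcard : Nat.card L = p := by
    apply le_antisymm
    · classical
      haveI := hLcyc
      letI : Fintype ↥L := Fintype.ofFinite _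
      have h1 := IsCyclic.card_pow_eq_one_le (α := ↥L) (n := p) hpp.pos
      have h2 : (Finset.univ.filter fun a : ↥L => a ^ p = 1) = Finset.univ := by
        apply Finset.filter_true_of_mem
        intro a _
        apply Subtype.ext
        have := hNexp (a : R) a.2.2
        simpa using this
      rw [h2, Finset.card_univ, ← Nat.card_eq_fintype_card] at h1
      exact h1
    · have h1 : orderOf (⟨d, hdL⟩ : ↥L) ∣ Nat.card L := orderOf_dvd_natCard _
      rw [Subgroup.orderOf_mk, hdo] at h1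
      exact Nat.le_of_dvd Nat.card_pos h1
  have hfixL : ∀ x ∈ L, α x = x := fix_of_isCyclic hR hq hqp α hα L hLcyc
  have hNL : ∀ x ∈ N, x⁻¹ * α x ∈ L := by
    apply inv_mul_mem_of_card hR hq hqp α hα N L inf_le_right
    rw [hNcard, hLcard, pow_two]
  have hfixN : ∀ x ∈ N, α x = x := fix_of_stable hR hq hqne α hα N L hfixL hNL
  apply hα1
  apply Cfsg.Agent.S0120.result hp2 hR α
  · have h1 : orderOf α ∣ q := orderOf_dvd_of_pow_eq_one hα
    exact Nat.Coprime.coprime_dvd_left h1 ((Nat.coprime_primes hq hpp).mpr hqne)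
  · intro x hx
    exact hfixN x (hNall x hx)

end CaseSq

section CaseCube

variable {R : Type u} [Group R] [Finite R] {p q : ℕ} [Fact p.Prime]

/-- **The case `|Ω₁(R)| = p ^ 3`.**  If `R = [R, α]` then `R = Ω₁(R)`. -/
theorem card_eq_cube_of_card_cube (hp2 : p ≠ 2) (hR : IsPGroup p R) (hq : q.Prime)
    (hqp : ¬ q ∣ p * (p - 1)) (α : MulAut R) (hα : α ^ q = 1) (hα1 : α ≠ 1)
    (hcomm : ∀ K : Subgroup R, K.Normal → (∀ x, x⁻¹ * α x ∈ K) → K = ⊤)
    (N : Subgroup R) [hNc : N.Characteristic] (hNall : ∀ x : R, x ^ p = 1 → x ∈ N)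
    (hNcard : Nat.card N = p ^ 3) (hNnab : ∃ x ∈ N, ∃ y ∈ N, x * y ≠ y * x) :
    Nat.card R = p ^ 3 := by
  have hpp : p.Prime := Fact.out
  have hqne : q ≠ p := by
    rintro rfl
    exact hqp (Dvd.intro _ rfl)
  have hcop : (orderOf α).Coprime p :=
    Nat.Coprime.coprime_dvd_left (orderOf_dvd_of_pow_eq_one hα)
      ((Nat.coprime_primes hq hpp).mpr hqne)
  obtain ⟨e₁, he₁, e₂, he₂, hne⟩ := hNnab
  haveI hNn : N.Normal := inferInstance
  -- `N` is generated by `e₁, e₂`
  have hgen : Subgroup.closure {e₁, e₂} = N := by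
    set M₀ := Subgroup.closure ({e₁, e₂} : Set R) with hM₀
    have hle : M₀ ≤ N := by
      rw [hM₀, Subgroup.closure_le]
      rintro x (rfl | hx)
      · exact he₁
      · rw [Set.mem_singleton_iff] at hx
        subst hx
        exact he₂
    apply Subgroup.eq_of_le_of_card_ge hle
    obtain ⟨k, hk⟩ := IsPGroup.iff_card.mp (hR.to_subgroup M₀)
    by_contra hlt
    rw [not_le, hNcard, hk] at hlt
    have hk2 : k ≤ 2 := by
      have := (Nat.pow_lt_pow_iff_right hpp.one_lt).mp hlt
      omega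
    have hc : Nat.card M₀ ≤ p ^ 2 := by
      rw [hk]
      exact Nat.pow_le_pow_right hpp.pos hk2
    have h1 := Helper22.mul_comm_of_card_le_sq (hR.to_subgroup M₀) hc
      ⟨e₁, Subgroup.subset_closure (Set.mem_insert _ _)⟩
      ⟨e₂, Subgroup.subset_closure (Set.mem_insert_of_mem _ rfl)⟩
    exact hne (congrArg Subtype.val h1)
  set X : Subgroup R := Subgroup.centralizer (N : Set R) with hX
  haveI hXchar : X.Characteristic := by
    rw [hX]
    infer_instance
  set Z : Subgroup R := N ⊓ X with hZ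
  haveI hZchar : Z.Characteristic := by
    rw [hZ]
    infer_instance
  have hZne : Z ≠ ⊥ := by
    have hNne : N ≠ ⊥ := by
      intro h
      rw [h, Subgroup.mem_bot] at he₁ he₂
      apply hne
      rw [he₁, he₂]
    have h1 := Helper19.normal_inf_center_ne_bot hR N hNne
    intro h
    apply h1
    rw [eq_bot_iff, ← h]
    exact inf_le_inf_left N (Subgroup.center_le_centralizer _)
  have he₁Z : e₁ ∉ Z := by
    intro h
    have h1 := Subgroup.mem_centralizer_iff.mp h.2 e₂ he₂
    exact hne h1.symm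
  have hZcard : Nat.card Z = p := by
    obtain ⟨k, hk⟩ := IsPGroup.iff_card.mp (hR.to_subgroup Z)
    have hk0 : k ≠ 0 := by
      rintro rfl
      rw [pow_zero] at hk
      exact hZne (Subgroup.card_eq_one.mp hk)
    have hk2 : k < 2 := by
      by_contra hge
      rw [not_lt] at hge
      set Y := Z ⊔ Subgroup.zpowers e₁ with hY
      have hYN : Y ≤ N := sup_le inf_le_left (Subgroup.zpowers_le.mpr he₁)
      have hZY : Z < Y := by
        refine lt_of_le_of_ne le_sup_left ?_
        intro h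
        apply he₁Z
        rw [h]
        exact Subgroup.mem_sup_right (Subgroup.mem_zpowers e₁)
      have h1 := Helper19.mul_card_le_of_lt hR hZY
      have h2 : Nat.card N ≤ Nat.card Y := by
        rw [hNcard]
        calc p ^ 3 = p * p ^ 2 := by ring
          _ ≤ p * p ^ k := Nat.mul_le_mul_left _ (Nat.pow_le_pow_right hpp.pos hge)
          _ = p * Nat.card Z := by rw [hk]
          _ ≤ Nat.card Y := h1
      have hYeq : Y = N := Subgroup.eq_of_le_of_card_ge hYN h2
      have hYc : Y ≤ Subgroup.centralizer ({e₁} : Set R) := by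
        apply sup_le
        · intro z hz
          rw [Subgroup.mem_centralizer_iff]
          intro d hd
          rw [Set.mem_singleton_iff] at hd
          subst hd
          exact Subgroup.mem_centralizer_iff.mp hz.2 d he₁
        · rw [Subgroup.zpowers_le, Subgroup.mem_centralizer_iff]
          intro d hd
          rw [Set.mem_singleton_iff] at hd
          subst hd
          rfl
      have h3 : e₂ ∈ Y := by
        rw [hYeq]
        exact he₂
      have h4 := Subgroup.mem_centralizer_iff.mp (hYc h3) e₁ rfl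
      exact hne h4
    have hk1 : k = 1 := by omega
    rw [hk, hk1, pow_one]
  have hZcen : Z ≤ Subgroup.center R := Helper19.normal_card_prime_le_center hR Z hZcard
  -- `α` moves some element of `N`
  have hαN : ∃ x ∈ N, α x ≠ x := by
    by_contra h
    apply hα1
    apply Cfsg.Agent.S0120.result hp2 hR α hcop
    intro x hx
    by_contra hx'
    exact h ⟨x, hNall x hx, hx'⟩
  have hfixZ : ∀ x ∈ Z, α x = x :=
    fix_of_isCyclic hR hq hqp α hα Z (isCyclic_of_prime_card hZcard)
  have hirr : ∀ Y : Subgroup R, Y.Characteristic → Z ≤ Y → Y ≤ N → Nat.card Y ≠ p ^ 2 := by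
    intro Y hYc hZY hYN hYcard
    haveI := hYc
    have h1 : ∀ x ∈ Y, x⁻¹ * α x ∈ Z :=
      inv_mul_mem_of_card hR hq hqp α hα Y Z hZY (by rw [hYcard, hZcard, pow_two])
    have h2 : ∀ x ∈ Y, α x = x := fix_of_stable hR hq hqne α hα Y Z hfixZ h1
    have h3 : ∀ x ∈ N, x⁻¹ * α x ∈ Y :=
      inv_mul_mem_of_card hR hq hqp α hα N Y hYN (by rw [hNcard, hYcard]; ring)
    have h4 := fix_of_stable hR hq hqne α hα N Y h2 h3
    obtain ⟨x, hx, hx'⟩ := hαN
    exact hx' (h4 x hx)
  -- `[N, R] ≤ Z`
  have hNR : ∀ x ∈ N, ∀ r : R, ⁅x, r⁆ ∈ Z := by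
    have hex : ∃ i, Z ⊔ Narrow.chain N i = N := by
      obtain ⟨n, hn⟩ := Narrow.exists_chain_eq hR N
      exact ⟨n, by rw [hn]; exact sup_eq_right.mpr inf_le_left⟩
    classical
    set i := Nat.find hex with hi
    have hi1 : Z ⊔ Narrow.chain N i = N := Nat.find_spec hex
    have hi0 : i ≠ 0 := by
      intro h0
      rw [h0, Narrow.chain_zero, sup_bot_eq] at hi1
      apply he₁Z
      rw [hi1]
      exact he₁
    obtain ⟨j, hj⟩ := Nat.exists_eq_succ_of_ne_zero hi0
    have hjlt : ¬ (Z ⊔ Narrow.chain N j = N) :=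
      Nat.find_min hex (by rw [← hi, hj]; exact Nat.lt_succ_self j)
    set Y := Z ⊔ Narrow.chain N j with hY
    haveI : Y.Characteristic := by
      rw [hY]
      infer_instance
    have hYN : Y ≤ N := sup_le inf_le_left (Narrow.chain_le N j)
    have hYZ : Y = Z := by
      obtain ⟨k, hk⟩ := IsPGroup.iff_card.mp (hR.to_subgroup Y)
      have h1 : Nat.card Z ≤ Nat.card Y := Subgroup.card_le_of_le le_sup_left
      have h2 : Nat.card Y ≤ Nat.card N := Subgroup.card_le_of_le hYN
      have h3 : Nat.card Y ≠ Nat.card N := fun h =>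
        hjlt (Subgroup.eq_of_le_of_card_ge hYN h.ge)
      have h4 : Nat.card Y ≠ p ^ 2 := hirr Y inferInstance le_sup_left hYN
      rw [hk] at h1 h2 h3 h4
      rw [hZcard] at h1
      rw [hNcard] at h2 h3
      have hk1 : 1 ≤ k := by
        by_contra h
        have h0 : k = 0 := by omega
        rw [h0, pow_zero] at h1
        have := hpp.two_le
        omega
      have hk3 : k ≤ 3 := (Nat.pow_le_pow_iff_right hpp.one_lt).mp h2
      have hk' : k = 1 := by
        rcases (by omega : k = 1 ∨ k = 2 ∨ k = 3) with h | h | h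
        · exact h
        · exact absurd (by rw [h]) h4
        · exact absurd (by rw [h]) h3
      symm
      apply Subgroup.eq_of_le_of_card_ge le_sup_left
      rw [hk, hk', pow_one, hZcard]
    have hjZ : Narrow.chain N j ≤ Z := by
      rw [← hYZ]
      exact le_sup_right
    intro x hx r
    rw [← hi1, hj] at hx
    have hx' : x ∈ (Z : Set R) * (Narrow.chain N (j + 1) : Set R) := by
      rw [← Subgroup.normal_mul Z (Narrow.chain N (j + 1))]
      exact hx
    obtain ⟨z, hz, w, hw, rfl⟩ := Set.mem_mul.mp hx'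
    have hzc := Subgroup.mem_center_iff.mp (hZcen hz)
    have h1 : ⁅z * w, r⁆ = ⁅w, r⁆ := by
      rw [commutatorElement_def, commutatorElement_def]
      calc z * w * r * (z * w)⁻¹ * r⁻¹ = z * (w * r * w⁻¹) * z⁻¹ * r⁻¹ := by group
        _ = (w * r * w⁻¹) * z * z⁻¹ * r⁻¹ := by rw [hzc (w * r * w⁻¹)]
        _ = w * r * w⁻¹ * r⁻¹ := by group
    rw [h1]
    apply hjZ
    refine Subgroup.mem_inf.mpr ⟨?_, ?_⟩
    · rw [commutatorElement_def]
      have hwN : w ∈ N := (Narrow.chain_le N (j + 1)) hw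
      have : w * r * w⁻¹ * r⁻¹ = w * (r * w⁻¹ * r⁻¹) := by group
      rw [this]
      exact N.mul_mem hwN (hNn.conj_mem _ (N.inv_mem hwN) _)
    · exact (Subgroup.mem_upperCentralSeries_succ_iff.mp hw.2) r
  -- the centralizer of `N` has index at most `p ^ 2`
  have hXmem : ∀ u : R, e₁ * u = u * e₁ → e₂ * u = u * e₂ → u ∈ X := by
    intro u h1 h2
    have hcl : Subgroup.closure {e₁, e₂} ≤ Subgroup.centralizer ({u} : Set R) := by
      rw [Subgroup.closure_le]
      rintro x (rfl | hx)
      · rw [SetLike.mem_coe, Subgroup.mem_centralizer_iff]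
        intro d hd
        rw [Set.mem_singleton_iff] at hd
        subst hd
        exact h1.symm
      · rw [Set.mem_singleton_iff] at hx
        subst hx
        rw [SetLike.mem_coe, Subgroup.mem_centralizer_iff]
        intro d hd
        rw [Set.mem_singleton_iff] at hd
        subst hd
        exact h2.symm
    rw [hX, Subgroup.mem_centralizer_iff]
    intro n hn
    rw [← hgen] at hn
    exact (Subgroup.mem_centralizer_iff.mp (hcl hn) u rfl).symm
  have hcard1 : Nat.card R ≤ Nat.card X * (p * p) := by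
    have h1 := Narrow.card_le_mul_of_commutator (⊤ : Subgroup R) Z e₁
      (fun u _ => hNR e₁ he₁ u) (fun u _ z hz => Subgroup.mem_center_iff.mp (hZcen hz) u)
    have h2 := Narrow.card_le_mul_of_commutator
      ((⊤ : Subgroup R) ⊓ Subgroup.centralizer ({e₁} : Set R)) Z e₂
      (fun u _ => hNR e₂ he₂ u) (fun u _ z hz => Subgroup.mem_center_iff.mp (hZcen hz) u)
    have h3 : ((⊤ : Subgroup R) ⊓ Subgroup.centralizer ({e₁} : Set R)) ⊓
        Subgroup.centralizer ({e₂} : Set R) ≤ X := by
      intro u hu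
      apply hXmem u
      · exact Subgroup.mem_centralizer_iff.mp hu.1.2 e₁ rfl
      · exact Subgroup.mem_centralizer_iff.mp hu.2 e₂ rfl
    have h4 := Subgroup.card_le_of_le h3
    rw [Subgroup.card_top, hZcard] at h1
    rw [hZcard] at h2
    calc Nat.card R ≤ Nat.card ((⊤ : Subgroup R) ⊓ Subgroup.centralizer ({e₁} : Set R) :
            Subgroup R) * p := h1
      _ ≤ (Nat.card (((⊤ : Subgroup R) ⊓ Subgroup.centralizer ({e₁} : Set R)) ⊓
            Subgroup.centralizer ({e₂} : Set R) : Subgroup R) * p) * p :=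
          Nat.mul_le_mul_right _ h2
      _ ≤ (Nat.card X * p) * p := Nat.mul_le_mul_right _ (Nat.mul_le_mul_right _ h4)
      _ = Nat.card X * (p * p) := by ring
  -- `R = N X`
  have hsup : N ⊔ X = ⊤ := by
    apply Subgroup.eq_top_of_le_card
    have h1 : X.relIndex (N ⊔ X) = X.relIndex N := Subgroup.relIndex_sup_right N X
    have h2 : Nat.card X * X.relIndex (N ⊔ X) = Nat.card (N ⊔ X : Subgroup R) := by
      have := Subgroup.relIndex_mul_relIndex (⊥ : Subgroup R) X (N ⊔ X) bot_le le_sup_right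
      rwa [Subgroup.relIndex_bot_left, Subgroup.relIndex_bot_left] at this
    have h3 : Nat.card Z * X.relIndex N = Nat.card N := by
      have := Subgroup.relIndex_mul_relIndex (⊥ : Subgroup R) (X ⊓ N) N bot_le inf_le_right
      rw [Subgroup.relIndex_bot_left, Subgroup.relIndex_bot_left, Subgroup.inf_relIndex_right,
        inf_comm] at this
      exact this
    rw [hZcard, hNcard] at h3
    have h4 : X.relIndex N = p * p := by
      have : p * X.relIndex N = p * (p * p) := by rw [h3]; ring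
      exact Nat.eq_of_mul_eq_mul_left hpp.pos this
    rw [← h2, h1, h4]
    exact hcard1
  -- `X` is cyclic
  have hXcyc : IsCyclic ↥X := by
    by_contra hnc
    obtain ⟨E, -, hEe, hEc⟩ := Cfsg.Agent.S0126.result hp2 (hR.to_subgroup X) hnc
    have hle : E.map X.subtype ≤ Z := by
      rintro _ ⟨e, he, rfl⟩
      refine Subgroup.mem_inf.mpr ⟨hNall _ ?_, e.2⟩
      have h1 := hEe.2 e he
      have h2 := congrArg Subtype.val h1
      simpa using h2
    have h1 := Subgroup.card_le_of_le hle
    rw [Subgroup.card_map_of_injective X.subtype_injective, hEc, hZcard] at h1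
    have := hpp.two_le
    nlinarith
  have hfixX : ∀ x ∈ X, α x = x := fix_of_isCyclic hR hq hqp α hα X hXcyc
  have hN_top : N = ⊤ := by
    apply hcomm N inferInstance
    intro r
    have hr : r ∈ N ⊔ X := by
      rw [hsup]
      exact Subgroup.mem_top r
    have hr' : r ∈ (N : Set R) * (X : Set R) := by
      rw [← Subgroup.mul_normal N X]
      exact hr
    obtain ⟨n, hn, x, hx, rfl⟩ := Set.mem_mul.mp hr'
    have hαn : α n ∈ N := (Subgroup.characteristic_iff_map_le.mp hNc) α ⟨n, hn, rfl⟩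
    rw [map_mul, hfixX x hx]
    have h1 : (n * x)⁻¹ * (α n * x) = x⁻¹ * (n⁻¹ * α n) * x⁻¹⁻¹ := by group
    rw [h1]
    exact hNn.conj_mem _ (N.mul_mem (N.inv_mem hn) hαn) _
  rw [← hNcard, hN_top, Subgroup.card_top]

end CaseCube

section Main

variable {R : Type u} [Group R] [Finite R] {p q : ℕ} [Fact p.Prime]

/-- **Automorphisms of prime order not dividing `p (p - 1)`.**  Let `R` be a nonabelian `p`-group
of rank at most two, `p > 3`, and `α` a nontrivial automorphism with `α ^ q = 1`, where the prime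
`q` does not divide `p (p - 1)`.  If `R = [R, α]` then `|R| = p ^ 3`. -/
theorem card_eq_cube (hp3 : 3 < p) (hR : IsPGroup p R) (hrk : PRankLE p 2 R) (hq : q.Prime)
    (hqp : ¬ q ∣ p * (p - 1)) (α : MulAut R) (hα : α ^ q = 1) (hα1 : α ≠ 1)
    (hcomm : ∀ K : Subgroup R, K.Normal → (∀ x, x⁻¹ * α x ∈ K) → K = ⊤)
    (hnab : ∃ x y : R, x * y ≠ y * x) : Nat.card R = p ^ 3 := by
  have hpp : p.Prime := Fact.out
  have hp2 : p ≠ 2 := by omega
  have hqne : q ≠ p := by
    rintro rfl
    exact hqp (Dvd.intro _ rfl)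
  have hcop : (orderOf α).Coprime p :=
    Nat.Coprime.coprime_dvd_left (orderOf_dvd_of_pow_eq_one hα)
      ((Nat.coprime_primes hq hpp).mpr hqne)
  set N : Subgroup R := Subgroup.closure {x : R | x ^ p = 1} with hN
  haveI hNchar : N.Characteristic := by
    rw [Subgroup.characteristic_iff_map_le]
    intro φ
    rw [hN, MonoidHom.map_closure, Subgroup.closure_le]
    rintro _ ⟨x, hx, rfl⟩
    apply Subgroup.subset_closure
    show (φ x) ^ p = 1
    have hx' : x ^ p = 1 := hx
    rw [← map_pow, hx', map_one]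
  have hNexp : ∀ x ∈ N, x ^ p = 1 := fun x hx =>
    Cfsg.Agent.S0128.result hp3 hR (fun E hE => hrk E hE.1 hE.2) x hx
  have hNall : ∀ x : R, x ^ p = 1 → x ∈ N := fun x hx => Subgroup.subset_closure hx
  have hNcard : Nat.card N ≤ p ^ 3 := by
    apply Cfsg.Agent.S3771.result (hR.to_subgroup N)
      (RankTwo.pRankLE_of_injective N.subtype N.subtype_injective hrk)
    intro x
    apply Subtype.ext
    simpa using hNexp x x.2
  have hαN : ∃ x ∈ N, α x ≠ x := by
    by_contra h
    apply hα1
    apply Cfsg.Agent.S0120.result hp2 hR α hcop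
    intro x hx
    by_contra hx'
    exact h ⟨x, hNall x hx, hx'⟩
  obtain ⟨x₀, hx₀N, hx₀⟩ := hαN
  obtain ⟨k, hk⟩ := IsPGroup.iff_card.mp (hR.to_subgroup N)
  have hk3 : k ≤ 3 := by
    rw [hk] at hNcard
    exact (Nat.pow_le_pow_iff_right hpp.one_lt).mp hNcard
  rcases (by omega : k = 0 ∨ k = 1 ∨ k = 2 ∨ k = 3) with h | h | h | h
  · exfalso
    rw [h, pow_zero] at hk
    have h1 : N = ⊥ := Subgroup.card_eq_one.mp hk
    rw [h1, Subgroup.mem_bot] at hx₀N
    apply hx₀
    rw [hx₀N, map_one]
  · exfalso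
    rw [h, pow_one] at hk
    exact hx₀ (fix_of_isCyclic hR hq hqp α hα N (isCyclic_of_prime_card hk) x₀ hx₀N)
  · exfalso
    rw [h] at hk
    obtain ⟨x, y, hxy⟩ := hnab
    exact hxy (comm_of_card_sq hp3 hR hq hqp α hα hα1 N hNexp hNall hk x y)
  · rw [h] at hk
    apply card_eq_cube_of_card_cube hp2 hR hq hqp α hα hα1 hcomm N hNall hk
    by_contra hcon
    have hab : ∀ a ∈ N, ∀ b ∈ N, a * b = b * a := by
      intro a ha b hb
      by_contra hne
      exact hcon ⟨a, ha, b, hb, hne⟩
    have h1 := hrk N (isMulCommutative_iff_of_setLike.mpr hab) hNexp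
    rw [hk] at h1
    have h2 : 3 ≤ 2 := (Nat.pow_le_pow_iff_right hpp.one_lt).mp h1
    omega

end Main

end Cfsg.Agent.Helper8.NarrowPrime
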