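import Mathlib
import Cfsg.Prelude.Def_OddOrderLocal
import Cfsg.Agent.S0126
import Cfsg.Agent.S0638
import Cfsg.Agent.Lib.Helper7.Cores
import Cfsg.Agent.Lib.Helper19.PGroupBasic
import Cfsg.Agent.Lib.Helper22.ClassTwo
import Cfsg.Agent.Lib.Helper8.Narrow
import Cfsg.Agent.Lib.Helper8.NarrowPrime
import Cfsg.Agent.Lib.Helper1.Coprime
import Cfsg.Agent.Lib.Helper1.CoprimeAbelian
import Cfsg.Agent.Lib.Helper1.CommutatorBasic

/-!
# `p'`-automorphisms of metacyclic `p`-groups (helper8's shared library)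

* `reduced` : a `p`-group `R`, `p` odd, with `|R'| = p`, whose subgroups of exponent `p` have
  order at most `p ^ 2`, is not equal to `[R, Γ]` for any `p'`-group `Γ` acting on it;
* `comm_of_metacyclic` : a metacyclic `p`-group `R = [R, Γ]`, `p` odd, `Γ` a `p'`-group, is abelian.
-/

set_option autoImplicit false
set_option linter.style.haveILetI false

namespace Cfsg.Agent.Helper8.MetaAut

open Cfsg
open scoped commutatorElement Pointwise

universe u

section Reduced

variable {R : Type u} [Group R] [Finite R] {p : ℕ} [Fact p.Prime]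
  {Γ : Type*} [Group Γ] [Finite Γ]

/-- class two with derived group of exponent `p`: the `p`-power map is an endomorphism -/
theorem mul_pow_prime (hp : p ≠ 2) (hcen : ∀ a b : R, ⁅a, b⁆ ∈ Subgroup.center R)
    (hexp : ∀ a b : R, ⁅a, b⁆ ^ p = 1) (x y : R) : (x * y) ^ p = x ^ p * y ^ p := by
  have hpp : p.Prime := Fact.out
  have hc' : ∀ g : R, g * ⁅y, x⁆ = ⁅y, x⁆ * g := fun g => Subgroup.mem_center_iff.1 (hcen y x) g
  have h := Helper22.mul_pow_eq_of_central x y ⁅y, x⁆ hc' (Helper22.mul_eq_commutator_mul x y) p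
  have hdvd : p ∣ p.choose 2 := by
    apply hpp.dvd_choose_self (by norm_num)
    have := hpp.two_le
    omega
  obtain ⟨k, hk⟩ := hdvd
  rw [h, hk, pow_mul, hexp, one_pow, one_mul]

theorem mul_pow_prime_pow (hp : p ≠ 2) (hcen : ∀ a b : R, ⁅a, b⁆ ∈ Subgroup.center R)
    (hexp : ∀ a b : R, ⁅a, b⁆ ^ p = 1) (j : ℕ) (x y : R) :
    (x * y) ^ (p ^ j) = x ^ (p ^ j) * y ^ (p ^ j) := by
  induction j generalizing x y with
  | zero => simp
  | succ j ih =>
    rw [pow_succ, pow_mul, pow_mul, pow_mul, ih, mul_pow_prime hp hcen hexp]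

omit [Finite R] [Fact p.Prime] in
theorem commutator_mul_left_of_central (hcen : ∀ a b : R, ⁅a, b⁆ ∈ Subgroup.center R)
    (a b c : R) : ⁅a * b, c⁆ = ⁅a, c⁆ * ⁅b, c⁆ := by
  have h1 := Subgroup.mem_center_iff.mp (hcen b c)
  have h2 : ⁅a * b, c⁆ = a * ⁅b, c⁆ * a⁻¹ * ⁅a, c⁆ := by
    simp only [commutatorElement_def]
    group
  rw [h2, h1 a, mul_inv_cancel_right, h1 ⁅a, c⁆]

omit [Finite R] [Fact p.Prime] in
theorem commutator_mul_right_of_central (hcen : ∀ a b : R, ⁅a, b⁆ ∈ Subgroup.center R)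
    (a b c : R) : ⁅a, b * c⁆ = ⁅a, b⁆ * ⁅a, c⁆ := by
  have h1 := Subgroup.mem_center_iff.mp (hcen a c)
  have h2 : ⁅a, b * c⁆ = ⁅a, b⁆ * (b * ⁅a, c⁆ * b⁻¹) := by
    simp only [commutatorElement_def]
    group
  rw [h2, h1 b, mul_inv_cancel_right]

omit [Finite R] [Fact p.Prime] in
theorem commutator_central_left {m c : R} (hm : m ∈ Subgroup.center R) : ⁅m, c⁆ = 1 := by
  rw [commutatorElement_eq_one_iff_mul_comm]
  exact (Subgroup.mem_center_iff.mp hm c).symm

omit [Finite R] [Fact p.Prime] in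
theorem commutator_central_right {m c : R} (hm : m ∈ Subgroup.center R) : ⁅c, m⁆ = 1 := by
  rw [commutatorElement_eq_one_iff_mul_comm]
  exact Subgroup.mem_center_iff.mp hm c

/-- **The reduced case.** -/
theorem reduced (hp : p ≠ 2) (hR : IsPGroup p R) (θ : Γ →* MulAut R)
    (hcop : (Nat.card Γ).Coprime p) (hD : Nat.card (commutator R) = p)
    (hΩ : ∀ K : Subgroup R, (∀ x ∈ K, x ^ p = 1) → Nat.card K ≤ p ^ 2)
    (hcomm : ∀ K : Subgroup R, K.Normal → (∀ g x, x⁻¹ * θ g x ∈ K) → K = ⊤) : False := by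
  classical
  have hpp : p.Prime := Fact.out
  set D : Subgroup R := commutator R with hDdef
  have hcD : ∀ a b : R, ⁅a, b⁆ ∈ D := fun a b => by
    rw [hDdef, commutator_def]
    exact Subgroup.commutator_mem_commutator (Subgroup.mem_top a) (Subgroup.mem_top b)
  have hDZ : D ≤ Subgroup.center R := Helper19.normal_card_prime_le_center hR D hD
  have hcen : ∀ a b : R, ⁅a, b⁆ ∈ Subgroup.center R := fun a b => hDZ (hcD a b)
  have hDexp : ∀ d ∈ D, d ^ p = 1 := by
    intro d hd
    have h1 : (⟨d, hd⟩ : D) ^ Nat.card D = 1 := pow_card_eq_one'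
    rw [hD] at h1
    simpa using congrArg Subtype.val h1
  have hexp : ∀ a b : R, ⁅a, b⁆ ^ p = 1 := fun a b => hDexp _ (hcD a b)
  have hpowj := mul_pow_prime_pow hp hcen hexp
  let πj : ℕ → (R →* R) := fun j =>
    { toFun := fun x => x ^ (p ^ j)
      map_one' := one_pow _
      map_mul' := hpowj j }
  have hπj : ∀ j x, πj j x = x ^ (p ^ j) := fun j x => rfl
  set V : ℕ → Subgroup R := fun j => (πj j).range with hV
  have hVmem : ∀ j y, y ∈ V j ↔ ∃ x, x ^ (p ^ j) = y := fun j y => MonoidHom.mem_range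
  -- the centre
  set Z : Subgroup R := Subgroup.center R with hZ
  have hV1Z : V 1 ≤ Z := by
    intro y hy
    obtain ⟨x, rfl⟩ := (hVmem _ _).mp hy
    rw [pow_one, hZ, Subgroup.mem_center_iff]
    intro g
    have h1 : ⁅x ^ p, g⁆ = 1 := by
      rw [Helper22.commutator_pow_left_of_central g x (hcen x g) p, hexp]
    exact ((commutatorElement_eq_one_iff_mul_comm).mp h1).symm
  have hZV : Z ≤ V 1 := by
    have hle : Nat.card Z ≤ Nat.card (V 1) := by
      have h1 : Nat.card R = Nat.card (R ⧸ (πj 1).ker) * Nat.card (πj 1).ker :=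
        Subgroup.card_eq_card_quotient_mul_card_subgroup _
      have h2 : Nat.card (R ⧸ (πj 1).ker) = Nat.card (V 1) :=
        Nat.card_congr (QuotientGroup.quotientKerEquivRange (πj 1)).toEquiv
      have h3 : Nat.card (πj 1).ker ≤ p ^ 2 := by
        apply hΩ
        intro x hx
        have := MonoidHom.mem_ker.mp hx
        rwa [hπj, pow_one] at this
      have h4 : Nat.card Z * Z.index = Nat.card R := Subgroup.card_mul_index Z
      obtain ⟨i, hi⟩ := hR.index Z
      have hi2 : 2 ≤ i := by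
        by_contra hlt
        have hab : ∀ a b : R, a * b = b * a := by
          rcases (by omega : i = 0 ∨ i = 1) with h | h
          · rw [h, pow_zero, Subgroup.index_eq_one] at hi
            intro a b
            have : b ∈ Z := by rw [hi]; exact Subgroup.mem_top b
            exact Subgroup.mem_center_iff.mp this a
          · rw [h, pow_one] at hi
            haveI : IsCyclic (R ⧸ Z) := by
              apply isCyclic_of_prime_card (p := p)
              rw [← Subgroup.index_eq_card, hi]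
            apply commutative_of_cyclic_center_quotient (QuotientGroup.mk' Z)
            rw [QuotientGroup.ker_mk']
        have hDb : D = ⊥ := by
          rw [eq_bot_iff, hDdef, commutator_def, Subgroup.commutator_le]
          intro a _ b _
          rw [Subgroup.mem_bot, commutatorElement_eq_one_iff_mul_comm]
          exact hab a b
        rw [hDb, Subgroup.card_bot] at hD
        exact hpp.one_lt.ne hD
      have h5 : p ^ 2 ≤ Z.index := by
        rw [hi]
        exact Nat.pow_le_pow_right hpp.pos hi2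
      rw [h2] at h1
      have h6 : Nat.card Z * p ^ 2 ≤ Nat.card (V 1) * p ^ 2 := by
        calc Nat.card Z * p ^ 2 ≤ Nat.card Z * Z.index := Nat.mul_le_mul_left _ h5
          _ = Nat.card (V 1) * Nat.card (πj 1).ker := by rw [h4, h1]
          _ ≤ Nat.card (V 1) * p ^ 2 := Nat.mul_le_mul_left _ h3
      exact Nat.le_of_mul_le_mul_right h6 (pow_pos hpp.pos 2)
    have := Subgroup.eq_of_le_of_card_ge hV1Z hle
    rw [this]
  have hZpow : ∀ (j : ℕ) (m : R), m ∈ Z → m ^ (p ^ j) ∈ V (j + 1) := by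
    intro j m hm
    obtain ⟨w, hw⟩ := (hVmem _ _).mp (hZV hm)
    rw [pow_one] at hw
    exact (hVmem _ _).mpr ⟨w, by rw [← hw, ← pow_mul, ← pow_succ']⟩
  -- a generator of the derived group
  have hDne : D ≠ ⊥ := by
    intro h
    rw [h, Subgroup.card_bot] at hD
    exact hpp.one_lt.ne hD
  obtain ⟨z, hzD, hz1⟩ : ∃ z ∈ D, z ≠ 1 := by
    by_contra h
    apply hDne
    rw [eq_bot_iff]
    intro d hd
    rw [Subgroup.mem_bot]
    by_contra hd1
    exact h ⟨d, hd, hd1⟩
  have hDz : ∀ d ∈ D, d ≠ 1 → ∀ e ∈ D, e ∈ Subgroup.zpowers d := by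
    intro d hd hd1 e he
    have h1 : (⟨e, he⟩ : D) ∈ Subgroup.zpowers (⟨d, hd⟩ : D) :=
      mem_zpowers_of_prime_card hD (fun h => hd1 (congrArg Subtype.val h))
    obtain ⟨k, hk⟩ := Subgroup.mem_zpowers_iff.mp h1
    refine Subgroup.mem_zpowers_iff.mpr ⟨k, ?_⟩
    simpa using congrArg Subtype.val hk
  -- the largest `j` with `z ∈ ℧_j`
  obtain ⟨n, hn⟩ := IsPGroup.iff_card.mp hR
  have hVn : ¬ z ∈ V n := by
    intro h
    obtain ⟨x, hx⟩ := (hVmem _ _).mp h
    rw [← hn, pow_card_eq_one'] at hx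
    exact hz1 hx.symm
  have hV0 : z ∈ V 0 := (hVmem _ _).mpr ⟨z, by simp⟩
  set j := Nat.findGreatest (fun j => z ∈ V j) n with hj
  have hjV : z ∈ V j := Nat.findGreatest_spec (P := fun j => z ∈ V j) (Nat.zero_le n) hV0
  have hjn : j < n := by
    rcases (Nat.findGreatest_le (P := fun j => z ∈ V j) n).lt_or_eq with h | h
    · exact h
    · exfalso
      rw [← hj] at h
      rw [h] at hjV
      exact hVn hjV
  have hjV' : ¬ z ∈ V (j + 1) :=
    Nat.findGreatest_is_greatest (P := fun j => z ∈ V j) (Nat.lt_succ_self j) hjn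
  have hDV : ∀ d, d ∈ D → d ∈ V (j + 1) → d = 1 := by
    intro d hd hdV
    by_contra hd1
    have h1 := hDz d hd hd1 z hzD
    exact hjV' ((Subgroup.zpowers_le.mpr hdV) h1)
  obtain ⟨x, hx⟩ := (hVmem _ _).mp hjV
  have hxZ : x ∉ Z := by
    intro h
    have h1 := hZpow j x h
    rw [hx] at h1
    exact hjV' h1
  -- automorphisms act on `D` by powers
  have hact : ∀ g : Γ, ∃ k : ℕ, ∀ d ∈ D, θ g d = d ^ k := by
    intro g
    have h1 : θ g z ∈ D := by
      have := (Subgroup.characteristic_iff_map_le.mp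
        (inferInstance : (commutator R).Characteristic)) (θ g)
      exact this ⟨z, hzD, rfl⟩
    have h2 := hDz z hzD hz1 _ h1
    rw [← mem_powers_iff_mem_zpowers, Submonoid.mem_powers_iff] at h2
    obtain ⟨k, hk⟩ := h2
    refine ⟨k, ?_⟩
    intro d hd
    have h3 := hDz z hzD hz1 d hd
    rw [← mem_powers_iff_mem_zpowers, Submonoid.mem_powers_iff] at h3
    obtain ⟨i, rfl⟩ := h3
    rw [map_pow, ← hk, ← pow_mul, ← pow_mul, mul_comm]
  -- `|R : Z| ≤ p ^ 2`
  have hRZ : Nat.card R ≤ Nat.card Z * p ^ 2 := by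
    have h4 : Nat.card R = Nat.card (R ⧸ (πj 1).ker) * Nat.card (πj 1).ker :=
      Subgroup.card_eq_card_quotient_mul_card_subgroup _
    have h5 : Nat.card (R ⧸ (πj 1).ker) = Nat.card (V 1) :=
      Nat.card_congr (QuotientGroup.quotientKerEquivRange (πj 1)).toEquiv
    have h6 : Nat.card (πj 1).ker ≤ p ^ 2 := by
      apply hΩ
      intro x hx
      have := MonoidHom.mem_ker.mp hx
      rwa [hπj, pow_one] at this
    rw [h4, h5]
    exact Nat.mul_le_mul (Subgroup.card_le_of_le hV1Z) h6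
  -- subgroups strictly containing `Z` and proper have index `p`
  have hmid : ∀ M₁ M₂ : Subgroup R, Z < M₁ → M₁ ≤ M₂ → M₂ ≠ ⊤ → M₁ = M₂ := by
    intro M₁ M₂ h1 h2 h3
    apply Subgroup.eq_of_le_of_card_ge h2
    have h4 := Helper19.mul_card_le_of_lt hR h1
    have h5 := Helper19.mul_card_le_of_lt hR (lt_top_iff_ne_top.mpr h3)
    rw [Subgroup.card_top] at h5
    have hppos : 0 < p := hpp.pos
    nlinarith
  have hcentr_ne : ∀ t : R, t ∉ Z → Subgroup.centralizer {t} ≠ (⊤ : Subgroup R) := by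
    intro t ht h
    apply ht
    rw [hZ, Subgroup.mem_center_iff]
    intro g
    have : g ∈ Subgroup.centralizer {t} := by rw [h]; exact Subgroup.mem_top g
    exact (Subgroup.mem_centralizer_iff.mp this t rfl).symm
  have hZlt : ∀ t : R, t ∉ Z → Z < Subgroup.zpowers t ⊔ Z := by
    intro t ht
    refine lt_of_le_of_ne le_sup_right ?_
    intro h
    apply ht
    rw [h]
    exact Subgroup.mem_sup_left (Subgroup.mem_zpowers t)
  have hcentr : ∀ t : R, t ∉ Z → Subgroup.zpowers t ⊔ Z = Subgroup.centralizer {t} := by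
    intro t ht
    have hle : Subgroup.zpowers t ⊔ Z ≤ Subgroup.centralizer {t} := by
      apply sup_le
      · rw [Subgroup.zpowers_le, Subgroup.mem_centralizer_iff]
        intro d hd
        rw [Set.mem_singleton_iff] at hd
        subst hd
        rfl
      · exact Subgroup.center_le_centralizer _
    exact hmid _ _ (hZlt t ht) hle (hcentr_ne t ht)
  -- elements of `⟨t⟩ Z`
  have hdecomp : ∀ t u : R, u ∈ Subgroup.zpowers t ⊔ Z → ∃ (e : ℕ) (m : R), m ∈ Z ∧ u = t ^ e * m := by
    intro t u hu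
    have hu' : u ∈ (Subgroup.zpowers t : Set R) * (Z : Set R) := by
      rw [← Subgroup.mul_normal (Subgroup.zpowers t) Z]
      exact hu
    obtain ⟨a, ha, m, hm, rfl⟩ := Set.mem_mul.mp hu'
    rw [SetLike.mem_coe, ← mem_powers_iff_mem_zpowers, Submonoid.mem_powers_iff] at ha
    obtain ⟨e, rfl⟩ := ha
    exact ⟨e, m, hm, rfl⟩
  -- the action on `D` is determined by the action on `z`
  have hactz : ∀ (g : Γ) (e : ℕ), θ g z = z ^ e → ∀ d ∈ D, θ g d = d ^ e := by
    intro g e he d hd
    have h3 := hDz z hzD hz1 d hd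
    rw [← mem_powers_iff_mem_zpowers, Submonoid.mem_powers_iff] at h3
    obtain ⟨i, rfl⟩ := h3
    rw [map_pow, he, ← pow_mul, ← pow_mul, mul_comm]
  -- key computation
  have hkey : ∀ (g : Γ) (e : ℕ) (u : R), θ g x = x ^ e * u → u ^ (p ^ j) ∈ V (j + 1) →
      θ g z = z ^ e := by
    intro g e u hxu hu
    have h1 : θ g z = z ^ e * u ^ (p ^ j) := by
      rw [← hx, map_pow, hxu, hpowj, ← pow_mul, mul_comm e, pow_mul]
    have h2 : θ g z ∈ D := by
      have := (Subgroup.characteristic_iff_map_le.mp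
        (inferInstance : (commutator R).Characteristic)) (θ g)
      exact this ⟨z, hzD, rfl⟩
    have h3 : u ^ (p ^ j) ∈ D := by
      have : u ^ (p ^ j) = (z ^ e)⁻¹ * θ g z := by rw [h1]; group
      rw [this]
      exact D.mul_mem (D.inv_mem (D.pow_mem hzD e)) h2
    rw [h1, hDV _ h3 hu, mul_one]
  have hcoprime : ∀ (g : Γ) (e : ℕ), θ g z = z ^ e → ∀ w ∈ D, w ^ e = 1 → w = 1 := by
    intro g e he w hw hwe
    have hpe : ¬ p ∣ e := by
      rintro ⟨c, rfl⟩
      rw [pow_mul, hDexp z hzD, one_pow] at he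
      exact hz1 ((θ g).injective (by rw [he, map_one]))
    have h4 : orderOf w ∣ Nat.gcd e p :=
      Nat.dvd_gcd (orderOf_dvd_of_pow_eq_one hwe) (orderOf_dvd_of_pow_eq_one (hDexp w hw))
    have h5 : Nat.gcd e p = 1 := (Nat.Coprime.symm ((Nat.Prime.coprime_iff_not_dvd hpp).mpr hpe))
    rw [h5, Nat.dvd_one, orderOf_eq_one_iff] at h4
    exact h4
  -- normality of subgroups containing `Z`
  have hnormal : ∀ M : Subgroup R, Z ≤ M → M.Normal := by
    intro M hM
    constructor
    intro n hn g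
    have h1 : g * n * g⁻¹ = ⁅g, n⁆ * n := by rw [commutatorElement_def]; group
    rw [h1]
    exact M.mul_mem (hM (hcen g n)) hn
  -- invariance
  have hZinv : ∀ (g : Γ) (m : R), m ∈ Z → θ g m ∈ Z := by
    intro g m hm
    have := (Subgroup.characteristic_iff_map_le.mp
      (inferInstance : (Subgroup.center R).Characteristic)) (θ g)
    exact this ⟨m, hm, rfl⟩
  set X : Subgroup R := D.comap (πj j) with hX
  have hxX : x ∈ X := by
    rw [hX, Subgroup.mem_comap, hπj, hx]
    exact hzD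
  have hXinv : ∀ (g : Γ) (t : R), t ∈ X → θ g t ∈ X := by
    intro g t ht
    rw [hX, Subgroup.mem_comap, hπj] at ht ⊢
    rw [← map_pow]
    have := (Subgroup.characteristic_iff_map_le.mp
      (inferInstance : (commutator R).Characteristic)) (θ g)
    exact this ⟨_, ht, rfl⟩
  set Y : Subgroup R := (πj j).ker with hY
  have hYmem : ∀ t, t ∈ Y ↔ t ^ (p ^ j) = 1 := fun t => MonoidHom.mem_ker
  have hYinv : ∀ (g : Γ) (t : R), t ∈ Y → θ g t ∈ Y := by
    intro g t ht
    rw [hYmem] at ht ⊢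
    rw [← map_pow, ht, map_one]
  by_cases hcase : X ⊔ Z = ⊤
  · -- Case 2: find `y₁` of small order not commuting with `x`
    obtain ⟨t, ht⟩ : ∃ t : R, ⁅x, t⁆ ≠ 1 := by
      by_contra h
      apply hxZ
      rw [hZ, Subgroup.mem_center_iff]
      intro g
      by_contra hg
      apply h
      refine ⟨g, ?_⟩
      rw [Ne, commutatorElement_eq_one_iff_mul_comm]
      exact fun h' => hg h'.symm
    have htX : t ∈ (X : Set R) * (Z : Set R) := by
      rw [← Subgroup.mul_normal X Z, hcase]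
      exact Subgroup.mem_top t
    obtain ⟨x', hx', m₀, hm₀, rfl⟩ := Set.mem_mul.mp htX
    have hxx' : ⁅x, x'⁆ ≠ 1 := by
      rw [commutator_mul_right_of_central hcen, commutator_central_right hm₀, mul_one] at ht
      exact ht
    have hx'D : x' ^ (p ^ j) ∈ D := by
      have hx'' : x' ∈ X := hx'
      rw [hX, Subgroup.mem_comap, hπj] at hx''
      exact hx''
    have h1 := hDz z hzD hz1 _ hx'D
    rw [← mem_powers_iff_mem_zpowers, Submonoid.mem_powers_iff] at h1
    obtain ⟨i, hi⟩ := h1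
    set y₁ : R := x' * (x ^ i)⁻¹ with hy₁
    have hy₁Y : y₁ ∈ Y := by
      rw [hYmem, hy₁, hpowj, inv_pow, ← pow_mul, mul_comm i, pow_mul, hx, hi, mul_inv_cancel]
    have hxy₁ : ⁅x, y₁⁆ ≠ 1 := by
      rw [hy₁, commutator_mul_right_of_central hcen]
      have h2 : ⁅x, (x ^ i)⁻¹⁆ = 1 := by
        rw [commutatorElement_eq_one_iff_mul_comm]
        have : Commute x (x ^ i)⁻¹ := (Commute.refl x).pow_right i |>.inv_right
        exact this
      rw [h2, mul_one]
      exact hxx'
    have hy₁Z : y₁ ∉ Z := by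
      intro h
      exact hxy₁ (commutator_central_right h)
    set MY : Subgroup R := Subgroup.centralizer {y₁} with hMY
    have hMYeq : Subgroup.zpowers y₁ ⊔ Z = MY := hcentr y₁ hy₁Z
    have hxYZ : x ∉ Y ⊔ Z := by
      intro h
      have h' : x ∈ (Y : Set R) * (Z : Set R) := by
        rw [← Subgroup.mul_normal Y Z]
        exact h
      obtain ⟨y', hy', m', hm', hxe⟩ := Set.mem_mul.mp h'
      have h2 : z = m' ^ (p ^ j) := by
        rw [← hx, ← hxe, hpowj, (hYmem y').mp hy', one_mul]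
      apply hjV'
      rw [h2]
      exact hZpow j m' hm'
    have hYZ : Y ⊔ Z = MY := by
      rw [← hMYeq]
      symm
      apply hmid _ _ (hZlt y₁ hy₁Z) (sup_le_sup_right (Subgroup.zpowers_le.mpr hy₁Y) Z)
      intro h
      apply hxYZ
      rw [h]
      exact Subgroup.mem_top x
    have hMYn : MY.Normal := hnormal MY (by rw [← hMYeq]; exact le_sup_right)
    have hxMY : x ∉ MY := by
      rw [← hYZ]
      exact hxYZ
    have hxtop : Subgroup.zpowers x ⊔ MY = ⊤ := by
      by_contra h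
      have hlt : Z < Subgroup.zpowers y₁ ⊔ Z := hZlt y₁ hy₁Z
      have h2 := hmid (Subgroup.zpowers y₁ ⊔ Z) (Subgroup.zpowers x ⊔ MY) hlt
        (by rw [hMYeq]; exact le_sup_right) h
      apply hxMY
      rw [← hMYeq, h2]
      exact Subgroup.mem_sup_left (Subgroup.mem_zpowers x)
    -- every automorphism fixes `y₁` modulo `Z`
    have hfix : ∀ g : Γ, y₁⁻¹ * θ g y₁ ∈ Z := by
      intro g
      have h2 : θ g y₁ ∈ Subgroup.zpowers y₁ ⊔ Z := by
        rw [hMYeq, ← hYZ]
        exact Subgroup.mem_sup_left (hYinv g y₁ hy₁Y)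
      obtain ⟨l, m, hm, hyl⟩ := hdecomp y₁ _ h2
      have h3 : θ g x ∈ (Subgroup.zpowers x : Set R) * (MY : Set R) := by
        rw [← Subgroup.mul_normal (Subgroup.zpowers x) MY, hxtop]
        exact Subgroup.mem_top _
      obtain ⟨a, ha, u, hu, hxe⟩ := Set.mem_mul.mp h3
      rw [SetLike.mem_coe, ← mem_powers_iff_mem_zpowers, Submonoid.mem_powers_iff] at ha
      obtain ⟨e, rfl⟩ := ha
      have hu' : u ∈ (Y : Set R) * (Z : Set R) := by
        rw [← Subgroup.mul_normal Y Z, hYZ]
        exact hu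
      obtain ⟨y', hy', m', hm', rfl⟩ := Set.mem_mul.mp hu'
      have hupow : (y' * m') ^ (p ^ j) ∈ V (j + 1) := by
        rw [hpowj, (hYmem y').mp hy', one_mul]
        exact hZpow j m' hm'
      have hze : θ g z = z ^ e := hkey g e _ hxe.symm hupow
      have hD_e := hactz g e hze
      set w := ⁅x, y₁⁆ with hw
      have hwD : w ∈ D := hcD x y₁
      have h4 : θ g w = w ^ e := hD_e w hwD
      have hucomm : ⁅y' * m', y₁⁆ = 1 := by
        rw [commutatorElement_eq_one_iff_mul_comm]
        exact (Subgroup.mem_centralizer_iff.mp hu y₁ rfl).symm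
      have h5 : θ g w = (w ^ e) ^ l := by
        rw [hw, map_commutatorElement, ← hxe, hyl, commutator_mul_right_of_central hcen,
          commutator_central_right hm, mul_one, commutator_mul_left_of_central hcen,
          Helper22.commutator_pow_right_of_central y₁ (y' * m') (hcen _ _) l, hucomm, one_pow,
          mul_one, Helper22.commutator_pow_right_of_central y₁ (x ^ e) (hcen _ _) l,
          Helper22.commutator_pow_left_of_central y₁ x (hcen _ _) e]
      set v := w ^ e with hv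
      have hv1 : v ≠ 1 := by
        intro h
        rw [← h4] at h
        exact hxy₁ ((θ g).injective (by rw [h, map_one]))
      have hvo : orderOf v = p := by
        have h6 : orderOf v ∣ p := orderOf_dvd_of_pow_eq_one (hDexp v (D.pow_mem hwD e))
        rcases (Nat.dvd_prime hpp).mp h6 with h | h
        · exact absurd (orderOf_eq_one_iff.mp h) hv1
        · exact h
      have h7 : v ^ 1 = v ^ l := by rw [pow_one, ← h5, h4]
      have h8 : 1 ≡ l [MOD p] := by
        rw [← hvo]
        exact pow_eq_pow_iff_modEq.mp h7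
      -- `y₁ ^ l ≡ y₁` modulo `Z`
      have hl1 : 1 ≤ l := by
        rcases Nat.eq_zero_or_pos l with h | h
        · rw [h, pow_zero, pow_one] at h7
          exact absurd h7 hv1
        · exact h
      obtain ⟨c, hc⟩ := (Nat.modEq_iff_dvd' hl1).mp h8
      have hl : l = 1 + p * c := by omega
      rw [hyl, hl, pow_add, pow_one, pow_mul]
      have h9 : (y₁ ^ p) ^ c ∈ Z := by
        apply Z.pow_mem
        apply hV1Z
        exact (hVmem _ _).mpr ⟨y₁, by rw [pow_one]⟩
      have h10 : y₁⁻¹ * (y₁ * (y₁ ^ p) ^ c * m) = (y₁ ^ p) ^ c * m := by group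
      rw [h10]
      exact Z.mul_mem h9 hm
    -- the norm map
    letI : CommGroup (R ⧸ Z) :=
      { (inferInstance : Group (R ⧸ Z)) with
        mul_comm := by
          intro a b
          induction a using QuotientGroup.induction_on with
          | _ a =>
            induction b using QuotientGroup.induction_on with
            | _ b =>
              show ((a * b : R) : R ⧸ Z) = ((b * a : R) : R ⧸ Z)
              rw [QuotientGroup.eq]
              have h2 : (a * b)⁻¹ * (b * a) = ⁅b⁻¹, a⁻¹⁆ := by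
                rw [commutatorElement_def]
                group
              rw [h2]
              exact hcen _ _ }
    letI : Fintype Γ := Fintype.ofFinite Γ
    set τ : R →* R ⧸ Z := ∏ g : Γ, (QuotientGroup.mk' Z).comp (θ g).toMonoidHom with hτ
    have hτapp : ∀ r : R, τ r = ∏ g : Γ, ((θ g r : R) : R ⧸ Z) := by
      intro r
      rw [hτ, MonoidHom.finset_prod_apply]
      rfl
    have hτinv : ∀ (h : Γ) (r : R), τ (θ h r) = τ r := by
      intro h r
      rw [hτapp, hτapp]
      have h2 : ∀ g : Γ, ((θ g (θ h r) : R) : R ⧸ Z) = ((θ (g * h) r : R) : R ⧸ Z) := by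
        intro g
        rw [map_mul, MulAut.mul_apply]
      simp_rw [h2]
      exact Equiv.prod_comp (Equiv.mulRight h) (fun g => ((θ g r : R) : R ⧸ Z))
    have hKtop : τ.ker = ⊤ := by
      apply hcomm τ.ker inferInstance
      intro g r
      rw [MonoidHom.mem_ker, map_mul, map_inv, hτinv, inv_mul_cancel]
    have hy₁K : τ y₁ = 1 := by
      rw [← MonoidHom.mem_ker, hKtop]
      exact Subgroup.mem_top _
    rw [hτapp] at hy₁K
    have h2 : ∀ g : Γ, ((θ g y₁ : R) : R ⧸ Z) = (y₁ : R ⧸ Z) := by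
      intro g
      exact (QuotientGroup.eq.mpr (hfix g)).symm
    simp_rw [h2] at hy₁K
    rw [Finset.prod_const, Finset.card_univ, ← Nat.card_eq_fintype_card] at hy₁K
    have h3 : (y₁ : R ⧸ Z) ^ p = 1 := by
      rw [← QuotientGroup.mk_pow, QuotientGroup.eq_one_iff]
      apply hV1Z
      exact (hVmem _ _).mpr ⟨y₁, by rw [pow_one]⟩
    have h4 : orderOf (y₁ : R ⧸ Z) ∣ Nat.gcd (Nat.card Γ) p :=
      Nat.dvd_gcd (orderOf_dvd_of_pow_eq_one hy₁K) (orderOf_dvd_of_pow_eq_one h3)
    rw [hcop.gcd_eq_one, Nat.dvd_one, orderOf_eq_one_iff, QuotientGroup.eq_one_iff] at h4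
    exact hy₁Z h4
  · -- Case 1
    set M : Subgroup R := Subgroup.centralizer {x} with hM
    have hMeq : Subgroup.zpowers x ⊔ Z = M := hcentr x hxZ
    have hXM : X ⊔ Z = M := by
      rw [← hMeq]
      symm
      apply hmid _ _ (hZlt x hxZ) _ hcase
      exact sup_le_sup_right (Subgroup.zpowers_le.mpr hxX) Z
    have hMn : M.Normal := hnormal M (by rw [← hMeq]; exact le_sup_right)
    have hMtop : M = ⊤ := by
      apply hcomm M hMn
      intro g t
      have h1 : θ g x ∈ Subgroup.zpowers x ⊔ Z := by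
        rw [hMeq, ← hXM]
        exact Subgroup.mem_sup_left (hXinv g x hxX)
      obtain ⟨e, m, hm, hxe⟩ := hdecomp x _ h1
      have hze : θ g z = z ^ e := hkey g e m hxe (hZpow j m hm)
      have hD_e := hactz g e hze
      -- `β t = ⁅x, t⁆`
      have h2 : θ g ⁅x, t⁆ = ⁅x, θ g t⁆ ^ e := by
        rw [map_commutatorElement, hxe, commutator_mul_left_of_central hcen,
          commutator_central_left hm, mul_one,
          Helper22.commutator_pow_left_of_central (θ g t) x (hcen x _) e]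
      have h3 : θ g ⁅x, t⁆ = ⁅x, t⁆ ^ e := hD_e _ (hcD x t)
      have h4 : (⁅x, t⁆⁻¹ * ⁅x, θ g t⁆) ^ e = 1 := by
        have hc : Commute ⁅x, t⁆⁻¹ ⁅x, θ g t⁆ := by
          have := Subgroup.mem_center_iff.mp (hcen x (θ g t)) ⁅x, t⁆⁻¹
          exact this
        rw [hc.mul_pow, inv_pow, ← h3, h2, inv_mul_cancel]
      have h5 : ⁅x, t⁆⁻¹ * ⁅x, θ g t⁆ = 1 :=
        hcoprime g e hze _ (D.mul_mem (D.inv_mem (hcD x t)) (hcD x _)) h4
      have h6 : ⁅x, t⁻¹ * θ g t⁆ = 1 := by
        rw [commutator_mul_right_of_central hcen]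
        have h7 : ⁅x, t⁻¹⁆ = ⁅x, t⁆⁻¹ := by
          have h8 : ⁅x, t⁻¹ * t⁆ = ⁅x, t⁻¹⁆ * ⁅x, t⁆ := commutator_mul_right_of_central hcen _ _ _
          rw [inv_mul_cancel, commutatorElement_one_right] at h8
          exact eq_inv_of_mul_eq_one_left h8.symm
        rw [h7, h5]
      rw [hM, Subgroup.mem_centralizer_iff]
      intro d hd
      rw [Set.mem_singleton_iff] at hd
      subst hd
      exact (commutatorElement_eq_one_iff_mul_comm.mp h6)
    apply hcentr_ne x hxZ
    exact hMtop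

end Reduced

section Main

variable {R : Type u} [Group R] [Finite R] {p : ℕ} [Fact p.Prime]
  {Γ : Type*} [Group Γ] [Finite Γ]

omit [Finite R] [Fact p.Prime] in
theorem isMetacyclic_quotient (h : IsMetacyclic R) (T : Subgroup R) [T.Normal] :
    IsMetacyclic (R ⧸ T) := by
  obtain ⟨N, hNn, hNc, hQc⟩ := h
  haveI := hNn
  haveI := hNc
  haveI := hQc
  have hsurj : Function.Surjective (QuotientGroup.mk' T) := QuotientGroup.mk'_surjective T
  set N' : Subgroup (R ⧸ T) := N.map (QuotientGroup.mk' T) with hN'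
  haveI hN'n : N'.Normal := Subgroup.Normal.map hNn _ hsurj
  refine ⟨N', hN'n, ?_, ?_⟩
  · let f : ↥N →* ↥N' := (QuotientGroup.mk' T).subgroupMap N
    have hf : Function.Surjective f := (QuotientGroup.mk' T).subgroupMap_surjective N
    exact isCyclic_of_surjective f hf
  · have hle : N ≤ N'.comap (QuotientGroup.mk' T) := Subgroup.le_comap_map _ _
    let f : R ⧸ N →* (R ⧸ T) ⧸ N' := QuotientGroup.map N N' (QuotientGroup.mk' T) hle
    have hf : Function.Surjective f := by
      intro q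
      obtain ⟨q', rfl⟩ := QuotientGroup.mk'_surjective N' q
      obtain ⟨r, rfl⟩ := hsurj q'
      exact ⟨QuotientGroup.mk r, rfl⟩
    exact isCyclic_of_surjective f hf

/-- subgroups of exponent `p` of a noncyclic metacyclic `p`-group, `p` odd, have order at most
`p ^ 2` -/
theorem card_le_of_isMetacyclic (hp : p ≠ 2) (hR : IsPGroup p R) (hm : IsMetacyclic R)
    (hnc : ¬ IsCyclic R) (K : Subgroup R) (hK : ∀ x ∈ K, x ^ p = 1) : Nat.card K ≤ p ^ 2 := by
  obtain ⟨-, h2⟩ := Cfsg.Agent.S0638.result hp hR hm hnc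
  rw [← h2]
  apply Subgroup.card_le_of_le
  intro x hx
  exact Subgroup.subset_closure ⟨Subgroup.mem_top x, hK x hx⟩

/-- **`p'`-automorphisms of metacyclic `p`-groups.**  A metacyclic `p`-group `R`, `p` odd, with
`R = [R, Γ]` for a `p'`-group `Γ` of automorphisms is abelian. -/
theorem comm_of_metacyclic (hp : p ≠ 2) (hR : IsPGroup p R) (hm : IsMetacyclic R)
    (θ : Γ →* MulAut R) (hcop : (Nat.card Γ).Coprime p)
    (hcomm : ∀ K : Subgroup R, K.Normal → (∀ g x, x⁻¹ * θ g x ∈ K) → K = ⊤) :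
    ∀ x y : R, x * y = y * x := by
  have hpp : p.Prime := Fact.out
  by_contra hcon
  have hcon' : ∃ x y : R, x * y ≠ y * x := by
    by_contra h
    apply hcon
    intro x y
    by_contra hxy
    exact h ⟨x, y, hxy⟩
  obtain ⟨x₀, y₀, hxy⟩ := hcon'
  set D : Subgroup R := commutator R with hD
  haveI hDchar : D.Characteristic := by
    rw [hD, commutator_def]
    infer_instance
  have hDne : D ≠ ⊥ := by
    intro h
    have h1 : ⁅x₀, y₀⁆ ∈ D := by
      rw [hD, commutator_def]
      exact Subgroup.commutator_mem_commutator (Subgroup.mem_top _) (Subgroup.mem_top _)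
    rw [h, Subgroup.mem_bot, commutatorElement_eq_one_iff_mul_comm] at h1
    exact hxy h1
  -- `D` is cyclic
  have hDcyc : IsCyclic ↥D := by
    obtain ⟨C, hCn, hCc, hQc⟩ := hm
    haveI := hCn
    haveI := hCc
    have hDC : D ≤ C := by
      letI : CommGroup (R ⧸ C) := hQc.commGroup
      have h1 := Abelianization.commutator_subset_ker (QuotientGroup.mk' C)
      rwa [QuotientGroup.ker_mk'] at h1
    exact Subgroup.isCyclic_of_le hDC
  have hDcomm : ∀ a ∈ D, ∀ b ∈ D, a * b = b * a := by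
    intro a ha b hb
    haveI := hDcyc
    letI : CommGroup ↥D := IsCyclic.commGroup
    exact congrArg Subtype.val (mul_comm (⟨a, ha⟩ : D) ⟨b, hb⟩)
  -- the subgroup of `p`-th powers of `D`
  set T : Subgroup R :=
    { carrier := {t | ∃ d ∈ D, d ^ p = t}
      one_mem' := ⟨1, D.one_mem, one_pow p⟩
      mul_mem' := by
        rintro _ _ ⟨a, ha, rfl⟩ ⟨b, hb, rfl⟩
        exact ⟨a * b, D.mul_mem ha hb, (Commute.mul_pow (hDcomm a ha b hb) p)⟩
      inv_mem' := by
        rintro _ ⟨a, ha, rfl⟩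
        exact ⟨a⁻¹, D.inv_mem ha, inv_pow a p⟩ } with hT
  have hTmem : ∀ t, t ∈ T ↔ ∃ d ∈ D, d ^ p = t := fun t => Iff.rfl
  have hTD : T ≤ D := by
    rintro _ ⟨d, hd, rfl⟩
    exact D.pow_mem hd p
  haveI hTchar : T.Characteristic := by
    rw [Subgroup.characteristic_iff_map_le]
    intro φ
    rintro _ ⟨_, ⟨d, hd, rfl⟩, rfl⟩
    refine ⟨φ d, ?_, ?_⟩
    · exact (Subgroup.characteristic_iff_map_le.mp hDchar) φ ⟨d, hd, rfl⟩
    · exact (map_pow φ.toMonoidHom d p).symm
  haveI hTn : T.Normal := inferInstance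
  have hTne : T ≠ D := by
    intro h
    obtain ⟨d₀, hd₀D, hd₀⟩ := NarrowPrime.exists_orderOf_eq D (hR.to_subgroup D) hDne
    let f : ↥D → ↥D := fun d => d ^ p
    have hf : Function.Surjective f := by
      intro t
      have ht : (t : R) ∈ T := by rw [h]; exact t.2
      obtain ⟨d, hd, hdt⟩ := ht
      exact ⟨⟨d, hd⟩, Subtype.ext hdt⟩
    have hfi : Function.Injective f := Finite.injective_iff_surjective.mpr hf
    have h1 : f ⟨d₀, hd₀D⟩ = f 1 := by
      apply Subtype.ext
      show d₀ ^ p = (1 : R) ^ p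
      rw [one_pow, ← hd₀, pow_orderOf_eq_one]
    have h2 := congrArg Subtype.val (hfi h1)
    have h3 : d₀ = 1 := h2
    rw [h3, orderOf_one] at hd₀
    exact hpp.one_lt.ne hd₀
  -- the quotient
  have hinv : ∀ g : Γ, ∀ n ∈ T, θ g n ∈ T := by
    intro g n hn
    exact (Subgroup.characteristic_iff_map_le.mp hTchar) (θ g) ⟨n, hn, rfl⟩
  set θ' := Narrow.quotAction θ T hinv with hθ'
  have hQp : IsPGroup p (R ⧸ T) := hR.to_quotient T
  have hQm : IsMetacyclic (R ⧸ T) := isMetacyclic_quotient hm T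
  have hcomm' : ∀ K : Subgroup (R ⧸ T), K.Normal → (∀ g x, x⁻¹ * θ' g x ∈ K) → K = ⊤ := by
    intro K hKn hK
    haveI := hKn
    have h1 : K.comap (QuotientGroup.mk' T) = ⊤ := by
      apply hcomm _ inferInstance
      intro g x
      rw [Subgroup.mem_comap]
      have h2 := hK g (QuotientGroup.mk x)
      rw [hθ', Narrow.quotAction_mk] at h2
      exact h2
    rw [eq_top_iff]
    intro q _
    obtain ⟨r, rfl⟩ := QuotientGroup.mk'_surjective T q
    have h2 : r ∈ K.comap (QuotientGroup.mk' T) := by rw [h1]; exact Subgroup.mem_top r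
    exact h2
  -- the derived group of the quotient
  have hD' : commutator (R ⧸ T) = D.map (QuotientGroup.mk' T) := by
    rw [hD, commutator_def, commutator_def, Subgroup.map_commutator,
      Subgroup.map_top_of_surjective _ (QuotientGroup.mk'_surjective T)]
  have hD'exp : ∀ q ∈ commutator (R ⧸ T), q ^ p = 1 := by
    intro q hq
    rw [hD'] at hq
    obtain ⟨d, hd, rfl⟩ := hq
    rw [← map_pow, QuotientGroup.mk'_apply, QuotientGroup.eq_one_iff]
    exact ⟨d, hd, rfl⟩
  have hD'cyc : IsCyclic ↥(commutator (R ⧸ T)) := by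
    rw [hD']
    haveI := hDcyc
    exact isCyclic_of_surjective ((QuotientGroup.mk' T).subgroupMap D)
      ((QuotientGroup.mk' T).subgroupMap_surjective D)
  have hD'card : Nat.card (commutator (R ⧸ T)) = 1 ∨ Nat.card (commutator (R ⧸ T)) = p := by
    haveI := hD'cyc
    obtain ⟨c, hc⟩ := IsCyclic.exists_generator (α := ↥(commutator (R ⧸ T)))
    have h1 : Nat.card (commutator (R ⧸ T)) = orderOf c := by
      rw [← Nat.card_zpowers, (Subgroup.eq_top_iff' _).mpr hc, Subgroup.card_top]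
    have h2 : orderOf c ∣ p := by
      apply orderOf_dvd_of_pow_eq_one
      apply Subtype.ext
      have := hD'exp c c.2
      simpa using this
    rw [h1]
    exact (Nat.dvd_prime hpp).mp h2
  rcases hD'card with h1 | h1
  · -- the quotient is abelian
    apply hTne
    apply le_antisymm hTD
    intro d hd
    have h2 : (QuotientGroup.mk' T d) ∈ commutator (R ⧸ T) := by
      rw [hD']
      exact ⟨d, hd, rfl⟩
    rw [Subgroup.card_eq_one.mp h1, Subgroup.mem_bot, QuotientGroup.mk'_apply,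
      QuotientGroup.eq_one_iff] at h2
    exact h2
  · have hnc : ¬ IsCyclic (R ⧸ T) := by
      intro hc
      haveI := hc
      letI : CommGroup (R ⧸ T) := IsCyclic.commGroup
      have h2 : commutator (R ⧸ T) = ⊥ := by
        rw [eq_bot_iff, commutator_def, Subgroup.commutator_le]
        intro a _ b _
        rw [Subgroup.mem_bot, commutatorElement_eq_one_iff_mul_comm]
        exact mul_comm a b
      rw [h2, Subgroup.card_bot] at h1
      exact hpp.one_lt.ne h1
    exact reduced hp hQp θ' hcop h1 (card_le_of_isMetacyclic hp hQp hQm hnc) hcomm'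

end Main

section Internal

variable {G : Type*} [Group G] [Finite G] {p : ℕ} [Fact p.Prime]

omit [Fact p.Prime] in
/-- a group embedding in a metacyclic group is metacyclic -/
theorem isMetacyclic_of_injective {H R : Type*} [Group H] [Group R] (f : H →* R)
    (hf : Function.Injective f) (h : IsMetacyclic R) : IsMetacyclic H := by
  obtain ⟨N, hNn, hNc, hQc⟩ := h
  haveI := hNn
  haveI := hNc
  haveI := hQc
  let g : H →* R ⧸ N := (QuotientGroup.mk' N).comp f
  refine ⟨g.ker, inferInstance, ?_, ?_⟩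
  · have hmem : ∀ x : g.ker, (f.comp g.ker.subtype) x ∈ N := by
      intro x
      have h1 : g (x : H) = 1 := x.2
      have h2 : (QuotientGroup.mk (f x) : R ⧸ N) = 1 := h1
      exact (QuotientGroup.eq_one_iff _).mp h2
    let k : ↥g.ker →* ↥N := (f.comp g.ker.subtype).codRestrict N hmem
    have hk : Function.Injective k := by
      intro a b hab
      have h1 : f a = f b := congrArg Subtype.val hab
      exact Subtype.ext (hf h1)
    exact isCyclic_of_injective k hk
  · exact isCyclic_of_injective (QuotientGroup.kerLift g) (QuotientGroup.kerLift_injective g)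

/-- coprime action: `R = [R, A] C_R(A)` -/
theorem commutator_sup_centralizer (R A : Subgroup G) (hR : IsPGroup p R)
    (hA : A ≤ Subgroup.normalizer (R : Set G)) (hcop : (Nat.card A).Coprime p) :
    ⁅R, A⁆ ⊔ (R ⊓ Subgroup.centralizer (A : Set G)) = R := by
  have hYR : ⁅R, A⁆ ≤ R := Helper1.commutator_le_of_le_normalizer hA
  apply le_antisymm (sup_le hYR inf_le_left)
  intro x hx
  have hYp : IsPGroup p ↥⁅R, A⁆ := hR.to_le hYR
  have hcopY : (Nat.card A).Coprime (Nat.card ↥⁅R, A⁆) := by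
    obtain ⟨n, hn⟩ := IsPGroup.iff_card.mp hYp
    rw [hn]
    exact Nat.Coprime.pow_right n hcop
  have hsolv : Group.IsSolvable ↥⁅R, A⁆ := by
    haveI : Group.IsNilpotent ↥⁅R, A⁆ := hYp.isNilpotent
    infer_instance
  have hxa : ∀ a ∈ A, x⁻¹ * a * x * a⁻¹ ∈ ⁅R, A⁆ := by
    intro a ha
    have h1 : x⁻¹ * a * x * a⁻¹ = ⁅x⁻¹, a⁆ := by
      rw [commutatorElement_def]
      group
    rw [h1]
    exact Subgroup.commutator_mem_commutator (R.inv_mem hx) ha
  obtain ⟨c, hc, hxc⟩ := Helper1.exists_centralizer_mem_coset ⁅R, A⁆ A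
    (Helper1.le_normalizer_commutator_right R A) hcopY (Or.inr hsolv) x hxa
  have hcR : c ∈ R := by
    have h1 : c = x * (x⁻¹ * c) := by group
    rw [h1]
    exact R.mul_mem hx (hYR hxc)
  have h2 : x = c * (x⁻¹ * c)⁻¹ := by group
  rw [h2]
  exact Subgroup.mul_mem _ (Subgroup.mem_sup_right (Subgroup.mem_inf.mpr ⟨hcR, hc⟩))
    (Subgroup.mem_sup_left (Subgroup.inv_mem _ hxc))

/-- coprime action: `[R, A, A] = [R, A]` -/
theorem commutator_commutator_eq (R A : Subgroup G) (hR : IsPGroup p R)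
    (hA : A ≤ Subgroup.normalizer (R : Set G)) (hcop : (Nat.card A).Coprime p) :
    ⁅⁅R, A⁆, A⁆ = ⁅R, A⁆ := by
  have hAY : A ≤ Subgroup.normalizer ((⁅R, A⁆ : Subgroup G) : Set G) :=
    Helper1.le_normalizer_commutator_right R A
  have hCY : R ⊓ Subgroup.centralizer (A : Set G) ≤
      Subgroup.normalizer ((⁅R, A⁆ : Subgroup G) : Set G) :=
    inf_le_left.trans (Helper1.le_normalizer_commutator_left R A)
  apply le_antisymm (Helper1.commutator_le_of_le_normalizer hAY)
  rw [Subgroup.commutator_le]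
  intro x hx a ha
  have hx' : x ∈ ⁅R, A⁆ ⊔ (R ⊓ Subgroup.centralizer (A : Set G)) := by
    rw [commutator_sup_centralizer R A hR hA hcop]
    exact hx
  obtain ⟨y, hy, c, hc, rfl⟩ := Helper1.exists_mul_of_mem_sup hCY hx'
  have hca : ⁅c, a⁆ = 1 := by
    rw [commutatorElement_eq_one_iff_mul_comm]
    exact ((Subgroup.mem_centralizer_iff.mp (Subgroup.mem_inf.mp hc).2) a ha).symm
  have h1 : ⁅y * c, a⁆ = y * ⁅c, a⁆ * y⁻¹ * ⁅y, a⁆ := by
    simp only [commutatorElement_def]
    group
  rw [h1, hca, mul_one, mul_inv_cancel, one_mul]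
  exact Subgroup.commutator_mem_commutator hy ha

/-- **`[R, A]` is abelian** for a `p'`-group `A` acting on a metacyclic `p`-group `R`, `p` odd -/
theorem commutator_comm_of_metacyclic (hp : p ≠ 2) (R A : Subgroup G) (hR : IsPGroup p R)
    (hRm : IsMetacyclic ↥R) (hA : A ≤ Subgroup.normalizer (R : Set G))
    (hcop : (Nat.card A).Coprime p) : ∀ x ∈ ⁅R, A⁆, ∀ y ∈ ⁅R, A⁆, x * y = y * x := by
  have hYR : ⁅R, A⁆ ≤ R := Helper1.commutator_le_of_le_normalizer hA
  have hAY : A ≤ Subgroup.normalizer ((⁅R, A⁆ : Subgroup G) : Set G) :=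
    Helper1.le_normalizer_commutator_right R A
  have hYm : IsMetacyclic ↥⁅R, A⁆ :=
    isMetacyclic_of_injective (Subgroup.inclusion hYR) (Subgroup.inclusion_injective hYR) hRm
  set θ : ↥A →* MulAut ↥⁅R, A⁆ :=
    ((⁅R, A⁆ : Subgroup G).normalizerMonoidHom).comp (Subgroup.inclusion hAY) with hθ
  have hθapp : ∀ (a : ↥A) (x : ↥⁅R, A⁆), ((θ a x : ↥⁅R, A⁆) : G) = (a : G) * (x : G) * (a : G)⁻¹ :=
    fun a x => rfl
  have hcomm : ∀ K : Subgroup ↥⁅R, A⁆, K.Normal → (∀ g x, x⁻¹ * θ g x ∈ K) → K = ⊤ := by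
    intro K _ hK
    have hle : ⁅⁅R, A⁆, A⁆ ≤ K.map (⁅R, A⁆ : Subgroup G).subtype := by
      rw [Subgroup.commutator_le]
      intro r hr b hb
      set x : ↥⁅R, A⁆ := (⟨r, hr⟩ : ↥⁅R, A⁆)⁻¹ with hx
      rw [commutatorElement_def]
      refine ⟨x⁻¹ * θ ⟨b, hb⟩ x, hK _ x, ?_⟩
      show ((x⁻¹ : ↥⁅R, A⁆) : G) * ((θ ⟨b, hb⟩ x : ↥⁅R, A⁆) : G) = r * b * r⁻¹ * b⁻¹
      rw [hθapp, hx]
      simp only [inv_inv, Subgroup.coe_inv]
      group
    rw [commutator_commutator_eq R A hR hA hcop] at hle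
    rw [eq_top_iff]
    intro x _
    obtain ⟨y, hy, hyx⟩ := hle x.2
    have : y = x := Subtype.ext hyx
    rw [← this]
    exact hy
  have key := comm_of_metacyclic hp (hR.to_le hYR) hYm θ hcop hcomm
  intro x hx y hy
  exact congrArg Subtype.val (key ⟨x, hx⟩ ⟨y, hy⟩)

/-- in a noncyclic metacyclic `p`-group, `p` odd, a subgroup meeting a nontrivial subgroup
trivially is cyclic -/
theorem isCyclic_of_inf_eq_bot {R : Type*} [Group R] [Finite R] (hp : p ≠ 2) (hR : IsPGroup p R)
    (hm : IsMetacyclic R) (hnc : ¬ IsCyclic R) (Y C : Subgroup R) (hYC : Y ⊓ C = ⊥)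
    (hC : C ≠ ⊥) : IsCyclic ↥Y := by
  by_contra hYnc
  obtain ⟨-, hΩ2⟩ := Cfsg.Agent.S0638.result hp hR hm hnc
  obtain ⟨E, -, hE, hEc⟩ := Cfsg.Agent.S0126.result hp (hR.to_subgroup Y) hYnc
  set E' : Subgroup R := E.map Y.subtype with hE'
  have hE'c : Nat.card E' = p ^ 2 := by
    rw [hE', Subgroup.card_map_of_injective Y.subtype_injective, hEc]
  have hE'Ω : E' ≤ omegaOne p (⊤ : Subgroup R) := by
    rintro _ ⟨e, he, rfl⟩
    apply Subgroup.subset_closure
    refine ⟨Subgroup.mem_top _, ?_⟩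
    have h1 := hE.2 e he
    rw [← map_pow, h1, map_one]
  have hEq : E' = omegaOne p (⊤ : Subgroup R) :=
    Subgroup.eq_of_le_of_card_ge hE'Ω (by rw [hΩ2, hE'c])
  obtain ⟨c, hcC, hco⟩ := NarrowPrime.exists_orderOf_eq C (hR.to_subgroup C) hC
  have hcΩ : c ∈ omegaOne p (⊤ : Subgroup R) :=
    Subgroup.subset_closure ⟨Subgroup.mem_top _, by rw [← hco, pow_orderOf_eq_one]⟩
  rw [← hEq] at hcΩ
  obtain ⟨e, -, rfl⟩ := hcΩ
  have h1 : (Y.subtype e) ∈ Y ⊓ C := Subgroup.mem_inf.mpr ⟨e.2, hcC⟩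
  rw [hYC, Subgroup.mem_bot] at h1
  rw [h1, orderOf_one] at hco
  exact (Fact.out : p.Prime).one_lt.ne hco

end Internal

end Cfsg.Agent.Helper8.MetaAut
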