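import Mathlib
import Cfsg.Prelude.Def_OddOrderLocal
import Cfsg.Agent.S0126
import Cfsg.Agent.Lib.Helper19.PGroupBasic
import Cfsg.Agent.Lib.Helper22.ClassTwo
import Cfsg.Agent.Lib.Helper22.SmallOmega
import Cfsg.Agent.Lib.Helper8.Narrow
import Cfsg.Agent.Lib.Helper8.RankTwoAut
import Cfsg.Agent.Lib.Helper8.MetaAut
import Cfsg.Agent.Lib.Helper22.MetacyclicCrit
import Cfsg.Agent.S0128
import Cfsg.Agent.S0640
import Cfsg.Agent.S3771

/-!
# Odd `p'`-automorphisms of `p`-groups of rank two (helper8's shared library)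

Let `N` be a characteristic subgroup of the `p`-group `R`, nonabelian of order `p ^ 3` and
exponent `p`, containing every element of order `p` of `R`.  If `R = [R, Γ]` for a group `Γ` of odd
order acting on `R`, then `[N, R] ≤ Z(N)` (`commutator_mem_of_odd`).
-/

set_option autoImplicit false
set_option linter.style.haveILetI false

namespace Cfsg.Agent.Helper8.RankTwoOdd

open Cfsg
open scoped commutatorElement Pointwise

universe u

section Basic

variable {R : Type u} [Group R]

theorem comm_mul_left_of_commute {a b c : R} (h : b * c = c * b) : ⁅a * b, c⁆ = ⁅a, c⁆ := by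
  rw [commutatorElement_def, commutatorElement_def]
  calc a * b * c * (a * b)⁻¹ * c⁻¹ = a * (b * c) * b⁻¹ * a⁻¹ * c⁻¹ := by group
    _ = a * (c * b) * b⁻¹ * a⁻¹ * c⁻¹ := by rw [h]
    _ = a * c * a⁻¹ * c⁻¹ := by group

theorem comm_mul_right_of_commute {a b c : R} (h : a * c = c * a) : ⁅a, b * c⁆ = ⁅a, b⁆ := by
  rw [commutatorElement_def, commutatorElement_def]
  have h' : c * a⁻¹ = a⁻¹ * c := by
    calc c * a⁻¹ = a⁻¹ * (a * c) * a⁻¹ := by group
      _ = a⁻¹ * (c * a) * a⁻¹ := by rw [h]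
      _ = a⁻¹ * c := by group
  calc a * (b * c) * a⁻¹ * (b * c)⁻¹ = a * b * (c * a⁻¹) * c⁻¹ * b⁻¹ := by group
    _ = a * b * (a⁻¹ * c) * c⁻¹ * b⁻¹ := by rw [h']
    _ = a * b * a⁻¹ * b⁻¹ := by group

theorem mk_comm_of_commutator_mem (Z : Subgroup R) [Z.Normal] {a b : R} (h : ⁅a, b⁆ ∈ Z) :
    (QuotientGroup.mk a : R ⧸ Z) * QuotientGroup.mk b =
      QuotientGroup.mk b * QuotientGroup.mk a := by
  have h1 : a * b = ⁅a, b⁆ * (b * a) := by
    rw [commutatorElement_def]
    group
  rw [← QuotientGroup.mk_mul, h1, QuotientGroup.mk_mul, (QuotientGroup.eq_one_iff _).mpr h,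
    one_mul, QuotientGroup.mk_mul]

/-- elements of `K ⊔ ⟨h⟩` for normal `K` -/
theorem exists_pow_mul_of_mem_sup [Finite R] (K : Subgroup R) [K.Normal] (h y : R)
    (hy : y ∈ K ⊔ Subgroup.zpowers h) : ∃ (e : ℕ) (m : R), m ∈ K ∧ y = h ^ e * m := by
  have hy' : y ∈ (Subgroup.zpowers h : Set R) * (K : Set R) := by
    rw [← Subgroup.mul_normal (Subgroup.zpowers h) K, sup_comm]
    exact hy
  obtain ⟨a, ha, m, hm, rfl⟩ := Set.mem_mul.mp hy'
  rw [SetLike.mem_coe, ← mem_powers_iff_mem_zpowers, Submonoid.mem_powers_iff] at ha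
  obtain ⟨e, rfl⟩ := ha
  exact ⟨e, m, hm, rfl⟩

/-- if `u ^ p = 1` and `u ^ e ∈ K` with `e` prime to `p` then `u ∈ K` -/
theorem mem_of_pow_mem {p : ℕ} (hpp : p.Prime) (K : Subgroup R) {u : R} {e : ℕ} (hu : u ^ p = 1)
    (he : ¬ p ∣ e) (h : u ^ e ∈ K) : u ∈ K := by
  have hcop : Nat.Coprime e p := ((Nat.Prime.coprime_iff_not_dvd hpp).mpr he).symm
  obtain ⟨a, -, ha⟩ := Nat.exists_mul_mod_eq_one_of_coprime hcop hpp.one_lt
  have h1 : u ^ (e * a) = u := by
    rw [pow_eq_pow_mod (e * a) hu, ha, pow_one]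
  rw [← h1, pow_mul]
  exact K.pow_mem h a

/-- a stationary step of the chain `U ∩ Z_i(R)` is stationary for ever -/
theorem chain_stuck (U : Subgroup R) [hU : U.Normal] (i : ℕ)
    (h : Narrow.chain U (i + 1) = Narrow.chain U i) :
    ∀ j, Narrow.chain U (i + j) = Narrow.chain U i := by
  intro j
  induction j with
  | zero => rfl
  | succ j ih =>
    apply le_antisymm
    · intro n hn
      rw [← h]
      refine Subgroup.mem_inf.mpr ⟨hn.1, ?_⟩
      rw [Subgroup.mem_upperCentralSeries_succ_iff]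
      intro y
      have h1 : n * y * n⁻¹ * y⁻¹ ∈ Narrow.chain U (i + j) := by
        refine Subgroup.mem_inf.mpr ⟨?_, ?_⟩
        · have h2 : n * y * n⁻¹ * y⁻¹ = n * (y * n⁻¹ * y⁻¹) := by group
          rw [h2]
          exact U.mul_mem hn.1 (hU.conj_mem _ (U.inv_mem hn.1) _)
        · exact (Subgroup.mem_upperCentralSeries_succ_iff.mp hn.2) y
      rw [ih] at h1
      exact h1.2
    · exact inf_le_inf_left _ (Subgroup.upperCentralSeries_mono R (by omega))

end Basic

section Extraspecial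

variable {R : Type u} [Group R] [Finite R] {p : ℕ} [Fact p.Prime]

/-- the centre of a nonabelian normal subgroup of order `p ^ 3` has order `p` -/
theorem card_inf_centralizer (hR : IsPGroup p R) (N : Subgroup R) [hNn : N.Normal]
    (hNcard : Nat.card N = p ^ 3) (hNnab : ∃ x ∈ N, ∃ y ∈ N, x * y ≠ y * x) :
    Nat.card (N ⊓ Subgroup.centralizer (N : Set R) : Subgroup R) = p := by
  have hpp : p.Prime := Fact.out
  obtain ⟨e₁, he₁, e₂, he₂, hne⟩ := hNnab
  set Z : Subgroup R := N ⊓ Subgroup.centralizer (N : Set R) with hZ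
  have hZne : Z ≠ ⊥ := by
    have hNne : N ≠ ⊥ := by
      intro h
      rw [h, Subgroup.mem_bot] at he₁ he₂
      apply hne
      rw [he₁, he₂]
    have h1 := Helper19.normal_inf_center_ne_bot hR N hNne
    intro h
    apply h1
    rw [eq_bot_iff, ← h]
    exact inf_le_inf_left N (Subgroup.center_le_centralizer _)
  have he₁Z : e₁ ∉ Z := by
    intro h
    have h1 := Subgroup.mem_centralizer_iff.mp h.2 e₂ he₂
    exact hne h1.symm
  obtain ⟨k, hk⟩ := IsPGroup.iff_card.mp (hR.to_subgroup Z)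
  have hk0 : k ≠ 0 := by
    rintro rfl
    rw [pow_zero] at hk
    exact hZne (Subgroup.card_eq_one.mp hk)
  have hk2 : k < 2 := by
    by_contra hge
    rw [not_lt] at hge
    set Y := Z ⊔ Subgroup.zpowers e₁ with hY
    have hYN : Y ≤ N := sup_le inf_le_left (Subgroup.zpowers_le.mpr he₁)
    have hZY : Z < Y := by
      refine lt_of_le_of_ne le_sup_left ?_
      intro h
      apply he₁Z
      rw [h]
      exact Subgroup.mem_sup_right (Subgroup.mem_zpowers e₁)
    have h1 := Helper19.mul_card_le_of_lt hR hZY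
    have h2 : Nat.card N ≤ Nat.card Y := by
      rw [hNcard]
      calc p ^ 3 = p * p ^ 2 := by ring
        _ ≤ p * p ^ k := Nat.mul_le_mul_left _ (Nat.pow_le_pow_right hpp.pos hge)
        _ = p * Nat.card Z := by rw [hk]
        _ ≤ Nat.card Y := h1
    have hYeq : Y = N := Subgroup.eq_of_le_of_card_ge hYN h2
    have hYc : Y ≤ Subgroup.centralizer ({e₁} : Set R) := by
      apply sup_le
      · intro z hz
        rw [Subgroup.mem_centralizer_iff]
        intro d hd
        rw [Set.mem_singleton_iff] at hd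
        subst hd
        exact Subgroup.mem_centralizer_iff.mp hz.2 d he₁
      · rw [Subgroup.zpowers_le, Subgroup.mem_centralizer_iff]
        intro d hd
        rw [Set.mem_singleton_iff] at hd
        subst hd
        rfl
    have h3 : e₂ ∈ Y := by
      rw [hYeq]
      exact he₂
    have h4 := Subgroup.mem_centralizer_iff.mp (hYc h3) e₁ rfl
    exact hne h4
  have hk1 : k = 1 := by omega
  rw [hk, hk1, pow_one]

/-- a subgroup of order `p ^ 3` has class at most two -/
theorem commutator_mem_inf_centralizer (hR : IsPGroup p R) (N : Subgroup R)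
    (hNcard : Nat.card N = p ^ 3) :
    ∀ a ∈ N, ∀ b ∈ N, ⁅a, b⁆ ∈ N ⊓ Subgroup.centralizer (N : Set R) := by
  intro a ha b hb
  have h1 := Helper22.commutator_commutator_eq_bot_of_card_le_cube hR N hNcard.le
  rw [Subgroup.commutator_eq_bot_iff_le_centralizer] at h1
  exact Subgroup.mem_inf.mpr ⟨N.commutator_mem_commutator ha hb |> fun h =>
    (Subgroup.commutator_le_self N) h, h1 (Subgroup.commutator_mem_commutator ha hb)⟩

/-- the subgroup `L` -/
theorem exists_mid (hR : IsPGroup p R) (N : Subgroup R) [hNc : N.Characteristic]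
    (hNcard : Nat.card N = p ^ 3) (hNnab : ∃ x ∈ N, ∃ y ∈ N, x * y ≠ y * x)
    (hnot : ¬ ∀ x ∈ N, ∀ r : R, ⁅x, r⁆ ∈ N ⊓ Subgroup.centralizer (N : Set R)) :
    ∃ L : Subgroup R, L.Characteristic ∧ N ⊓ Subgroup.centralizer (N : Set R) ≤ L ∧ L ≤ N ∧
      Nat.card L = p ^ 2 ∧
      (∀ l ∈ L, ∀ r : R, ⁅l, r⁆ ∈ N ⊓ Subgroup.centralizer (N : Set R)) ∧
      (∀ n ∈ N, ∀ r : R, ⁅n, r⁆ ∈ L) := by
  have hpp : p.Prime := Fact.out
  haveI hNn : N.Normal := inferInstance
  set Z : Subgroup R := N ⊓ Subgroup.centralizer (N : Set R) with hZ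
  have hZcard : Nat.card Z = p := card_inf_centralizer hR N hNcard hNnab
  haveI hZchar : Z.Characteristic := by
    rw [hZ]
    infer_instance
  have hZcen : Z ≤ Subgroup.center R := Helper19.normal_card_prime_le_center hR Z hZcard
  have hZ1 : Narrow.chain N 1 = Z := by
    rw [Narrow.chain, Subgroup.upperCentralSeries_one]
    apply le_antisymm
    · exact inf_le_inf_left N (Subgroup.center_le_centralizer _)
    · exact le_inf inf_le_left hZcen
  set L : Subgroup R := Narrow.chain N 2 with hL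
  have hZL : Z ≤ L := by
    rw [← hZ1]
    exact Narrow.chain_le_succ N 1
  have hLN : L ≤ N := Narrow.chain_le N 2
  have hmemN : ∀ n ∈ N, ∀ r : R, n * r * n⁻¹ * r⁻¹ ∈ N := by
    intro n hn r
    have h2 : n * r * n⁻¹ * r⁻¹ = n * (r * n⁻¹ * r⁻¹) := by group
    rw [h2]
    exact N.mul_mem hn (hNn.conj_mem _ (N.inv_mem hn) _)
  have hLZ : ∀ l ∈ L, ∀ r : R, ⁅l, r⁆ ∈ Z := by
    intro l hl r
    rw [← hZ1, commutatorElement_def]
    exact Subgroup.mem_inf.mpr ⟨hmemN l hl.1 r,
      (Subgroup.mem_upperCentralSeries_succ_iff.mp hl.2) r⟩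
  have hLneN : L ≠ N := by
    intro h
    apply hnot
    intro x hx r
    rw [← h] at hx
    exact hLZ x hx r
  obtain ⟨n, hn⟩ := Narrow.exists_chain_eq hR N
  have hmono : ∀ i j, i ≤ j → Narrow.chain N i ≤ Narrow.chain N j := fun i j hij =>
    inf_le_inf_left _ (Subgroup.upperCentralSeries_mono R hij)
  have hLneZ : L ≠ Z := by
    intro h
    have h1 : Narrow.chain N (1 + 1) = Narrow.chain N 1 := by
      rw [hZ1, ← h]
    have h2 := chain_stuck N 1 h1 n
    have h3 : N ≤ Z := by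
      rw [← hZ1, ← h2]
      calc N = Narrow.chain N n := hn.symm
        _ ≤ Narrow.chain N (1 + n) := hmono _ _ (by omega)
    have h4 := Subgroup.card_le_of_le h3
    rw [hNcard, hZcard] at h4
    have h5 : p ^ 3 ≤ p ^ 1 := by rwa [pow_one]
    have := (Nat.pow_le_pow_iff_right hpp.one_lt).mp h5
    omega
  have hZltL : Z < L := lt_of_le_of_ne hZL (Ne.symm hLneZ)
  have hLltN : L < N := lt_of_le_of_ne hLN hLneN
  have hLcard : Nat.card L = p ^ 2 := by
    have h1 := Helper19.mul_card_le_of_lt hR hZltL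
    have h2 := Helper19.mul_card_le_of_lt hR hLltN
    rw [hZcard] at h1
    rw [hNcard] at h2
    have h3 : p * Nat.card L ≤ p * p ^ 2 := by
      calc p * Nat.card L ≤ p ^ 3 := h2
        _ = p * p ^ 2 := by ring
    have h4 : Nat.card L ≤ p ^ 2 := Nat.le_of_mul_le_mul_left h3 hpp.pos
    have h5 : p ^ 2 ≤ Nat.card L := by
      calc p ^ 2 = p * p := by ring
        _ ≤ Nat.card L := h1
    omega
  have hN3 : Narrow.chain N 3 = N := by
    have hne : Narrow.chain N (2 + 1) ≠ Narrow.chain N 2 := by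
      intro h
      have h2 := chain_stuck N 2 h n
      apply hLneN
      apply le_antisymm hLN
      rw [hL, ← h2]
      calc N = Narrow.chain N n := hn.symm
        _ ≤ Narrow.chain N (2 + n) := hmono _ _ (by omega)
    have hlt : L < Narrow.chain N 3 := lt_of_le_of_ne (hmono 2 3 (by omega)) (Ne.symm hne)
    apply Subgroup.eq_of_le_of_card_ge (Narrow.chain_le N 3)
    have h1 := Helper19.mul_card_le_of_lt hR hlt
    rw [hLcard] at h1
    rw [hNcard]
    calc p ^ 3 = p * p ^ 2 := by ring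
      _ ≤ _ := h1
  have hNL : ∀ n ∈ N, ∀ r : R, ⁅n, r⁆ ∈ L := by
    intro n hn r
    have hn3 : n ∈ Narrow.chain N 3 := by
      rw [hN3]
      exact hn
    rw [commutatorElement_def]
    exact Subgroup.mem_inf.mpr ⟨hmemN n hn r,
      (Subgroup.mem_upperCentralSeries_succ_iff.mp hn3.2) r⟩
  refine ⟨L, ?_, hZL, hLN, hLcard, hLZ, hNL⟩
  rw [hL]
  infer_instance

end Extraspecial

section Main

variable {R : Type u} [Group R] [Finite R] {p : ℕ} [Fact p.Prime]
  {Γ : Type*} [Group Γ] [Finite Γ]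

/-- **No transvections.**  Let `N` be a characteristic subgroup of the `p`-group `R`, nonabelian
of order `p ^ 3` and exponent `p` and containing every element of order `p`.  If `R = [R, Γ]` for a
group `Γ` of odd order acting on `R`, then `[N, R] ≤ Z(N)`. -/
theorem commutator_mem_of_odd (hp : p ≠ 2) (hR : IsPGroup p R) (θ : Γ →* MulAut R)
    (hodd : Odd (Nat.card Γ))
    (hcomm : ∀ K : Subgroup R, K.Normal → (∀ g x, x⁻¹ * θ g x ∈ K) → K = ⊤)
    (N : Subgroup R) [hNc : N.Characteristic] (hNexp : ∀ x ∈ N, x ^ p = 1)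
    (hNall : ∀ x : R, x ^ p = 1 → x ∈ N) (hNcard : Nat.card N = p ^ 3)
    (hNnab : ∃ x ∈ N, ∃ y ∈ N, x * y ≠ y * x) :
    ∀ x ∈ N, ∀ r : R, ⁅x, r⁆ ∈ N ⊓ Subgroup.centralizer (N : Set R) := by
  by_contra hnot
  obtain ⟨L, hLc, hZL, hLN, hLcard, hLZ, hNL⟩ := exists_mid hR N hNcard hNnab hnot
  have hpp : p.Prime := Fact.out
  haveI hNn : N.Normal := inferInstance
  haveI := hLc
  haveI hLn : L.Normal := inferInstance
  set Z : Subgroup R := N ⊓ Subgroup.centralizer (N : Set R) with hZ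
  haveI hZc : Z.Characteristic := by
    rw [hZ]
    infer_instance
  haveI hZn : Z.Normal := inferInstance
  have hZcard : Nat.card Z = p := card_inf_centralizer hR N hNcard hNnab
  have hZcen : Z ≤ Subgroup.center R := Helper19.normal_card_prime_le_center hR Z hZcard
  have hZcomm : ∀ z ∈ Z, ∀ g : R, g * z = z * g := fun z hz g =>
    Subgroup.mem_center_iff.mp (hZcen hz) g
  have hZN : Z ≤ N := inf_le_left
  have hNN : ∀ a ∈ N, ∀ b ∈ N, ⁅a, b⁆ ∈ Z := commutator_mem_inf_centralizer hR N hNcard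
  have hLab : ∀ a ∈ L, ∀ b ∈ L, a * b = b * a := by
    intro a ha b hb
    exact congrArg Subtype.val
      (Helper22.mul_comm_of_card_le_sq (hR.to_subgroup L) hLcard.le ⟨a, ha⟩ ⟨b, hb⟩)
  have hsingle : ∀ (H : Subgroup R) (c d : R), (∀ a ∈ H, a * c = c * a) → d * c = c * d →
      ∀ a ∈ H ⊔ Subgroup.zpowers d, a * c = c * a := by
    intro H c d h1 h2 a ha
    have h3 : H ⊔ Subgroup.zpowers d ≤ Subgroup.centralizer ({c} : Set R) := by
      apply sup_le
      · intro a ha
        rw [Subgroup.mem_centralizer_iff]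
        intro e he
        rw [Set.mem_singleton_iff] at he
        subst he
        exact (h1 a ha).symm
      · rw [Subgroup.zpowers_le, Subgroup.mem_centralizer_iff]
        intro e he
        rw [Set.mem_singleton_iff] at he
        subst he
        exact h2.symm
    exact ((Subgroup.mem_centralizer_iff.mp (h3 ha)) c rfl).symm
  have hsupcard : ∀ (H K : Subgroup R) (d : R), H ≤ K → d ∈ K → d ∉ H →
      Nat.card K ≤ p * Nat.card H → H ⊔ Subgroup.zpowers d = K := by
    intro H K d hHK hdK hdH hcard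
    have hle : H ⊔ Subgroup.zpowers d ≤ K := sup_le hHK (Subgroup.zpowers_le.mpr hdK)
    have hlt : H < H ⊔ Subgroup.zpowers d := by
      refine lt_of_le_of_ne le_sup_left ?_
      intro h
      apply hdH
      rw [h]
      exact Subgroup.mem_sup_right (Subgroup.mem_zpowers d)
    apply Subgroup.eq_of_le_of_card_ge hle
    exact hcard.trans (Helper19.mul_card_le_of_lt hR hlt)
  -- the element `s`
  obtain ⟨s, hsN, hsL⟩ : ∃ s ∈ N, s ∉ L := by
    by_contra h
    push_neg at h
    have h1 : N ≤ L := h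
    have h2 := Subgroup.card_le_of_le h1
    rw [hNcard, hLcard] at h2
    have := (Nat.pow_le_pow_iff_right hpp.one_lt).mp h2
    omega
  have hNs : L ⊔ Subgroup.zpowers s = N := by
    apply hsupcard L N s hLN hsN hsL
    rw [hNcard, hLcard]
    exact (by ring : p ^ 3 = p * p ^ 2).le
  -- the centralizer of `L`
  set M : Subgroup R := Subgroup.centralizer (L : Set R) with hM
  haveI hMc : M.Characteristic := by
    rw [hM]
    infer_instance
  haveI hMn : M.Normal := inferInstance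
  have hMcomm : ∀ m ∈ M, ∀ l ∈ L, l * m = m * l := fun m hm l hl =>
    (Subgroup.mem_centralizer_iff.mp hm) l hl
  have hLM : L ≤ M := by
    intro a ha
    rw [hM, Subgroup.mem_centralizer_iff]
    intro b hb
    exact hLab b hb a ha
  have hsM : s ∉ M := by
    intro h
    have h1 : L ≤ Z := by
      intro l hl
      refine Subgroup.mem_inf.mpr ⟨hLN hl, ?_⟩
      rw [Subgroup.mem_centralizer_iff]
      intro n hn
      rw [← hNs] at hn
      exact hsingle L l s (fun a ha => hLab a ha l hl) ((hMcomm s h l hl).symm) n hn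
    have h2 := Subgroup.card_le_of_le h1
    rw [hLcard, hZcard] at h2
    have h3 : p ^ 2 ≤ p ^ 1 := by rwa [pow_one]
    have := (Nat.pow_le_pow_iff_right hpp.one_lt).mp h3
    omega
  obtain ⟨ℓ₀, hℓ₀L, hℓ₀Z⟩ : ∃ l ∈ L, l ∉ Z := by
    by_contra h
    push_neg at h
    have h1 : L ≤ Z := h
    have h2 := Subgroup.card_le_of_le h1
    rw [hLcard, hZcard] at h2
    have h3 : p ^ 2 ≤ p ^ 1 := by rwa [pow_one]
    have := (Nat.pow_le_pow_iff_right hpp.one_lt).mp h3
    omega
  have hLgen : ∀ l ∈ L, l ∉ Z → Z ⊔ Subgroup.zpowers l = L := by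
    intro l hl hlZ
    apply hsupcard Z L l hZL hl hlZ
    rw [hLcard, hZcard]
    exact (by ring : p ^ 2 = p * p).le
  have hRM : Nat.card R ≤ p * Nat.card M := by
    have h1 := Narrow.card_le_mul_of_commutator (⊤ : Subgroup R) Z ℓ₀
      (fun u _ => hLZ ℓ₀ hℓ₀L u) (fun u _ z hz => hZcomm z hz u)
    have h2 : (⊤ : Subgroup R) ⊓ Subgroup.centralizer ({ℓ₀} : Set R) ≤ M := by
      intro u hu
      rw [hM, Subgroup.mem_centralizer_iff]
      intro l hl
      rw [← hLgen ℓ₀ hℓ₀L hℓ₀Z] at hl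
      exact hsingle Z u ℓ₀ (fun a ha => (hZcomm a ha u).symm)
        ((Subgroup.mem_centralizer_iff.mp hu.2) ℓ₀ rfl) l hl
    rw [Subgroup.card_top, hZcard] at h1
    calc Nat.card R
        ≤ Nat.card ((⊤ : Subgroup R) ⊓ Subgroup.centralizer ({ℓ₀} : Set R) : Subgroup R) * p := h1
      _ ≤ Nat.card M * p := Nat.mul_le_mul_right _ (Subgroup.card_le_of_le h2)
      _ = p * Nat.card M := mul_comm _ _
  have hMs : M ⊔ Subgroup.zpowers s = ⊤ := by
    apply hsupcard M ⊤ s le_top (Subgroup.mem_top s) hsM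
    rw [Subgroup.card_top]
    exact hRM
  -- commutators with powers of `s`
  have hspow : ∀ r : R, ⁅s, r⁆ ∈ Z → ∀ i : ℕ, ⁅s ^ i, r⁆ ∈ Z := by
    intro r hr i
    induction i with
    | zero =>
      rw [pow_zero, commutatorElement_one_left]
      exact Z.one_mem
    | succ i ih =>
      have h1 : ⁅s ^ (i + 1), r⁆ = s ^ i * ⁅s, r⁆ * (s ^ i)⁻¹ * ⁅s ^ i, r⁆ := by
        rw [pow_succ]
        simp only [commutatorElement_def]
        group
      rw [h1]
      exact Z.mul_mem (hZn.conj_mem _ hr _) ih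
  obtain ⟨x₀, hx₀M, hx₀⟩ : ∃ x ∈ M, ⁅s, x⁆ ∉ Z := by
    by_contra hcon
    push_neg at hcon
    apply hnot
    have h1 : ∀ r : R, ⁅s, r⁆ ∈ Z := by
      intro r
      obtain ⟨e, m, hm, rfl⟩ := exists_pow_mul_of_mem_sup M s r
        (by rw [hMs]; exact Subgroup.mem_top r)
      have h2 : ⁅s, s ^ e * m⁆ = s ^ e * ⁅s, m⁆ * (s ^ e)⁻¹ := by
        simp only [commutatorElement_def]
        have h3 : s * (s ^ e * m) = s ^ e * (s * m) := by
          rw [← mul_assoc, ← pow_succ', pow_succ, mul_assoc]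
        rw [h3]
        group
      rw [h2]
      exact hZn.conj_mem _ (hcon m hm) _
    intro n hn r
    obtain ⟨e, l, hl, rfl⟩ := exists_pow_mul_of_mem_sup L s n (by rw [hNs]; exact hn)
    have h2 : ⁅s ^ e * l, r⁆ = s ^ e * ⁅l, r⁆ * (s ^ e)⁻¹ * ⁅s ^ e, r⁆ := by
      simp only [commutatorElement_def]
      group
    rw [h2]
    exact Z.mul_mem (hZn.conj_mem _ (hLZ l hl r) _) (hspow r (h1 r) e)
  -- the centralizer of `N`
  set X : Subgroup R := Subgroup.centralizer (N : Set R) with hX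
  haveI hXc : X.Characteristic := by
    rw [hX]
    infer_instance
  haveI hXn : X.Normal := inferInstance
  have hXM : X ≤ M := Subgroup.centralizer_le hLN
  have hZX : Z ≤ X := inf_le_right
  have hXcomm : ∀ c ∈ X, ∀ n ∈ N, n * c = c * n := fun c hc n hn =>
    (Subgroup.mem_centralizer_iff.mp hc) n hn
  -- `p`-th powers of elements of `M` centralize `N`
  have hpowX : ∀ m ∈ M, m ^ p ∈ X := by
    intro m hm
    rw [hX, Subgroup.mem_centralizer_iff]
    intro n hn
    set a := ⁅m, n⁆ with ha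
    have haL : a ∈ L := by
      have h1 := hNL n hn m
      have h2 : a = (⁅n, m⁆)⁻¹ := (commutatorElement_inv n m).symm
      rw [h2]
      exact L.inv_mem h1
    have hma : Commute m a := (hMcomm m hm a haL).symm
    have hmn : m * n = a * n * m := by
      rw [ha, commutatorElement_def]
      group
    have hconj : ∀ i : ℕ, m ^ i * n = a ^ i * n * m ^ i := by
      intro i
      induction i with
      | zero => simp
      | succ i ih =>
        calc m ^ (i + 1) * n = m * (m ^ i * n) := by rw [pow_succ', mul_assoc]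
          _ = m * (a ^ i * n * m ^ i) := by rw [ih]
          _ = (m * a ^ i) * n * m ^ i := by group
          _ = (a ^ i * m) * n * m ^ i := by rw [(hma.pow_right i).eq]
          _ = a ^ i * (m * n) * m ^ i := by group
          _ = a ^ i * (a * n * m) * m ^ i := by rw [hmn]
          _ = a ^ (i + 1) * n * m ^ (i + 1) := by
            rw [pow_succ a i, pow_succ' m i]
            group
    have h1 := hconj p
    rw [hNexp a (hLN haL), one_mul] at h1
    exact h1.symm
  -- commutators of `s` with powers of elements of `M`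
  have hsxpow : ∀ y ∈ M, ∀ i : ℕ, ⁅s, y ^ i⁆ = ⁅s, y⁆ ^ i := by
    intro y hy i
    induction i with
    | zero => simp
    | succ i ih =>
      have h1 : ⁅s, y⁆ ∈ L := hNL s hsN y
      have h2 : y ^ i * ⁅s, y⁆ = ⁅s, y⁆ * y ^ i := (hMcomm (y ^ i) (M.pow_mem hy i) _ h1).symm
      have h3 : ⁅s, y ^ (i + 1)⁆ = ⁅s, y ^ i⁆ * (y ^ i * ⁅s, y⁆ * (y ^ i)⁻¹) := by
        rw [pow_succ]
        simp only [commutatorElement_def]
        group
      rw [h3, h2, ih, pow_succ]
      group
  -- the cyclic group `D`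
  set D : Subgroup R := X ⊔ Subgroup.zpowers x₀ with hD
  have hDM : D ≤ M := sup_le hXM (Subgroup.zpowers_le.mpr hx₀M)
  have hDN : D ⊓ N ≤ Z := by
    intro d hd
    obtain ⟨hdD, hdN⟩ := Subgroup.mem_inf.mp hd
    obtain ⟨e, c, hc, rfl⟩ := exists_pow_mul_of_mem_sup X x₀ d hdD
    have h1 : ⁅s, x₀ ^ e * c⁆ = ⁅s, x₀⁆ ^ e := by
      rw [comm_mul_right_of_commute (hXcomm c hc s hsN), hsxpow x₀ hx₀M e]
    have h2 : ⁅s, x₀⁆ ^ e ∈ Z := by
      rw [← h1]
      exact hNN s hsN _ hdN
    have h3 : p ∣ e := by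
      by_contra hpe
      exact hx₀ (mem_of_pow_mem hpp Z (hNexp _ (hLN (hNL s hsN x₀))) hpe h2)
    obtain ⟨f, rfl⟩ := h3
    refine Subgroup.mem_inf.mpr ⟨hdN, ?_⟩
    rw [pow_mul]
    exact X.mul_mem (X.pow_mem (hpowX x₀ hx₀M) f) hc
  have hDcyc : IsCyclic ↥D := by
    by_contra hnc
    obtain ⟨E, -, hEe, hEc⟩ := Cfsg.Agent.S0126.result hp (hR.to_subgroup D) hnc
    have hle : E.map D.subtype ≤ Z := by
      rintro _ ⟨e, he, rfl⟩
      apply hDN
      refine Subgroup.mem_inf.mpr ⟨e.2, hNall _ ?_⟩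
      have h1 := hEe.2 e he
      have h2 := congrArg Subtype.val h1
      simpa using h2
    have h1 := Subgroup.card_le_of_le hle
    rw [Subgroup.card_map_of_injective D.subtype_injective, hEc, hZcard] at h1
    have h3 : p ^ 2 ≤ p ^ 1 := by rwa [pow_one]
    have := (Nat.pow_le_pow_iff_right hpp.one_lt).mp h3
    omega
  obtain ⟨x, hxD, hxgen⟩ : ∃ x ∈ D, ∀ d ∈ D, d ∈ Subgroup.zpowers x := by
    haveI := hDcyc
    obtain ⟨g, hg⟩ := IsCyclic.exists_generator (α := ↥D)
    refine ⟨g, g.2, ?_⟩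
    intro d hd
    obtain ⟨k, hk⟩ := Subgroup.mem_zpowers_iff.mp (hg ⟨d, hd⟩)
    exact Subgroup.mem_zpowers_iff.mpr ⟨k, by simpa using congrArg Subtype.val hk⟩
  have hxM : x ∈ M := hDM hxD
  have hDx : Subgroup.zpowers x = D :=
    le_antisymm (Subgroup.zpowers_le.mpr hxD) (fun d hd => hxgen d hd)
  set u := ⁅s, x⁆ with hu_def
  have hu : u ∉ Z := by
    intro h
    apply hx₀
    have h1 := hxgen x₀ (Subgroup.mem_sup_right (Subgroup.mem_zpowers x₀))
    rw [← mem_powers_iff_mem_zpowers, Submonoid.mem_powers_iff] at h1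
    obtain ⟨i, hi⟩ := h1
    rw [← hi, hsxpow x hxM i]
    exact Z.pow_mem h i
  have huL : u ∈ L := hNL s hsN x
  have huN : u ∈ N := hLN huL
  have hLu : Z ⊔ Subgroup.zpowers u = L := hLgen u huL hu
  set z₀ := ⁅s, u⁆ with hz₀_def
  have hz₀Z : z₀ ∈ Z := hNN s hsN u huN
  have hz₀1 : z₀ ≠ 1 := by
    intro h
    apply hsM
    rw [hM, Subgroup.mem_centralizer_iff]
    intro l hl
    rw [← hLu] at hl
    exact hsingle Z s u (fun a ha => (hZcomm a ha s).symm)
      ((commutatorElement_eq_one_iff_mul_comm.mp h).symm) l hl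
  -- `M = L ⟨x⟩`
  have hMx : L ⊔ Subgroup.zpowers x = M := by
    have hle : L ⊔ Subgroup.zpowers x ≤ M := sup_le hLM (Subgroup.zpowers_le.mpr hxM)
    apply Subgroup.eq_of_le_of_card_ge hle
    have h1 := Narrow.card_le_mul_of_commutator M L s (fun m _ => hNL s hsN m)
      (fun m hm l hl => (hMcomm m hm l hl).symm)
    have h2 : M ⊓ Subgroup.centralizer ({s} : Set R) ≤ X := by
      intro c hc
      rw [hX, Subgroup.mem_centralizer_iff]
      intro n hn
      rw [← hNs] at hn
      exact hsingle L c s (fun a ha => hMcomm c hc.1 a ha)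
        ((Subgroup.mem_centralizer_iff.mp hc.2) s rfl) n hn
    have h4 : Nat.card M ≤ Nat.card X * p ^ 2 := by
      calc Nat.card M
          ≤ Nat.card (M ⊓ Subgroup.centralizer ({s} : Set R) : Subgroup R) * Nat.card L := h1
        _ ≤ Nat.card X * p ^ 2 := by
          rw [hLcard]
          exact Nat.mul_le_mul_right _ (Subgroup.card_le_of_le h2)
    have hXD : X < D := by
      refine lt_of_le_of_ne le_sup_left ?_
      intro h
      apply hx₀
      have h5 : x₀ ∈ X := by
        rw [h]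
        exact Subgroup.mem_sup_right (Subgroup.mem_zpowers x₀)
      have h6 : ⁅s, x₀⁆ = 1 := by
        rw [commutatorElement_eq_one_iff_mul_comm]
        exact hXcomm x₀ h5 s hsN
      rw [h6]
      exact Z.one_mem
    have h5 := Helper19.mul_card_le_of_lt hR hXD
    have h6 : L.relIndex (D ⊔ L) = L.relIndex D := Subgroup.relIndex_sup_right D L
    have h7 : Nat.card L * L.relIndex (D ⊔ L) = Nat.card (D ⊔ L : Subgroup R) := by
      have := Subgroup.relIndex_mul_relIndex (⊥ : Subgroup R) L (D ⊔ L) bot_le le_sup_right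
      rwa [Subgroup.relIndex_bot_left, Subgroup.relIndex_bot_left] at this
    have h8 : Nat.card (L ⊓ D : Subgroup R) * L.relIndex D = Nat.card D := by
      have := Subgroup.relIndex_mul_relIndex (⊥ : Subgroup R) (L ⊓ D) D bot_le inf_le_right
      rwa [Subgroup.relIndex_bot_left, Subgroup.relIndex_bot_left,
        Subgroup.inf_relIndex_right] at this
    have h9 : Nat.card (L ⊓ D : Subgroup R) ≤ p := by
      rw [← hZcard]
      apply Subgroup.card_le_of_le
      rw [inf_comm]
      exact (inf_le_inf_left D hLN).trans hDN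
    rw [hDx, sup_comm, ← h7, h6, hLcard]
    have h10 : p * Nat.card M ≤ p * (p ^ 2 * L.relIndex D) := by
      calc p * Nat.card M ≤ p * (Nat.card X * p ^ 2) := Nat.mul_le_mul_left _ h4
        _ = (p * Nat.card X) * p ^ 2 := by ring
        _ ≤ Nat.card D * p ^ 2 := Nat.mul_le_mul_right _ h5
        _ = (Nat.card (L ⊓ D : Subgroup R) * L.relIndex D) * p ^ 2 := by rw [h8]
        _ ≤ (p * L.relIndex D) * p ^ 2 :=
          Nat.mul_le_mul_right _ (Nat.mul_le_mul_right _ h9)
        _ = p * (p ^ 2 * L.relIndex D) := by ring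
    exact Nat.le_of_mul_le_mul_left h10 hpp.pos
  -- orders
  have hz₀ord : orderOf z₀ = p := by
    have h1 : orderOf z₀ ∣ p := orderOf_dvd_of_pow_eq_one (hNexp z₀ (hZN hz₀Z))
    rcases (Nat.dvd_prime hpp).mp h1 with h | h
    · exact absurd (orderOf_eq_one_iff.mp h) hz₀1
    · exact h
  have hZz₀ : ∀ z ∈ Z, z ∈ Subgroup.zpowers z₀ := by
    intro z hz
    have h1 : (⟨z, hz⟩ : Z) ∈ Subgroup.zpowers (⟨z₀, hz₀Z⟩ : Z) :=
      mem_zpowers_of_prime_card hZcard (fun h => hz₀1 (congrArg Subtype.val h))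
    obtain ⟨k, hk⟩ := Subgroup.mem_zpowers_iff.mp h1
    exact Subgroup.mem_zpowers_iff.mpr ⟨k, by simpa using congrArg Subtype.val hk⟩
  -- the quotient by `Z`
  have hLcenQ : ∀ l ∈ L, ∀ q : R ⧸ Z, q * (QuotientGroup.mk l : R ⧸ Z) = QuotientGroup.mk l * q := by
    intro l hl q
    obtain ⟨r, rfl⟩ := QuotientGroup.mk_surjective q
    apply mk_comm_of_commutator_mem Z
    have h1 : ⁅r, l⁆ = (⁅l, r⁆)⁻¹ := (commutatorElement_inv l r).symm
    rw [h1]
    exact Z.inv_mem (hLZ l hl r)
  have hLcenQ' : ∀ l ∈ L, (QuotientGroup.mk l : R ⧸ Z) ∈ Subgroup.center (R ⧸ Z) := by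
    intro l hl
    rw [Subgroup.mem_center_iff]
    exact hLcenQ l hl
  have huQord : orderOf (QuotientGroup.mk u : R ⧸ Z) = p := by
    have h0 : (QuotientGroup.mk u : R ⧸ Z) ^ p = 1 := by
      rw [← QuotientGroup.mk_pow, hNexp u huN, QuotientGroup.mk_one]
    have h1 : orderOf (QuotientGroup.mk u : R ⧸ Z) ∣ p := orderOf_dvd_of_pow_eq_one h0
    rcases (Nat.dvd_prime hpp).mp h1 with h | h
    · exfalso
      apply hu
      exact (QuotientGroup.eq_one_iff u).mp (orderOf_eq_one_iff.mp h)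
    · exact h
  -- the invariance of the characteristic subgroups
  have hinv : ∀ (K : Subgroup R) [K.Characteristic] (g : Γ) (y : R), y ∈ K → θ g y ∈ K := by
    intro K hK g y hy
    exact (Subgroup.characteristic_iff_map_le.mp hK) (θ g) ⟨y, hy, rfl⟩
  -- `z₀` is a power of `x ^ p`
  obtain ⟨f', hf'⟩ : ∃ f' : ℕ, (x ^ p) ^ f' = z₀ := by
    have h1 : z₀ ∈ Subgroup.zpowers x := by
      rw [hDx]
      exact Subgroup.mem_sup_left (hZX hz₀Z)
    rw [← mem_powers_iff_mem_zpowers, Submonoid.mem_powers_iff] at h1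
    obtain ⟨f, hf⟩ := h1
    have h2 : p ∣ f := by
      by_contra hpf
      obtain ⟨k, hk⟩ := (IsPGroup.iff_orderOf.mp hR) x
      have hcop : (orderOf x).Coprime f := by
        rw [hk]
        exact Nat.Coprime.pow_left k ((Nat.Prime.coprime_iff_not_dvd hpp).mpr hpf)
      have h3 : orderOf (x ^ f) = orderOf x := Nat.Coprime.orderOf_pow hcop
      rw [hf, hz₀ord] at h3
      have h4 : x ∈ N := hNall x (by rw [h3]; exact pow_orderOf_eq_one x)
      exact hu (hNN s hsN x h4)
    obtain ⟨f', rfl⟩ := h2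
    exact ⟨f', by rw [← pow_mul]; exact hf⟩
  -- the main computation: the action on `N / L`
  have hkey : ∀ g : Γ, ∃ k₁ : ℕ, k₁ ^ 2 ≡ 1 [MOD p] ∧
      ∀ n ∈ N, (QuotientGroup.mk (θ g n) : R ⧸ L) = (QuotientGroup.mk n) ^ k₁ := by
    intro g
    obtain ⟨k₁, l₁, hl₁, hs⟩ := exists_pow_mul_of_mem_sup L s (θ g s)
      (by rw [hNs]; exact hinv N g s hsN)
    obtain ⟨k₂, z₂, hz₂, hθu⟩ := exists_pow_mul_of_mem_sup Z u (θ g u)
      (by rw [hLu]; exact hinv L g u huL)
    obtain ⟨k₃, l₃, hl₃, hθx⟩ := exists_pow_mul_of_mem_sup L x (θ g x)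
      (by rw [hMx]; exact hinv M g x hxM)
    obtain ⟨k₀, hk₀⟩ : ∃ k₀ : ℕ, z₀ ^ k₀ = θ g z₀ := by
      have h1 := hZz₀ _ (hinv Z g z₀ hz₀Z)
      rw [← mem_powers_iff_mem_zpowers, Submonoid.mem_powers_iff] at h1
      exact h1
    -- relation (i)
    have hrel1 : k₀ ≡ k₂ * k₁ [MOD p] := by
      have h1 : θ g z₀ = z₀ ^ (k₂ * k₁) := by
        have hc1 : ⁅s, u ^ k₂⁆ ∈ Subgroup.center R := hZcen (hNN s hsN _ (N.pow_mem huN k₂))
        have hc2 : ⁅s, u⁆ ∈ Subgroup.center R := hZcen hz₀Z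
        rw [hz₀_def, map_commutatorElement, hs, hθu,
          comm_mul_left_of_commute (hLab l₁ hl₁ _ (L.mul_mem (L.pow_mem huL k₂) (hZL hz₂))),
          comm_mul_right_of_commute (hZcomm z₂ hz₂ (s ^ k₁)),
          Helper22.commutator_pow_left_of_central (u ^ k₂) s hc1 k₁,
          Helper22.commutator_pow_right_of_central u s hc2 k₂, ← pow_mul]
      rw [← hk₀] at h1
      have h2 := pow_eq_pow_iff_modEq.mp h1
      rwa [hz₀ord] at h2
    -- relation (ii)
    have hrel2 : k₂ ≡ k₃ * k₁ [MOD p] := by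
      have h1 : (QuotientGroup.mk (θ g u) : R ⧸ Z) = (QuotientGroup.mk u) ^ k₂ := by
        rw [hθu, QuotientGroup.mk_mul, QuotientGroup.mk_pow, (QuotientGroup.eq_one_iff z₂).mpr hz₂,
          mul_one]
      have h2 : (QuotientGroup.mk (θ g u) : R ⧸ Z) = (QuotientGroup.mk u) ^ (k₃ * k₁) := by
        have hc1 : ⁅(QuotientGroup.mk s : R ⧸ Z), (QuotientGroup.mk x : R ⧸ Z) ^ k₃⁆ ∈
            Subgroup.center (R ⧸ Z) := by
          have h3 : ⁅(QuotientGroup.mk s : R ⧸ Z), (QuotientGroup.mk x : R ⧸ Z) ^ k₃⁆ =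
              QuotientGroup.mk ⁅s, x ^ k₃⁆ := by
            rw [← QuotientGroup.mk_pow]
            exact (map_commutatorElement (QuotientGroup.mk' Z) s (x ^ k₃)).symm
          rw [h3]
          exact hLcenQ' _ (hNL s hsN _)
        have hc2 : ⁅(QuotientGroup.mk s : R ⧸ Z), QuotientGroup.mk x⁆ ∈
            Subgroup.center (R ⧸ Z) := by
          have h3 : ⁅(QuotientGroup.mk s : R ⧸ Z), QuotientGroup.mk x⁆ = QuotientGroup.mk ⁅s, x⁆ :=
            (map_commutatorElement (QuotientGroup.mk' Z) s x).symm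
          rw [h3]
          exact hLcenQ' _ (hNL s hsN _)
        have h4 : (QuotientGroup.mk (θ g u) : R ⧸ Z) =
            ⁅(QuotientGroup.mk (θ g s) : R ⧸ Z), QuotientGroup.mk (θ g x)⁆ := by
          rw [hu_def, map_commutatorElement]
          exact map_commutatorElement (QuotientGroup.mk' Z) (θ g s) (θ g x)
        have h5 : ⁅(QuotientGroup.mk s : R ⧸ Z), QuotientGroup.mk x⁆ = QuotientGroup.mk u :=
          (map_commutatorElement (QuotientGroup.mk' Z) s x).symm
        rw [h4, hs, hθx, QuotientGroup.mk_mul, QuotientGroup.mk_mul, QuotientGroup.mk_pow,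
          QuotientGroup.mk_pow,
          comm_mul_left_of_commute (hLcenQ l₁ hl₁ _).symm,
          comm_mul_right_of_commute (hLcenQ l₃ hl₃ _),
          Helper22.commutator_pow_left_of_central _ _ hc1 k₁,
          Helper22.commutator_pow_right_of_central _ _ hc2 k₃, h5, ← pow_mul]
      rw [h1] at h2
      have h3 := pow_eq_pow_iff_modEq.mp h2
      rwa [huQord] at h3
    -- relation (iii)
    have hrel3 : k₀ ≡ k₃ [MOD p] := by
      have hxl : Commute x l₃ := (hMcomm x hxM l₃ hl₃).symm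
      have h1 : θ g (x ^ p) = (x ^ p) ^ k₃ := by
        rw [map_pow, hθx, (hxl.pow_left k₃).mul_pow, hNexp l₃ (hLN hl₃), mul_one, ← pow_mul,
          ← pow_mul, mul_comm]
      have h2 : θ g z₀ = z₀ ^ k₃ := by
        rw [← hf', map_pow, h1]
        exact pow_right_comm _ _ _
      rw [← hk₀] at h2
      have h3 := pow_eq_pow_iff_modEq.mp h2
      rwa [hz₀ord] at h3
    have hk₀p : ¬ p ∣ k₀ := by
      rintro ⟨c, rfl⟩
      rw [pow_mul, hNexp z₀ (hZN hz₀Z), one_pow] at hk₀
      apply hz₀1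
      apply (θ g).injective
      rw [← hk₀, map_one]
    refine ⟨k₁, ?_, ?_⟩
    · have h1 : k₀ * 1 ≡ k₀ * k₁ ^ 2 [MOD p] := by
        have h2 : k₀ ≡ (k₃ * k₁) * k₁ [MOD p] := hrel1.trans (Nat.ModEq.mul_right k₁ hrel2)
        have h3 : (k₃ * k₁) * k₁ ≡ (k₀ * k₁) * k₁ [MOD p] :=
          Nat.ModEq.mul_right k₁ (Nat.ModEq.mul_right k₁ hrel3.symm)
        rw [mul_one]
        calc k₀ ≡ (k₃ * k₁) * k₁ [MOD p] := h2
          _ ≡ (k₀ * k₁) * k₁ [MOD p] := h3
          _ = k₀ * k₁ ^ 2 := by ring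
      have hcop : Nat.gcd p k₀ = 1 := (Nat.Prime.coprime_iff_not_dvd hpp).mpr hk₀p
      exact (Nat.ModEq.cancel_left_of_coprime hcop h1).symm
    · intro n hn
      obtain ⟨e, l, hl, rfl⟩ := exists_pow_mul_of_mem_sup L s n (by rw [hNs]; exact hn)
      have h1 : (QuotientGroup.mk (θ g l) : R ⧸ L) = 1 :=
        (QuotientGroup.eq_one_iff _).mpr (hinv L g l hl)
      rw [map_mul, map_pow, hs, QuotientGroup.mk_mul, QuotientGroup.mk_pow, QuotientGroup.mk_mul,
        QuotientGroup.mk_pow, (QuotientGroup.eq_one_iff l₁).mpr hl₁, h1, mul_one, mul_one,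
        QuotientGroup.mk_mul, QuotientGroup.mk_pow, (QuotientGroup.eq_one_iff l).mpr hl, mul_one,
        ← pow_mul, ← pow_mul, mul_comm]
  -- every element of `Γ` acts trivially on `N / L`
  have hNexpQ : ∀ n ∈ N, (QuotientGroup.mk n : R ⧸ L) ^ p = 1 := by
    intro n hn
    rw [← QuotientGroup.mk_pow, hNexp n hn, QuotientGroup.mk_one]
  have hsq : ∀ g : Γ, ∀ n ∈ N, (QuotientGroup.mk (θ (g * g) n) : R ⧸ L) = QuotientGroup.mk n := by
    intro g n hn
    obtain ⟨k₁, hk₁, hact⟩ := hkey g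
    rw [map_mul, MulAut.mul_apply, hact _ (hinv N g n hn), hact n hn, ← pow_mul, ← pow_two]
    have h1 : orderOf (QuotientGroup.mk n : R ⧸ L) ∣ p := orderOf_dvd_of_pow_eq_one (hNexpQ n hn)
    have h2 : k₁ ^ 2 ≡ 1 [MOD orderOf (QuotientGroup.mk n : R ⧸ L)] := Nat.ModEq.of_dvd h1 hk₁
    have h3 := pow_eq_pow_iff_modEq.mpr h2
    rw [h3, pow_one]
  have hpowtriv : ∀ h : Γ, (∀ n ∈ N, (QuotientGroup.mk (θ h n) : R ⧸ L) = QuotientGroup.mk n) →
      ∀ j : ℕ, ∀ n ∈ N, (QuotientGroup.mk (θ (h ^ j) n) : R ⧸ L) = QuotientGroup.mk n := by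
    intro h hh j
    induction j with
    | zero =>
      intro n _
      rw [pow_zero, map_one, MulAut.one_apply]
    | succ j ih =>
      intro n hn
      rw [pow_succ, map_mul, MulAut.mul_apply, ih _ (hinv N h n hn), hh n hn]
  have htriv : ∀ g : Γ, ∀ n ∈ N, (QuotientGroup.mk (θ g n) : R ⧸ L) = QuotientGroup.mk n := by
    intro g
    obtain ⟨m, hm⟩ := hodd
    have h1 : (g * g) ^ (m + 1) = g := by
      have h2 : g ^ Nat.card Γ = 1 := pow_card_eq_one'
      rw [← pow_two, ← pow_mul]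
      have h3 : 2 * (m + 1) = Nat.card Γ + 1 := by omega
      rw [h3, pow_succ, h2, one_mul]
    have h4 := hpowtriv (g * g) (hsq g) (m + 1)
    rwa [h1] at h4
  -- conclusion
  have hMtop : M = ⊤ := by
    apply hcomm M inferInstance
    intro g r
    obtain ⟨e, m, hm, rfl⟩ := exists_pow_mul_of_mem_sup M s r
      (by rw [hMs]; exact Subgroup.mem_top r)
    have h1 : (QuotientGroup.mk (θ g s) : R ⧸ M) = QuotientGroup.mk s := by
      have h2 := htriv g s hsN
      rw [eq_comm, QuotientGroup.eq] at h2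
      rw [eq_comm, QuotientGroup.eq]
      exact hLM h2
    have h3 : (QuotientGroup.mk (θ g (s ^ e * m)) : R ⧸ M) = QuotientGroup.mk (s ^ e * m) := by
      rw [map_mul, map_pow, QuotientGroup.mk_mul, QuotientGroup.mk_pow, h1,
        (QuotientGroup.eq_one_iff _).mpr (hinv M g m hm), QuotientGroup.mk_mul,
        QuotientGroup.mk_pow, (QuotientGroup.eq_one_iff m).mpr hm]
    rw [eq_comm, QuotientGroup.eq] at h3
    exact h3
  apply hsM
  rw [hMtop]
  exact Subgroup.mem_top s

end Main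

section Structure

variable {R : Type u} [Group R] [Finite R] {p : ℕ} [Fact p.Prime]

/-- if `[N, R] ≤ Z(N)` then `R = N C_R(N)` -/
theorem sup_centralizer_eq_top (hR : IsPGroup p R) (N : Subgroup R) [hNn : N.Normal]
    (hNcard : Nat.card N = p ^ 3) (hNnab : ∃ x ∈ N, ∃ y ∈ N, x * y ≠ y * x)
    (hNR : ∀ x ∈ N, ∀ r : R, ⁅x, r⁆ ∈ N ⊓ Subgroup.centralizer (N : Set R)) :
    N ⊔ Subgroup.centralizer (N : Set R) = ⊤ := by
  have hpp : p.Prime := Fact.out
  have hZcard := card_inf_centralizer hR N hNcard hNnab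
  obtain ⟨e₁, he₁, e₂, he₂, hne⟩ := hNnab
  set X : Subgroup R := Subgroup.centralizer (N : Set R) with hX
  set Z : Subgroup R := N ⊓ X with hZ
  haveI hXn : X.Normal := by
    rw [hX]
    infer_instance
  haveI hZn : Z.Normal := by
    rw [hZ]
    infer_instance
  have hZcen : Z ≤ Subgroup.center R := Helper19.normal_card_prime_le_center hR Z hZcard
  -- `N` is generated by `e₁, e₂`
  have hgen : Subgroup.closure {e₁, e₂} = N := by
    set M₀ := Subgroup.closure ({e₁, e₂} : Set R) with hM₀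
    have hle : M₀ ≤ N := by
      rw [hM₀, Subgroup.closure_le]
      rintro x (rfl | hx)
      · exact he₁
      · rw [Set.mem_singleton_iff] at hx
        subst hx
        exact he₂
    apply Subgroup.eq_of_le_of_card_ge hle
    obtain ⟨k, hk⟩ := IsPGroup.iff_card.mp (hR.to_subgroup M₀)
    by_contra hlt
    rw [not_le, hNcard, hk] at hlt
    have hk2 : k ≤ 2 := by
      have := (Nat.pow_lt_pow_iff_right hpp.one_lt).mp hlt
      omega
    have hc : Nat.card M₀ ≤ p ^ 2 := by
      rw [hk]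
      exact Nat.pow_le_pow_right hpp.pos hk2
    have h1 := Helper22.mul_comm_of_card_le_sq (hR.to_subgroup M₀) hc
      ⟨e₁, Subgroup.subset_closure (Set.mem_insert _ _)⟩
      ⟨e₂, Subgroup.subset_closure (Set.mem_insert_of_mem _ rfl)⟩
    exact hne (congrArg Subtype.val h1)
  have hXmem : ∀ u : R, e₁ * u = u * e₁ → e₂ * u = u * e₂ → u ∈ X := by
    intro u h1 h2
    have hcl : Subgroup.closure {e₁, e₂} ≤ Subgroup.centralizer ({u} : Set R) := by
      rw [Subgroup.closure_le]
      rintro x (rfl | hx)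
      · rw [SetLike.mem_coe, Subgroup.mem_centralizer_iff]
        intro d hd
        rw [Set.mem_singleton_iff] at hd
        subst hd
        exact h1.symm
      · rw [Set.mem_singleton_iff] at hx
        subst hx
        rw [SetLike.mem_coe, Subgroup.mem_centralizer_iff]
        intro d hd
        rw [Set.mem_singleton_iff] at hd
        subst hd
        exact h2.symm
    rw [hX, Subgroup.mem_centralizer_iff]
    intro n hn
    rw [← hgen] at hn
    exact (Subgroup.mem_centralizer_iff.mp (hcl hn) u rfl).symm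
  have hcard1 : Nat.card R ≤ Nat.card X * (p * p) := by
    have h1 := Narrow.card_le_mul_of_commutator (⊤ : Subgroup R) Z e₁
      (fun u _ => hNR e₁ he₁ u) (fun u _ z hz => Subgroup.mem_center_iff.mp (hZcen hz) u)
    have h2 := Narrow.card_le_mul_of_commutator
      ((⊤ : Subgroup R) ⊓ Subgroup.centralizer ({e₁} : Set R)) Z e₂
      (fun u _ => hNR e₂ he₂ u) (fun u _ z hz => Subgroup.mem_center_iff.mp (hZcen hz) u)
    have h3 : ((⊤ : Subgroup R) ⊓ Subgroup.centralizer ({e₁} : Set R)) ⊓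
        Subgroup.centralizer ({e₂} : Set R) ≤ X := by
      intro u hu
      apply hXmem u
      · exact Subgroup.mem_centralizer_iff.mp hu.1.2 e₁ rfl
      · exact Subgroup.mem_centralizer_iff.mp hu.2 e₂ rfl
    have h4 := Subgroup.card_le_of_le h3
    rw [Subgroup.card_top, hZcard] at h1
    rw [hZcard] at h2
    calc Nat.card R ≤ Nat.card ((⊤ : Subgroup R) ⊓ Subgroup.centralizer ({e₁} : Set R) :
            Subgroup R) * p := h1
      _ ≤ (Nat.card (((⊤ : Subgroup R) ⊓ Subgroup.centralizer ({e₁} : Set R)) ⊓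
            Subgroup.centralizer ({e₂} : Set R) : Subgroup R) * p) * p :=
          Nat.mul_le_mul_right _ h2
      _ ≤ (Nat.card X * p) * p := Nat.mul_le_mul_right _ (Nat.mul_le_mul_right _ h4)
      _ = Nat.card X * (p * p) := by ring
  apply Subgroup.eq_top_of_le_card
  have h1 : X.relIndex (N ⊔ X) = X.relIndex N := Subgroup.relIndex_sup_right N X
  have h2 : Nat.card X * X.relIndex (N ⊔ X) = Nat.card (N ⊔ X : Subgroup R) := by
    have := Subgroup.relIndex_mul_relIndex (⊥ : Subgroup R) X (N ⊔ X) bot_le le_sup_right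
    rwa [Subgroup.relIndex_bot_left, Subgroup.relIndex_bot_left] at this
  have h3 : Nat.card Z * X.relIndex N = Nat.card N := by
    have := Subgroup.relIndex_mul_relIndex (⊥ : Subgroup R) (X ⊓ N) N bot_le inf_le_right
    rw [Subgroup.relIndex_bot_left, Subgroup.relIndex_bot_left, Subgroup.inf_relIndex_right,
      inf_comm] at this
    exact this
  rw [hZcard, hNcard] at h3
  have h4 : X.relIndex N = p * p := by
    have : p * X.relIndex N = p * (p * p) := by rw [h3]; ring
    exact Nat.eq_of_mul_eq_mul_left hpp.pos this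
  rw [← h2, h1, h4]
  exact hcard1

/-- the centralizer of `N ⊇ Ω₁(R)` is cyclic if `Z(N)` has order `p` -/
theorem isCyclic_centralizer (hp : p ≠ 2) (hR : IsPGroup p R) (N : Subgroup R)
    (hNall : ∀ x : R, x ^ p = 1 → x ∈ N)
    (hZcard : Nat.card (N ⊓ Subgroup.centralizer (N : Set R) : Subgroup R) = p) :
    IsCyclic ↥(Subgroup.centralizer (N : Set R)) := by
  have hpp : p.Prime := Fact.out
  set X : Subgroup R := Subgroup.centralizer (N : Set R) with hX
  by_contra hnc
  obtain ⟨E, -, hEe, hEc⟩ := Cfsg.Agent.S0126.result hp (hR.to_subgroup X) hnc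
  have hle : E.map X.subtype ≤ N ⊓ X := by
    rintro _ ⟨e, he, rfl⟩
    refine Subgroup.mem_inf.mpr ⟨hNall _ ?_, e.2⟩
    have h1 := hEe.2 e he
    have h2 := congrArg Subtype.val h1
    simpa using h2
  have h1 := Subgroup.card_le_of_le hle
  rw [Subgroup.card_map_of_injective X.subtype_injective, hEc, hZcard] at h1
  have h3 : p ^ 2 ≤ p ^ 1 := by rwa [pow_one]
  have := (Nat.pow_le_pow_iff_right hpp.one_lt).mp h3
  omega

end Structure

section Final

variable {R : Type u} [Group R] [Finite R] {p : ℕ} [Fact p.Prime]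
  {Γ : Type*} [Group Γ] [Finite Γ]

/-- **`p`-groups of rank two with an odd `p'`-group of automorphisms.** -/
theorem main (hp : p ≠ 2) (hR : IsPGroup p R) (hnt : Nontrivial R) (hrk : PRankLE p 2 R)
    (θ : Γ →* MulAut R) (hcop : (Nat.card Γ).Coprime p) (hodd : Odd (Nat.card Γ))
    (hcomm : ∀ K : Subgroup R, K.Normal → (∀ g x, x⁻¹ * θ g x ∈ K) → K = ⊤) :
    3 < p ∧ ((∀ x y : R, x * y = y * x) ∨ ∃ N X : Subgroup R, N ⊔ X = ⊤ ∧
      (∀ a ∈ N, ∀ b ∈ X, a * b = b * a) ∧ (∃ a ∈ N, ∃ b ∈ N, a * b ≠ b * a) ∧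
      Nat.card N = p ^ 3 ∧ (∀ a ∈ N, a ^ p = 1) ∧ IsCyclic ↥X ∧
      (∀ c ∈ X, c ^ p = 1 → c ∈ ⁅N, N⁆) ∧ (∀ c ∈ ⁅N, N⁆, c ∈ X ∧ c ^ p = 1)) := by
  have hpp : p.Prime := Fact.out
  -- `p > 3`
  have hp3 : 3 < p := by
    have hθ : ∃ g, θ g ≠ 1 := by
      by_contra h
      push_neg at h
      have h1 : (⊥ : Subgroup R) = ⊤ := by
        apply hcomm ⊥ inferInstance
        intro g x
        rw [h g, MulAut.one_apply, inv_mul_cancel]
        exact Subgroup.one_mem _
      obtain ⟨a, b, hab⟩ := hnt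
      have ha : a ∈ (⊥ : Subgroup R) := by rw [h1]; exact Subgroup.mem_top a
      have hb : b ∈ (⊥ : Subgroup R) := by rw [h1]; exact Subgroup.mem_top b
      rw [Subgroup.mem_bot] at ha hb
      exact hab (by rw [ha, hb])
    obtain ⟨g, hg⟩ := hθ
    have ho1 : orderOf (θ g) ≠ 1 := fun h => hg (orderOf_eq_one_iff.mp h)
    obtain ⟨q, hq, hqd⟩ := Nat.exists_prime_and_dvd ho1
    have hqΓ : q ∣ Nat.card Γ :=
      (hqd.trans (orderOf_map_dvd θ g)).trans (orderOf_dvd_natCard g)
    have hqA : q ∣ Nat.card (MulAut R) := hqd.trans (orderOf_dvd_natCard (θ g))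
    have hqp : q ≠ p := by
      rintro rfl
      have h1 : q ∣ Nat.gcd (Nat.card Γ) q := Nat.dvd_gcd hqΓ dvd_rfl
      rw [hcop.gcd_eq_one] at h1
      exact hq.one_lt.ne' (Nat.dvd_one.mp h1)
    have hq2 : q ≠ 2 := by
      rintro rfl
      obtain ⟨m, hm⟩ := hodd
      obtain ⟨c, hc⟩ := hqΓ
      omega
    obtain ⟨-, hqlt⟩ := Cfsg.Agent.S0640.result hp hR hrk q hq hqp hqA
    have := hq.two_le
    omega
  refine ⟨hp3, ?_⟩
  set N : Subgroup R := RankTwo.omega p R with hN
  haveI hNchar : N.Characteristic := by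
    rw [hN]
    infer_instance
  have hNexp : ∀ x ∈ N, x ^ p = 1 := fun x hx =>
    Cfsg.Agent.S0128.result hp3 hR (fun E hE => hrk E hE.1 hE.2) x hx
  have hNall : ∀ x : R, x ^ p = 1 → x ∈ N := fun x hx => RankTwo.mem_omega hx
  have hNcard : Nat.card N ≤ p ^ 3 := by
    apply Cfsg.Agent.S3771.result (hR.to_subgroup N)
      (RankTwo.pRankLE_of_injective N.subtype N.subtype_injective hrk)
    intro x
    apply Subtype.ext
    simpa using hNexp x x.2
  obtain ⟨k, hk⟩ := IsPGroup.iff_card.mp (hR.to_subgroup N)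
  have hk3 : k ≤ 3 := by
    rw [hk] at hNcard
    exact (Nat.pow_le_pow_iff_right hpp.one_lt).mp hNcard
  by_cases hk2 : k ≤ 2
  · left
    have hS : Helper22.SmallOmega p R := by
      intro K hK
      have h1 : K ≤ N := fun x hx => hNall x (hK x hx)
      calc Nat.card K ≤ Nat.card N := Subgroup.card_le_of_le h1
        _ = p ^ k := hk
        _ ≤ p ^ 2 := Nat.pow_le_pow_right hpp.pos hk2
    have hm := Helper22.isMetacyclic_of_smallOmega hp3 hR hS
    exact MetaAut.comm_of_metacyclic hp hR hm θ hcop hcomm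
  · right
    have hk' : k = 3 := by omega
    rw [hk'] at hk
    have hNnab : ∃ x ∈ N, ∃ y ∈ N, x * y ≠ y * x := by
      by_contra hcon
      have hab : ∀ a ∈ N, ∀ b ∈ N, a * b = b * a := by
        intro a ha b hb
        by_contra hne
        exact hcon ⟨a, ha, b, hb, hne⟩
      have h1 := hrk N (isMulCommutative_iff_of_setLike.mpr hab) hNexp
      rw [hk] at h1
      have h2 : 3 ≤ 2 := (Nat.pow_le_pow_iff_right hpp.one_lt).mp h1
      omega
    haveI hNn : N.Normal := inferInstance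
    have hNR := commutator_mem_of_odd hp hR θ hodd hcomm N hNexp hNall hk hNnab
    have hZcard := card_inf_centralizer hR N hk hNnab
    have hNN := commutator_mem_inf_centralizer hR N hk
    refine ⟨N, Subgroup.centralizer (N : Set R), sup_centralizer_eq_top hR N hk hNnab hNR, ?_,
      hNnab, hk, hNexp, isCyclic_centralizer hp hR N hNall hZcard, ?_, ?_⟩
    · intro a ha b hb
      exact (Subgroup.mem_centralizer_iff.mp hb) a ha
    · -- `Z ≤ [N, N]`
      intro c hc hcp
      have hcZ : c ∈ N ⊓ Subgroup.centralizer (N : Set R) :=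
        Subgroup.mem_inf.mpr ⟨hNall c hcp, hc⟩
      have hle : ⁅N, N⁆ ≤ N ⊓ Subgroup.centralizer (N : Set R) := by
        rw [Subgroup.commutator_le]
        exact hNN
      have hne : ⁅N, N⁆ ≠ ⊥ := by
        intro h
        obtain ⟨a, ha, b, hb, hab⟩ := hNnab
        have h1 : ⁅a, b⁆ ∈ ⁅N, N⁆ := Subgroup.commutator_mem_commutator ha hb
        rw [h, Subgroup.mem_bot, commutatorElement_eq_one_iff_mul_comm] at h1
        exact hab h1
      have heq : ⁅N, N⁆ = N ⊓ Subgroup.centralizer (N : Set R) := by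
        apply Subgroup.eq_of_le_of_card_ge hle
        rw [hZcard]
        obtain ⟨j, hj⟩ := IsPGroup.iff_card.mp (hR.to_subgroup ⁅N, N⁆)
        rw [hj]
        have hj0 : j ≠ 0 := by
          rintro rfl
          rw [pow_zero] at hj
          exact hne (Subgroup.card_eq_one.mp hj)
        calc p = p ^ 1 := (pow_one p).symm
          _ ≤ p ^ j := Nat.pow_le_pow_right hpp.pos (by omega)
      rw [heq]
      exact hcZ
    · intro c hc
      have hle : ⁅N, N⁆ ≤ N ⊓ Subgroup.centralizer (N : Set R) := by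
        rw [Subgroup.commutator_le]
        exact hNN
      have h1 := hle hc
      exact ⟨h1.2, hNexp c h1.1⟩

end Final

end Cfsg.Agent.Helper8.RankTwoOdd
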