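import Mathlib
import Cfsg.Prelude.Def_Solvable
import Cfsg.Prelude.Def_Transfer

/-!
Definitions for S3299 (large extraspecial `E = O_2(C(z))` lies in every index-2 normal subgroup of `C(z)`).
-/

set_option autoImplicit false

namespace Cfsg.Agent.Helper8.XS

/-- Elementwise extraspecial data for a subgroup `E` with central involution `z`. -/
structure XSp {G : Type*} [Group G] (E : Subgroup G) (z : G) : Prop where
  hzE : z ∈ E
  hz1 : z ≠ 1
  hzz : z * z = 1
  hcen : ∀ x ∈ E, x * z = z * x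
  hcenter : ∀ w ∈ E, (∀ x ∈ E, w * x = x * w) → w = 1 ∨ w = z
  hcomm : ∀ x ∈ E, ∀ y ∈ E, x * y = y * x ∨ x * y = z * (y * x)
  hsq : ∀ x ∈ E, x * x = 1 ∨ x * x = z

/-- The working context of S3299 (with the negated conclusion `¬ E ≤ K`). `H = C_G(z)` is written out. -/
structure Ctx {G : Type*} [Group G] (z : G) (E K : Subgroup G) (S : Sylow 2 G) : Prop where
  hz : orderOf z = 2
  hres : Cfsg.pResidual 2 G = ⊤
  xs : XSp E z
  hEn : ∀ h ∈ Subgroup.centralizer ({z} : Set G), ∀ e ∈ E, h * e * h⁻¹ ∈ E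
  hcent : Subgroup.centralizer (E : Set G) ≤ E
  hcard : 32 ≤ Nat.card E
  hES : E ≤ S
  hSH : (S : Subgroup G) ≤ Subgroup.centralizer ({z} : Set G)
  hZS : ∀ w ∈ (S : Subgroup G), (∀ s ∈ (S : Subgroup G), w * s = s * w) → w = 1 ∨ w = z
  hKH : K ≤ Subgroup.centralizer ({z} : Set G)
  hKn : ∀ h ∈ Subgroup.centralizer ({z} : Set G), ∀ k ∈ K, h * k * h⁻¹ ∈ K
  hKi : K.relIndex (Subgroup.centralizer ({z} : Set G)) = 2
  hEK : ¬ E ≤ K

end Cfsg.Agent.Helper8.XS
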