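import Mathlib
import Cfsg.Prelude.Def_Transfer
import Cfsg.Prelude.Def_KGroupFacts
import Cfsg.Agent.Lib.Helper8.XSDefs

/-!
Definitions for S3085 (`Inn Q` has no complement in `Aut Q` for `Q` extraspecial of order `≥ 2^7`).
-/

set_option autoImplicit false

namespace Cfsg.Agent.Helper8.GR

open Cfsg.Agent.Helper8.XS

/-- Elementwise extraspecial data for a whole group `Q` with central involution `z`. -/
structure XQ {Q : Type*} [Group Q] (z : Q) : Prop where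
  hz1 : z ≠ 1
  hzz : z * z = 1
  hcen : ∀ x : Q, x * z = z * x
  hcenter : ∀ w : Q, (∀ x : Q, w * x = x * w) → w = 1 ∨ w = z
  hcomm : ∀ x y : Q, x * y = y * x ∨ x * y = z * (y * x)
  hsq : ∀ x : Q, x * x = 1 ∨ x * x = z

theorem xq_top {Q : Type*} [Group Q] {z : Q} (h : XQ z) : XSp (⊤ : Subgroup Q) z :=
  ⟨Subgroup.mem_top _, h.hz1, h.hzz, fun x _ => h.hcen x,
    fun w _ hw => h.hcenter w (fun x => hw x (Subgroup.mem_top _)),
    fun x _ y _ => h.hcomm x y, fun x _ => h.hsq x⟩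

/-- The twist: `tw v e = 1` if `e` commutes with `v`, and `v` otherwise. -/
noncomputable def tw {Q : Type*} [Group Q] (v e : Q) : Q :=
  open Classical in if e * v = v * e then 1 else v

theorem tw_comm {Q : Type*} [Group Q] {v e : Q} (h : e * v = v * e) : tw v e = 1 := by
  unfold tw; rw [if_pos h]

theorem tw_anti {Q : Type*} [Group Q] {v e : Q} (h : e * v ≠ v * e) : tw v e = v := by
  unfold tw; rw [if_neg h]

/-- `ρ` is the lifted transvection attached to `w`: `ρ x = x` if `x` commutes with `w`, else `x * w`. -/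
def IsRho {Q : Type*} [Group Q] (w : Q) (ρ : MulAut Q) : Prop :=
  ∀ x : Q, ρ x = x * tw w x

/-- A commuting triple of elements with square `z`, independent modulo the centre (diagonal witnesses). -/
structure Trip {Q : Type*} [Group Q] (z w₁ w₂ w₃ : Q) : Prop where
  s1 : w₁ * w₁ = z
  s2 : w₂ * w₂ = z
  s3 : w₃ * w₃ = z
  c12 : w₁ * w₂ = w₂ * w₁
  c13 : w₁ * w₃ = w₃ * w₁
  c23 : w₂ * w₃ = w₃ * w₂
  i1 : ∃ f : Q, f * w₁ ≠ w₁ * f ∧ f * w₂ = w₂ * f ∧ f * w₃ = w₃ * f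
  i2 : ∃ f : Q, f * w₁ = w₁ * f ∧ f * w₂ ≠ w₂ * f ∧ f * w₃ = w₃ * f
  i3 : ∃ f : Q, f * w₁ = w₁ * f ∧ f * w₂ = w₂ * f ∧ f * w₃ ≠ w₃ * f

end Cfsg.Agent.Helper8.GR
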