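import Mathlib
import Cfsg.Prelude.Def_Transfer
import Cfsg.Prelude.Def_TwoFusion
import Cfsg.Prelude.Def_Local

/-!
# S3313 (order of a group with the Hall-Janko involution pattern): shared definitions (helper8)

`Qs z` is the image in `G` of `O_2(C_G(z))`.  `ZCfg z Q K` packages, in elementary form, everything
we use about `C = C_G(z) = K ⋉ Q` (`Q` extraspecial of order 32 containing its centralizer, `K ≅ A5`);
`TCfg z t Q V B` packages the fusion data and `C_G(t) = V × B`.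
-/

set_option autoImplicit false

namespace Cfsg.Agent.Helper8.HJ

/-- The image in `G` of `O_2(C_G(z))`. -/
def Qs {G : Type*} [Group G] (z : G) : Subgroup G :=
  (Cfsg.pCore 2 ↥(Subgroup.centralizer ({z} : Set G))).map (Subgroup.centralizer ({z} : Set G)).subtype

/-- `C_G(z) = K ⋉ Q`, `Q` "extraspecial of order 32" in elementary form, `C_C(Q) ≤ Q`, `K ≅ A5`. -/
structure ZCfg {G : Type*} [Group G] (z : G) (Q K : Subgroup G) : Prop where
  hz : orderOf z = 2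
  hQC : Q ≤ Subgroup.centralizer ({z} : Set G)
  hKC : K ≤ Subgroup.centralizer ({z} : Set G)
  hsup : ∀ c ∈ Subgroup.centralizer ({z} : Set G), ∃ k ∈ K, ∃ q ∈ Q, c = k * q
  hinf : ∀ x, x ∈ K → x ∈ Q → x = 1
  hnorm : ∀ c ∈ Subgroup.centralizer ({z} : Set G), ∀ x ∈ Q, c * x * c⁻¹ ∈ Q
  hcard : Nat.card Q = 32
  hzQ : z ∈ Q
  hcenter : ∀ w ∈ Q, (∀ x ∈ Q, x * w = w * x) → w = 1 ∨ w = z
  hcomm : ∀ x ∈ Q, ∀ y ∈ Q, x * y * x⁻¹ * y⁻¹ = 1 ∨ x * y * x⁻¹ * y⁻¹ = z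
  hsq : ∀ x ∈ Q, x * x = 1 ∨ x * x = z
  hself : ∀ c ∈ Subgroup.centralizer ({z} : Set G), (∀ x ∈ Q, c * x = x * c) → c ∈ Q
  hK : Nonempty (K ≃* alternatingGroup (Fin 5))

/-- The fusion data and `C_G(t) = V × B`. -/
structure TCfg {G : Type*} [Group G] (z t : G) (Q V B : Subgroup G) : Prop where
  ht : orderOf t = 2
  hzt : ¬ IsConj z t
  hQz : ∀ x ∈ Q, orderOf x = 2 → IsConj x z
  hCz : ∀ x ∈ Subgroup.centralizer ({z} : Set G), orderOf x = 2 → x ∉ Q → IsConj x t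
  hVB : Cfsg.IsInternalDirectProduct V B (Subgroup.centralizer ({t} : Set G))
  hV : Nat.card V = 4
  hV2 : ∀ v ∈ V, v ^ 2 = 1
  htV : t ∈ V
  hB : Nonempty (B ≃* alternatingGroup (Fin 5))
  hBz : ∀ x ∈ B, orderOf x = 2 → IsConj x z
  hCt : ∀ x ∈ Subgroup.centralizer ({t} : Set G), orderOf x = 2 → x ∉ B → IsConj x t

/-- `r(w)`: the number of pairs `(a, b)`, `a ~ z`, `b ~ t`, with `w ∈ ⟨a b⟩`. -/
noncomputable def rr {G : Type*} [Group G] (z t w : G) : ℕ :=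
  Nat.card {q : G × G // IsConj z q.1 ∧ IsConj t q.2 ∧ w ∈ Subgroup.zpowers (q.1 * q.2)}

end Cfsg.Agent.Helper8.HJ
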