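import Mathlib

/-!
# S3805, piece ARITH (helper8): definitions. Pure arithmetic / combinatorics, no group theory.
See plans/S3805_proof.md, section 4.  `ι` = the irreducible characters, `o` = the trivial one, `d` = degrees,
`A k X`, `B j X` = the NORMALISED integers A'_k(X) = s_k (X, a_k), B'_j(X) = s_j (X, b_j), s = (1,1,-1).
-/

set_option autoImplicit false

namespace Cfsg.Agent.Helper8.S3805A

variable {ι : Type*} [Fintype ι] [DecidableEq ι]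

/-- the weights (1,1,-2) -/
def wt (k : Fin 3) : ℤ := if k = 2 then -2 else 1

/-- value at t1 -/
def p1 (A : Fin 3 → ι → ℤ) (X : ι) : ℤ := A 0 X + A 1 X - 2 * A 2 X
/-- value at t3 = t1 t2 -/
def p3 (A : Fin 3 → ι → ℤ) (X : ι) : ℤ := A 0 X + A 1 X + A 2 X

/-- The lattice hypotheses (L1)-(L3) in the symmetric normalisation. -/
structure Lat (o : ι) (A B : Fin 3 → ι → ℤ) : Prop where
  hAA : ∀ k k', ∑ X, A k X * A k' X = if k = k' then 3 else 0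
  hBB : ∀ j j', ∑ X, B j X * B j' X = if j = j' then 3 else 0
  hAB : ∀ k j, ∑ X, A k X * B j X = 1
  hrel : ∀ X, ∑ k, A k X = ∑ j, B j X
  hAo : ∀ k, A k o = if k = 0 then 1 else 0
  hBo : ∀ j, B j o = if j = 0 then 1 else 0

/-- GRID configuration: nine distinct characters `W k j`, `A k` supported on row `k`, `B j` on column `j`. -/
def IsGrid (o : ι) (A B : Fin 3 → ι → ℤ) : Prop :=
  ∃ (W : Fin 3 → Fin 3 → ι) (ε : Fin 3 → Fin 3 → ℤ),
    W 0 0 = o ∧ ε 0 0 = 1 ∧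
    (∀ k j k' j', W k j = W k' j' → k = k' ∧ j = j') ∧
    (∀ k j, ε k j = 1 ∨ ε k j = -1) ∧
    (∀ k j k', A k' (W k j) = if k' = k then ε k j else 0) ∧
    (∀ k j j', B j' (W k j) = if j' = j then ε k j else 0) ∧
    (∀ X, (∀ k j, X ≠ W k j) → (∀ k, A k X = 0) ∧ (∀ j, B j X = 0))

/-- EXOTIC configuration with the 2x2 square `Y` on the cells `(k,j)`, `k ≠ k0`, `j ≠ j0`;
the other five cells `(k,j)` (`k = k0 ∨ j = j0`) carry distinct 1x1 characters `W k j`;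
every other character is one-sided. -/
def IsExotic (o : ι) (A B : Fin 3 → ι → ℤ) (k0 j0 : Fin 3) : Prop :=
  ∃ (Y : ι) (εY : ℤ) (W : Fin 3 → Fin 3 → ι) (ε : Fin 3 → Fin 3 → ℤ),
    (k0 = 0 ∨ j0 = 0) ∧ W 0 0 = o ∧ ε 0 0 = 1 ∧
    (εY = 1 ∨ εY = -1) ∧
    (∀ k, A k Y = if k = k0 then 0 else εY) ∧
    (∀ j, B j Y = if j = j0 then 0 else εY) ∧
    (∀ k j, (k = k0 ∨ j = j0) → W k j ≠ Y) ∧
    (∀ k j k' j', (k = k0 ∨ j = j0) → (k' = k0 ∨ j' = j0) → W k j = W k' j' → k = k' ∧ j = j') ∧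
    (∀ k j, ε k j = 1 ∨ ε k j = -1) ∧
    (∀ k j k', (k = k0 ∨ j = j0) → A k' (W k j) = if k' = k then ε k j else 0) ∧
    (∀ k j j', (k = k0 ∨ j = j0) → B j' (W k j) = if j' = j then ε k j else 0) ∧
    (∀ X, X ≠ Y → (∀ k j, (k = k0 ∨ j = j0) → X ≠ W k j) →
      (∑ k, A k X = 0) ∧ ((∀ k, A k X = 0) ∨ (∀ j, B j X = 0)))

/-- The seven class-constant equations. `g` = |G| as a rational. -/
structure Eqs (d : ι → ℚ) (A B : Fin 3 → ι → ℤ) (g : ℚ) : Prop where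
  hE1 : ∑ X, (p1 A X * p1 B X * p3 A X : ℚ) / d X = 324 / g
  hE2 : ∑ X, (p1 A X * p3 A X * p3 A X : ℚ) / d X = 162 / g
  hE3 : ∑ X, (p1 B X * p3 A X * p3 A X : ℚ) / d X = 162 / g
  hE4 : ∑ X, (p1 A X * p1 A X * p3 A X : ℚ) / d X = 0
  hE5 : ∑ X, (p1 B X * p1 B X * p3 A X : ℚ) / d X = 0
  hE6 : ∑ X, (p1 A X * p1 A X * p1 B X : ℚ) / d X = 0
  hE7 : ∑ X, (p1 A X * p1 B X * p1 B X : ℚ) / d X = 0

end Cfsg.Agent.Helper8.S3805A
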