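import Mathlib

/-!
# S1786 (Timmesfeld), Part G, step G5 (`V ≤ P(A)`): abstract data

`V`, `A = ^gV` distinct commuting members of `Σ`; `P = O₂(N(V)) ∩ C(V)`, `PA = ^gP`; `U ≤ P` a member of `Σ` not
commuting with `A`.  The structure `G5Data` lists exactly the facts (from G0–G4 of `plans/S1786_proof.md`) that the proof of
G5 uses; the conclusion of G5 is `V ≤ PA`.
-/

set_option autoImplicit false

namespace Cfsg.Agent.Helper26.TI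

/-- the commutator `x y x⁻¹ y⁻¹` -/
def cm {G : Type*} [Group G] (x y : G) : G := x * y * x⁻¹ * y⁻¹

/-- the hypotheses of G5 -/
structure G5Data {G : Type*} [Group G] (V A P PA U : Subgroup G) : Prop where
  V_ne : ∃ v ∈ V, v ≠ 1
  U_ne : ∃ u ∈ U, u ≠ 1
  V_sq : ∀ v ∈ V, v * v = 1
  A_sq : ∀ a ∈ A, a * a = 1
  U_sq : ∀ u ∈ U, u * u = 1
  VA_comm : ∀ v ∈ V, ∀ a ∈ A, v * a = a * v
  VA_inf : ∀ x, x ∈ V → x ∈ A → x = 1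
  UV_inf : ∀ x, x ∈ U → x ∈ V → x = 1
  V_le_P : V ≤ P
  A_le_P : A ≤ P
  U_le_P : U ≤ P
  /-- `V ≤ Z(P)` -/
  V_central : ∀ v ∈ V, ∀ x ∈ P, v * x = x * v
  /-- `[P,P] ≤ V` -/
  comm_P : ∀ x ∈ P, ∀ y ∈ P, cm x y ∈ V
  /-- squares of `P` lie in `V` -/
  sq_P : ∀ x ∈ P, x * x ∈ V
  /-- `Z(P) ≤ V` -/
  center_P : ∀ x ∈ P, (∀ y ∈ P, x * y = y * x) → x ∈ V
  /-- `C_{C(V)}(P) ≤ V` -/
  cent_P : ∀ t : G, (∀ v ∈ V, t * v = v * t) → (∀ x ∈ P, t * x = x * t) → t ∈ V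
  /-- `C(V)` normalizes `P` -/
  norm_P : ∀ t : G, (∀ v ∈ V, t * v = v * t) → ∀ x ∈ P, t * x * t⁻¹ ∈ P
  A_le_PA : A ≤ PA
  /-- `A ≤ Z(PA)` -/
  A_central : ∀ a ∈ A, ∀ y ∈ PA, a * y = y * a
  /-- `[PA,PA] ≤ A` -/
  comm_PA : ∀ x ∈ PA, ∀ y ∈ PA, cm x y ∈ A
  /-- squares of `PA` lie in `A` -/
  sq_PA : ∀ y ∈ PA, y * y ∈ A
  /-- `C_{C(A)}(PA) ≤ A` -/
  cent_PA : ∀ t : G, (∀ a ∈ A, t * a = a * t) → (∀ y ∈ PA, t * y = y * t) → t ∈ A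
  /-- `C(A)` normalizes `PA` -/
  norm_PA : ∀ t : G, (∀ a ∈ A, t * a = a * t) → ∀ y ∈ PA, t * y * t⁻¹ ∈ PA
  /-- G0 for `U`: the centralizer of a nontrivial element of `U` normalizes `U` -/
  g0_U : ∀ u ∈ U, u ≠ 1 → ∀ c : G, c * u = u * c → ∀ u' ∈ U, c * u' * c⁻¹ ∈ U
  /-- G3: for `1 ≠ u ∈ U`, `a ↦ [a,u]` is onto `V` -/
  phi_surj : ∀ u ∈ U, u ≠ 1 → ∀ v ∈ V, ∃ a ∈ A, cm a u = v
  /-- G3: `φ_x` is trivial or injective -/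
  phi_inj : ∀ x ∈ P, ∀ a ∈ A, a ≠ 1 → a * x = x * a → ∀ a' ∈ A, a' * x = x * a'
  /-- G3: `P = U C_P(A)` -/
  P_eq : ∀ x ∈ P, ∃ u ∈ U, ∃ d ∈ P, (∀ a ∈ A, d * a = a * d) ∧ x = u * d
  /-- G4: `C_PA(v) = C_PA(V)` for `1 ≠ v ∈ V` -/
  g4 : ∀ y ∈ PA, ∀ v ∈ V, v ≠ 1 → y * v = v * y → ∀ v' ∈ V, y * v' = v' * y
  /-- step (1) of G5 (TI + partition + `P(B)` well defined): a twist forces `V ≤ PA` -/
  twist : ∀ y ∈ PA, ∀ v ∈ V, cm y v ∈ A → cm y v ≠ 1 → V ≤ PA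

/-- `D = C_P(A)` -/
def g5D {G : Type*} [Group G] (A P : Subgroup G) : Subgroup G := P ⊓ Subgroup.centralizer (A : Set G)

/-- `E = C_PA(V)` -/
def g5E {G : Type*} [Group G] (V PA : Subgroup G) : Subgroup G := PA ⊓ Subgroup.centralizer (V : Set G)

theorem mem_g5D {G : Type*} [Group G] {A P : Subgroup G} {x : G} :
    x ∈ g5D A P ↔ x ∈ P ∧ ∀ a ∈ A, a * x = x * a := by
  unfold g5D
  rw [Subgroup.mem_inf, Subgroup.mem_centralizer_iff]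
  rfl

theorem mem_g5E {G : Type*} [Group G] {V PA : Subgroup G} {x : G} :
    x ∈ g5E V PA ↔ x ∈ PA ∧ ∀ v ∈ V, v * x = x * v := by
  unfold g5E
  rw [Subgroup.mem_inf, Subgroup.mem_centralizer_iff]
  rfl

/-- step (1) of G5 in the form used later -/
def NoTwist {G : Type*} [Group G] (V A PA : Subgroup G) : Prop :=
  ∀ y ∈ PA, ∀ v ∈ V, cm y v ∈ A → cm y v = 1

end Cfsg.Agent.Helper26.TI
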