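import Mathlib

/-!
# The arithmetic endgame for the partition theorem (helper8)
-/

set_option autoImplicit false

namespace Cfsg.Agent.Helper8.PartFrob

universe v

theorem two_mul_le_sq_mul {a A : ℤ} (hA : 2 ≤ A) : 2 * a - a ^ 2 * A ≤ 0 := by
  rcases le_or_gt a 0 with h | h
  · have h1 : 0 ≤ a ^ 2 * A := mul_nonneg (sq_nonneg a) (by linarith)
    linarith
  · have h1 : 1 ≤ a := h
    have h2 : a ≤ a ^ 2 := by nlinarith
    have h3 : 2 * a ^ 2 ≤ a ^ 2 * A := by nlinarith [sq_nonneg a]
    linarith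

theorem arith_final {ι : Type v} [Fintype ι] [Nonempty ι]
    (e A h u x a : ι → ℤ) (c : ι → ι → ℤ) (g : ℤ)
    (he : ∀ i, 2 ≤ e i) (hA : ∀ i, 2 ≤ A i) (hAeven : ∀ i, Even (A i))
    (hh : ∀ i, h i = e i * A i + 1) (hu : ∀ i, u i * (e i * h i) = g) (hupos : ∀ i, 0 < u i)
    (hx : ∀ i, x i ≠ 0)
    (hhne : ∀ i j, i ≠ j → h i ≠ h j)
    (hcd : ∀ i, c i i = 0)
    (hcount : g = 1 + ∑ j, u j * (h j - 1))
    (hrow : ∀ i, x i ^ 2 + ∑ j, u j * (h j - 1) * c i j ^ 2 =
      u i * e i * (e i + 2 * a i - a i ^ 2 * A i))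
    (hcol : ∀ i, ∑ l, A l * c l i ^ 2 = e i - 1 + 2 * a i - a i ^ 2 * A i)
    (hpar : ∀ i j, i ≠ j → 1 + ∑ l, A l * c l i * c l j + c i j * (A i * a i - 1) +
      c j i * (A j * a j - 1) = 0) : False := by
  classical
  obtain ⟨i, -, hi⟩ := Finset.exists_min_image Finset.univ e Finset.univ_nonempty
  have hmin : ∀ l, e i ≤ e l := fun l => hi l (Finset.mem_univ l)
  choose B hB using hAeven
  -- parity
  have hpar' : ∀ l, l ≠ i → 1 ≤ c i l ^ 2 + c l i ^ 2 := by
    intro l hl
    by_contra hcon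
    push Not at hcon
    have h1 : 0 ≤ c i l ^ 2 := sq_nonneg _
    have h2 : 0 ≤ c l i ^ 2 := sq_nonneg _
    have h3 : c i l ^ 2 = 0 := by omega
    have h4 : c l i ^ 2 = 0 := by omega
    have h5 : c i l = 0 := by
      rcases sq_eq_zero_iff.1 h3 with h
      exact h
    have h6 : c l i = 0 := by
      rcases sq_eq_zero_iff.1 h4 with h
      exact h
    have h7 := hpar i l (Ne.symm hl)
    rw [h5, h6] at h7
    have h8 : ∑ m, A m * c m i * c m l = 2 * ∑ m, B m * c m i * c m l := by
      rw [Finset.mul_sum]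
      refine Finset.sum_congr rfl fun m _ => ?_
      rw [hB m]; ring
    rw [h8] at h7
    omega
  -- abbreviations
  set γ : ℤ := 2 * a i - a i ^ 2 * A i with hγdef
  have hγ : γ ≤ 0 := two_mul_le_sq_mul (hA i)
  set U : ℤ := u i * e i with hUdef
  have hUpos : 0 < U := mul_pos (hupos i) (by linarith [he i])
  have hg : g = U * (e i * A i + 1) := by
    rw [← hu i, hh i, hUdef]; ring
  have hgpos : 0 < g := by
    rw [hg]
    have : 0 < e i * A i + 1 := by nlinarith [he i, hA i]
    exact mul_pos hUpos this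
  set w : ι → ℤ := fun l => u l * (h l - 1) with hwdef
  have hw : ∀ l, w l = u l * e l * A l := by
    intro l
    simp only [hwdef]
    rw [hh l]; ring
  have hwnn : ∀ l, 0 ≤ w l := by
    intro l
    rw [hw l]
    have h1 : 0 < e l := by linarith [he l]
    have h2 : 0 < A l := by linarith [hA l]
    exact le_of_lt (mul_pos (mul_pos (hupos l) h1) h2)
  set S1 : ℤ := ∑ l, w l * c i l ^ 2 with hS1
  set S3 : ℤ := ∑ l, w l * c l i ^ 2 with hS3
  set δ : ℤ := ∑ l, (h l - (2 * e i + 1)) * (u l * e l * A l * c l i ^ 2) with hδ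
  have hhl : ∀ l, 2 * e i + 1 ≤ h l := by
    intro l
    rw [hh l]
    have h1 := hmin l
    have h2 := hA l
    have h3 := he i
    nlinarith
  have hδterm : ∀ l, 0 ≤ (h l - (2 * e i + 1)) * (u l * e l * A l * c l i ^ 2) := by
    intro l
    have h1 : 0 ≤ h l - (2 * e i + 1) := by linarith [hhl l]
    have h2 : 0 ≤ u l * e l * A l * c l i ^ 2 := by
      rw [← hw l]
      exact mul_nonneg (hwnn l) (sq_nonneg _)
    exact mul_nonneg h1 h2
  have hδnn : 0 ≤ δ := Finset.sum_nonneg fun l _ => hδterm l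
  -- the identity for `S3`
  have hS3id : (2 * e i + 1) * S3 + δ = g * (e i - 1 + γ) := by
    have h1 : g * (e i - 1 + γ) = g * ∑ l, A l * c l i ^ 2 := by
      rw [hcol i]; ring
    rw [h1, hS3, hδ, Finset.mul_sum, Finset.mul_sum, ← Finset.sum_add_distrib]
    refine Finset.sum_congr rfl fun l _ => ?_
    rw [hw l, ← hu l]
    ring
  -- the row identity
  have hrow' : x i ^ 2 + S1 = U * (e i + γ) := by
    have := hrow i
    rw [hS1, hUdef, hγdef]
    simp only [hwdef]
    linarith
  -- the count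
  have hE : g - 1 - w i ≤ S1 + S3 := by
    have h1 : ∑ l, w l = w i + ∑ l ∈ Finset.univ.erase i, w l :=
      (Finset.add_sum_erase Finset.univ w (Finset.mem_univ i)).symm
    have h2 : ∑ l ∈ Finset.univ.erase i, w l ≤
        ∑ l ∈ Finset.univ.erase i, (w l * c i l ^ 2 + w l * c l i ^ 2) := by
      refine Finset.sum_le_sum fun l hl => ?_
      have hl' : l ≠ i := (Finset.mem_erase.1 hl).1
      have h3 := hpar' l hl'
      have h4 := hwnn l
      nlinarith
    have h3 : ∑ l ∈ Finset.univ.erase i, (w l * c i l ^ 2 + w l * c l i ^ 2) ≤ S1 + S3 := by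
      rw [hS1, hS3, ← Finset.sum_add_distrib]
      refine Finset.sum_le_sum_of_subset_of_nonneg (Finset.subset_univ _) fun l _ _ => ?_
      have h4 := hwnn l
      have h5 : 0 ≤ c i l ^ 2 := sq_nonneg _
      have h6 : 0 ≤ c l i ^ 2 := sq_nonneg _
      nlinarith
    have h4 : g = 1 + ∑ l, w l := hcount
    linarith
  have hwi : w i = U * A i := by rw [hw i]
  -- the main inequality
  have hmain : U * (e i ^ 2 - 1) * (A i - 2) + (2 * e i + 1) * (x i ^ 2 - 1) +
      (-γ) * ((2 * e i + 1) * U + g) + δ ≤ 0 := by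
    have h1 : (2 * e i + 1) * (g - 1 - w i) ≤ (2 * e i + 1) * (S1 + S3) :=
      mul_le_mul_of_nonneg_left hE (by linarith [he i])
    have h2 : (2 * e i + 1) * (S1 + S3) =
        (2 * e i + 1) * (U * (e i + γ) - x i ^ 2) + (g * (e i - 1 + γ) - δ) := by
      rw [← hS3id, ← hrow']; ring
    rw [h2, hwi] at h1
    have h3 : U * (e i ^ 2 - 1) * (A i - 2) + (2 * e i + 1) * (x i ^ 2 - 1) +
        (-γ) * ((2 * e i + 1) * U + g) + δ =
        (2 * e i + 1) * (U * (e i * A i + 1) - 1 - U * A i) -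
        ((2 * e i + 1) * (U * (e i + γ) - x i ^ 2) + (U * (e i * A i + 1) * (e i - 1) + g * γ - δ)) := by
      ring
    rw [h3]
    have h4 : g * (e i - 1 + γ) = U * (e i * A i + 1) * (e i - 1) + g * γ := by
      rw [hg]; ring
    rw [h4, hg] at h1
    rw [hg]
    linarith
  -- nonnegativity of the four terms
  have ht1 : 0 ≤ U * (e i ^ 2 - 1) * (A i - 2) := by
    have h1 : 0 ≤ e i ^ 2 - 1 := by nlinarith [he i]
    have h2 : 0 ≤ A i - 2 := by linarith [hA i]
    exact mul_nonneg (mul_nonneg hUpos.le h1) h2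
  have hx2 : 1 ≤ x i ^ 2 := by
    have := sq_pos_of_ne_zero (hx i)
    omega
  have ht2 : 0 ≤ (2 * e i + 1) * (x i ^ 2 - 1) := by
    have h1 : 0 ≤ 2 * e i + 1 := by linarith [he i]
    exact mul_nonneg h1 (by linarith)
  have hpos3 : 0 < (2 * e i + 1) * U + g := by
    have h1 : 0 < 2 * e i + 1 := by linarith [he i]
    have := mul_pos h1 hUpos
    linarith
  have ht3 : 0 ≤ (-γ) * ((2 * e i + 1) * U + g) := mul_nonneg (by linarith) hpos3.le
  have e1 : U * (e i ^ 2 - 1) * (A i - 2) = 0 := by linarith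
  have e3 : (-γ) * ((2 * e i + 1) * U + g) = 0 := by linarith
  have e4 : δ = 0 := by linarith
  have hA2 : A i = 2 := by
    rcases mul_eq_zero.1 e1 with h1 | h1
    · rcases mul_eq_zero.1 h1 with h2 | h2
      · exact absurd h2 hUpos.ne'
      · have : 1 < e i ^ 2 := by nlinarith [he i]
        omega
    · linarith
  have hγ0 : γ = 0 := by
    rcases mul_eq_zero.1 e3 with h1 | h1
    · linarith
    · exact absurd h1 hpos3.ne'
  have hall : ∀ l, c l i = 0 := by
    intro l
    by_cases hl : l = i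
    · rw [hl]; exact hcd i
    · have h1 := (Finset.sum_eq_zero_iff_of_nonneg (fun l _ => hδterm l)).1 e4 l
        (Finset.mem_univ l)
      have h2 : h l ≠ 2 * e i + 1 := by
        have h3 := hhne l i hl
        rw [hh i, hA2] at h3
        intro h4
        apply h3
        rw [h4]; ring
      have h3 : 0 < h l - (2 * e i + 1) := by
        have := hhl l
        omega
      have h4 : 0 < u l * e l * A l := by
        have h5 : 0 < e l := by linarith [he l]
        have h6 : 0 < A l := by linarith [hA l]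
        exact mul_pos (mul_pos (hupos l) h5) h6
      rcases mul_eq_zero.1 h1 with h5 | h5
      · omega
      · rcases mul_eq_zero.1 h5 with h6 | h6
        · exact absurd h6 h4.ne'
        · rcases sq_eq_zero_iff.1 h6 with h7
          exact h7
  have hc0 := hcol i
  rw [Finset.sum_eq_zero (fun l _ => by rw [hall l]; ring)] at hc0
  have : e i - 1 + γ = 0 := by
    rw [hγdef]; linarith
  have := he i
  omega

end Cfsg.Agent.Helper8.PartFrob
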