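import Mathlib
import Cfsg.Prelude.Def_OddOrderChar
import Cfsg.Prelude.Def_OddOrderLocal
import Cfsg.Agent.Lib.Helper8.FrobCoh5
import Cfsg.Agent.S1529

/-!
# Exceptional characters of a TI Frobenius kernel in a group of odd order (helper8)

`K ≤ G` a nilpotent TI-subgroup, properly contained in its normaliser `N`, containing the
centraliser of each of its nonidentity elements, `G` of odd order.  We package the family of
virtual characters of `G` attached by coherence to the characters of `N` induced from `K`.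
-/

set_option autoImplicit false

namespace Cfsg.Agent.Helper8.PartFrob

open Cfsg Cfsg.Agent.Helper8 Cfsg.Agent.Helper24 Cfsg.Agent.Helper5 Cfsg.Agent.Helper18
open Cfsg.Agent.Helper8.FrobCoh
open scoped ComplexConjugate

universe u

section Raw

variable {G : Type u} [Group G] [Fintype G] (K : Subgroup G)

local notation "𝒩" => Subgroup.normalizer (K : Set G)

variable (hTI : Cfsg.IsTISubset (K : Set G))
  (hlt : K < Subgroup.normalizer (K : Set G))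
  (hC : ∀ k ∈ K, k ≠ 1 → Subgroup.centralizer ({k} : Set G) ≤ K)

theorem subgroupOf_ne_bot (hlt : K < Subgroup.normalizer (K : Set G)) (hK1 : K ≠ ⊥) :
    K.subgroupOf 𝒩 ≠ ⊥ := by
  intro h
  apply hK1
  rw [Subgroup.subgroupOf_eq_bot] at h
  rw [eq_bot_iff]
  intro x hx
  have : x ∈ K ⊓ 𝒩 := ⟨hx, hlt.le hx⟩
  rw [disjoint_iff.1 h] at this
  exact this

include hTI hlt hC in
theorem exists_raw [Fintype ↥𝒩] (hK1 : K ≠ ⊥) (hnil : Group.IsNilpotent ↥K)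
    (hodd : Odd (Nat.card G)) :
    ∃ (τ₁ : (↥𝒩 → ℂ) → (G → ℂ)) (ε : ℂ) (m : ℤ),
      Cfsg.IsLinearIsometryOn (Cfsg.zspan (Cfsg.inducedIrrAbove (K.subgroupOf 𝒩) ⊥)) τ₁ ∧
      (∀ α ∈ Cfsg.zspanOn (Cfsg.inducedIrrAbove (K.subgroupOf 𝒩) ⊥) ({1}ᶜ : Set ↥𝒩),
        τ₁ α = Cfsg.indFun 𝒩 α) ∧
      (ε = 1 ∨ ε = -1) ∧
      (∀ χ ∈ Cfsg.inducedIrrAbove (K.subgroupOf 𝒩) ⊥, Cfsg.IsIrrCharacter G (ε • τ₁ χ)) ∧
      (∀ χ ∈ Cfsg.inducedIrrAbove (K.subgroupOf 𝒩) ⊥,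
        ∀ ψ ∈ Cfsg.inducedIrrAbove (K.subgroupOf 𝒩) ⊥, τ₁ χ = τ₁ ψ → χ = ψ) ∧
      (∀ χ ∈ Cfsg.inducedIrrAbove (K.subgroupOf 𝒩) ⊥, ∀ k : ↥𝒩, (k : G) ∈ K → k ≠ 1 →
        τ₁ χ k - χ k = (m : ℂ) * χ 1 / ((K.subgroupOf 𝒩).index : ℂ)) ∧
      (∃ χ₀ ∈ Cfsg.inducedIrrAbove (K.subgroupOf 𝒩) ⊥,
        χ₀ 1 = ((K.subgroupOf 𝒩).index : ℂ) ∧
        Cfsg.conjFun χ₀ ∈ Cfsg.inducedIrrAbove (K.subgroupOf 𝒩) ⊥ ∧ Cfsg.conjFun χ₀ ≠ χ₀) := by
  classical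
  haveI hKn : (K.subgroupOf 𝒩).Normal := Subgroup.normal_in_normalizer
  have hF := TIFN.fpf K hC
  have hoddN : Odd (Nat.card ↥𝒩) := by
    have hdvd : Nat.card ↥𝒩 ∣ Nat.card G := Subgroup.card_subgroup_dvd_card _
    exact hodd.of_dvd_nat hdvd
  have hK1' := subgroupOf_ne_bot K hlt hK1
  have hnil' : Group.IsNilpotent ↥(K.subgroupOf 𝒩) :=
    nilpotent_of_mulEquiv (Subgroup.subgroupOfEquivOfLe hlt.le).symm
  haveI := hnil'
  have hsolv : Group.IsSolvable ↥(K.subgroupOf 𝒩) := inferInstance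
  obtain ⟨-, τ₁, hτ₁, hext⟩ := coherent_nilpotent K hTI hlt hC hK1 hnil hoddN
  have hSeq := inducedIrrAbove_bot_eq (K.subgroupOf 𝒩) hF
  have hS : Cfsg.inducedIrrAbove (K.subgroupOf 𝒩) ⊥ =
      {χ : ↥𝒩 → ℂ | IsIrrCharacter ↥𝒩 χ ∧ ∃ k : ↥𝒩, (k : G) ∈ K ∧ χ k ≠ χ 1} := by
    rw [hSeq]; rfl
  -- a member of degree `e`
  have hbotlt : (⊥ : Subgroup ↥𝒩) < K.subgroupOf 𝒩 := bot_lt_iff_ne_bot.2 hK1'
  obtain ⟨θ, hθ, hne, hθA, hθ1⟩ := Coh6.exists_linear (K.subgroupOf 𝒩) hsolv hbotlt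
  have hχ₀ : Cfsg.indFun (K.subgroupOf 𝒩) θ ∈ Cfsg.inducedIrrAbove (K.subgroupOf 𝒩) ⊥ :=
    ⟨θ, hθ, hne, hθA, rfl⟩
  have hχ₀1 : Cfsg.indFun (K.subgroupOf 𝒩) θ 1 = ((K.subgroupOf 𝒩).index : ℂ) := by
    rw [Helper24.indFun_one, hθ1, mul_one]
  have hconj := Coh6.inducedIrrAbove_conj (K.subgroupOf 𝒩) hχ₀
  have hconjne := conj_ne (K.subgroupOf 𝒩) hF hoddN hχ₀
  have htwo : ∃ χ ∈ Cfsg.inducedIrrAbove (K.subgroupOf 𝒩) ⊥,
      ∃ ψ ∈ Cfsg.inducedIrrAbove (K.subgroupOf 𝒩) ⊥, χ ≠ ψ :=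
    ⟨_, hconj, _, hχ₀, hconjne⟩
  have hirr : ∀ χ ∈ Cfsg.inducedIrrAbove (K.subgroupOf 𝒩) ⊥, Cfsg.IsIrrCharacter ↥𝒩 χ :=
    fun χ hχ => isIrr_of_mem (K.subgroupOf 𝒩) hF hχ
  have h0 : ∀ α ∈ Cfsg.zspan (Cfsg.inducedIrrAbove (K.subgroupOf 𝒩) ⊥), α 1 = 0 →
      τ₁ α 1 = 0 := by
    intro α hα hα1
    have hmem : α ∈ Cfsg.zspanOn (Cfsg.inducedIrrAbove (K.subgroupOf 𝒩) ⊥) ({1}ᶜ : Set ↥𝒩) := by
      refine ⟨hα, fun x hx => ?_⟩
      have : x = 1 := by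
        by_contra h
        exact hx h
      rw [this, hα1]
    rw [hext α hmem]
    exact ind_one K hmem
  obtain ⟨ε, hε, hεirr, hinj⟩ := Cfsg.Agent.S1529.result 𝒩
    (Cfsg.inducedIrrAbove (K.subgroupOf 𝒩) ⊥) hirr htwo τ₁ hτ₁ h0
  obtain ⟨m, hm⟩ := TIFN.exists_int K hTI hlt hC (Cfsg.inducedIrrAbove (K.subgroupOf 𝒩) ⊥) hS
    ⟨_, hχ₀⟩ τ₁ hτ₁ hext
  exact ⟨τ₁, ε, m, hτ₁, hext, hε, hεirr, hinj, hm, _, hχ₀, hχ₀1, hconj, hconjne⟩

end Raw

section Sums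

variable {L : Type u} [Group L] [Fintype L] (K : Subgroup L) [hK : K.Normal]
  (hF : ∀ k ∈ K, k ≠ 1 → ∀ x : L, x * k = k * x → x ∈ K)

open Classical in
theorem sum_rel_deg_sq [Fintype (IrrCharacter L)] :
    ∑ η : IrrCharacter L,
      (if FrobKer.Rel K (η : L → ℂ) then (η : L → ℂ) 1 * (η : L → ℂ) 1 else 0) =
      (Nat.card L : ℂ) - (K.index : ℂ) := by
  have h1 := FrobKer.sum_deg_sq (X := L)
  have h2 := FrobKer.sum_nonrel_sq K
  rw [← h1, ← h2, ← Finset.sum_sub_distrib]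
  refine Finset.sum_congr rfl fun η _ => ?_
  split_ifs <;> ring

open Classical in
theorem sum_rel_deg_mul [Fintype (IrrCharacter L)] {k : L} (hk : k ∈ K) (hk1 : k ≠ 1) :
    ∑ η : IrrCharacter L,
      (if FrobKer.Rel K (η : L → ℂ) then (η : L → ℂ) 1 * (η : L → ℂ) k else 0) =
      - (K.index : ℂ) := by
  have h1 := FrobKer.sum_deg_mul (X := L) hk1
  have h2 := FrobKer.sum_nonrel_sq K
  have h3 : ∑ η : IrrCharacter L,
      (if FrobKer.Rel K (η : L → ℂ) then (η : L → ℂ) 1 * (η : L → ℂ) k else 0) +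
      ∑ η : IrrCharacter L,
      (if FrobKer.Rel K (η : L → ℂ) then 0 else (η : L → ℂ) 1 * (η : L → ℂ) 1) =
      ∑ η : IrrCharacter L, (η : L → ℂ) 1 * (η : L → ℂ) k := by
    rw [← Finset.sum_add_distrib]
    refine Finset.sum_congr rfl fun η _ => ?_
    split_ifs with hr
    · ring
    · rw [FrobKer.not_rel hr hk]; ring
  rw [h1, h2] at h3
  linear_combination h3

open Classical in
theorem sum_rel_norm [Fintype (IrrCharacter L)] {k : L} (hk : k ∈ K) (hk1 : k ≠ 1) :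
    ∑ η : IrrCharacter L,
      (if FrobKer.Rel K (η : L → ℂ) then (η : L → ℂ) k * conj ((η : L → ℂ) k) else 0) =
      (Nat.card (Subgroup.centralizer ({k} : Set L)) : ℂ) - (K.index : ℂ) := by
  have h1 := second_orthogonality' k k
  rw [if_pos (IsConj.refl k)] at h1
  have h2 := FrobKer.sum_nonrel_sq K
  rw [← h1, ← h2, ← Finset.sum_sub_distrib]
  refine Finset.sum_congr rfl fun η _ => ?_
  split_ifs with hr
  · ring
  · rw [FrobKer.not_rel hr hk]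
    obtain ⟨n, -, hn⟩ := irr_one_eq η.2
    rw [hn, Complex.conj_natCast]; ring

include hF in
theorem sum_norm_rel [DecidablePred fun x : L => x ∈ K ∧ x ≠ 1] {χ : L → ℂ}
    (hχ : IsIrrCharacter L χ) (hr : FrobKer.Rel K χ) :
    ∑ x : L, (if x ∈ K ∧ x ≠ 1 then χ x * conj (χ x) else 0) =
      (Nat.card L : ℂ) - χ 1 * χ 1 := by
  classical
  have h1 := irr_orthogonality hχ hχ
  rw [if_pos rfl] at h1
  unfold classInner at h1
  have hcard : (Nat.card L : ℂ) ≠ 0 := by exact_mod_cast (Nat.card_pos (α := L)).ne'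
  have h2 : ∑ g : L, χ g * conj (χ g) = (Nat.card L : ℂ) := by
    field_simp at h1
    linear_combination h1
  have h3 : ∑ g : L, χ g * conj (χ g) =
      ∑ x : L, (if x ∈ K ∧ x ≠ 1 then χ x * conj (χ x) else 0) +
      ∑ x : L, (if x = 1 then χ 1 * χ 1 else 0) := by
    rw [← Finset.sum_add_distrib]
    refine Finset.sum_congr rfl fun x _ => ?_
    by_cases hx1 : x = 1
    · subst hx1
      obtain ⟨n, -, hn⟩ := irr_one_eq hχ
      simp [hn]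
    · by_cases hxK : x ∈ K
      · rw [if_pos ⟨hxK, hx1⟩, if_neg hx1, add_zero]
      · rw [if_neg (fun h => hxK h.1), if_neg hx1, FrobKer.vanish_off K hF hχ hr hxK]
        simp
  rw [Finset.sum_ite_eq' Finset.univ (1 : L), if_pos (Finset.mem_univ _)] at h3
  rw [h2] at h3
  linear_combination -h3

include hF in
theorem sum_val_rel [DecidablePred fun x : L => x ∈ K ∧ x ≠ 1] {χ : L → ℂ}
    (hχ : IsIrrCharacter L χ) (hr : FrobKer.Rel K χ) :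
    ∑ x : L, (if x ∈ K ∧ x ≠ 1 then χ x else 0) = - χ 1 := by
  classical
  letI : Fintype K := Fintype.ofFinite K
  have h1 := FrobKer.sum_K_eq_zero K hχ hr
  rw [← FrobKer.sum_ite_mem K χ] at h1
  have h3 : ∑ x : L, (if x ∈ K then χ x else 0) =
      ∑ x : L, (if x ∈ K ∧ x ≠ 1 then χ x else 0) +
      ∑ x : L, (if x = 1 then χ 1 else 0) := by
    rw [← Finset.sum_add_distrib]
    refine Finset.sum_congr rfl fun x _ => ?_
    by_cases hx1 : x = 1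
    · subst hx1
      simp [K.one_mem]
    · by_cases hxK : x ∈ K
      · rw [if_pos hxK, if_pos (⟨hxK, hx1⟩ : x ∈ K ∧ x ≠ 1), if_neg hx1, add_zero]
      · rw [if_neg hxK, if_neg (fun h : x ∈ K ∧ x ≠ 1 => hxK h.1), if_neg hx1, add_zero]
  rw [Finset.sum_ite_eq' Finset.univ (1 : L), if_pos (Finset.mem_univ _), h1] at h3
  linear_combination -h3

end Sums

section Family

variable {G : Type u} [Group G] [Fintype G]

open Classical in
/-- the family of exceptional virtual characters attached to a TI Frobenius kernel `K` -/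
structure Fam (K : Subgroup G) where
  S : Finset (↥(Subgroup.normalizer (K : Set G)) → ℂ)
  τ : (↥(Subgroup.normalizer (K : Set G)) → ℂ) → (G → ℂ)
  d : (↥(Subgroup.normalizer (K : Set G)) → ℂ) → ℕ
  ε : ℂ
  x : ℤ
  a : ℤ
  A : ℕ
  e : ℕ
  χ₀ : ↥(Subgroup.normalizer (K : Set G)) → ℂ
  hε : ε = 1 ∨ ε = -1
  irr : ∀ χ ∈ S, IsIrrCharacter G (ε • τ χ)
  inj : ∀ χ ∈ S, ∀ ψ ∈ S, τ χ = τ ψ → χ = ψ
  card_norm : Nat.card ↥(Subgroup.normalizer (K : Set G)) = e * Nat.card ↥K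
  card_K : e * A + 1 = Nat.card ↥K
  sum_sq : ∑ χ ∈ S, (d χ) ^ 2 = A
  dpos : ∀ χ ∈ S, 0 < d χ
  hχ₀ : χ₀ ∈ S
  hd₀ : d χ₀ = 1
  two : ∃ χ ∈ S, χ ≠ χ₀
  val_one : ∀ χ ∈ S, τ χ 1 = (d χ : ℂ) * (x : ℂ)
  sum_d : ∀ k ∈ K, k ≠ 1 → ∑ χ ∈ S, (d χ : ℂ) * τ χ k = (A : ℂ) * (a : ℂ) - 1
  sum_norm : ∀ k ∈ K, k ≠ 1 → ∑ χ ∈ S, τ χ k * conj (τ χ k) =
      (Nat.card (Subgroup.centralizer ({k} : Set G)) : ℂ) - e - 2 * a + a ^ 2 * A
  norm₀ : (∑ y : G, if y ∈ K ∧ y ≠ 1 then τ χ₀ y * conj (τ χ₀ y) else 0) =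
      (e : ℂ) * (Nat.card ↥K : ℂ) - e * (e + 2 * a - a ^ 2 * A)
  prop : ∀ χ ∈ S, ∀ ψ ∈ S, ∀ y : G, y ≠ 1 → (∀ g : G, g * y * g⁻¹ ∉ K) →
      (d ψ : ℂ) * τ χ y = (d χ : ℂ) * τ ψ y
  orth : ∀ φ : G → ℂ, IsClassFunction G φ → (∀ χ ∈ S, classInner (τ χ) φ = 0) →
      ∀ k ∈ K, ∀ k' ∈ K, k ≠ 1 → k' ≠ 1 → φ k = φ k'
  inner_one : ∀ χ ∈ S, classInner (τ χ) (fun _ => (1 : ℂ)) = 0

section Build

variable (K : Subgroup G)

local notation "𝒩" => Subgroup.normalizer (K : Set G)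

variable (hTI : Cfsg.IsTISubset (K : Set G))
  (hlt : K < Subgroup.normalizer (K : Set G))
  (hC : ∀ k ∈ K, k ≠ 1 → Subgroup.centralizer ({k} : Set G) ≤ K)

include hC in
theorem card_centralizer_eq [Fintype ↥𝒩] {k : G} (hk : k ∈ K) (hk1 : k ≠ 1) (hkN : k ∈ 𝒩) :
    Nat.card (Subgroup.centralizer ({(⟨k, hkN⟩ : ↥𝒩)} : Set ↥𝒩)) =
      Nat.card (Subgroup.centralizer ({k} : Set G)) := by
  have hle : Subgroup.centralizer ({k} : Set G) ≤ 𝒩 :=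
    (hC k hk hk1).trans Subgroup.le_normalizer
  have heq : Subgroup.centralizer ({(⟨k, hkN⟩ : ↥𝒩)} : Set ↥𝒩) =
      (Subgroup.centralizer ({k} : Set G)).subgroupOf 𝒩 := by
    ext x
    rw [Subgroup.mem_subgroupOf, Subgroup.mem_centralizer_singleton_iff,
      Subgroup.mem_centralizer_singleton_iff]
    constructor
    · intro h
      exact congrArg Subtype.val h
    · intro h
      exact Subtype.ext h
  rw [heq]
  exact Nat.card_congr (Subgroup.subgroupOfEquivOfLe hle).toEquiv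

include hTI hlt hC in
theorem exists_fam (hK1 : K ≠ ⊥) (hnil : Group.IsNilpotent ↥K) (hodd : Odd (Nat.card G)) :
    Nonempty (Fam K) := by
  classical
  letI : Fintype ↥𝒩 := Fintype.ofFinite _
  haveI hKn : (K.subgroupOf 𝒩).Normal := Subgroup.normal_in_normalizer
  have hF := TIFN.fpf K hC
  obtain ⟨τ₁, ε, m, hτ₁, hext, hε, hirr, hinj, hm, χ₀, hχ₀, hχ₀1, hconj, hconjne⟩ :=
    exists_raw K hTI hlt hC hK1 hnil hodd
  letI : Fintype (IrrCharacter ↥𝒩) := irrFintype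
  have hSeq := inducedIrrAbove_bot_eq (K.subgroupOf 𝒩) hF
  have hS : Cfsg.inducedIrrAbove (K.subgroupOf 𝒩) ⊥ =
      {χ : ↥𝒩 → ℂ | IsIrrCharacter ↥𝒩 χ ∧ ∃ k : ↥𝒩, (k : G) ∈ K ∧ χ k ≠ χ 1} := by
    rw [hSeq]; rfl
  have hepos : 0 < (K.subgroupOf 𝒩).index :=
    Nat.pos_of_ne_zero Subgroup.index_ne_zero_of_finite
  have he0 : ((K.subgroupOf 𝒩).index : ℂ) ≠ 0 := by exact_mod_cast hepos.ne'
  -- the finite set of characters
  let Sf : Finset (↥𝒩 → ℂ) :=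
    (Finset.univ.filter (fun η : IrrCharacter ↥𝒩 =>
      FrobKer.Rel (K.subgroupOf 𝒩) (η : ↥𝒩 → ℂ))).map ⟨Subtype.val, Subtype.val_injective⟩
  have hmem : ∀ χ : ↥𝒩 → ℂ, χ ∈ Sf ↔ χ ∈ Cfsg.inducedIrrAbove (K.subgroupOf 𝒩) ⊥ := by
    intro χ
    rw [hSeq]
    simp only [Sf, Finset.mem_map, Finset.mem_filter, Finset.mem_univ, true_and,
      Function.Embedding.coeFn_mk, Set.mem_setOf_eq]
    constructor
    · rintro ⟨η, hr, rfl⟩
      exact ⟨η.2, hr⟩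
    · rintro ⟨h1, h2⟩
      exact ⟨⟨χ, h1⟩, h2, rfl⟩
  have hsum : ∀ f : (↥𝒩 → ℂ) → ℂ, ∑ χ ∈ Sf, f χ = ∑ η : IrrCharacter ↥𝒩,
      (if FrobKer.Rel (K.subgroupOf 𝒩) (η : ↥𝒩 → ℂ) then f η else 0) := by
    intro f
    simp only [Sf, Finset.sum_map, Function.Embedding.coeFn_mk, Finset.sum_filter]
  have hirrS : ∀ χ ∈ Sf, IsIrrCharacter ↥𝒩 χ ∧ FrobKer.Rel (K.subgroupOf 𝒩) χ := by
    intro χ hχ
    have := (hmem χ).1 hχ
    rw [hSeq] at this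
    exact this
  -- degrees
  let dd : (↥𝒩 → ℂ) → ℕ := fun χ => charDegree χ / (K.subgroupOf 𝒩).index
  have hdd : ∀ χ ∈ Sf, χ 1 = ((K.subgroupOf 𝒩).index : ℂ) * (dd χ : ℂ) ∧ 0 < dd χ := by
    intro χ hχ
    obtain ⟨θ, hθ, -, -, rfl⟩ := (hmem χ).1 hχ
    have h1 : indFun (K.subgroupOf 𝒩) θ 1 =
        (((K.subgroupOf 𝒩).index * charDegree θ : ℕ) : ℂ) := by
      rw [Helper24.indFun_one, irr_one_eq_charDegree hθ]; push_cast; rfl
    have h2 : charDegree (indFun (K.subgroupOf 𝒩) θ) =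
        (K.subgroupOf 𝒩).index * charDegree θ := charDegree_natCast _ h1
    have h3 : dd (indFun (K.subgroupOf 𝒩) θ) = charDegree θ := by
      simp only [dd]
      rw [h2, Nat.mul_div_cancel_left _ hepos]
    rw [h3]
    exact ⟨by rw [h1]; push_cast; ring, charDegree_pos hθ⟩
  have hχ₀S : χ₀ ∈ Sf := (hmem χ₀).2 hχ₀
  have hdd₀ : dd χ₀ = 1 := by
    have h1 := (hdd χ₀ hχ₀S).1
    rw [hχ₀1] at h1
    have h2 : ((dd χ₀ : ℕ) : ℂ) = 1 := by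
      have h3 : ((K.subgroupOf 𝒩).index : ℂ) * (dd χ₀ : ℂ) =
          ((K.subgroupOf 𝒩).index : ℂ) * 1 := by rw [← h1, mul_one]
      exact mul_left_cancel₀ he0 h3
    exact_mod_cast h2
  -- values at the nonidentity elements of `K`
  have hval : ∀ χ ∈ Sf, ∀ k : ↥𝒩, (k : G) ∈ K → k ≠ 1 →
      τ₁ χ k = χ k + (m : ℂ) * (dd χ : ℂ) := by
    intro χ hχ k hk hk1
    have h1 := hm χ ((hmem χ).1 hχ) k hk hk1
    rw [(hdd χ hχ).1] at h1
    have h2 : (m : ℂ) * (((K.subgroupOf 𝒩).index : ℂ) * (dd χ : ℂ)) /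
        ((K.subgroupOf 𝒩).index : ℂ) = (m : ℂ) * (dd χ : ℂ) := by
      field_simp
    rw [h2] at h1
    linear_combination h1
  have hmemK : ∀ k : ↥𝒩, (k : G) ∈ K → k ∈ K.subgroupOf 𝒩 := fun k hk =>
    Subgroup.mem_subgroupOf.2 hk
  -- the three sums
  have hS1 : ∀ k : ↥𝒩, (k : G) ∈ K → k ≠ 1 → ∑ χ ∈ Sf, (dd χ : ℂ) * χ k = -1 := by
    intro k hk hk1
    have h1 := sum_rel_deg_mul (K.subgroupOf 𝒩) (hmemK k hk) hk1
    rw [← hsum (fun χ => χ 1 * χ k)] at h1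
    have h2 : ∑ χ ∈ Sf, χ 1 * χ k =
        ((K.subgroupOf 𝒩).index : ℂ) * ∑ χ ∈ Sf, (dd χ : ℂ) * χ k := by
      rw [Finset.mul_sum]
      refine Finset.sum_congr rfl fun χ hχ => ?_
      rw [(hdd χ hχ).1]; ring
    rw [h2] at h1
    have h3 : ((K.subgroupOf 𝒩).index : ℂ) * ∑ χ ∈ Sf, (dd χ : ℂ) * χ k =
        ((K.subgroupOf 𝒩).index : ℂ) * (-1) := by rw [h1]; ring
    exact mul_left_cancel₀ he0 h3
  have hS1c : ∀ k : ↥𝒩, (k : G) ∈ K → k ≠ 1 → ∑ χ ∈ Sf, (dd χ : ℂ) * conj (χ k) = -1 := by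
    intro k hk hk1
    have h1 := congrArg conj (hS1 k hk hk1)
    rw [map_sum, map_neg, map_one] at h1
    rw [← h1]
    refine Finset.sum_congr rfl fun χ _ => ?_
    rw [map_mul, Complex.conj_natCast]
  have hS2 : ∀ k : ↥𝒩, (k : G) ∈ K → k ≠ 1 → ∑ χ ∈ Sf, χ k * conj (χ k) =
      (Nat.card (Subgroup.centralizer ({k} : Set ↥𝒩)) : ℂ) - ((K.subgroupOf 𝒩).index : ℂ) := by
    intro k hk hk1
    rw [hsum (fun χ => χ k * conj (χ k))]
    exact sum_rel_norm (K.subgroupOf 𝒩) (hmemK k hk) hk1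
  -- cardinalities
  have hcardK : Nat.card ↥(K.subgroupOf 𝒩) = Nat.card ↥K :=
    Nat.card_congr (Subgroup.subgroupOfEquivOfLe hlt.le).toEquiv
  have hcardN : Nat.card ↥𝒩 = (K.subgroupOf 𝒩).index * Nat.card ↥K := by
    rw [← hcardK]
    exact ((K.subgroupOf 𝒩).index_mul_card).symm
  have hA : (K.subgroupOf 𝒩).index * (∑ χ ∈ Sf, (dd χ) ^ 2) + 1 = Nat.card ↥K := by
    have h1 := sum_rel_deg_sq (K.subgroupOf 𝒩)
    rw [← hsum (fun χ => χ 1 * χ 1)] at h1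
    have h2 : ∑ χ ∈ Sf, χ 1 * χ 1 =
        ((K.subgroupOf 𝒩).index : ℂ) ^ 2 * ((∑ χ ∈ Sf, (dd χ) ^ 2 : ℕ) : ℂ) := by
      push_cast
      rw [Finset.mul_sum]
      refine Finset.sum_congr rfl fun χ hχ => ?_
      rw [(hdd χ hχ).1]; ring
    rw [h2, hcardN] at h1
    push_cast at h1
    have h3 : ((K.subgroupOf 𝒩).index : ℂ) *
        ((((K.subgroupOf 𝒩).index * (∑ χ ∈ Sf, (dd χ) ^ 2) + 1 : ℕ)) : ℂ) =
        ((K.subgroupOf 𝒩).index : ℂ) * ((Nat.card ↥K : ℕ) : ℂ) := by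
      push_cast
      linear_combination h1
    exact_mod_cast mul_left_cancel₀ he0 h3
  -- the value at `1`
  have hone : ∀ χ ∈ Sf, τ₁ χ 1 = (dd χ : ℂ) * τ₁ χ₀ 1 := by
    intro χ hχ
    have hχi := hirrS χ hχ
    have hχ₀i := hirrS χ₀ hχ₀S
    have hmem' := TIFN.alpha_mem_zspanOn ((hmem χ).1 hχ) hχ₀ hχi.1 hχ₀i.1
    have h1 := hext _ hmem'
    have h2 := congrFun h1 1
    rw [ind_one K hmem', TIFN.star_alpha hτ₁ ((hmem χ).1 hχ) hχ₀ hχi.1 hχ₀i.1] at h2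
    simp only [Pi.sub_apply, Pi.smul_apply, smul_eq_mul] at h2
    rw [hχ₀1, (hdd χ hχ).1] at h2
    have h3 : ((K.subgroupOf 𝒩).index : ℂ) * τ₁ χ 1 =
        ((K.subgroupOf 𝒩).index : ℂ) * ((dd χ : ℂ) * τ₁ χ₀ 1) := by linear_combination h2
    exact mul_left_cancel₀ he0 h3
  obtain ⟨x, hx⟩ : ∃ x : ℤ, τ₁ χ₀ 1 = (x : ℂ) := by
    obtain ⟨n, -, hn⟩ := irr_one_eq (hirr χ₀ hχ₀)
    simp only [Pi.smul_apply, smul_eq_mul] at hn
    rcases hε with h | h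
    · refine ⟨n, ?_⟩
      rw [h, one_mul] at hn
      rw [hn]; simp
    · refine ⟨-n, ?_⟩
      rw [h] at hn
      push_cast
      linear_combination -hn
  -- the other member
  have htwo : ∃ χ ∈ Sf, χ ≠ χ₀ := ⟨_, (hmem _).2 hconj, hconjne⟩
  -- the inner products with the principal character
  have hpone : ∀ χ ∈ Sf, classInner (τ₁ χ) (fun _ => (1 : ℂ)) = 0 := by
    intro χ hχ
    obtain ⟨ξ, hξ, hξne⟩ : ∃ ξ ∈ Sf, ξ ≠ χ := by
      obtain ⟨ξ, hξ, hξne⟩ := htwo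
      by_cases h : ξ = χ
      · exact ⟨χ₀, hχ₀S, fun h' => hξne (h.trans h'.symm)⟩
      · exact ⟨ξ, hξ, h⟩
    have hχi := hirrS χ hχ
    have hξi := hirrS ξ hξ
    have hcf1 : IsClassFunction G (fun _ => (1 : ℂ)) := fun _ _ => rfl
    have h1 := TIFN.inner_star_alpha K _ hS τ₁ hext ((hmem χ).1 hχ) ((hmem ξ).1 hξ) hcf1
    rw [TIFN.star_alpha hτ₁ ((hmem χ).1 hχ) ((hmem ξ).1 hξ) hχi.1 hξi.1,
      classInner_sub_left, Helper24.classInner_smul_left, Helper24.classInner_smul_left,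
      TIFN.classInner_alpha_left] at h1
    have hne1 : ∀ ζ : ↥𝒩 → ℂ, FrobKer.Rel (K.subgroupOf 𝒩) ζ → ζ ≠ fun _ => (1 : ℂ) := by
      intro ζ ⟨k, _, hk⟩ h
      apply hk
      rw [h]
    have hχ0 : classInner χ (fun _ : ↥𝒩 => (1 : ℂ)) = 0 := by
      rw [irr_orthogonality hχi.1 isIrrCharacter_one, if_neg (hne1 χ hχi.2)]
    have hξ0 : classInner ξ (fun _ : ↥𝒩 => (1 : ℂ)) = 0 := by
      rw [irr_orthogonality hξi.1 isIrrCharacter_one, if_neg (hne1 ξ hξi.2)]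
    rw [hχ0, hξ0] at h1
    have hε0 : ε ≠ 0 := by
      rcases hε with h | h <;> rw [h] <;> norm_num
    by_contra hcon
    have hχone : ε • τ₁ χ = fun _ => (1 : ℂ) := by
      by_contra hne
      have := irr_orthogonality (hirr χ ((hmem χ).1 hχ)) (isIrrCharacter_one (G := G))
      rw [if_neg hne, Helper24.classInner_smul_left] at this
      rcases mul_eq_zero.1 this with h | h
      · exact hε0 h
      · exact hcon h
    have hξone : ε • τ₁ ξ ≠ fun _ => (1 : ℂ) := by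
      intro h
      apply hξne
      apply hinj ξ ((hmem ξ).1 hξ) χ ((hmem χ).1 hχ)
      have h2 : ε • τ₁ ξ = ε • τ₁ χ := by rw [h, hχone]
      have h3 := congrArg (fun f => ε⁻¹ • f) h2
      simpa [smul_smul, inv_mul_cancel₀ hε0] using h3
    have hξ00 : classInner (τ₁ ξ) (fun _ => (1 : ℂ)) = 0 := by
      have := irr_orthogonality (hirr ξ ((hmem ξ).1 hξ)) (isIrrCharacter_one (G := G))
      rw [if_neg hξone, Helper24.classInner_smul_left] at this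
      rcases mul_eq_zero.1 this with h | h
      · exact absurd h hε0
      · exact h
    rw [hξ00] at h1
    have hξ1 : ξ 1 ≠ 0 := by
      rw [(hdd ξ hξ).1]
      have := (hdd ξ hξ).2
      have h4 : ((dd ξ : ℕ) : ℂ) ≠ 0 := by exact_mod_cast this.ne'
      exact mul_ne_zero he0 h4
    apply hcon
    have h5 : ξ 1 * classInner (τ₁ χ) (fun _ => (1 : ℂ)) = 0 := by linear_combination h1
    rcases mul_eq_zero.1 h5 with h | h
    · exact absurd h hξ1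
    · exact h
  refine ⟨{
    S := Sf
    τ := τ₁
    d := dd
    ε := ε
    x := x
    a := m
    A := ∑ χ ∈ Sf, (dd χ) ^ 2
    e := (K.subgroupOf 𝒩).index
    χ₀ := χ₀
    hε := hε
    irr := fun χ hχ => hirr χ ((hmem χ).1 hχ)
    inj := fun χ hχ ψ hψ => hinj χ ((hmem χ).1 hχ) ψ ((hmem ψ).1 hψ)
    card_norm := hcardN
    card_K := hA
    sum_sq := rfl
    dpos := fun χ hχ => (hdd χ hχ).2
    hχ₀ := hχ₀S
    hd₀ := hdd₀
    two := htwo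
    val_one := fun χ hχ => by rw [hone χ hχ, hx]
    sum_d := ?_
    sum_norm := ?_
    norm₀ := ?_
    prop := ?_
    orth := ?_
    inner_one := hpone }⟩
  · -- sum_d
    intro k hk hk1
    have hkN : k ∈ 𝒩 := hlt.le hk
    have hk1' : (⟨k, hkN⟩ : ↥𝒩) ≠ 1 := fun h => hk1 (congrArg Subtype.val h)
    have h1 : ∀ χ ∈ Sf, (dd χ : ℂ) * τ₁ χ k =
        (dd χ : ℂ) * χ ⟨k, hkN⟩ + (m : ℂ) * ((dd χ : ℂ)) ^ 2 := by
      intro χ hχ
      have := hval χ hχ ⟨k, hkN⟩ hk hk1'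
      simp only at this
      rw [this]; ring
    rw [Finset.sum_congr rfl h1, Finset.sum_add_distrib, hS1 ⟨k, hkN⟩ hk hk1',
      ← Finset.mul_sum]
    push_cast
    ring
  · -- sum_norm
    intro k hk hk1
    have hkN : k ∈ 𝒩 := hlt.le hk
    have hk1' : (⟨k, hkN⟩ : ↥𝒩) ≠ 1 := fun h => hk1 (congrArg Subtype.val h)
    have h1 : ∀ χ ∈ Sf, τ₁ χ k * conj (τ₁ χ k) =
        χ ⟨k, hkN⟩ * conj (χ ⟨k, hkN⟩) + (m : ℂ) * ((dd χ : ℂ) * χ ⟨k, hkN⟩) +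
          (m : ℂ) * ((dd χ : ℂ) * conj (χ ⟨k, hkN⟩)) + (m : ℂ) ^ 2 * ((dd χ : ℂ)) ^ 2 := by
      intro χ hχ
      have := hval χ hχ ⟨k, hkN⟩ hk hk1'
      simp only at this
      rw [this, map_add, map_mul, map_intCast, Complex.conj_natCast]; ring
    rw [Finset.sum_congr rfl h1, Finset.sum_add_distrib, Finset.sum_add_distrib,
      Finset.sum_add_distrib, hS2 ⟨k, hkN⟩ hk hk1', ← Finset.mul_sum, ← Finset.mul_sum,
      ← Finset.mul_sum, hS1 ⟨k, hkN⟩ hk hk1', hS1c ⟨k, hkN⟩ hk hk1',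
      card_centralizer_eq K hC hk hk1 hkN]
    push_cast
    ring
  · -- norm₀
    have hχ₀i := hirrS χ₀ hχ₀S
    set F : G → ℂ := fun y => τ₁ χ₀ y * conj (τ₁ χ₀ y) with hFdef
    have hstep1 : (∑ y : G, if y ∈ K ∧ y ≠ 1 then F y else 0) =
        ∑ n : ↥𝒩, (if (n : G) ∈ K ∧ (n : G) ≠ 1 then F n else 0) := by
      rw [← FrobKer.sum_ite_mem 𝒩 (fun y : G => if y ∈ K ∧ y ≠ 1 then F y else 0)]
      refine Finset.sum_congr rfl fun y _ => ?_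
      by_cases hy : y ∈ 𝒩
      · rw [if_pos hy]
      · rw [if_neg hy, if_neg (fun h : y ∈ K ∧ y ≠ 1 => hy (hlt.le h.1))]
    have hstep2 : ∀ n : ↥𝒩, (if (n : G) ∈ K ∧ (n : G) ≠ 1 then F n else 0) =
        (if n ∈ K.subgroupOf 𝒩 ∧ n ≠ 1 then χ₀ n * conj (χ₀ n) else 0) +
        (m : ℂ) * (if n ∈ K.subgroupOf 𝒩 ∧ n ≠ 1 then χ₀ n else 0) +
        (m : ℂ) * conj (if n ∈ K.subgroupOf 𝒩 ∧ n ≠ 1 then χ₀ n else 0) +
        (m : ℂ) ^ 2 * (if n ∈ K.subgroupOf 𝒩 ∧ n ≠ 1 then (1 : ℂ) else 0) := by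
      intro n
      by_cases hc : (n : G) ∈ K ∧ (n : G) ≠ 1
      · have hc' : n ∈ K.subgroupOf 𝒩 ∧ n ≠ 1 :=
          ⟨Subgroup.mem_subgroupOf.2 hc.1, fun h => hc.2 (congrArg Subtype.val h)⟩
        rw [if_pos hc, if_pos hc', if_pos hc', if_pos hc']
        have := hval χ₀ hχ₀S n hc.1 hc'.2
        rw [hdd₀] at this
        simp only [hFdef]
        rw [this, map_add, map_mul, map_intCast]
        simp only [Nat.cast_one, map_one]
        ring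
      · have hc' : ¬ (n ∈ K.subgroupOf 𝒩 ∧ n ≠ 1) := by
          rintro ⟨h1, h2⟩
          exact hc ⟨Subgroup.mem_subgroupOf.1 h1, fun h => h2 (Subtype.ext h)⟩
        rw [if_neg hc, if_neg hc', if_neg hc', if_neg hc']
        simp
    have hcount : ∑ n : ↥𝒩, (if n ∈ K.subgroupOf 𝒩 ∧ n ≠ 1 then (1 : ℂ) else 0) =
        (Nat.card ↥K : ℂ) - 1 := by
      letI : Fintype ↥(K.subgroupOf 𝒩) := Fintype.ofFinite _
      have h1 := FrobKer.sum_ite_mem (K.subgroupOf 𝒩) (fun _ : ↥𝒩 => (1 : ℂ))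
      rw [Finset.sum_const, Finset.card_univ, ← Nat.card_eq_fintype_card, hcardK,
        nsmul_eq_mul, mul_one] at h1
      have h3 : ∑ n : ↥𝒩, (if n ∈ K.subgroupOf 𝒩 then (1 : ℂ) else 0) =
          ∑ n : ↥𝒩, (if n ∈ K.subgroupOf 𝒩 ∧ n ≠ 1 then (1 : ℂ) else 0) +
          ∑ n : ↥𝒩, (if n = 1 then (1 : ℂ) else 0) := by
        rw [← Finset.sum_add_distrib]
        refine Finset.sum_congr rfl fun n _ => ?_
        by_cases hn1 : n = 1
        · subst hn1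
          simp [(K.subgroupOf 𝒩).one_mem]
        · by_cases hnK : n ∈ K.subgroupOf 𝒩
          · rw [if_pos hnK, if_pos (⟨hnK, hn1⟩ : n ∈ K.subgroupOf 𝒩 ∧ n ≠ 1), if_neg hn1,
              add_zero]
          · rw [if_neg hnK, if_neg (fun h : n ∈ K.subgroupOf 𝒩 ∧ n ≠ 1 => hnK h.1),
              if_neg hn1, add_zero]
      rw [Finset.sum_ite_eq' Finset.univ (1 : ↥𝒩), if_pos (Finset.mem_univ _), h1] at h3
      linear_combination -h3
    have hAc : (Nat.card ↥K : ℂ) =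
        ((K.subgroupOf 𝒩).index : ℂ) * ((∑ χ ∈ Sf, (dd χ) ^ 2 : ℕ) : ℂ) + 1 := by
      rw [← hA]; push_cast; ring
    have hN1 := sum_norm_rel (K.subgroupOf 𝒩) hF hχ₀i.1 hχ₀i.2
    have hN2 := sum_val_rel (K.subgroupOf 𝒩) hF hχ₀i.1 hχ₀i.2
    rw [hχ₀1] at hN1 hN2
    have hN1' : ∑ n : ↥𝒩, (if n ∈ K.subgroupOf 𝒩 ∧ n ≠ 1 then χ₀ n * conj (χ₀ n) else 0) =
        ((K.subgroupOf 𝒩).index : ℂ) * (Nat.card ↥K : ℂ) -
          ((K.subgroupOf 𝒩).index : ℂ) * ((K.subgroupOf 𝒩).index : ℂ) := by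
      rw [hN1, hcardN]; push_cast; ring
    show (∑ y : G, if y ∈ K ∧ y ≠ 1 then F y else 0) = _
    rw [hstep1, Finset.sum_congr rfl (fun n _ => hstep2 n), Finset.sum_add_distrib,
      Finset.sum_add_distrib, Finset.sum_add_distrib, ← Finset.mul_sum, ← Finset.mul_sum,
      ← Finset.mul_sum, ← map_sum, hN1', hN2, hcount, map_neg, Complex.conj_natCast]
    push_cast at hAc ⊢
    linear_combination (m : ℂ) ^ 2 * hAc
  · -- prop
    intro χ hχ ψ hψ y hy1 hy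
    have hχi := hirrS χ hχ
    have hψi := hirrS ψ hψ
    have hmem' := TIFN.alpha_mem_zspanOn ((hmem χ).1 hχ) ((hmem ψ).1 hψ) hχi.1 hψi.1
    have h1 := congrFun (hext _ hmem') y
    have hvan : indFun 𝒩 (TIFN.alpha χ ψ) y = 0 := by
      rw [Helper24.indFun_apply]
      have hz : ∀ x : G, extendByZero 𝒩 (TIFN.alpha χ ψ) (x⁻¹ * y * x) = 0 := by
        intro x
        by_cases hx : x⁻¹ * y * x ∈ 𝒩
        · rw [Helper24.extendByZero_of_mem _ _ hx]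
          apply (mem_zspan_props K hC hmem'.1).2.2
          intro hk
          apply hy x⁻¹
          simpa using hk
        · exact Helper24.extendByZero_of_not_mem _ _ hx
      rw [Finset.sum_eq_zero (fun x _ => hz x), mul_zero]
    rw [hvan, TIFN.star_alpha hτ₁ ((hmem χ).1 hχ) ((hmem ψ).1 hψ) hχi.1 hψi.1] at h1
    simp only [Pi.sub_apply, Pi.smul_apply, smul_eq_mul] at h1
    rw [(hdd χ hχ).1, (hdd ψ hψ).1] at h1
    have h3 : ((K.subgroupOf 𝒩).index : ℂ) * ((dd ψ : ℂ) * τ₁ χ y) =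
        ((K.subgroupOf 𝒩).index : ℂ) * ((dd χ : ℂ) * τ₁ ψ y) := by linear_combination h1
    exact mul_left_cancel₀ he0 h3
  · -- orth
    intro φ hφ horth k hk k' hk' hk1 hk'1
    have hcf : IsClassFunction ↥𝒩 (fun x : ↥𝒩 => φ x) := fun g h => hφ g h
    have key := TIFN.const_of_orth K _ hS hcf ?_ (a := ⟨k, hlt.le hk⟩) (b := ⟨k', hlt.le hk'⟩)
      hk hk' (fun h => hk1 (congrArg Subtype.val h)) (fun h => hk'1 (congrArg Subtype.val h))
    · exact key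
    · intro χ hχ ξ hξ
      have hχS := (hmem χ).2 hχ
      have hξS := (hmem ξ).2 hξ
      have hχi := hirrS χ hχS
      have hξi := hirrS ξ hξS
      rw [← TIFN.inner_star_alpha K _ hS τ₁ hext hχ hξ hφ,
        TIFN.star_alpha hτ₁ hχ hξ hχi.1 hξi.1, classInner_sub_left,
        Helper24.classInner_smul_left, Helper24.classInner_smul_left, horth χ hχS,
        horth ξ hξS]
      ring

end Build

end Family

end Cfsg.Agent.Helper8.PartFrob
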