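import Mathlib
import Cfsg.Agent.Lib.Helper8.PartFam
import Cfsg.Agent.Lib.Helper8.PartArith
import Cfsg.Agent.S1527

/-!
# A group of odd order is not partitioned by coprime TI Frobenius kernels: global part (helper8)
-/

set_option autoImplicit false

namespace Cfsg.Agent.Helper8.PartFrob

open Cfsg Cfsg.Agent.Helper8 Cfsg.Agent.Helper24 Cfsg.Agent.Helper5 Cfsg.Agent.Helper18
open scoped ComplexConjugate

universe u v

section Partition

variable {G : Type u} [Group G] [Fintype G]

theorem sum_ite_eq_sum_subtype (p : G → Prop) [DecidablePred p] [Fintype (Subtype p)]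
    (f : G → ℂ) : ∑ y : G, (if p y then f y else 0) = ∑ y : Subtype p, f y := by
  rw [← Finset.sum_filter]
  exact Finset.sum_subtype (Finset.univ.filter p) (by intro x; simp) f

open Classical in
/-- the sum of a class function over the nonidentity elements conjugate into a TI subgroup -/
theorem sum_conjSet (K : Subgroup G) (hTI : Cfsg.IsTISubset (K : Set G)) {f : G → ℂ}
    (hf : IsClassFunction G f) :
    (Nat.card ↥(Subgroup.normalizer (K : Set G)) : ℂ) *
      ∑ y : G, (if y ∈ Cfsg.Agent.S1527.conjSet K then f y else 0) =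
    (Nat.card G : ℂ) * ∑ y : G, (if y ∈ K ∧ y ≠ 1 then f y else 0) := by
  letI : Fintype ↥(Subgroup.normalizer (K : Set G)) := Fintype.ofFinite _
  letI : Fintype ↥(Cfsg.Agent.S1527.conjSet K) := Fintype.ofFinite _
  letI : Fintype {h : ↥K // h ≠ 1} := Fintype.ofFinite _
  letI : Fintype ↥K := Fintype.ofFinite _
  have h1 : ∑ y : G, (if y ∈ Cfsg.Agent.S1527.conjSet K then f y else 0) =
      ∑ y : ↥(Cfsg.Agent.S1527.conjSet K), f y :=
    sum_ite_eq_sum_subtype (fun y => y ∈ Cfsg.Agent.S1527.conjSet K) f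
  have h2 : ∑ y : G, (if y ∈ K ∧ y ≠ 1 then f y else 0) = ∑ k : {h : ↥K // h ≠ 1}, f (k : ↥K) := by
    have h3 : ∑ y : G, (if y ∈ K ∧ y ≠ 1 then f y else 0) =
        ∑ y : G, (if y ∈ K then (if y ≠ 1 then f y else 0) else 0) := by
      refine Finset.sum_congr rfl fun y _ => ?_
      by_cases hy : y ∈ K
      · by_cases hy1 : y ≠ 1
        · rw [if_pos (⟨hy, hy1⟩ : y ∈ K ∧ y ≠ 1), if_pos hy, if_pos hy1]
        · rw [if_neg (fun h : y ∈ K ∧ y ≠ 1 => hy1 h.2), if_pos hy, if_neg hy1]
      · rw [if_neg (fun h : y ∈ K ∧ y ≠ 1 => hy h.1), if_neg hy]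
    rw [h3, FrobKer.sum_ite_mem K (fun y => if y ≠ 1 then f y else 0)]
    have h4 : ∑ k : ↥K, (if (k : G) ≠ 1 then f k else 0) =
        ∑ k : ↥K, (if k ≠ 1 then f k else 0) := by
      refine Finset.sum_congr rfl fun k _ => ?_
      by_cases hk : k = 1
      · rw [if_neg (fun h : (k : G) ≠ 1 => h (by rw [hk]; rfl)),
          if_neg (fun h : k ≠ 1 => h hk)]
      · rw [if_pos (fun h : (k : G) = 1 => hk (Subtype.ext h)), if_pos hk]
    rw [h4, ← Finset.sum_filter]
    exact Finset.sum_subtype (Finset.univ.filter (fun k : ↥K => k ≠ 1)) (by intro x; simp)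
      (fun k : ↥K => f k)
  rw [h1, h2]
  have h5 : ∑ p : ↥(Cfsg.Agent.S1527.conjSet K) × ↥(Subgroup.normalizer (K : Set G)), f p.1 =
      ∑ q : G × {h : ↥K // h ≠ 1}, f (q.2 : ↥K) := by
    rw [← Equiv.sum_comp (Cfsg.Agent.S1527.fiberEquiv K hTI).symm]
    refine Finset.sum_congr rfl fun q _ => ?_
    show f (q.1⁻¹ * ((q.2 : ↥K) : G) * q.1) = f ((q.2 : ↥K) : G)
    have := hf ((q.2 : ↥K) : G) q.1⁻¹
    rw [inv_inv] at this
    exact this
  rw [Fintype.sum_prod_type, Fintype.sum_prod_type] at h5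
  simp only [Finset.sum_const, Finset.card_univ, nsmul_eq_mul] at h5
  rw [← Finset.mul_sum, ← Nat.card_eq_fintype_card, ← Nat.card_eq_fintype_card] at h5
  rw [← h5]

end Partition

section Global

variable {G : Type u} [Group G] [Fintype G] {ι : Type v} [Fintype ι] (H : ι → Subgroup G)
  (hcop : ∀ i j, i ≠ j → Nat.Coprime (Nat.card (H i)) (Nat.card (H j)))
  (hTI : ∀ i, Cfsg.IsTISubset (H i : Set G))
  (hcover : ∀ g : G, g ≠ 1 → ∃ i, ∃ x : G, x * g * x⁻¹ ∈ H i)

include hcop in
theorem conj_disjoint {i j : ι} (hij : i ≠ j) {y : G} (hy1 : y ≠ 1) {x : G}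
    (hx : x * y * x⁻¹ ∈ H i) (g : G) : g * y * g⁻¹ ∉ H j := by
  intro hg
  have ho : ∀ (K : Subgroup G) (z : G), z * y * z⁻¹ ∈ K → orderOf y ∣ Nat.card K := by
    intro K z hz
    have h1 := orderOf_dvd_natCard (⟨z * y * z⁻¹, hz⟩ : K)
    rw [Subgroup.orderOf_mk] at h1
    have h2 : orderOf (z * y * z⁻¹) = orderOf y := by
      have := orderOf_injective (MulAut.conj z).toMonoidHom (MulAut.conj z).injective y
      simpa using this
    rwa [h2] at h1
  have h1 := Nat.eq_one_of_dvd_coprimes (hcop i j hij) (ho _ x hx) (ho _ g hg)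
  exact hy1 (orderOf_eq_one_iff.mp h1)

open Classical in
include hcop hTI hcover in
theorem sum_partition {f : G → ℂ} (hf : IsClassFunction G f) :
    ∑ y : G, f y = f 1 + ∑ i, ((Subgroup.normalizer (H i : Set G)).index : ℂ) *
      ∑ y : G, (if y ∈ H i ∧ y ≠ 1 then f y else 0) := by
  have hpt : ∀ y : G, f y = (if y = 1 then f 1 else 0) +
      ∑ i, (if y ∈ Cfsg.Agent.S1527.conjSet (H i) then f y else 0) := by
    intro y
    by_cases hy : y = 1
    · subst hy
      rw [if_pos rfl, Finset.sum_eq_zero, add_zero]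
      intro i _
      rw [if_neg]
      intro h
      exact h.1 rfl
    · rw [if_neg hy, zero_add]
      obtain ⟨i, x, hx⟩ := hcover y hy
      rw [Finset.sum_eq_single i]
      · rw [if_pos]
        exact ⟨hy, x, hx⟩
      · intro j _ hji
        rw [if_neg]
        rintro ⟨-, g, hg⟩
        exact conj_disjoint H hcop (Ne.symm hji) hy hx g hg
      · intro h
        exact absurd (Finset.mem_univ i) h
  rw [Finset.sum_congr rfl (fun y _ => hpt y), Finset.sum_add_distrib,
    Finset.sum_ite_eq' Finset.univ (1 : G), if_pos (Finset.mem_univ _), Finset.sum_comm]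
  congr 1
  refine Finset.sum_congr rfl fun i _ => ?_
  have h1 := sum_conjSet (H i) (hTI i) hf
  have h2 : ((Subgroup.normalizer (H i : Set G)).index : ℂ) *
      (Nat.card ↥(Subgroup.normalizer (H i : Set G)) : ℂ) = (Nat.card G : ℂ) := by
    exact_mod_cast Subgroup.index_mul_card _
  have hne : (Nat.card ↥(Subgroup.normalizer (H i : Set G)) : ℂ) ≠ 0 := by
    exact_mod_cast (Nat.card_pos (α := ↥(Subgroup.normalizer (H i : Set G)))).ne'
  apply mul_left_cancel₀ hne
  rw [h1, ← h2]
  ring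

end Global

section FamBasic

variable {G : Type u} [Group G] [Fintype G] {K : Subgroup G} (F : Fam K)

theorem Fam.eps_mul_self : F.ε * F.ε = 1 := by
  rcases F.hε with h | h <;> rw [h] <;> norm_num

theorem Fam.eps_conj : conj F.ε = F.ε := by
  rcases F.hε with h | h <;> rw [h] <;> simp

theorem Fam.eps_ne_zero : F.ε ≠ 0 := by
  rcases F.hε with h | h <;> rw [h] <;> norm_num

theorem Fam.tau_eq {χ : ↥(Subgroup.normalizer (K : Set G)) → ℂ} :
    F.τ χ = F.ε • (F.ε • F.τ χ) := by
  rw [smul_smul, F.eps_mul_self, one_smul]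

theorem Fam.isClassFunction {χ : ↥(Subgroup.normalizer (K : Set G)) → ℂ} (hχ : χ ∈ F.S) :
    IsClassFunction G (F.τ χ) := by
  have h1 := isClassFunction_of_isIrrCharacter (F.irr χ hχ)
  intro g h
  have h2 := h1 g h
  simp only [Pi.smul_apply, smul_eq_mul] at h2
  exact mul_left_cancel₀ F.eps_ne_zero h2

theorem Fam.isGenChar {χ : ↥(Subgroup.normalizer (K : Set G)) → ℂ} (hχ : χ ∈ F.S) :
    IsGeneralizedCharacter G (F.τ χ) := by
  have h1 := isGenChar_of_isCharacter (isCharacter_of_isIrrCharacter (F.irr χ hχ))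
  rcases F.hε with h | h
  · rw [h, one_smul] at h1
    exact h1
  · rw [h] at h1
    have h2 := isGenChar_neg h1
    have h3 : -((-1 : ℂ) • F.τ χ) = F.τ χ := by
      ext y; simp
    rw [h3] at h2
    exact h2

theorem Fam.inner_self {χ ψ : ↥(Subgroup.normalizer (K : Set G)) → ℂ} (hχ : χ ∈ F.S)
    (hψ : ψ ∈ F.S) [Decidable (χ = ψ)] :
    classInner (F.τ χ) (F.τ ψ) = if χ = ψ then 1 else 0 := by
  classical
  have h1 := irr_orthogonality (F.irr χ hχ) (F.irr ψ hψ)
  rw [Helper24.classInner_smul_left, Helper24.classInner_smul_right, F.eps_conj, ← mul_assoc,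
    F.eps_mul_self, one_mul] at h1
  rw [h1]
  by_cases h : χ = ψ
  · rw [if_pos h, if_pos (by rw [h])]
  · rw [if_neg h, if_neg]
    intro h2
    apply h
    apply F.inj χ hχ ψ hψ
    have h3 : F.ε • (F.ε • F.τ χ) = F.ε • (F.ε • F.τ ψ) := by rw [h2]
    rw [← F.tau_eq, ← F.tau_eq] at h3
    exact h3

theorem Fam.exists_ne {χ : ↥(Subgroup.normalizer (K : Set G)) → ℂ} :
    ∃ ψ ∈ F.S, ψ ≠ χ := by
  obtain ⟨ξ, hξ, hξne⟩ := F.two
  by_cases h : ξ = χ
  · exact ⟨F.χ₀, F.hχ₀, fun h' => hξne (h.trans h'.symm)⟩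
  · exact ⟨ξ, hξ, h⟩

theorem Fam.x_ne_zero : F.x ≠ 0 := by
  intro h
  obtain ⟨n, hn, hn1⟩ := irr_one_eq (F.irr F.χ₀ F.hχ₀)
  simp only [Pi.smul_apply, smul_eq_mul] at hn1
  rw [F.val_one F.χ₀ F.hχ₀, h] at hn1
  have h0 : (n : ℂ) = 0 := by rw [← hn1]; simp
  have h0' : n = 0 := by exact_mod_cast h0
  omega

theorem Fam.d_cast_pos {χ : ↥(Subgroup.normalizer (K : Set G)) → ℂ} (hχ : χ ∈ F.S) :
    (F.d χ : ℂ) ≠ 0 := by
  have := F.dpos χ hχ
  exact_mod_cast this.ne'

end FamBasic

/-- two functions which are irreducible characters up to sign and not orthogonal -/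
theorem eq_of_inner_ne_zero {G : Type u} [Group G] [Fintype G] {X Y : G → ℂ} {ε ε' : ℂ}
    (hX : IsIrrCharacter G (ε • X)) (hY : IsIrrCharacter G (ε' • Y))
    (h : classInner X Y ≠ 0) : ε • X = ε' • Y := by
  classical
  by_contra hne
  have h1 := irr_orthogonality hX hY
  rw [if_neg hne, Helper24.classInner_smul_left, Helper24.classInner_smul_right] at h1
  have hε : ε ≠ 0 := by
    intro h0
    obtain ⟨n, hn, hn1⟩ := irr_one_eq hX
    rw [h0] at hn1
    have h0 : (n : ℂ) = 0 := by rw [← hn1]; simp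
    have h0' : n = 0 := by exact_mod_cast h0
    omega
  have hε' : ε' ≠ 0 := by
    intro h0
    obtain ⟨n, hn, hn1⟩ := irr_one_eq hY
    rw [h0] at hn1
    have h0 : (n : ℂ) = 0 := by rw [← hn1]; simp
    have h0' : n = 0 := by exact_mod_cast h0
    omega
  rcases mul_eq_zero.1 h1 with h2 | h2
  · exact hε h2
  · rcases mul_eq_zero.1 h2 with h3 | h3
    · exact hε' ((map_eq_zero _).1 h3)
    · exact h h3

section Main

variable {G : Type u} [Group G] [Fintype G] {ι : Type v} [Fintype ι] (H : ι → Subgroup G)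
  (hcop : ∀ i j, i ≠ j → Nat.Coprime (Nat.card (H i)) (Nat.card (H j)))
  (hTI : ∀ i, Cfsg.IsTISubset (H i : Set G))
  (hcover : ∀ g : G, g ≠ 1 → ∃ i, ∃ x : G, x * g * x⁻¹ ∈ H i)
  (F : ∀ i, Fam (H i))

/-- the difference of two members of a family, normalised to vanish at `1` -/
noncomputable def diff (i : ι) (χ χ' : ↥(Subgroup.normalizer (H i : Set G)) → ℂ) : G → ℂ :=
  ((F i).d χ' : ℂ) • (F i).τ χ - ((F i).d χ : ℂ) • (F i).τ χ'

include hcop in
theorem diff_eq_zero {i : ι} {χ χ' : ↥(Subgroup.normalizer (H i : Set G)) → ℂ}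
    (hχ : χ ∈ (F i).S) (hχ' : χ' ∈ (F i).S) {y : G} {l : ι} (hl : l ≠ i) {x : G}
    (hx : x * y * x⁻¹ ∈ H l) : diff H F i χ χ' y = 0 := by
  unfold diff
  simp only [Pi.sub_apply, Pi.smul_apply, smul_eq_mul]
  by_cases hy : y = 1
  · subst hy
    rw [(F i).val_one χ hχ, (F i).val_one χ' hχ']
    ring
  · rw [(F i).prop χ hχ χ' hχ' y hy (fun g => conj_disjoint H hcop hl hy hx g)]
    ring

theorem diff_one {i : ι} {χ χ' : ↥(Subgroup.normalizer (H i : Set G)) → ℂ}
    (hχ : χ ∈ (F i).S) (hχ' : χ' ∈ (F i).S) : diff H F i χ χ' 1 = 0 := by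
  unfold diff
  simp only [Pi.sub_apply, Pi.smul_apply, smul_eq_mul]
  rw [(F i).val_one χ hχ, (F i).val_one χ' hχ']
  ring

include hcop hcover in
/-- members of different families are orthogonal -/
theorem cross_orth {i j : ι} (hij : i ≠ j) {χ : ↥(Subgroup.normalizer (H i : Set G)) → ℂ}
    {ψ : ↥(Subgroup.normalizer (H j : Set G)) → ℂ} (hχ : χ ∈ (F i).S) (hψ : ψ ∈ (F j).S) :
    classInner ((F i).τ χ) ((F j).τ ψ) = 0 := by
  classical
  by_contra hne
  obtain ⟨χ', hχ', hχne⟩ := (F i).exists_ne (χ := χ)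
  obtain ⟨ψ', hψ', hψne⟩ := (F j).exists_ne (χ := ψ)
  -- the key vanishing
  have hDD : classInner (diff H F i χ χ') (diff H F j ψ ψ') = 0 := by
    unfold classInner
    rw [Finset.sum_eq_zero, mul_zero]
    intro y _
    by_cases hy : y = 1
    · rw [hy, diff_one H F hχ hχ', zero_mul]
    · obtain ⟨l, x, hx⟩ := hcover y hy
      by_cases hl : l = i
      · have hlj : l ≠ j := fun h => hij (hl.symm.trans h)
        rw [diff_eq_zero H hcop F hψ hψ' hlj hx, map_zero, mul_zero]
      · rw [diff_eq_zero H hcop F hχ hχ' hl hx, zero_mul]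
  have heq := eq_of_inner_ne_zero ((F i).irr χ hχ) ((F j).irr ψ hψ) hne
  -- the other inner products
  have h1 : classInner ((F i).τ χ) ((F j).τ ψ') = 0 := by
    by_contra h
    have heq' := eq_of_inner_ne_zero ((F i).irr χ hχ) ((F j).irr ψ' hψ') h
    apply hψne
    apply (F j).inj ψ' hψ' ψ hψ
    have h3 : (F j).ε • ((F j).ε • (F j).τ ψ') = (F j).ε • ((F j).ε • (F j).τ ψ) := by
      rw [← heq', heq]
    rw [← (F j).tau_eq, ← (F j).tau_eq] at h3
    exact h3
  have h2 : classInner ((F i).τ χ') ((F j).τ ψ) = 0 := by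
    by_contra h
    have heq' := eq_of_inner_ne_zero ((F i).irr χ' hχ') ((F j).irr ψ hψ) h
    apply hχne
    apply (F i).inj χ' hχ' χ hχ
    have h3 : (F i).ε • ((F i).ε • (F i).τ χ') = (F i).ε • ((F i).ε • (F i).τ χ) := by
      rw [heq', heq]
    rw [← (F i).tau_eq, ← (F i).tau_eq] at h3
    exact h3
  -- the value of a nonzero inner product
  have hval : ∀ (a : ↥(Subgroup.normalizer (H i : Set G)) → ℂ)
      (b : ↥(Subgroup.normalizer (H j : Set G)) → ℂ), a ∈ (F i).S → b ∈ (F j).S →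
      classInner ((F i).τ a) ((F j).τ b) ≠ 0 →
      classInner ((F i).τ a) ((F j).τ b) = (F i).ε * (F j).ε := by
    intro a b ha hb hab
    have heq' := eq_of_inner_ne_zero ((F i).irr a ha) ((F j).irr b hb) hab
    have h3 : (F i).τ a = ((F i).ε * (F j).ε) • (F j).τ b := by
      rw [(F i).tau_eq (χ := a), heq', smul_smul]
    rw [h3, Helper24.classInner_smul_left, (F j).inner_self hb hb, if_pos rfl, mul_one]
  have hs := hval χ ψ hχ hψ hne
  have hs0 : (F i).ε * (F j).ε ≠ 0 := mul_ne_zero (F i).eps_ne_zero (F j).eps_ne_zero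
  unfold diff at hDD
  rw [classInner_sub_left, classInner_sub_right, classInner_sub_right,
    Helper24.classInner_smul_left, Helper24.classInner_smul_left,
    Helper24.classInner_smul_left, Helper24.classInner_smul_left,
    Helper24.classInner_smul_right, Helper24.classInner_smul_right,
    Helper24.classInner_smul_right, Helper24.classInner_smul_right,
    Complex.conj_natCast, Complex.conj_natCast, h1, h2, hs] at hDD
  have hpos1 : (0 : ℝ) < ((F i).d χ' : ℝ) * ((F j).d ψ' : ℝ) := by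
    have a1 := (F i).dpos χ' hχ'
    have a2 := (F j).dpos ψ' hψ'
    positivity
  have hpos2 : (0 : ℝ) ≤ ((F i).d χ : ℝ) * ((F j).d ψ : ℝ) := by positivity
  by_cases ht : classInner ((F i).τ χ') ((F j).τ ψ') = 0
  · rw [ht] at hDD
    have h5 : (((F i).d χ' : ℝ) * ((F j).d ψ' : ℝ) : ℂ) * ((F i).ε * (F j).ε) = 0 := by
      push_cast
      linear_combination hDD
    rcases mul_eq_zero.1 h5 with h6 | h6
    · have h7 : ((F i).d χ' : ℝ) * ((F j).d ψ' : ℝ) = 0 := by exact_mod_cast h6
      linarith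
    · exact hs0 h6
  · rw [hval χ' ψ' hχ' hψ' ht] at hDD
    have h5 : (((F i).d χ' : ℝ) * ((F j).d ψ' : ℝ) + ((F i).d χ : ℝ) * ((F j).d ψ : ℝ) : ℂ) *
        ((F i).ε * (F j).ε) = 0 := by
      push_cast
      linear_combination hDD
    rcases mul_eq_zero.1 h5 with h6 | h6
    · have h7 : ((F i).d χ' : ℝ) * ((F j).d ψ' : ℝ) + ((F i).d χ : ℝ) * ((F j).d ψ : ℝ) = 0 := by
        exact_mod_cast h6
      linarith
    · exact hs0 h6

include hcop hcover in
/-- the members of the family of `H i` are constant on the nonidentity elements of `H j` -/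
theorem exists_const (hH1 : ∀ i, H i ≠ ⊥) {i j : ι} (hij : i ≠ j) :
    ∃ c : ℤ, ∀ χ ∈ (F i).S, ∀ k ∈ H j, k ≠ 1 →
      (F i).τ χ k = ((F i).d χ : ℂ) * (c : ℂ) := by
  classical
  have hχ₀ := (F i).hχ₀
  have hcf := (F i).isClassFunction hχ₀
  have hconst : ∀ k ∈ H j, ∀ k' ∈ H j, k ≠ 1 → k' ≠ 1 →
      (F i).τ (F i).χ₀ k = (F i).τ (F i).χ₀ k' :=
    (F j).orth _ hcf (fun ψ hψ => cross_orth H hcop hcover F (Ne.symm hij) hψ hχ₀)
  obtain ⟨k₀, hk₀, hk₀1⟩ : ∃ k₀ ∈ H j, k₀ ≠ 1 := by
    by_contra hcon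
    push Not at hcon
    apply hH1 j
    rw [eq_bot_iff]
    intro y hy
    rw [Subgroup.mem_bot]
    exact hcon y hy
  -- integrality
  have hchar : IsCharacter G ((F i).ε • (F i).τ (F i).χ₀) :=
    isCharacter_of_isIrrCharacter ((F i).irr _ hχ₀)
  obtain ⟨n, hn⟩ := TISylow.const_value_int (H j) (hH1 j) hchar hk₀ (fun z' hz' hz'1 => by
    simp only [Pi.smul_apply, smul_eq_mul]
    rw [hconst z' hz' k₀ hk₀ hz'1 hk₀1])
  simp only [Pi.smul_apply, smul_eq_mul] at hn
  obtain ⟨c, hc⟩ : ∃ c : ℤ, (F i).τ (F i).χ₀ k₀ = c := by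
    rcases (F i).hε with h | h
    · refine ⟨n, ?_⟩
      rw [h, one_mul] at hn
      exact hn
    · refine ⟨-n, ?_⟩
      rw [h] at hn
      push_cast
      linear_combination -hn
  refine ⟨c, fun χ hχ k hk hk1 => ?_⟩
  have h1 := (F i).prop χ hχ _ hχ₀ k hk1
    (fun g => conj_disjoint H hcop (Ne.symm hij) hk1 (x := 1) (by simpa using hk) g)
  rw [(F i).hd₀, Nat.cast_one, one_mul] at h1
  rw [h1, hconst k hk k₀ hk₀ hk1 hk₀1, hc]

/-- the weighted sum of a family -/
noncomputable def Phi (l : ι) : G → ℂ :=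
  ∑ χ ∈ (F l).S, ((F l).d χ : ℂ) • (F l).τ χ

theorem Phi_apply (l : ι) (y : G) :
    Phi H F l y = ∑ χ ∈ (F l).S, ((F l).d χ : ℂ) * (F l).τ χ y := by
  unfold Phi
  simp only [Finset.sum_apply, Pi.smul_apply, smul_eq_mul]

theorem Phi_self {l : ι} {k : G} (hk : k ∈ H l) (hk1 : k ≠ 1) :
    Phi H F l k = ((F l).A : ℂ) * ((F l).a : ℂ) - 1 := by
  rw [Phi_apply, (F l).sum_d k hk hk1]

theorem Phi_other (c : ι → ι → ℤ)
    (hc : ∀ i j, i ≠ j → ∀ χ ∈ (F i).S, ∀ k ∈ H j, k ≠ 1 →
      (F i).τ χ k = ((F i).d χ : ℂ) * (c i j : ℂ))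
    {l j : ι} (hlj : l ≠ j) {k : G} (hk : k ∈ H j) (hk1 : k ≠ 1) :
    Phi H F l k = ((F l).A : ℂ) * (c l j : ℂ) := by
  rw [Phi_apply, ← (F l).sum_sq]
  push_cast
  rw [Finset.sum_mul]
  refine Finset.sum_congr rfl fun χ hχ => ?_
  rw [hc l j hlj χ hχ k hk hk1]
  ring

theorem Phi_isClassFunction (l : ι) : IsClassFunction G (Phi H F l) := by
  intro g h
  rw [Phi_apply, Phi_apply]
  refine Finset.sum_congr rfl fun χ hχ => ?_
  rw [(F l).isClassFunction hχ g h]

theorem Phi_inner_left (l : ι) (φ : G → ℂ) :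
    classInner (Phi H F l) φ = ∑ χ ∈ (F l).S, ((F l).d χ : ℂ) * classInner ((F l).τ χ) φ := by
  unfold Phi
  rw [Helper24.classInner_sum_left]
  refine Finset.sum_congr rfl fun χ _ => ?_
  rw [Helper24.classInner_smul_left]

theorem Phi_inner_right (l : ι) (φ : G → ℂ) :
    classInner φ (Phi H F l) = ∑ χ ∈ (F l).S, ((F l).d χ : ℂ) * classInner φ ((F l).τ χ) := by
  unfold Phi
  rw [Helper24.classInner_sum_right]
  refine Finset.sum_congr rfl fun χ _ => ?_
  rw [Helper24.classInner_smul_right, Complex.conj_natCast]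

theorem Phi_inner_one (l : ι) : classInner (Phi H F l) (fun _ => (1 : ℂ)) = 0 := by
  rw [Phi_inner_left]
  refine Finset.sum_eq_zero fun χ hχ => ?_
  rw [(F l).inner_one χ hχ, mul_zero]

include hcop hcover in
theorem Phi_inner_Phi (l m : ι) [Decidable (l = m)] :
    classInner (Phi H F l) (Phi H F m) = if l = m then ((F l).A : ℂ) else 0 := by
  classical
  rw [Phi_inner_left]
  by_cases hlm : l = m
  · subst hlm
    rw [if_pos rfl, ← (F l).sum_sq]
    push_cast
    refine Finset.sum_congr rfl fun χ hχ => ?_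
    rw [Phi_inner_right, Finset.sum_eq_single χ]
    · rw [(F l).inner_self hχ hχ, if_pos rfl]; ring
    · intro ψ hψ hψχ
      rw [(F l).inner_self hχ hψ, if_neg (Ne.symm hψχ), mul_zero]
    · intro h; exact absurd hχ h
  · rw [if_neg hlm]
    refine Finset.sum_eq_zero fun χ hχ => ?_
    rw [Phi_inner_right, Finset.sum_eq_zero, mul_zero]
    intro ψ hψ
    rw [cross_orth H hcop hcover F hlm hχ hψ, mul_zero]

include hcop hcover in
/-- completeness: a class function orthogonal to the principal character and to all the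
families vanishes -/
theorem complete (hH1 : ∀ i, H i ≠ ⊥) (c : ι → ι → ℤ)
    (hc : ∀ i j, i ≠ j → ∀ χ ∈ (F i).S, ∀ k ∈ H j, k ≠ 1 →
      (F i).τ χ k = ((F i).d χ : ℂ) * (c i j : ℂ))
    {φ : G → ℂ} (hφ : IsClassFunction G φ)
    (h1 : classInner (fun _ => (1 : ℂ)) φ = 0)
    (h2 : ∀ i, ∀ χ ∈ (F i).S, classInner ((F i).τ χ) φ = 0) : φ = 0 := by
  classical
  have hrep : ∀ j, ∃ y ∈ H j, y ≠ 1 := by
    intro j
    by_contra hcon
    push Not at hcon
    apply hH1 j
    rw [eq_bot_iff]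
    intro y hy
    rw [Subgroup.mem_bot]
    exact hcon y hy
  choose y hyH hy1 using hrep
  let κ : (G → ℂ) → (Option ι → ℂ) := fun Ψ o =>
    match o with
    | none => Ψ 1
    | some j => Ψ (y j)
  let v : Option (Option ι) → (Option ι → ℂ) := fun o =>
    match o with
    | none => κ φ
    | some none => κ (fun _ => (1 : ℂ))
    | some (some l) => κ (Phi H F l)
  have hdep : ¬ LinearIndependent ℂ v := by
    intro hli
    have h3 := hli.fintype_card_le_finrank
    rw [Module.finrank_fintype_fun_eq_card] at h3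
    simp only [Fintype.card_option] at h3
    omega
  rw [Fintype.not_linearIndependent_iff] at hdep
  obtain ⟨g, hg0, o₀, ho₀⟩ := hdep
  rw [Fintype.sum_option, Fintype.sum_option] at hg0
  set Ψ : G → ℂ := g none • φ + (g (some none) • (fun _ => (1 : ℂ)) +
    ∑ l, g (some (some l)) • Phi H F l) with hΨdef
  have hΨ1 : Ψ 1 = 0 := by
    have h3 := congrFun hg0 none
    simp only [v, κ, Pi.add_apply, Pi.smul_apply, Finset.sum_apply, smul_eq_mul,
      Pi.zero_apply] at h3
    simp only [hΨdef, Pi.add_apply, Pi.smul_apply, Finset.sum_apply, smul_eq_mul]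
    exact h3
  have hΨy : ∀ j, Ψ (y j) = 0 := by
    intro j
    have h3 := congrFun hg0 (some j)
    simp only [v, κ, Pi.add_apply, Pi.smul_apply, Finset.sum_apply, smul_eq_mul,
      Pi.zero_apply] at h3
    simp only [hΨdef, Pi.add_apply, Pi.smul_apply, Finset.sum_apply, smul_eq_mul]
    exact h3
  have hPhic : ∀ l j, ∀ k ∈ H j, k ≠ 1 → Phi H F l k = Phi H F l (y j) := by
    intro l j k hk hk1
    by_cases hlj : l = j
    · subst hlj
      rw [Phi_self H F hk hk1, Phi_self H F (hyH l) (hy1 l)]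
    · rw [Phi_other H F c hc hlj hk hk1, Phi_other H F c hc hlj (hyH j) (hy1 j)]
  have hΨc : ∀ j, ∀ k ∈ H j, k ≠ 1 → Ψ k = 0 := by
    intro j k hk hk1
    rw [← hΨy j]
    simp only [hΨdef, Pi.add_apply, Pi.smul_apply, Finset.sum_apply, smul_eq_mul]
    rw [(F j).orth φ hφ (h2 j) k hk (y j) (hyH j) hk1 (hy1 j)]
    congr 2
    refine Finset.sum_congr rfl fun l _ => ?_
    rw [hPhic l j k hk hk1]
  have hΨcf : IsClassFunction G Ψ := by
    intro a b
    simp only [hΨdef, Pi.add_apply, Pi.smul_apply, Finset.sum_apply, smul_eq_mul]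
    rw [hφ a b]
    congr 2
    refine Finset.sum_congr rfl fun l _ => ?_
    rw [Phi_isClassFunction H F l a b]
  have hΨ0 : Ψ = 0 := by
    funext z
    by_cases hz : z = 1
    · rw [hz, hΨ1]; rfl
    · obtain ⟨i, x, hx⟩ := hcover z hz
      rw [← hΨcf z x, hΨc i _ hx]
      · rfl
      · intro h
        apply hz
        have : z = x⁻¹ * (x * z * x⁻¹) * x := by group
        rw [this, h]; group
  -- inner products
  have hφ1 : classInner φ (fun _ => (1 : ℂ)) = 0 := by
    rw [← Helper24.classInner_conj_symm, h1, map_zero]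
  have hPφ : ∀ l, classInner (Phi H F l) φ = 0 := by
    intro l
    rw [Phi_inner_left]
    refine Finset.sum_eq_zero fun χ hχ => ?_
    rw [h2 l χ hχ, mul_zero]
  have hφP : ∀ l, classInner φ (Phi H F l) = 0 := by
    intro l
    rw [← Helper24.classInner_conj_symm, hPφ l, map_zero]
  have h1P : ∀ l, classInner (fun _ => (1 : ℂ)) (Phi H F l) = 0 := by
    intro l
    rw [← Helper24.classInner_conj_symm, Phi_inner_one, map_zero]
  have h11 : classInner (fun _ : G => (1 : ℂ)) (fun _ => (1 : ℂ)) = 1 := by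
    rw [irr_orthogonality isIrrCharacter_one isIrrCharacter_one, if_pos rfl]
  have hexp : ∀ θ : G → ℂ, classInner Ψ θ = g none * classInner φ θ +
      (g (some none) * classInner (fun _ => (1 : ℂ)) θ +
        ∑ l, g (some (some l)) * classInner (Phi H F l) θ) := by
    intro θ
    rw [hΨdef, Helper24.classInner_add_left, Helper24.classInner_add_left,
      Helper24.classInner_smul_left, Helper24.classInner_smul_left,
      Helper24.classInner_sum_left]
    congr 2
    refine Finset.sum_congr rfl fun l _ => ?_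
    rw [Helper24.classInner_smul_left]
  have hzero : ∀ θ : G → ℂ, classInner Ψ θ = 0 := by
    intro θ
    rw [hΨ0, Helper24.classInner_zero_left]
  have e1 := hexp (fun _ => (1 : ℂ))
  rw [hzero, hφ1, h11, Finset.sum_eq_zero (fun l _ => by rw [Phi_inner_one, mul_zero])] at e1
  have hg1 : g (some none) = 0 := by linear_combination -e1
  have hgl : ∀ m, g (some (some m)) = 0 := by
    intro m
    have e2 := hexp (Phi H F m)
    rw [hzero, hφP, h1P, Finset.sum_eq_single m] at e2
    · rw [Phi_inner_Phi H hcop hcover F, if_pos rfl] at e2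
      have hA : ((F m).A : ℂ) ≠ 0 := by
        have h4 := (F m).sum_sq
        have h5 : 0 < (F m).A := by
          rw [← h4]
          refine lt_of_lt_of_le ?_ (Finset.single_le_sum (f := fun χ => (F m).d χ ^ 2)
            (fun χ _ => Nat.zero_le _) (F m).hχ₀)
          rw [(F m).hd₀]; norm_num
        exact_mod_cast h5.ne'
      have h6 : g (some (some m)) * ((F m).A : ℂ) = 0 := by linear_combination -e2
      rcases mul_eq_zero.1 h6 with h | h
      · exact h
      · exact absurd h hA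
    · intro l _ hlm
      rw [Phi_inner_Phi H hcop hcover F, if_neg hlm, mul_zero]
    · intro h; exact absurd (Finset.mem_univ m) h
  have e3 := hexp φ
  rw [hzero, h1, Finset.sum_eq_zero (fun l _ => by rw [hPφ, mul_zero])] at e3
  have hg0' : g none ≠ 0 := by
    rcases o₀ with _ | _ | m
    · exact ho₀
    · exact absurd hg1 ho₀
    · exact absurd (hgl m) ho₀
  apply classInner_self_eq_zero
  have h7 : g none * classInner φ φ = 0 := by linear_combination -e3
  rcases mul_eq_zero.1 h7 with h | h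
  · exact absurd h hg0'
  · exact h

/-- the class function counting the conjugating elements -/
noncomputable def conjCount (x₀ : G) : G → ℂ := by
  classical
  exact fun y => ∑ t : G, (if t * x₀ * t⁻¹ = y then (1 : ℂ) else 0)

theorem conjCount_isClassFunction (x₀ : G) : IsClassFunction G (conjCount x₀) := by
  classical
  intro a b
  unfold conjCount
  rw [← Equiv.sum_comp (Equiv.mulLeft b)]
  refine Finset.sum_congr rfl fun t _ => ?_
  simp only [Equiv.coe_mulLeft]
  have : (b * t * x₀ * (b * t)⁻¹ = b * a * b⁻¹) ↔ (t * x₀ * t⁻¹ = a) := by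
    constructor
    · intro h
      have : t * x₀ * t⁻¹ = b⁻¹ * (b * t * x₀ * (b * t)⁻¹) * b := by group
      rw [this, h]; group
    · intro h
      rw [← h]; group
  simp only [this]

theorem inner_conjCount {θ : G → ℂ} (hθ : IsClassFunction G θ) (x₀ : G) :
    classInner θ (conjCount x₀) = θ x₀ := by
  classical
  unfold classInner conjCount
  have h1 : ∀ y : G, θ y * conj (∑ t : G, (if t * x₀ * t⁻¹ = y then (1 : ℂ) else 0)) =
      ∑ t : G, (if t * x₀ * t⁻¹ = y then θ y else 0) := by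
    intro y
    rw [map_sum, Finset.mul_sum]
    refine Finset.sum_congr rfl fun t _ => ?_
    split_ifs <;> simp
  rw [Finset.sum_congr rfl (fun y _ => h1 y), Finset.sum_comm]
  have h2 : ∀ t : G, ∑ y : G, (if t * x₀ * t⁻¹ = y then θ y else 0) = θ x₀ := by
    intro t
    rw [Finset.sum_ite_eq Finset.univ (t * x₀ * t⁻¹), if_pos (Finset.mem_univ _), hθ x₀ t]
  rw [Finset.sum_congr rfl (fun t _ => h2 t), Finset.sum_const, Finset.card_univ,
    ← Nat.card_eq_fintype_card, nsmul_eq_mul]
  have hcard : (Nat.card G : ℂ) ≠ 0 := by exact_mod_cast (Nat.card_pos (α := G)).ne'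
  field_simp

include hcop hcover in
/-- the second orthogonality relation in terms of the families -/
theorem column (hH1 : ∀ i, H i ≠ ⊥) (c : ι → ι → ℤ)
    (hc : ∀ i j, i ≠ j → ∀ χ ∈ (F i).S, ∀ k ∈ H j, k ≠ 1 →
      (F i).τ χ k = ((F i).d χ : ℂ) * (c i j : ℂ)) (x₀ y₀ : G) :
    conjCount x₀ y₀ =
      1 + ∑ i, ∑ χ ∈ (F i).S, conj ((F i).τ χ x₀) * (F i).τ χ y₀ := by
  classical
  set P : G → ℂ := conjCount x₀ - ((fun _ => (1 : ℂ)) +
    ∑ i, ∑ χ ∈ (F i).S, conj ((F i).τ χ x₀) • (F i).τ χ) with hP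
  have hcf1 : IsClassFunction G (fun _ : G => (1 : ℂ)) := fun _ _ => rfl
  have hPcf : IsClassFunction G P := by
    intro a b
    simp only [hP, Pi.sub_apply, Pi.add_apply, Finset.sum_apply, Pi.smul_apply, smul_eq_mul]
    rw [conjCount_isClassFunction x₀ a b]
    congr 2
    refine Finset.sum_congr rfl fun i _ => ?_
    refine Finset.sum_congr rfl fun χ hχ => ?_
    rw [(F i).isClassFunction hχ a b]
  have h11 : classInner (fun _ : G => (1 : ℂ)) (fun _ => (1 : ℂ)) = 1 := by
    rw [irr_orthogonality isIrrCharacter_one isIrrCharacter_one, if_pos rfl]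
  have hP0 : P = 0 := by
    apply complete H hcop hcover F hH1 c hc hPcf
    · rw [hP, classInner_sub_right, Helper24.classInner_add_right, inner_conjCount hcf1, h11,
        Helper24.classInner_sum_right, Finset.sum_eq_zero]
      · ring
      · intro i _
        rw [Helper24.classInner_sum_right]
        refine Finset.sum_eq_zero fun χ hχ => ?_
        rw [Helper24.classInner_smul_right, ← Helper24.classInner_conj_symm,
          (F i).inner_one χ hχ, map_zero, mul_zero]
    · intro i χ hχ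
      rw [hP, classInner_sub_right, Helper24.classInner_add_right,
        inner_conjCount ((F i).isClassFunction hχ), (F i).inner_one χ hχ,
        Helper24.classInner_sum_right, Finset.sum_eq_single i]
      · rw [Helper24.classInner_sum_right, Finset.sum_eq_single χ]
        · rw [Helper24.classInner_smul_right, Complex.conj_conj, (F i).inner_self hχ hχ,
            if_pos rfl]
          ring
        · intro ψ hψ hψχ
          rw [Helper24.classInner_smul_right, (F i).inner_self hχ hψ, if_neg (Ne.symm hψχ),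
            mul_zero]
        · intro h; exact absurd hχ h
      · intro j _ hji
        rw [Helper24.classInner_sum_right]
        refine Finset.sum_eq_zero fun ψ hψ => ?_
        rw [Helper24.classInner_smul_right, cross_orth H hcop hcover F (Ne.symm hji) hχ hψ,
          mul_zero]
      · intro h; exact absurd (Finset.mem_univ i) h
  have h3 := congrFun hP0 y₀
  simp only [hP, Pi.sub_apply, Pi.add_apply, Finset.sum_apply, Pi.smul_apply, smul_eq_mul,
    Pi.zero_apply] at h3
  linear_combination h3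

theorem conjCount_self (k : G) :
    conjCount k k = (Nat.card (Subgroup.centralizer ({k} : Set G)) : ℂ) := by
  classical
  unfold conjCount
  rw [Finset.sum_boole]
  congr 1
  rw [Nat.card_eq_fintype_card, Fintype.card_subtype]
  congr 1
  ext t
  simp only [Finset.mem_filter, Finset.mem_univ, true_and]
  rw [Subgroup.mem_centralizer_singleton_iff]
  constructor
  · intro h
    calc t * k = (t * k * t⁻¹) * t := by group
      _ = k * t := by rw [h]
  · intro h
    rw [h]; group

theorem conjCount_eq_zero {x₀ y₀ : G} (h : ∀ t : G, t * x₀ * t⁻¹ ≠ y₀) : conjCount x₀ y₀ = 0 := by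
  classical
  unfold conjCount
  refine Finset.sum_eq_zero fun t _ => ?_
  rw [if_neg (h t)]

theorem exists_ne_one (hH1 : ∀ i, H i ≠ ⊥) (j : ι) : ∃ y ∈ H j, y ≠ 1 := by
  by_contra hcon
  push Not at hcon
  apply hH1 j
  rw [eq_bot_iff]
  intro y hy
  rw [Subgroup.mem_bot]
  exact hcon y hy

include hcop hcover in
/-- the column relation -/
theorem rel_col (hH1 : ∀ i, H i ≠ ⊥) (c : ι → ι → ℤ)
    (hc : ∀ i j, i ≠ j → ∀ χ ∈ (F i).S, ∀ k ∈ H j, k ≠ 1 →
      (F i).τ χ k = ((F i).d χ : ℂ) * (c i j : ℂ))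
    (hcd : ∀ i, c i i = 0) (i : ι) :
    ∑ l, ((F l).A : ℤ) * (c l i) ^ 2 =
      ((F i).e : ℤ) - 1 + 2 * (F i).a - (F i).a ^ 2 * ((F i).A : ℤ) := by
  classical
  obtain ⟨k, hk, hk1⟩ := exists_ne_one H hH1 i
  have h1 := column H hcop hcover F hH1 c hc k k
  rw [conjCount_self] at h1
  have h2 : ∀ l, ∑ χ ∈ (F l).S, conj ((F l).τ χ k) * (F l).τ χ k =
      ((F l).A : ℂ) * (c l i : ℂ) ^ 2 + (if l = i then
        ((Nat.card (Subgroup.centralizer ({k} : Set G)) : ℂ) - (F i).e - 2 * (F i).a +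
          (F i).a ^ 2 * (F i).A) else 0) := by
    intro l
    by_cases hl : l = i
    · subst hl
      rw [if_pos rfl, hcd l]
      have h3 := (F l).sum_norm k hk hk1
      rw [← h3]
      push_cast
      rw [show ((F l).A : ℂ) * (0 : ℂ) ^ 2 = 0 by ring, zero_add]
      refine Finset.sum_congr rfl fun χ _ => ?_
      ring
    · rw [if_neg hl, add_zero, ← (F l).sum_sq]
      push_cast
      rw [Finset.sum_mul]
      refine Finset.sum_congr rfl fun χ hχ => ?_
      rw [hc l i hl χ hχ k hk hk1, map_mul, Complex.conj_natCast, map_intCast]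
      ring
  rw [Finset.sum_congr rfl (fun l _ => h2 l), Finset.sum_add_distrib,
    Finset.sum_ite_eq' Finset.univ i, if_pos (Finset.mem_univ _)] at h1
  have h4 : ((∑ l, ((F l).A : ℤ) * (c l i) ^ 2 : ℤ) : ℂ) =
      ((((F i).e : ℤ) - 1 + 2 * (F i).a - (F i).a ^ 2 * ((F i).A : ℤ) : ℤ) : ℂ) := by
    push_cast
    linear_combination -h1
  exact_mod_cast h4

include hcop hcover in
/-- the relation between two columns -/
theorem rel_par (hH1 : ∀ i, H i ≠ ⊥) (c : ι → ι → ℤ)
    (hc : ∀ i j, i ≠ j → ∀ χ ∈ (F i).S, ∀ k ∈ H j, k ≠ 1 →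
      (F i).τ χ k = ((F i).d χ : ℂ) * (c i j : ℂ))
    (hcd : ∀ i, c i i = 0) {i j : ι} (hij : i ≠ j) :
    1 + ∑ l, ((F l).A : ℤ) * (c l i) * (c l j) +
      c i j * (((F i).A : ℤ) * (F i).a - 1) + c j i * (((F j).A : ℤ) * (F j).a - 1) = 0 := by
  classical
  obtain ⟨k, hk, hk1⟩ := exists_ne_one H hH1 i
  obtain ⟨k', hk', hk'1⟩ := exists_ne_one H hH1 j
  have h1 := column H hcop hcover F hH1 c hc k k'
  rw [conjCount_eq_zero] at h1
  swap
  · intro t ht
    exact conj_disjoint H hcop hij hk1 (x := 1) (by simpa using hk) t (by rw [ht]; exact hk')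
  have h2 : ∀ l, ∑ χ ∈ (F l).S, conj ((F l).τ χ k) * (F l).τ χ k' =
      ((F l).A : ℂ) * (c l i : ℂ) * (c l j : ℂ) +
      (if l = i then (c i j : ℂ) * (((F i).A : ℂ) * ((F i).a : ℂ) - 1) else 0) +
      (if l = j then (c j i : ℂ) * (((F j).A : ℂ) * ((F j).a : ℂ) - 1) else 0) := by
    intro l
    by_cases hli : l = i
    · subst hli
      rw [if_pos rfl, if_neg hij, add_zero, hcd l]
      have h3 := congrArg conj ((F l).sum_d k hk hk1)
      rw [map_sum, map_sub, map_mul, map_one, Complex.conj_natCast, map_intCast] at h3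
      rw [← h3, Finset.mul_sum]
      push_cast
      rw [show ((F l).A : ℂ) * (0 : ℂ) * (c l j : ℂ) = 0 by ring, zero_add]
      refine Finset.sum_congr rfl fun χ hχ => ?_
      rw [hc l j hij χ hχ k' hk' hk'1, map_mul, Complex.conj_natCast]
      ring
    · by_cases hlj : l = j
      · subst hlj
        rw [if_neg hli, if_pos rfl, add_zero, hcd l]
        rw [← (F l).sum_d k' hk' hk'1, Finset.mul_sum]
        push_cast
        rw [show ((F l).A : ℂ) * (c l i : ℂ) * (0 : ℂ) = 0 by ring, zero_add]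
        refine Finset.sum_congr rfl fun χ hχ => ?_
        rw [hc l i hli χ hχ k hk hk1, map_mul, Complex.conj_natCast, map_intCast]
        ring
      · rw [if_neg hli, if_neg hlj, add_zero, add_zero, ← (F l).sum_sq]
        push_cast
        rw [Finset.sum_mul, Finset.sum_mul]
        refine Finset.sum_congr rfl fun χ hχ => ?_
        rw [hc l i hli χ hχ k hk hk1, hc l j hlj χ hχ k' hk' hk'1, map_mul,
          Complex.conj_natCast, map_intCast]
        ring
  rw [Finset.sum_congr rfl (fun l _ => h2 l), Finset.sum_add_distrib, Finset.sum_add_distrib,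
    Finset.sum_ite_eq' Finset.univ i, if_pos (Finset.mem_univ _),
    Finset.sum_ite_eq' Finset.univ j, if_pos (Finset.mem_univ _)] at h1
  have h4 : ((1 + ∑ l, ((F l).A : ℤ) * (c l i) * (c l j) +
      c i j * (((F i).A : ℤ) * (F i).a - 1) + c j i * (((F j).A : ℤ) * (F j).a - 1) : ℤ) : ℂ) =
      ((0 : ℤ) : ℂ) := by
    push_cast
    linear_combination -h1
  exact_mod_cast h4

open Classical in
theorem sum_count (K : Subgroup G) :
    ∑ y : G, (if y ∈ K ∧ y ≠ 1 then (1 : ℂ) else 0) = (Nat.card ↥K : ℂ) - 1 := by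
  letI : Fintype ↥K := Fintype.ofFinite _
  have h1 := FrobKer.sum_ite_mem K (fun _ : G => (1 : ℂ))
  rw [Finset.sum_const, Finset.card_univ, ← Nat.card_eq_fintype_card, nsmul_eq_mul,
    mul_one] at h1
  have h3 : ∑ y : G, (if y ∈ K then (1 : ℂ) else 0) =
      ∑ y : G, (if y ∈ K ∧ y ≠ 1 then (1 : ℂ) else 0) +
      ∑ y : G, (if y = 1 then (1 : ℂ) else 0) := by
    rw [← Finset.sum_add_distrib]
    refine Finset.sum_congr rfl fun y _ => ?_
    by_cases hy1 : y = 1
    · subst hy1
      simp [K.one_mem]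
    · by_cases hyK : y ∈ K
      · rw [if_pos hyK, if_pos (⟨hyK, hy1⟩ : y ∈ K ∧ y ≠ 1), if_neg hy1, add_zero]
      · rw [if_neg hyK, if_neg (fun h : y ∈ K ∧ y ≠ 1 => hyK h.1), if_neg hy1, add_zero]
  rw [Finset.sum_ite_eq' Finset.univ (1 : G), if_pos (Finset.mem_univ _), h1] at h3
  linear_combination -h3

include hcop hTI hcover in
theorem rel_count :
    (Nat.card G : ℤ) = 1 + ∑ j, ((Subgroup.normalizer (H j : Set G)).index : ℤ) *
      ((Nat.card ↥(H j) : ℤ) - 1) := by
  classical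
  have hcf1 : IsClassFunction G (fun _ : G => (1 : ℂ)) := fun _ _ => rfl
  have h1 := sum_partition H hcop hTI hcover hcf1
  rw [Finset.sum_const, Finset.card_univ, ← Nat.card_eq_fintype_card, nsmul_eq_mul, mul_one,
    Finset.sum_congr rfl (fun j _ => by rw [sum_count (H j)])] at h1
  have h4 : ((Nat.card G : ℤ) : ℂ) = ((1 + ∑ j, ((Subgroup.normalizer (H j : Set G)).index : ℤ) *
      ((Nat.card ↥(H j) : ℤ) - 1) : ℤ) : ℂ) := by
    push_cast
    exact h1
  exact_mod_cast h4

include hcop hTI hcover in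
/-- the row relation -/
theorem rel_row (c : ι → ι → ℤ)
    (hc : ∀ i j, i ≠ j → ∀ χ ∈ (F i).S, ∀ k ∈ H j, k ≠ 1 →
      (F i).τ χ k = ((F i).d χ : ℂ) * (c i j : ℂ))
    (hcd : ∀ i, c i i = 0) (i : ι) :
    (F i).x ^ 2 + ∑ j, ((Subgroup.normalizer (H j : Set G)).index : ℤ) *
      ((Nat.card ↥(H j) : ℤ) - 1) * (c i j) ^ 2 =
    ((Subgroup.normalizer (H i : Set G)).index : ℤ) * ((F i).e : ℤ) *
      (((F i).e : ℤ) + 2 * (F i).a - (F i).a ^ 2 * ((F i).A : ℤ)) := by
  classical
  have hχ₀ := (F i).hχ₀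
  have hcf : IsClassFunction G (fun y => ((F i).τ (F i).χ₀) y * conj (((F i).τ (F i).χ₀) y)) := by
    intro a b
    simp only
    rw [(F i).isClassFunction hχ₀ a b]
  have hnorm : classInner ((F i).τ (F i).χ₀) ((F i).τ (F i).χ₀) = 1 := by
    rw [(F i).inner_self hχ₀ hχ₀, if_pos rfl]
  have hcard : (Nat.card G : ℂ) ≠ 0 := by exact_mod_cast (Nat.card_pos (α := G)).ne'
  have hsum : ∑ y : G, ((F i).τ (F i).χ₀) y * conj (((F i).τ (F i).χ₀) y) = (Nat.card G : ℂ) := by
    unfold classInner at hnorm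
    field_simp at hnorm
    linear_combination hnorm
  have h1 := sum_partition H hcop hTI hcover hcf
  rw [hsum] at h1
  have hone : ((F i).τ (F i).χ₀) 1 * conj (((F i).τ (F i).χ₀) 1) = ((F i).x : ℂ) ^ 2 := by
    rw [(F i).val_one _ hχ₀, (F i).hd₀, map_mul, map_intCast]
    simp
    ring
  have h2 : ∀ j, ∑ y : G, (if y ∈ H j ∧ y ≠ 1 then ((F i).τ (F i).χ₀) y * conj (((F i).τ (F i).χ₀) y) else 0) =
      ((Nat.card ↥(H j) : ℂ) - 1) * (c i j : ℂ) ^ 2 +
      (if j = i then ((F i).e : ℂ) * (Nat.card ↥(H i) : ℂ) -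
        (F i).e * ((F i).e + 2 * (F i).a - (F i).a ^ 2 * (F i).A) else 0) := by
    intro j
    by_cases hj : j = i
    · subst hj
      rw [if_pos rfl, hcd j]
      have := (F j).norm₀
      push_cast
      rw [show ((Nat.card ↥(H j) : ℂ) - 1) * (0 : ℂ) ^ 2 = 0 by ring, zero_add]
      convert this using 2
    · rw [if_neg hj, add_zero, ← sum_count (H j), Finset.sum_mul]
      refine Finset.sum_congr rfl fun y _ => ?_
      by_cases hy : y ∈ H j ∧ y ≠ 1
      · rw [if_pos hy, if_pos hy, hc i j (Ne.symm hj) _ hχ₀ y hy.1 hy.2, (F i).hd₀, map_mul,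
          map_intCast]
        simp
        ring
      · rw [if_neg hy, if_neg hy, zero_mul]
  rw [Finset.sum_congr rfl (fun j _ => by rw [h2 j]), hone] at h1
  simp only [mul_add, Finset.sum_add_distrib, mul_ite, mul_zero,
    Finset.sum_ite_eq' Finset.univ i, Finset.mem_univ, if_true] at h1
  have hidx : ((Subgroup.normalizer (H i : Set G)).index : ℂ) *
      (((F i).e : ℂ) * (Nat.card ↥(H i) : ℂ)) = (Nat.card G : ℂ) := by
    have h5 := Subgroup.index_mul_card (Subgroup.normalizer (H i : Set G))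
    rw [(F i).card_norm] at h5
    exact_mod_cast h5
  have h4 : (((F i).x ^ 2 + ∑ j, ((Subgroup.normalizer (H j : Set G)).index : ℤ) *
      ((Nat.card ↥(H j) : ℤ) - 1) * (c i j) ^ 2 : ℤ) : ℂ) =
    ((((Subgroup.normalizer (H i : Set G)).index : ℤ) * ((F i).e : ℤ) *
      (((F i).e : ℤ) + 2 * (F i).a - (F i).a ^ 2 * ((F i).A : ℤ)) : ℤ) : ℂ) := by
    push_cast
    have h6 : ∑ j, ((Subgroup.normalizer (H j : Set G)).index : ℂ) *
        ((Nat.card ↥(H j) : ℂ) - 1) * (c i j : ℂ) ^ 2 =
        ∑ j, ((Subgroup.normalizer (H j : Set G)).index : ℂ) *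
        (((Nat.card ↥(H j) : ℂ) - 1) * (c i j : ℂ) ^ 2) := by
      refine Finset.sum_congr rfl fun j _ => ?_
      ring
    rw [h6]
    linear_combination -h1 - hidx
  exact_mod_cast h4

include hcop hTI hcover F in
/-- the final contradiction -/
theorem no_partition [Nonempty ι] (hH1 : ∀ i, H i ≠ ⊥)
    (hlt : ∀ i, H i < Subgroup.normalizer (H i : Set G)) (hodd : Odd (Nat.card G)) : False := by
  classical
  -- the constants
  have hex : ∀ i j, ∃ cc : ℤ, i ≠ j → ∀ χ ∈ (F i).S, ∀ k ∈ H j, k ≠ 1 →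
      (F i).τ χ k = ((F i).d χ : ℂ) * (cc : ℂ) := by
    intro i j
    by_cases h : i = j
    · exact ⟨0, fun h' => absurd h h'⟩
    · obtain ⟨cc, hcc⟩ := exists_const H hcop hcover F hH1 h
      exact ⟨cc, fun _ => hcc⟩
  choose c₀ hc₀ using hex
  set c : ι → ι → ℤ := fun i j => if i = j then 0 else c₀ i j with hcdef
  have hc : ∀ i j, i ≠ j → ∀ χ ∈ (F i).S, ∀ k ∈ H j, k ≠ 1 →
      (F i).τ χ k = ((F i).d χ : ℂ) * (c i j : ℂ) := by
    intro i j hij
    simp only [hcdef, if_neg hij]
    exact hc₀ i j hij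
  have hcd : ∀ i, c i i = 0 := by
    intro i
    simp only [hcdef, if_pos rfl]
  -- basic numerical facts
  have hoddK : ∀ i, Odd (Nat.card ↥(H i)) := fun i =>
    hodd.of_dvd_nat (Subgroup.card_subgroup_dvd_card _)
  have hoddN : ∀ i, Odd (Nat.card ↥(Subgroup.normalizer (H i : Set G))) := fun i =>
    hodd.of_dvd_nat (Subgroup.card_subgroup_dvd_card _)
  have hcardK : ∀ i, 1 < Nat.card ↥(H i) := by
    intro i
    obtain ⟨y, hy, hy1⟩ := exists_ne_one H hH1 i
    rw [Nat.card_eq_fintype_card (α := ↥(H i)), Fintype.one_lt_card_iff_nontrivial]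
    exact ⟨⟨⟨y, hy⟩, 1, fun h => hy1 (congrArg Subtype.val h)⟩⟩
  have he2 : ∀ i, 2 ≤ (F i).e := by
    intro i
    have h1 := (F i).card_norm
    have h2 : Nat.card ↥(H i) < Nat.card ↥(Subgroup.normalizer (H i : Set G)) := by
      have hle := Subgroup.card_le_of_le (hlt i).le
      refine lt_of_le_of_ne hle ?_
      intro heq
      exact (hlt i).ne (Subgroup.eq_of_le_of_card_ge (hlt i).le heq.ge)
    rw [h1] at h2
    by_contra hcon
    push Not at hcon
    interval_cases (F i).e
    · simp at h2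
    · simp at h2
  have hAodd : ∀ i, Even (F i).A ∧ 2 ≤ (F i).A := by
    intro i
    have h1 := (F i).card_K
    have h2 := hoddK i
    have h3 := hoddN i
    rw [(F i).card_norm] at h3
    have h4 : Odd (F i).e := (Nat.odd_mul.1 h3).1
    rw [← h1] at h2
    have h5 : Even ((F i).e * (F i).A) := by
      rcases Nat.even_or_odd ((F i).e * (F i).A) with h | h
      · exact h
      · exfalso
        have := h.add_odd (odd_one)
        exact (Nat.not_even_iff_odd.2 h2) this
    have h6 : Even (F i).A := by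
      rcases Nat.even_mul.1 h5 with h | h
      · exact absurd h (Nat.not_even_iff_odd.2 h4)
      · exact h
    have h7 : 0 < (F i).A := by
      rw [← (F i).sum_sq]
      refine lt_of_lt_of_le ?_ (Finset.single_le_sum (f := fun χ => (F i).d χ ^ 2)
        (fun χ _ => Nat.zero_le _) (F i).hχ₀)
      rw [(F i).hd₀]; norm_num
    refine ⟨h6, ?_⟩
    obtain ⟨r, hr⟩ := h6
    omega
  refine arith_final (fun i => ((F i).e : ℤ)) (fun i => ((F i).A : ℤ))
    (fun i => (Nat.card ↥(H i) : ℤ))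
    (fun i => ((Subgroup.normalizer (H i : Set G)).index : ℤ))
    (fun i => (F i).x) (fun i => (F i).a) c (Nat.card G : ℤ) ?_ ?_ ?_ ?_ ?_ ?_ ?_ ?_ hcd ?_ ?_ ?_ ?_
  · intro i
    exact_mod_cast he2 i
  · intro i
    exact_mod_cast (hAodd i).2
  · intro i
    exact_mod_cast (hAodd i).1
  · intro i
    exact_mod_cast ((F i).card_K).symm
  · intro i
    have h5 := Subgroup.index_mul_card (Subgroup.normalizer (H i : Set G))
    rw [(F i).card_norm] at h5
    exact_mod_cast h5
  · intro i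
    have : 0 < (Subgroup.normalizer (H i : Set G)).index :=
      Nat.pos_of_ne_zero Subgroup.index_ne_zero_of_finite
    exact_mod_cast this
  · intro i
    exact (F i).x_ne_zero
  · intro i j hij heq
    have h1 : Nat.card ↥(H i) = Nat.card ↥(H j) := by exact_mod_cast heq
    have h2 := hcop i j hij
    rw [h1] at h2
    have h3 := (Nat.coprime_self _).1 h2
    have := hcardK j
    omega
  · exact rel_count H hcop hTI hcover
  · intro i
    exact rel_row H hcop hTI hcover F c hc hcd i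
  · intro i
    exact rel_col H hcop hcover F hH1 c hc hcd i
  · intro i j hij
    exact rel_par H hcop hcover F hH1 c hc hcd hij

end Main

end Cfsg.Agent.Helper8.PartFrob
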