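import Mathlib
import Cfsg.Agent.S0904
import Cfsg.Agent.S0073
import Cfsg.Agent.Lib.Lead.SylowTools

set_option autoImplicit false

namespace Cfsg.Agent.Helper8.P32

/-- Sylow data for the prime `p ≥ 5` in a simple group of order `p * 3^a * 2^b`:
`|P| = p`, `C(P) = P`, `|N(P)| = p * k` with `k = |N(P) : C(P)|` dividing `p - 1`, `k ≠ 1`
and `n_p * (p * k) = |G|`. -/
theorem sylow_data {G : Type*} [Group G] [Finite G] [IsSimpleGroup G] (p a b : ℕ) [Fact p.Prime]
    (h2 : p ≠ 2) (h3 : p ≠ 3) (hG : Nat.card G = p * 3 ^ a * 2 ^ b)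
    (hnp : ¬ (Nat.card G).Prime) (P : Sylow p G) :
    Nat.card (P : Subgroup G) = p ∧
    Subgroup.centralizer ((P : Subgroup G) : Set G) = (P : Subgroup G) ∧
    (Subgroup.centralizer ((P : Subgroup G) : Set G)).relIndex
      (Subgroup.normalizer ((P : Subgroup G) : Set G)) ∣ p - 1 ∧
    (Subgroup.centralizer ((P : Subgroup G) : Set G)).relIndex
      (Subgroup.normalizer ((P : Subgroup G) : Set G)) ≠ 1 ∧
    Nat.card (Subgroup.normalizer ((P : Subgroup G) : Set G)) =
      p * (Subgroup.centralizer ((P : Subgroup G) : Set G)).relIndex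
        (Subgroup.normalizer ((P : Subgroup G) : Set G)) ∧
    Nat.card (Sylow p G) * (p * (Subgroup.centralizer ((P : Subgroup G) : Set G)).relIndex
        (Subgroup.normalizer ((P : Subgroup G) : Set G))) = Nat.card G := by
  classical
  have hp : p.Prime := Fact.out
  have hp2 : ¬ p ∣ 2 := fun h => h2 ((Nat.prime_dvd_prime_iff_eq hp Nat.prime_two).mp h)
  have hp3 : ¬ p ∣ 3 := fun h => h3 ((Nat.prime_dvd_prime_iff_eq hp Nat.prime_three).mp h)
  have hfac : (Nat.card G).factorization p = 1 := by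
    rw [hG]
    have h30 : (3 : ℕ) ^ a ≠ 0 := pow_ne_zero _ (by norm_num)
    have h20 : (2 : ℕ) ^ b ≠ 0 := pow_ne_zero _ (by norm_num)
    rw [Nat.factorization_mul (mul_ne_zero hp.ne_zero h30) h20,
      Nat.factorization_mul hp.ne_zero h30]
    simp only [Nat.factorization_pow, Finsupp.coe_add, Finsupp.coe_smul, Pi.add_apply,
      Pi.smul_apply, smul_eq_mul]
    rw [Nat.factorization_eq_zero_of_not_dvd hp2, Nat.factorization_eq_zero_of_not_dvd hp3,
      hp.factorization_self]
    omega
  have hP : Nat.card (P : Subgroup G) = p := by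
    rw [P.card_eq_multiplicity, hfac, pow_one]
  have hpd : p ∣ Nat.card G := hP ▸ Subgroup.card_subgroup_dvd_card _
  have hnonab : ∃ x y : G, x * y ≠ y * x := Cfsg.Agent.Lead.nonabelian_of_not_prime hnp
  have hC : Subgroup.centralizer ((P : Subgroup G) : Set G) = (P : Subgroup G) := by
    apply Cfsg.Agent.S0904.result 2 3 p b a Nat.prime_two Nat.prime_three (by norm_num)
      (fun h => h2 h.symm) (fun h => h3 h.symm)
    rw [hG]
    ring
  set N := Subgroup.normalizer ((P : Subgroup G) : Set G) with hN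
  set C := Subgroup.centralizer ((P : Subgroup G) : Set G) with hCdef
  have hk1 : C.relIndex N ∣ p - 1 := Cfsg.Agent.Lead.relIndex_centralizer_normalizer_dvd P hP
  have hk2 : C.relIndex N ≠ 1 := by
    intro h
    exact Cfsg.Agent.S0073.not_normalizer_le_centralizer hnonab P hpd (Subgroup.relIndex_eq_one.1 h)
  have hPN : (P : Subgroup G) ≤ N := Subgroup.le_normalizer
  have hNcard : Nat.card N = p * C.relIndex N := by
    have h1 : Nat.card (C.subgroupOf N) * C.relIndex N = Nat.card N :=
      Subgroup.card_mul_index (C.subgroupOf N)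
    have h2' : Nat.card (C ⊓ N : Subgroup G) = p := by
      rw [hC, inf_of_le_left hPN, hP]
    rw [Cfsg.Agent.Lead.card_subgroupOf_eq, h2'] at h1
    exact h1.symm
  refine ⟨hP, hC, hk1, hk2, hNcard, ?_⟩
  rw [← hNcard]
  exact Cfsg.Agent.Lead.card_sylow_mul_card_normalizer P

end Cfsg.Agent.Helper8.P32
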