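import Mathlib
import Cfsg.Agent.Lib.Helper8.XSDefs

/-!
Definitions and basic API for S3301 (the 2-part of the abelianization of `H = C(z)` is elementary
abelian when `O_2(H)` is extraspecial and self-centralizing and `G = O^2(G)`).
-/

set_option autoImplicit false

namespace Cfsg.Agent.Helper8.AB

open Cfsg.Agent.Helper8.XS

/-- The value of `ψ` on elements of `G` (`1` outside `H`). -/
noncomputable def valH {G : Type*} [Group G] {H : Subgroup G} {A : Type*} [CommGroup A]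
    (ψ : ↥H →* A) (x : G) : A :=
  open Classical in if h : x ∈ H then ψ ⟨x, h⟩ else 1

/-- The square of a homomorphism into a commutative group. -/
def psi {H : Type*} [Group H] {A : Type*} [CommGroup A] (φ : H →* A) : H →* A :=
  (powMonoidHom 2).comp φ

/-- The `Q`-block of a coset of `H`: all `e • c` with `e ∈ Q`. -/
noncomputable def blk {G : Type*} [Group G] (Q H : Subgroup G) [Fintype (G ⧸ H)] (c : G ⧸ H) :
    Finset (G ⧸ H) :=
  open Classical in Finset.univ.filter (fun x => ∃ e ∈ Q, x = e • c)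

/-- Local data at an involution `u`: `Q` behaves like `O_2(C(u))`, extraspecial and
self-centralizing. -/
structure Loc {G : Type*} [Group G] (u : G) (Q : Subgroup G) : Prop where
  xs : XSp Q u
  hn : ∀ h : G, h * u = u * h → ∀ e ∈ Q, h * e * h⁻¹ ∈ Q
  hcent : ∀ g : G, (∀ e ∈ Q, g * e = e * g) → g ∈ Q
  hmax : ∀ N : Subgroup G, (∀ m ∈ N, m * u = u * m) →
    (∀ h : G, h * u = u * h → ∀ m ∈ N, h * m * h⁻¹ ∈ N) → IsPGroup 2 N → N ≤ Q

/-- Global data: `H = C(z)`, `φ : H →* A` with `A` of exponent dividing `4`, and every element of `H`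
of order less than `n` is killed by `φ ^ 2`. -/
structure Glob {G : Type*} [Group G] {A : Type*} [CommGroup A] (z : G) (H : Subgroup G)
    (φ : ↥H →* A) (n : ℕ) : Prop where
  hzz : z * z = 1
  hz1 : z ≠ 1
  hH : ∀ g : G, g ∈ H ↔ g * z = z * g
  h4 : ∀ a : A, a ^ 4 = 1
  hmin : ∀ w : ↥H, orderOf (w : G) < n → φ w ^ 2 = 1

section api

variable {G : Type*} [Group G] {H : Subgroup G} {A : Type*} [CommGroup A]

theorem psi_apply {H' : Type*} [Group H'] (φ : H' →* A) (w : H') : psi φ w = φ w ^ 2 := rfl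

theorem valH_of_mem (ψ : ↥H →* A) {x : G} (h : x ∈ H) : valH ψ x = ψ ⟨x, h⟩ := by
  unfold valH
  rw [dif_pos h]

theorem valH_of_not_mem (ψ : ↥H →* A) {x : G} (h : x ∉ H) : valH ψ x = 1 := by
  unfold valH
  rw [dif_neg h]

theorem valH_one (ψ : ↥H →* A) : valH ψ (1 : G) = 1 := by
  rw [valH_of_mem ψ H.one_mem]
  exact map_one ψ

theorem valH_mul (ψ : ↥H →* A) {a b : G} (ha : a ∈ H) (hb : b ∈ H) :
    valH ψ (a * b) = valH ψ a * valH ψ b := by
  rw [valH_of_mem ψ ha, valH_of_mem ψ hb, valH_of_mem ψ (H.mul_mem ha hb), ← map_mul]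
  rfl

theorem valH_inv (ψ : ↥H →* A) {a : G} (ha : a ∈ H) : valH ψ a⁻¹ = (valH ψ a)⁻¹ := by
  rw [valH_of_mem ψ ha, valH_of_mem ψ (H.inv_mem ha), ← map_inv]
  rfl

/-- `valH ψ` is invariant under conjugation by elements of `H`. -/
theorem valH_conj (ψ : ↥H →* A) (x : G) {h : G} (hh : h ∈ H) :
    valH ψ (h⁻¹ * x * h) = valH ψ x := by
  by_cases hx : x ∈ H
  · rw [valH_mul ψ (H.mul_mem (H.inv_mem hh) hx) hh, valH_mul ψ (H.inv_mem hh) hx, valH_inv ψ hh]
    rw [mul_comm (valH ψ h)⁻¹, mul_assoc, inv_mul_cancel, mul_one]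
  · have : h⁻¹ * x * h ∉ H := by
      intro hc
      apply hx
      have := H.mul_mem (H.mul_mem hh hc) (H.inv_mem hh)
      simpa [mul_assoc] using this
    rw [valH_of_not_mem ψ hx, valH_of_not_mem ψ this]

/-- The value at the canonical representative of a coset equals the value at any representative. -/
theorem valH_out (ψ : ↥H →* A) (y g : G) :
    valH ψ (((g : G ⧸ H).out)⁻¹ * y * (g : G ⧸ H).out) = valH ψ (g⁻¹ * y * g) := by
  obtain ⟨h, hh⟩ := QuotientGroup.mk_out_eq_mul H g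
  rw [hh]
  have : (g * (h : G))⁻¹ * y * (g * (h : G)) = (h : G)⁻¹ * (g⁻¹ * y * g) * (h : G) := by group
  rw [this, valH_conj ψ _ h.2]

theorem valH_psi_sq (φ : ↥H →* A) (h4 : ∀ a : A, a ^ 4 = 1) (x : G) :
    valH (psi φ) x * valH (psi φ) x = 1 := by
  by_cases hx : x ∈ H
  · rw [valH_of_mem _ hx, psi_apply, ← pow_two, ← pow_mul]
    exact h4 _
  · rw [valH_of_not_mem _ hx, one_mul]

theorem mem_blk {Q : Subgroup G} [Fintype (G ⧸ H)] {c x : G ⧸ H} :
    x ∈ blk Q H c ↔ ∃ e ∈ Q, x = e • c := by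
  unfold blk
  simp

theorem self_mem_blk (Q : Subgroup G) [Fintype (G ⧸ H)] (c : G ⧸ H) : c ∈ blk Q H c :=
  mem_blk.2 ⟨1, Q.one_mem, (one_smul G c).symm⟩

theorem blk_eq_of_mem {Q : Subgroup G} [Fintype (G ⧸ H)] {c x : G ⧸ H} (hx : x ∈ blk Q H c) :
    blk Q H x = blk Q H c := by
  obtain ⟨e, he, rfl⟩ := mem_blk.1 hx
  ext w
  rw [mem_blk, mem_blk]
  constructor
  · rintro ⟨f, hf, rfl⟩
    exact ⟨f * e, Q.mul_mem hf he, by rw [mul_smul]⟩
  · rintro ⟨f, hf, rfl⟩
    exact ⟨f * e⁻¹, Q.mul_mem hf (Q.inv_mem he), by rw [← mul_smul, inv_mul_cancel_right]⟩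

theorem smul_mem_blk {Q : Subgroup G} [Fintype (G ⧸ H)] {c x : G ⧸ H} (hx : x ∈ blk Q H c)
    {g : G} (hg : g ∈ Q) : g • x ∈ blk Q H c := by
  obtain ⟨e, he, rfl⟩ := mem_blk.1 hx
  exact mem_blk.2 ⟨g * e, Q.mul_mem hg he, by rw [mul_smul]⟩

end api

end Cfsg.Agent.Helper8.AB
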