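import Mathlib
import Cfsg.Agent.Lib.Helper8.SecRep5

/-!
# BG 14.9 (S1435), part A: the Frobenius trick (helper8)

If a Frobenius group `V K` (kernel `V` nilpotent, complement `K`) acts coprimely on a solvable
group `L` and `K` has no non-identity fixed point on `L`, then `V` centralises `L`.
-/

set_option autoImplicit false

namespace Cfsg.Agent.Helper8.BG149

open Subgroup

variable {X : Type*} [Group X] [Finite X]

/-- the Frobenius trick -/
theorem frob_centralizes (V K L : Subgroup X)
    (hKV : ∀ e ∈ K, ∀ u ∈ V, e * u * e⁻¹ ∈ V)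
    (hfpf : ∀ e ∈ K, e ≠ 1 → ∀ u ∈ V, e * u = u * e → u = 1)
    (hnil : Group.IsNilpotent ↥V)
    (hsolv : Group.IsSolvable ↥L)
    (hnorm : V ⊔ K ≤ normalizer (L : Set X))
    (hcop : (Nat.card ↥L).Coprime (Nat.card ↥(V ⊔ K)))
    (hLK : L ⊓ centralizer (K : Set X) = ⊥) :
    L ≤ centralizer (V : Set X) := by
  have h := Cfsg.Agent.Helper8.SecRep.fw_group V K hKV hfpf hnil (Nat.card ↥L) L rfl hsolv hnorm hcop
  have h1 : L ⊓ centralizer ((V ⊔ K : Subgroup X) : Set X) = ⊥ := by
    rw [eq_bot_iff, ← hLK]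
    refine inf_le_inf le_rfl ?_
    exact centralizer_le (by exact_mod_cast (le_sup_right : K ≤ V ⊔ K))
  rw [h1, hLK] at h
  simp only [card_bot, one_pow, one_mul] at h
  have h2 : L ⊓ centralizer (V : Set X) = L := by
    apply Subgroup.eq_of_le_of_card_ge inf_le_left
    rw [← h]
  rw [← h2]
  exact inf_le_right

end Cfsg.Agent.Helper8.BG149
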