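import Mathlib
import Cfsg.Agent.Lib.Helper3.BSWDefs
import Cfsg.Agent.Lib.Helper4.BSWHSTRUCT

/-!
# S3282 piece ODDC: centralizers of elements of `R'` contain no involution
-/

set_option autoImplicit false
set_option linter.unusedSectionVars false

namespace Cfsg.Agent.Helper3.BSW

universe u

variable {G : Type u} [Group G] [Finite G] {t s : G} {K : Subgroup G}

namespace ODDC

/-- An element of `C(t)` that is conjugate into `R'` does not exist: every element of `C(t)` is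
conjugate to an element of `K`. -/
theorem conj_mem_K_of_mem_H (h : Hyp t s K) {z : G}
    (hz : z ∈ Subgroup.centralizer ({t} : Set G)) : ∃ c : G, c * z * c⁻¹ ∈ K := by
  rcases (mem_H_iff h z).1 hz with hzK | ⟨x, hx, rfl⟩
  · exact ⟨1, by simpa using hzK⟩
  · have h2 : orderOf (x * s) = 2 := (coset_props h hx).1
    obtain ⟨c, hc⟩ := isConj_iff.1 (h.hconj (x * s) t h2 h.ht)
    exact ⟨c, by rw [hc]; exact h.htK⟩

/-- If `y` is not conjugate into `K`, no conjugate of `y` lies in `C(t)`. -/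
theorem conj_not_mem_H (h : Hyp t s K) {y : G} (hy : InR K y) (g : G) :
    g * y * g⁻¹ ∉ Subgroup.centralizer ({t} : Set G) := by
  intro hz
  obtain ⟨c, hc⟩ := conj_mem_K_of_mem_H h hz
  apply hy.2 (c * g)
  have : c * g * y * (c * g)⁻¹ = c * (g * y * g⁻¹) * c⁻¹ := by group
  rw [this]
  exact hc

end ODDC

/-- PIECE ODDC (G7). -/
theorem odd_cent (h : Hyp t s K) {y : G} (hy : InR K y) {v : G}
    (hv : v ∈ Subgroup.centralizer ({y} : Set G)) : orderOf v ≠ 2 := by
  intro hv2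
  obtain ⟨g, hg⟩ := isConj_iff.1 (h.hconj t v h.ht hv2)
  -- `g⁻¹ y g` commutes with `t`
  have hcomm : y * v = v * y := (Subgroup.mem_centralizer_iff.1 hv) y rfl
  apply ODDC.conj_not_mem_H h hy g⁻¹
  rw [Subgroup.mem_centralizer_iff]
  intro z hz
  rw [Set.mem_singleton_iff] at hz
  subst hz
  have hv' : v = g * z * g⁻¹ := hg.symm
  rw [hv'] at hcomm
  -- hcomm : y * (g z g⁻¹) = (g z g⁻¹) * y
  have e1 : z * (g⁻¹ * y * g⁻¹⁻¹) = g⁻¹ * ((g * z * g⁻¹) * y) * g := by group
  have e2 : g⁻¹ * y * g⁻¹⁻¹ * z = g⁻¹ * (y * (g * z * g⁻¹)) * g := by group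
  rw [e1, e2, hcomm]

end Cfsg.Agent.Helper3.BSW
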