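import Mathlib
import Cfsg.Agent.Lib.Helper3.BSWDefs
import Cfsg.Agent.Lib.Helper4.BSWCENT
import Cfsg.Agent.Lib.Helper8.BSWODDC

/-!
# S3282 piece RCENT: `C(y)# ⊆ R'` for `y ∈ R'`
-/

set_option autoImplicit false
set_option linter.unusedSectionVars false

namespace Cfsg.Agent.Helper3.BSW

universe u

variable {G : Type u} [Group G] [Finite G] {t s : G} {K : Subgroup G}

/-- PIECE RCENT (G9). -/
theorem inR_of_mem_cent (h : Hyp t s K) {y x : G} (hy : InR K y)
    (hx : x ∈ Subgroup.centralizer ({y} : Set G)) (h1 : x ≠ 1) : InR K x := by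
  refine ⟨h1, ?_⟩
  intro g hgK
  have hcomm : y * x = x * y := (Subgroup.mem_centralizer_iff.1 hx) y rfl
  have hne : g * x * g⁻¹ ≠ 1 := by
    intro h0
    apply h1
    have : x = g⁻¹ * (g * x * g⁻¹) * g := by group
    rw [this, h0]; group
  have hle := cent_le h hgK hne
  apply ODDC.conj_not_mem_H h hy g
  apply hle
  rw [Subgroup.mem_centralizer_iff]
  intro z hz
  rw [Set.mem_singleton_iff] at hz
  subst hz
  have e1 : g * x * g⁻¹ * (g * y * g⁻¹) = g * (x * y) * g⁻¹ := by group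
  have e2 : g * y * g⁻¹ * (g * x * g⁻¹) = g * (y * x) * g⁻¹ := by group
  rw [e1, e2, hcomm]

end Cfsg.Agent.Helper3.BSW
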