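import Mathlib
import Cfsg.Agent.Lib.Helper3.BSWDefs
import Cfsg.Agent.Lib.Helper4.BSWHSTRUCT
import Cfsg.Agent.Lib.Helper4.BSWCENT
import Cfsg.Agent.Lib.Helper19.BSWFPF
import Cfsg.Agent.Lib.Helper8.BSWODDC

/-!
# S3282 piece REALC: real elements of `R'`
-/

set_option autoImplicit false
set_option linter.unusedSectionVars false

namespace Cfsg.Agent.Helper3.BSW

universe u

variable {G : Type u} [Group G] [Finite G] {t s : G} {K : Subgroup G}

namespace REALC

theorem sq_one_of_orderOf_two {u : G} (hu : orderOf u = 2) : u * u = 1 := by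
  have := pow_orderOf_eq_one u
  rw [hu, pow_two] at this
  exact this

theorem inv_eq_of_orderOf_two {u : G} (hu : orderOf u = 2) : u⁻¹ = u :=
  inv_eq_of_mul_eq_one_left (sq_one_of_orderOf_two hu)

theorem orderOf_conj (g c : G) : orderOf (g * c * g⁻¹) = orderOf c := by
  have : g * c * g⁻¹ = MulAut.conj g c := by simp [MulAut.conj_apply]
  rw [this]
  exact (MulAut.conj g).orderOf_eq c

theorem mem_cent_iff {y c : G} :
    c ∈ Subgroup.centralizer ({y} : Set G) ↔ y * c = c * y := by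
  rw [Subgroup.mem_centralizer_iff]
  constructor
  · intro h; exact h y rfl
  · intro h z hz
    rw [Set.mem_singleton_iff] at hz
    subst hz
    exact h

/-- `u` normalizes `C(y)`. -/
theorem conj_mem_cent {y u : G} (huy : u * y * u⁻¹ = y⁻¹) {c : G}
    (hc : c ∈ Subgroup.centralizer ({y} : Set G)) :
    u * c * u⁻¹ ∈ Subgroup.centralizer ({y} : Set G) := by
  rw [mem_cent_iff] at hc ⊢
  have h1 : (u * c * u⁻¹) * y⁻¹ = y⁻¹ * (u * c * u⁻¹) := by
    calc (u * c * u⁻¹) * y⁻¹ = (u * c * u⁻¹) * (u * y * u⁻¹) := by rw [huy]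
      _ = u * (c * y) * u⁻¹ := by group
      _ = u * (y * c) * u⁻¹ := by rw [hc]
      _ = (u * y * u⁻¹) * (u * c * u⁻¹) := by group
      _ = y⁻¹ * (u * c * u⁻¹) := by rw [huy]
  calc y * (u * c * u⁻¹) = y * ((u * c * u⁻¹) * y⁻¹) * y := by group
    _ = y * (y⁻¹ * (u * c * u⁻¹)) * y := by rw [h1]
    _ = u * c * u⁻¹ * y := by group

/-- `u` has no fixed point on `C(y)#`. -/
theorem fix_eq_one (h : Hyp t s K) {y u : G} (hy : InR K y) (hu : orderOf u = 2) {c : G}
    (hc : c ∈ Subgroup.centralizer ({y} : Set G)) (hfix : u * c * u⁻¹ = c) : c = 1 := by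
  by_contra hc1
  obtain ⟨g, hg⟩ := isConj_iff.1 (h.hconj t u h.ht hu)
  -- c' = g⁻¹ c g centralizes t
  have hcu : u * c = c * u := by
    calc u * c = (u * c * u⁻¹) * u := by group
      _ = c * u := by rw [hfix]
  have hc'H : g⁻¹ * c * g ∈ Subgroup.centralizer ({t} : Set G) := by
    rw [mem_cent_iff]
    have e1 : t * (g⁻¹ * c * g) = g⁻¹ * ((g * t * g⁻¹) * c) * g := by group
    have e2 : g⁻¹ * c * g * t = g⁻¹ * (c * (g * t * g⁻¹)) * g := by group
    rw [e1, e2, hg, hcu]
  have hord : orderOf (g⁻¹ * c * g) = orderOf c := by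
    have := orderOf_conj g⁻¹ c
    simpa using this
  have hc2 : orderOf c ≠ 2 := odd_cent h hy hc
  have hc'ne : g⁻¹ * c * g ≠ 1 := by
    intro h0
    apply hc1
    have : c = g * (g⁻¹ * c * g) * g⁻¹ := by group
    rw [this, h0]; group
  have hc'K : g⁻¹ * c * g ∈ K := by
    rcases (mem_H_iff h _).1 hc'H with hK | ⟨x, hx, hxe⟩
    · exact hK
    · exfalso
      apply hc2
      rw [← hord, hxe]
      exact (coset_props h hx).1
  have hc't : g⁻¹ * c * g ≠ t := by
    intro h0
    apply hc2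
    rw [← hord, h0]
    exact h.ht
  have hCK := cent_eq h hc'K hc'ne hc't
  -- g⁻¹ y g ∈ C(c') = K
  have hyK : g⁻¹ * y * g ∈ K := by
    rw [← hCK, mem_cent_iff]
    have hyc : y * c = c * y := mem_cent_iff.1 hc
    have e1 : g⁻¹ * c * g * (g⁻¹ * y * g) = g⁻¹ * (c * y) * g := by group
    have e2 : g⁻¹ * y * g * (g⁻¹ * c * g) = g⁻¹ * (y * c) * g := by group
    rw [e1, e2, hyc]
  apply hy.2 g⁻¹
  simpa using hyK

/-- The map `c ↦ c u` from `C(y)` onto the involutions inverting `y`. -/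
theorem card_inverting (h : Hyp t s K) {y u : G} (hy : InR K y) (hu : orderOf u = 2)
    (huy : u * y * u⁻¹ = y⁻¹)
    (hinv : ∀ c ∈ Subgroup.centralizer ({y} : Set G), u * c * u⁻¹ = c⁻¹) :
    rc y = Nat.card (Subgroup.centralizer ({y} : Set G)) := by
  have huu : u * u = 1 := sq_one_of_orderOf_two hu
  have hui : u⁻¹ = u := inv_eq_of_orderOf_two hu
  unfold rc
  symm
  refine Nat.card_congr (Equiv.ofBijective
    (fun c : Subgroup.centralizer ({y} : Set G) =>
      (⟨(c : G) * u, ?_, ?_⟩ : {u' : G // orderOf u' = 2 ∧ u' * y * u'⁻¹ = y⁻¹})) ⟨?_, ?_⟩)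
  · -- order 2
    have hsq : ((c : G) * u) * ((c : G) * u) = 1 := by
      have hh := hinv c c.2
      calc ((c : G) * u) * ((c : G) * u) = (c : G) * (u * (c : G) * u⁻¹) * (u * u) := by group
        _ = 1 := by rw [hh, huu]; group
    have hne : (c : G) * u ≠ 1 := by
      intro h0
      have hucent : u ∈ Subgroup.centralizer ({y} : Set G) := by
        have : u = (c : G)⁻¹ := by
          have := eq_inv_of_mul_eq_one_right h0
          exact this
        rw [this]
        exact Subgroup.inv_mem _ c.2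
      exact odd_cent h hy hucent hu
    refine orderOf_eq_prime ?_ hne
    rw [pow_two]; exact hsq
  · -- inverts y
    have hcy : y * (c : G) = (c : G) * y := mem_cent_iff.1 c.2
    have hcy' : (c : G) * y⁻¹ * (c : G)⁻¹ = y⁻¹ := by
      have : (c : G) * y⁻¹ * (c : G)⁻¹ = ((c : G) * y * (c : G)⁻¹)⁻¹ := by group
      rw [this, ← hcy]; group
    calc (c : G) * u * y * ((c : G) * u)⁻¹ = (c : G) * (u * y * u⁻¹) * (c : G)⁻¹ := by group
      _ = y⁻¹ := by rw [huy, hcy']
  · -- injective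
    intro c1 c2 h12
    have := congrArg Subtype.val h12
    simp only at this
    exact Subtype.ext (mul_right_cancel this)
  · -- surjective
    rintro ⟨u', hu'2, hu'y⟩
    have hmem : u' * u⁻¹ ∈ Subgroup.centralizer ({y} : Set G) := by
      rw [mem_cent_iff]
      have h1 : u⁻¹ * y * u = y⁻¹ := by
        rw [hui]
        calc u * y * u = u * y * u⁻¹ := by rw [hui]
          _ = y⁻¹ := huy
      have h2 : (u' * u⁻¹) * y * (u' * u⁻¹)⁻¹ = y := by
        calc (u' * u⁻¹) * y * (u' * u⁻¹)⁻¹ = u' * (u⁻¹ * y * u) * u'⁻¹ := by group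
          _ = u' * y⁻¹ * u'⁻¹ := by rw [h1]
          _ = (u' * y * u'⁻¹)⁻¹ := by group
          _ = y := by rw [hu'y]; group
      calc y * (u' * u⁻¹) = ((u' * u⁻¹) * y * (u' * u⁻¹)⁻¹) * (u' * u⁻¹) := by rw [h2]
        _ = u' * u⁻¹ * y := by group
    refine ⟨⟨u' * u⁻¹, hmem⟩, ?_⟩
    apply Subtype.ext
    show u' * u⁻¹ * u = u'
    group

end REALC

/-- PIECE REALC (G8). -/
theorem real_cent (h : Hyp t s K) {y u : G} (hy : InR K y) (hu : orderOf u = 2)
    (huy : u * y * u⁻¹ = y⁻¹) :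
    (∀ c ∈ Subgroup.centralizer ({y} : Set G), u * c * u⁻¹ = c⁻¹) ∧
      (∀ a ∈ Subgroup.centralizer ({y} : Set G), ∀ b ∈ Subgroup.centralizer ({y} : Set G),
        a * b = b * a) ∧
      rc y = Nat.card (Subgroup.centralizer ({y} : Set G)) := by
  have huu : u * u = 1 := REALC.sq_one_of_orderOf_two hu
  obtain ⟨hinv, hab⟩ := fpf_invol (A := Subgroup.centralizer ({y} : Set G)) huu
    (fun a ha => REALC.conj_mem_cent huy ha)
    (fun a ha hfix => REALC.fix_eq_one h hy hu ha hfix)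
  exact ⟨hinv, hab, REALC.card_inverting h hy hu huy hinv⟩

end Cfsg.Agent.Helper3.BSW
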