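import Mathlib

/-!
# Half-transitive linear `p`-groups: basic definitions (helper8, for S3371)

`G` acts on the `ZMod q`-space `V` through `ρ : G →* (V ≃ₗ[ZMod q] V)`.
* `HT.stab ρ v` : the stabilizer of the vector `v` (a subgroup of `G`);
* `HT.fix ρ g`  : the fixed space of `g` (a submodule of `V`);
* `HT.Half ρ`   : all orbits on non-zero vectors have the same size (as in the frozen statement);
* `HT.card_stab_eq` : under `Half`, all stabilizers of non-zero vectors have the same order.
-/

set_option autoImplicit false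

namespace Cfsg.Agent.Helper8.HT

variable {q : ℕ} [Fact q.Prime] {V : Type*} [AddCommGroup V] [Module (ZMod q) V]
  {G : Type*} [Group G] (ρ : G →* (V ≃ₗ[ZMod q] V))

/-- The stabilizer of a vector. -/
def stab (v : V) : Subgroup G where
  carrier := {g | ρ g v = v}
  one_mem' := by simp
  mul_mem' := by
    intro a b ha hb
    simp only [Set.mem_ofPred_eq] at *
    rw [map_mul, LinearEquiv.mul_apply, hb, ha]
  inv_mem' := by
    intro a ha
    simp only [Set.mem_ofPred_eq] at *
    have h : (ρ a⁻¹) (ρ a v) = v := by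
      rw [← LinearEquiv.mul_apply, ← map_mul, inv_mul_cancel, map_one]
      rfl
    rw [ha] at h
    exact h

theorem mem_stab {v : V} {g : G} : g ∈ stab ρ v ↔ ρ g v = v := Iff.rfl

/-- The fixed space of a group element. -/
def fix (g : G) : Submodule (ZMod q) V where
  carrier := {v | ρ g v = v}
  add_mem' := by
    intro a b ha hb
    simp only [Set.mem_ofPred_eq] at *
    rw [map_add, ha, hb]
  zero_mem' := by simp
  smul_mem' := by
    intro c v hv
    simp only [Set.mem_ofPred_eq] at *
    rw [map_smul, hv]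

theorem mem_fix {v : V} {g : G} : v ∈ fix ρ g ↔ ρ g v = v := Iff.rfl

/-- Half-transitivity, as in the frozen statement. -/
def Half : Prop :=
  ∀ v w : V, v ≠ 0 → w ≠ 0 →
    Nat.card {u : V | ∃ g : G, ρ g v = u} = Nat.card {u : V | ∃ g : G, ρ g w = u}

theorem apply_inv_apply (g : G) (v : V) : ρ g⁻¹ (ρ g v) = v := by
  rw [← LinearEquiv.mul_apply, ← map_mul, inv_mul_cancel, map_one]
  rfl

theorem apply_apply_inv (g : G) (v : V) : ρ g (ρ g⁻¹ v) = v := by
  rw [← LinearEquiv.mul_apply, ← map_mul, mul_inv_cancel, map_one]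
  rfl

theorem apply_ne_zero (g : G) {v : V} (hv : v ≠ 0) : ρ g v ≠ 0 :=
  fun h => hv ((ρ g).map_eq_zero_iff.1 h)

/-- Orbit-stabilizer. -/
theorem card_orbit_mul_card_stab [Finite G] (v : V) :
    Nat.card {u : V | ∃ g : G, ρ g v = u} * Nat.card (stab ρ v) = Nat.card G := by
  let _inst : MulAction G V := MulAction.compHom V ρ
  have h1 : {u : V | ∃ g : G, ρ g v = u} = MulAction.orbit G v := by
    ext u
    constructor
    · rintro ⟨g, rfl⟩
      exact ⟨g, rfl⟩
    · rintro ⟨g, rfl⟩
      exact ⟨g, rfl⟩
  have h2 : stab ρ v = MulAction.stabilizer G v := by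
    ext g
    rfl
  rw [h1, h2]
  have h3 : Nat.card (MulAction.orbit G v) = (MulAction.stabilizer G v).index := by
    rw [MulAction.index_stabilizer]
    rfl
  rw [h3, mul_comm]
  exact Subgroup.card_mul_index _

/-- Under half-transitivity all stabilizers of non-zero vectors have the same order. -/
theorem card_stab_eq [Finite G] (hhalf : Half ρ) {v w : V} (hv : v ≠ 0) (hw : w ≠ 0) :
    Nat.card (stab ρ v) = Nat.card (stab ρ w) := by
  have h1 := card_orbit_mul_card_stab ρ v
  have h2 := card_orbit_mul_card_stab ρ w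
  rw [hhalf v w hv hw] at h1
  have hpos : 0 < Nat.card {u : V | ∃ g : G, ρ g w = u} := by
    by_contra h
    have h0 : Nat.card {u : V | ∃ g : G, ρ g w = u} = 0 := by omega
    rw [h0, zero_mul] at h2
    exact Nat.card_pos.ne' h2.symm
  exact Nat.eq_of_mul_eq_mul_left hpos (h1.trans h2.symm)

/-- A subgroup of a stabilizer with the same order is the stabilizer. -/
theorem stab_le_of_le_of_card [Finite G] {v w : V} (hle : stab ρ v ≤ stab ρ w)
    (hc : Nat.card (stab ρ v) = Nat.card (stab ρ w)) : stab ρ v = stab ρ w :=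
  Subgroup.eq_of_le_of_card_ge hle hc.ge

/-- The configuration of a normal four-group `{1, z, a, a z}` in a `2`-group (`z` central). -/
structure CaseB (z a : G) : Prop where
  hzc : z ∈ Subgroup.center G
  hz2 : orderOf z = 2
  ha2 : orderOf a = 2
  haz : a ≠ z
  hconj : ∀ s : G, s * a * s⁻¹ = a ∨ s * a * s⁻¹ = a * z

end Cfsg.Agent.Helper8.HT
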