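import Mathlib
import Cfsg.Agent.Lib.Helper16.BG147D
import Cfsg.Agent.Lib.Helper16.BG147B
import Cfsg.Agent.Lib.Helper22.BG13A
import Cfsg.Agent.Lib.Helper18.BG13Q2
import Cfsg.Agent.Lib.Helper4.BGSigH
import Cfsg.Agent.Lib.Helper4.BG1379B
import Cfsg.Agent.Lib.Helper7.TypeP
import Cfsg.Agent.Lib.Helper15.SylowIn

/-!
# BG 14.2 (S1430/S1431) in the world where `κ(M)` meets `τ₃(M)` (helper8), part A

In that world (BG 13.11) a Hall `κ(M)`-subgroup `K` is a complement of `M_σ` in `M`, acts in a prime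
manner on `M_σ`, all its subgroups of prime order are normal in `K`, and `σ(M) = β(M)`.
This file: the configuration `R0 M K` and the clauses of S1430.
-/

set_option autoImplicit false

namespace Cfsg.Agent.Helper8.BG14R0

open Cfsg Subgroup
open Cfsg.Agent.Helper16.BG147 (Kst St1430 St1431)
open Cfsg.Agent.Helper22.BG13 (Hyp1350 Hyp1405)
open Cfsg.Agent.Helper18.BG13P (H1409)
open Cfsg.Agent.Helper18.BG13Q (H1406)
open Cfsg.Agent.Helper4.BGSig (H1423 H1426)
open Cfsg.Agent.Helper4.BG1379 (H1425)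
open Cfsg.Agent.Helper10 (IsPiNum)

universe u

/-- helper14's LEMMA G2: the home of a non-regular subgroup of prime order `p ∈ τ₁ ∪ τ₃` has
`p` in its `σ` -/
def HypG2 (G : Type u) [Group G] [Finite G] : Prop :=
  ∀ (M : Subgroup G) (_ : IsCoatom M) (p : ℕ) [Fact p.Prime] (_ : p ∉ sigma M)
    (_ : PRankLE p 1 M) (X : Subgroup G) (_ : X ≤ M) (_ : Nat.card X = p)
    (Y₀ : Subgroup G) (_ : Y₀ ≤ sigmaCore M ⊓ centralizer (X : Set G)) (_ : (Nat.card Y₀).Prime)
    (_ : centralizer (Y₀ : Set G) ≤ M ∧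
      ∀ L : Subgroup G, IsCoatom L → centralizer (Y₀ : Set G) ≤ L → L = M)
    (H : Subgroup G) (_ : IsCoatom H) (_ : normalizer (X : Set G) ≤ H), p ∈ sigma H

variable {G : Type u} [Group G] [Finite G]

/-- the world `R0` for a maximal subgroup `M` and a Hall `κ(M)`-subgroup `K` -/
structure R0 (M K : Subgroup G) : Prop where
  hG : IsMinSimpleOddOrder G
  hM : IsCoatom M
  hall : IsPiHallOf (kappa M) K M
  hK1 : K ≠ ⊥
  compl : IsComplIn K (sigmaCore M) M
  prime : ∀ e ∈ K, e ≠ 1 →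
    sigmaCore M ⊓ centralizer ({e} : Set G) = sigmaCore M ⊓ centralizer (K : Set G)
  normal : ∀ X : Subgroup G, X ≤ K → (Nat.card X).Prime → K ≤ normalizer (X : Set G)
  beta : ∀ q, q ∈ sigma M → q ∈ beta M
  Kst_ne : sigmaCore M ⊓ centralizer (K : Set G) ≠ ⊥

theorem centralizer_zpowers_eq (x : G) :
    centralizer ((zpowers x : Subgroup G) : Set G) = centralizer ({x} : Set G) := by
  apply le_antisymm
  · apply centralizer_le
    intro y hy
    rw [Set.mem_singleton_iff] at hy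
    rw [hy]
    exact mem_zpowers x
  · intro g hg
    rw [mem_centralizer_iff] at hg ⊢
    intro y hy
    obtain ⟨n, rfl⟩ := mem_zpowers_iff.mp hy
    have h1 : x * g = g * x := hg x (Set.mem_singleton x)
    have h2 : Commute x g := h1
    exact (h2.zpow_left n).eq

namespace R0

variable {M K : Subgroup G} (w : R0 M K)
include w

theorem K_le : K ≤ M := w.hall.1

theorem K_inf : K ⊓ sigmaCore M = ⊥ := w.compl.2.2.1

theorem Kst_le_centralizer : Kst M K ≤ centralizer (K : Set G) := inf_le_right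

/-- `C_{M_σ}(X) = K*` for `1 ≠ X ≤ K` -/
theorem centralizer_eq {X : Subgroup G} (hXK : X ≤ K) (hX1 : X ≠ ⊥) :
    sigmaCore M ⊓ centralizer (X : Set G) = Kst M K := by
  apply le_antisymm
  · obtain ⟨x0, hx0⟩ := (Subgroup.ne_bot_iff_exists_ne_one).mp hX1
    have hx : (x0 : G) ∈ X := x0.2
    have hx1 : (x0 : G) ≠ 1 := fun h0 => hx0 (Subtype.ext h0)
    show sigmaCore M ⊓ centralizer (X : Set G) ≤ sigmaCore M ⊓ centralizer (K : Set G)
    rw [← w.prime (x0 : G) (hXK hx) hx1]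
    refine inf_le_inf le_rfl ?_
    apply centralizer_le
    intro y hy
    rw [Set.mem_singleton_iff] at hy
    rw [hy]; exact hx
  · exact inf_le_inf le_rfl (centralizer_le hXK)

/-- elements of `M` normalising a subgroup `X ≤ K` on which... : `N_{M_σ}(X) ≤ C(X)` -/
theorem mem_centralizer_of_mem_normalizer {X : Subgroup G} (hXK : X ≤ K) {v : G}
    (hv : v ∈ sigmaCore M) (hvN : v ∈ normalizer (X : Set G)) : v ∈ centralizer (X : Set G) := by
  rw [mem_centralizer_iff]
  intro x hx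
  have h1 : v * x * v⁻¹ ∈ X := (mem_normalizer_iff.mp hvN x).mp hx
  have h2 : v * x * v⁻¹ * x⁻¹ ∈ K := K.mul_mem (hXK h1) (K.inv_mem (hXK hx))
  have h3 : v * x * v⁻¹ * x⁻¹ ∈ sigmaCore M := by
    have hxM : x ∈ M := w.K_le (hXK hx)
    have : x * v⁻¹ * x⁻¹ ∈ sigmaCore M :=
      Cfsg.Agent.Helper16.BG147.conj_mem_sigmaCore hxM ((sigmaCore M).inv_mem hv)
    have h4 : v * x * v⁻¹ * x⁻¹ = v * (x * v⁻¹ * x⁻¹) := by group
    rw [h4]
    exact (sigmaCore M).mul_mem hv this
  have h5 : v * x * v⁻¹ * x⁻¹ ∈ K ⊓ sigmaCore M := ⟨h2, h3⟩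
  rw [w.K_inf, mem_bot] at h5
  have h6 : v * x = x * v := by
    have := congrArg (fun t => t * x * v) h5
    simpa [mul_assoc] using this
  exact h6.symm

/-- `N_M(X) = K K*` for `1 ≠ X ≤ K` normalised by `K` -/
theorem inf_normalizer_eq {X : Subgroup G} (hXK : X ≤ K) (hX1 : X ≠ ⊥)
    (hKX : K ≤ normalizer (X : Set G)) : M ⊓ normalizer (X : Set G) = K ⊔ Kst M K := by
  apply le_antisymm
  · intro m hm
    obtain ⟨hmM, hmN⟩ := mem_inf.mp hm
    obtain ⟨k, hk, v, hv, rfl⟩ := w.compl.2.2.2 m hmM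
    have hvN : v ∈ normalizer (X : Set G) := by
      have : v = k⁻¹ * (k * v) := by group
      rw [this]
      exact (normalizer (X : Set G)).mul_mem ((normalizer (X : Set G)).inv_mem (hKX hk)) hmN
    have hvC := w.mem_centralizer_of_mem_normalizer hXK hv hvN
    have hvK : v ∈ Kst M K := by
      rw [← w.centralizer_eq hXK hX1]
      exact ⟨hv, hvC⟩
    exact mul_mem (le_sup_left (b := Kst M K) hk) (le_sup_right (a := K) hvK)
  · apply sup_le
    · exact le_inf w.K_le hKX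
    · refine le_inf (inf_le_left.trans (Cfsg.Agent.Helper16.BG147.sigmaCore_le M)) ?_
      exact (inf_le_right.trans (centralizer_le hXK)).trans (centralizer_le_normalizer _)

theorem card_M : Nat.card M = Nat.card K * Nat.card ↥(sigmaCore M) :=
  Cfsg.Agent.Helper7.IsComplIn.card_eq w.compl

/-- every prime divisor of `|M|` is in `κ(M)` or `σ(M)` -/
theorem prime_dvd_card_M {p : ℕ} (hp : p.Prime) (hpM : p ∣ Nat.card M) :
    p ∈ kappa M ∨ p ∈ sigma M := by
  rw [w.card_M] at hpM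
  rcases (Nat.Prime.dvd_mul hp).mp hpM with h | h
  · exact Or.inl (w.hall.2.1 p hp h)
  · exact Or.inr (Cfsg.Agent.Helper16.BG147.card_sigmaCore M p hp h)

end R0

end Cfsg.Agent.Helper8.BG14R0
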