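import Mathlib
import Cfsg.Agent.Lib.Helper8.BG14R0A

/-!
# BG 14.2 in the world `R0` (helper8), part B: the statement of S1430 for `(M, K)`
-/

set_option autoImplicit false

namespace Cfsg.Agent.Helper8.BG14R0

open Cfsg Subgroup
open Cfsg.Agent.Helper16.BG147 (Kst St1430 St1431)
open Cfsg.Agent.Helper22.BG13 (Hyp1350 Hyp1405)
open Cfsg.Agent.Helper4.BGSig (H1423 H1426)
open Cfsg.Agent.Helper10 (IsPiNum)

universe u

variable {G : Type u} [Group G] [Finite G]

theorem isPiNum_of_card_eq_prime {π : Set ℕ} {p n : ℕ} (hp : p.Prime) (hn : n = p) (hpπ : p ∈ π) :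
    IsPiNum π n := by
  intro q hq hqn
  rw [hn] at hqn
  rw [(Nat.prime_dvd_prime_iff_eq hq hp).mp hqn]
  exact hpπ

/-- a subgroup of prime order of a nontrivial subgroup -/
theorem exists_prime_card_le {A : Subgroup G} (hA : A ≠ ⊥) :
    ∃ Y : Subgroup G, Y ≤ A ∧ (Nat.card Y).Prime := by
  have h1 : Nat.card A ≠ 1 := fun h => hA (Subgroup.card_eq_one.mp h)
  obtain ⟨t, ht, htd⟩ := Nat.exists_prime_and_dvd h1
  haveI := Fact.mk ht
  obtain ⟨y, hy⟩ := exists_prime_orderOf_dvd_card' t htd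
  refine ⟨zpowers (y : G), ?_, ?_⟩
  · rw [zpowers_le]; exact y.2
  · rw [Nat.card_zpowers, Subgroup.orderOf_coe, hy]; exact ht

namespace R0

variable {M K : Subgroup G} (w : R0 M K)
include w

/-- subgroups of prime order of `K*` lie in a unique maximal subgroup together with their
centralisers -/
theorem uniq_of_le_Kst (h23 : H1423 G) {Y₀ : Subgroup G} (hY : Y₀ ≤ Kst M K)
    (hYp : (Nat.card Y₀).Prime) :
    centralizer (Y₀ : Set G) ≤ M ∧
      ∀ L : Subgroup G, IsCoatom L → centralizer (Y₀ : Set G) ≤ L → L = M := by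
  set t := Nat.card Y₀ with ht
  haveI := Fact.mk hYp
  have hYσ : Y₀ ≤ sigmaCore M := hY.trans inf_le_left
  have htσ : t ∈ sigma M :=
    Cfsg.Agent.Helper16.BG147.card_sigmaCore M t hYp (Subgroup.card_dvd_of_le hYσ)
  have P : Sylow t ↥(sigmaCore M) := Classical.choice inferInstance
  exact (h23 M w.hM t htσ Y₀ (hYσ.trans (Cfsg.Agent.Helper16.BG147.sigmaCore_le M)) rfl P
    (Or.inl (w.beta t htσ))).1

theorem mem_kappa_of_dvd {p : ℕ} (hp : p.Prime) (hpK : p ∣ Nat.card K) : p ∈ kappa M :=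
  w.hall.2.1 p hp hpK

/-- the statement of S1430 for `(M, K)` -/
theorem st1430 (h23 : H1423 G) (g2 : HypG2 G) (h50 : Hyp1350 G) :
    (∀ k ∈ K, k ≠ 1 → sigmaCore M ⊓ centralizer ({k} : Set G) =
        (sigmaCore M ⊓ centralizer (K : Set G))) ∧
      (∃ U : Subgroup G, IsMulCommutative U ∧
        IsPiHallOf {q | q.Prime ∧ q ∉ kappa M ∧ q ∉ sigma M} U M ∧
        K ≤ normalizer (U : Set G) ∧ ∀ k ∈ K, k ≠ 1 → U ⊓ centralizer ({k} : Set G) = ⊥) ∧
      ∀ X : Subgroup G, X ≤ K → (Nat.card X).Prime →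
        M ⊓ normalizer (X : Set G) = K ⊔ (sigmaCore M ⊓ centralizer (K : Set G)) ∧
        M ⊓ normalizer (K : Set G) = K ⊔ (sigmaCore M ⊓ centralizer (K : Set G)) ∧
        ∀ Mstar : Subgroup G, IsCoatom Mstar → normalizer (X : Set G) ≤ Mstar →
          X ≤ sigmaCore Mstar := by
  refine ⟨w.prime, ⟨⊥, ?_, ⟨bot_le, ?_, ?_⟩, ?_, ?_⟩, ?_⟩
  · exact ⟨⟨fun a b => Subsingleton.elim _ _⟩⟩
  · intro p hp hpd
    rw [Subgroup.card_bot] at hpd
    exact absurd (Nat.dvd_one.mp hpd) hp.one_lt.ne'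
  · intro p hp hpπ hpd
    rw [Subgroup.relIndex_bot_left] at hpd
    rcases w.prime_dvd_card_M hp hpd with h | h
    · exact hpπ.2.1 h
    · exact hpπ.2.2 h
  · have h : normalizer (((⊥ : Subgroup G)) : Set G) = ⊤ :=
      Subgroup.normalizer_eq_top_iff.mpr inferInstance
    rw [h]; exact le_top
  · intro k _ _
    exact bot_inf_eq _
  · intro X hXK hXp
    have hX1 : X ≠ ⊥ := by
      intro h
      rw [h, Subgroup.card_bot] at hXp
      exact Nat.not_prime_one hXp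
    have hKX := w.normal X hXK hXp
    refine ⟨w.inf_normalizer_eq hXK hX1 hKX, w.inf_normalizer_eq le_rfl w.hK1 le_normalizer, ?_⟩
    intro Ms hMs hNMs
    set p := Nat.card X with hp
    haveI := Fact.mk hXp
    have hpκ : p ∈ kappa M := w.mem_kappa_of_dvd hXp (Subgroup.card_dvd_of_le hXK)
    have hrank : PRankLE p 1 M :=
      Cfsg.Agent.Helper16.BG147.pRankLE_one_of_cyclic_sylow p (fun P => (hpκ.2.2.2 P).1)
    obtain ⟨Y₀, hY₀, hY₀p⟩ := exists_prime_card_le w.Kst_ne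
    have hY₀' : Y₀ ≤ sigmaCore M ⊓ centralizer (X : Set G) := by
      rw [w.centralizer_eq hXK hX1]; exact hY₀
    have huniq := w.uniq_of_le_Kst h23 hY₀ hY₀p
    have hpσ : p ∈ sigma Ms :=
      g2 M w.hM p hpκ.2.2.1 hrank X (hXK.trans w.K_le) rfl Y₀ hY₀' hY₀p huniq Ms hMs hNMs
    exact Cfsg.Agent.Helper22.BG13.le_sigmaCore_of_isPiNum h50 hMs (le_normalizer.trans hNMs)
      (isPiNum_of_card_eq_prime hXp rfl hpσ)

end R0

end Cfsg.Agent.Helper8.BG14R0
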