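import Mathlib
import Cfsg.Agent.Lib.Helper8.BG14R0B
import Cfsg.Agent.Lib.Helper8.NarrowSolv
import Cfsg.Agent.Lib.Helper19.BG16C
import Cfsg.Agent.Lib.Helper4.BG144B

/-!
# BG 14.2 in the world `R0` (helper8), part C: the statement of S1431 for `(M, K)`
-/

set_option autoImplicit false

namespace Cfsg.Agent.Helper8.BG14R0

open Cfsg Subgroup
open Cfsg.Agent.Helper16.BG147 (Kst St1430 St1431)
open Cfsg.Agent.Helper22.BG13 (Hyp1350 Hyp1405)
open Cfsg.Agent.Helper18.BG13P (H1409)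
open Cfsg.Agent.Helper18.BG13Q (H1406)
open Cfsg.Agent.Helper4.BGSig (H1423 H1426)
open Cfsg.Agent.Helper4.BG1379 (H1425)
open Cfsg.Agent.Helper10 (IsPiNum)
open Cfsg.Agent.Helper15 (mem_map_conj_iff)

universe u

variable {G : Type u} [Group G] [Finite G]

theorem pRankLE_mono {p k l : ℕ} (hp : p.Prime) (hkl : k ≤ l) {L : Type*} [Group L]
    (h : PRankLE p k L) : PRankLE p l L := by
  intro A hAc hAe
  exact (h A hAc hAe).trans (Nat.pow_le_pow_right hp.pos hkl)

/-- for `p ∈ σ(M)` the `p`-rank of `M` is that of `M_σ` -/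
theorem pRankLE_of_sigmaCore (h50 : Hyp1350 G) {M : Subgroup G} (hM : IsCoatom M) {p : ℕ}
    [Fact p.Prime] (hpσ : p ∈ sigma M) {k : ℕ} (h : PRankLE p k ↥(sigmaCore M)) :
    PRankLE p k ↥M := by
  have hp : p.Prime := Fact.out
  intro A hAc hAe
  have hAp : IsPGroup p A := by
    intro a
    refine ⟨1, ?_⟩
    rw [pow_one]
    apply Subtype.ext
    exact hAe a a.2
  have hA'M : A.map M.subtype ≤ M := map_subtype_le _
  have hA'p : IsPGroup p (A.map M.subtype) := hAp.map _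
  have hA'σ : A.map M.subtype ≤ sigmaCore M := by
    apply Cfsg.Agent.Helper22.BG13.le_sigmaCore_of_isPiNum h50 hM hA'M
    intro q hq hqd
    obtain ⟨n, hn⟩ := hA'p.exists_card_eq
    rw [hn] at hqd
    rw [(Nat.prime_dvd_prime_iff_eq hq hp).mp (hq.dvd_of_dvd_pow hqd)]
    exact hpσ
  let f : ↥A →* ↥(sigmaCore M) :=
    { toFun := fun a => ⟨((a : M) : G), hA'σ (mem_map_of_mem _ a.2)⟩
      map_one' := rfl
      map_mul' := fun a b => rfl }
  have hf : Function.Injective f := by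
    intro a b hab
    have h1 : ((f a : ↥(sigmaCore M)) : G) = ((f b : ↥(sigmaCore M)) : G) :=
      congrArg Subtype.val hab
    exact Subtype.ext (Subtype.ext h1)
  have h1 := Cfsg.Agent.Helper8.RankTwo.pRankLE_of_injective f hf h
  have h2 := h1 ⊤ (isMulCommutative_iff_of_setLike.mpr (fun a _ b _ => by
      apply Subtype.ext
      exact (isMulCommutative_iff_of_setLike.mp hAc) a a.2 b b.2))
    (fun a _ => by
      apply Subtype.ext
      exact hAe a a.2)
  rwa [Subgroup.card_top] at h2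

namespace R0

variable {M K : Subgroup G} (w : R0 M K)
include w

/-- `σ(M) = β(M)` makes `M_σ` disjoint from the other conjugates of `M` -/
theorem sigmaCore_inf_conj (h26 : H1426 G) {g : G} (hg : g ∉ M) :
    sigmaCore M ⊓ M.map (MulAut.conj g).toMonoidHom = ⊥ := by
  by_contra hne
  have h1 : Nat.card ↥(sigmaCore M ⊓ M.map (MulAut.conj g).toMonoidHom) ≠ 1 :=
    fun h => hne (Subgroup.card_eq_one.mp h)
  obtain ⟨p, hp, hpd⟩ := Nat.exists_prime_and_dvd h1
  have h2 := ((h26 M w.hM K w.compl).2.2 g hg).2.1 p hp hpd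
  apply h2
  apply w.beta
  exact Cfsg.Agent.Helper16.BG147.card_sigmaCore M p hp
    (hpd.trans (Subgroup.card_dvd_of_le inf_le_left))

theorem alpha_eq_sigma (h05 : Hyp1405 G) : alpha M = sigma M := by
  ext p
  constructor
  · intro hpα
    obtain ⟨hH, -, hle, -, -⟩ := h05 M w.hM
    have hp : p.Prime := hpα.1
    have hpM : p ∣ Nat.card M := Cfsg.Agent.Helper19.BG16.dvd_card_of_not_pRankLE hp hpα.2
    have h1 : ¬ p ∣ (alphaCore M).relIndex M := hH.2.2 p hp hpα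
    have h2 : Nat.card M = Nat.card ↥(alphaCore M) * (alphaCore M).relIndex M :=
      Cfsg.Agent.Lead.BGThmC2.card_eq_mul_relIndex hH.1
    rw [h2] at hpM
    have h3 : p ∣ Nat.card ↥(alphaCore M) := ((Nat.Prime.dvd_mul hp).mp hpM).resolve_right h1
    exact Cfsg.Agent.Helper16.BG147.card_sigmaCore M p hp
      (h3.trans (Subgroup.card_dvd_of_le hle))
  · intro hpσ
    exact (w.beta p hpσ).1

theorem alphaCore_eq (h05 : Hyp1405 G) : alphaCore M = sigmaCore M := by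
  unfold alphaCore sigmaCore
  rw [w.alpha_eq_sigma h05]

/-- `K*` has rank at most one (BG 10.? : S1406 + S1409) -/
theorem rank_Kst (h05 : Hyp1405 G) (h06 : H1406 G) (h09 : H1409 G) : RankLE 1 ↥(Kst M K) := by
  by_contra hr
  obtain ⟨X, hXK, hXp⟩ := exists_prime_card_le w.hK1
  have hX1 : X ≠ ⊥ := by
    intro h
    rw [h, Subgroup.card_bot] at hXp
    exact Nat.not_prime_one hXp
  set p := Nat.card X with hp
  haveI := Fact.mk hXp
  have hpκ : p ∈ kappa M := w.mem_kappa_of_dvd hXp (Subgroup.card_dvd_of_le hXK)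
  have hXM : X ≤ M := hXK.trans w.K_le
  have hα : ∀ q : ℕ, q.Prime → q ∣ Nat.card X → q ∉ alpha M := by
    intro q hq hqd
    rw [(Nat.prime_dvd_prime_iff_eq hq hXp).mp hqd, w.alpha_eq_sigma h05]
    exact hpκ.2.2.1
  have hr' : ¬ RankLE 1 ↥(alphaCore M ⊓ centralizer (X : Set G)) := by
    rw [w.alphaCore_eq h05, w.centralizer_eq hXK hX1]
    exact hr
  obtain ⟨L, -, hLu⟩ := h06 M w.hM X hXM hα hr'
  have hXtop : X ≠ ⊤ := by
    intro h
    have : M = ⊤ := by rw [eq_top_iff, ← h]; exact hXM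
    exact w.hM.1 this
  obtain ⟨H, hH, hNH⟩ := Cfsg.Agent.Helper4.BG144.exists_coatom_ge
    (Cfsg.Agent.Helper4.BG144.normalizer_ne_top' w.hG hX1 hXtop)
  have h1 : H = L := hLu H ⟨hH, (inf_le_right.trans (centralizer_le_normalizer _)).trans hNH⟩
  have h2 : M = L := hLu M ⟨w.hM, inf_le_left⟩
  have hNM : normalizer (X : Set G) ≤ M := by rw [h2, ← h1]; exact hNH
  have h3 := (h09 M w.hM p hpκ.2.2.1 X rfl hNM).1.2
  exact h3 (Cfsg.Agent.Helper16.BG147.pRankLE_one_of_cyclic_sylow p (fun P => (hpκ.2.2.2 P).1))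

/-- the statement of S1431 for `(M, K)` -/
theorem st1431 (h23 : H1423 G) (h25 : H1425 G) (h26 : H1426 G) (h50 : Hyp1350 G)
    (h05 : Hyp1405 G) (h06 : H1406 G) (h09 : H1409 G) :
    (∀ g : G, g ∉ M → (sigmaCore M ⊓ centralizer (K : Set G)) ⊓
        M.map (MulAut.conj g).toMonoidHom = ⊥) ∧
      (∀ g ∈ M, g ∉ K ⊔ (sigmaCore M ⊓ centralizer (K : Set G)) →
        K ⊓ K.map (MulAut.conj g).toMonoidHom = ⊥) ∧
      (∀ (p : ℕ), p.Prime → p ∣ Nat.card ↥(sigmaCore M ⊓ centralizer (K : Set G)) →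
        ∀ S : Sylow p ↥(sigmaCore M),
        InUniqueMaximal ((S : Subgroup ↥(sigmaCore M)).map (sigmaCore M).subtype) ∧
        (S : Subgroup ↥(sigmaCore M)).map (sigmaCore M).subtype ≤ M ∧
        ¬ (S : Subgroup ↥(sigmaCore M)).map (sigmaCore M).subtype ≤
          (sigmaCore M ⊓ centralizer (K : Set G))) ∧
      ∀ Y : Subgroup G, (∀ p : ℕ, p.Prime → p ∣ Nat.card Y → p ∈ sigma M) →
        Y ⊓ (sigmaCore M ⊓ centralizer (K : Set G)) ≠ ⊥ → Y ≤ sigmaCore M := by
  refine ⟨?_, ?_, ?_, ?_⟩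
  · intro g hg
    rw [eq_bot_iff, ← w.sigmaCore_inf_conj h26 hg]
    exact inf_le_inf inf_le_left le_rfl
  · intro g hgM hgZ
    by_contra hne
    obtain ⟨R₀, hR₀, hR₀p⟩ := exists_prime_card_le hne
    have hR₀K : R₀ ≤ K := hR₀.trans inf_le_left
    have hR₀1 : R₀ ≠ ⊥ := by
      intro h
      rw [h, Subgroup.card_bot] at hR₀p
      exact Nat.not_prime_one hR₀p
    have hKR := w.normal R₀ hR₀K hR₀p
    obtain ⟨k, hk, v, hv, rfl⟩ := w.compl.2.2.2 g hgM
    obtain ⟨x0, hx0⟩ := (Subgroup.ne_bot_iff_exists_ne_one).mp hR₀1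
    have hx : (x0 : G) ∈ R₀ := x0.2
    have hx1 : (x0 : G) ≠ 1 := fun h0 => hx0 (Subtype.ext h0)
    set x : G := (x0 : G) with hxdef
    -- `k x k⁻¹ ∈ R₀ ≤ K^g`
    have h1 : k * x * k⁻¹ ∈ R₀ := (mem_normalizer_iff.mp (hKR hk) x).mp hx
    have h2 : k * x * k⁻¹ ∈ K.map (MulAut.conj (k * v)).toMonoidHom := (hR₀ h1).2
    rw [mem_map_conj_iff] at h2
    have h3 : (k * v)⁻¹ * (k * x * k⁻¹) * (k * v) = v⁻¹ * x * v := by group
    rw [h3] at h2
    have h4 : v⁻¹ * x * v * x⁻¹ ∈ K := K.mul_mem h2 (K.inv_mem (hR₀K hx))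
    have h5 : v⁻¹ * x * v * x⁻¹ ∈ sigmaCore M := by
      have hxM : x ∈ M := w.K_le (hR₀K hx)
      have : x * v * x⁻¹ ∈ sigmaCore M :=
        Cfsg.Agent.Helper16.BG147.conj_mem_sigmaCore hxM hv
      have h6 : v⁻¹ * x * v * x⁻¹ = v⁻¹ * (x * v * x⁻¹) := by group
      rw [h6]
      exact (sigmaCore M).mul_mem ((sigmaCore M).inv_mem hv) this
    have h7 : v⁻¹ * x * v * x⁻¹ ∈ K ⊓ sigmaCore M := ⟨h4, h5⟩
    rw [w.K_inf, mem_bot] at h7
    have h8 : x * v = v * x := by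
      have := congrArg (fun t => v * t * x) h7
      simpa [mul_assoc] using this
    have hvC : v ∈ sigmaCore M ⊓ centralizer ({x} : Set G) := by
      refine Subgroup.mem_inf.mpr ⟨hv, ?_⟩
      rw [mem_centralizer_iff]
      intro y hy
      rw [Set.mem_singleton_iff] at hy
      rw [hy]; exact h8
    rw [w.prime x (hR₀K hx) hx1] at hvC
    exact hgZ (mul_mem (le_sup_left (b := sigmaCore M ⊓ centralizer (K : Set G)) hk)
      (le_sup_right (a := K) hvC))
  · intro p hp hpd S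
    haveI := Fact.mk hp
    have hpσ : p ∈ sigma M := Cfsg.Agent.Helper16.BG147.card_sigmaCore M p hp
      (hpd.trans (Subgroup.card_dvd_of_le inf_le_left))
    have hpβ : p ∈ Cfsg.beta M := w.beta p hpσ
    obtain ⟨y, hy⟩ := exists_prime_orderOf_dvd_card' p hpd
    have hYM : zpowers (y : G) ≤ M := by
      rw [zpowers_le]
      exact Cfsg.Agent.Helper16.BG147.sigmaCore_le M y.2.1
    have hYc : Nat.card ↥(zpowers (y : G)) = p := by
      rw [Nat.card_zpowers, Subgroup.orderOf_coe, hy]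
    have h := (h23 M w.hM p hpσ (zpowers (y : G)) hYM hYc S (Or.inl hpβ)).2
    refine ⟨h.1, h.2, ?_⟩
    intro hle
    have hr : PRankLE p 1 ↥(Kst M K) := w.rank_Kst h05 h06 h09 p hp
    let f : ↥(S : Subgroup ↥(sigmaCore M)) →* ↥(Kst M K) :=
      { toFun := fun a => ⟨(((a : ↥(sigmaCore M)) : G)), hle (mem_map_of_mem _ a.2)⟩
        map_one' := rfl
        map_mul' := fun a b => rfl }
    have hf : Function.Injective f := by
      intro a b hab
      have h1 : ((f a : ↥(Kst M K)) : G) = ((f b : ↥(Kst M K)) : G) :=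
        congrArg Subtype.val hab
      exact Subtype.ext (Subtype.ext h1)
    have h1 : PRankLE p 1 ↥(S : Subgroup ↥(sigmaCore M)) :=
      Cfsg.Agent.Helper8.RankTwo.pRankLE_of_injective f hf hr
    have h2 : PRankLE p 1 ↥(sigmaCore M) := Cfsg.Agent.Helper8.NarrowSolv.pRankLE_of_sylow 1 S h1
    have h3 : PRankLE p 1 ↥M := pRankLE_of_sigmaCore h50 w.hM hpσ h2
    exact hpβ.1.2 (pRankLE_mono hp (by norm_num) h3)
  · intro Y hY hYne
    have hY1 : Y ≠ ⊥ := by
      intro h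
      apply hYne
      rw [h]; exact bot_inf_eq _
    obtain ⟨g, hg⟩ := h25 M w.hM Y hY1 hY
    obtain ⟨y0, hy0⟩ := (Subgroup.ne_bot_iff_exists_ne_one).mp hYne
    have hyY : (y0 : G) ∈ Y := y0.2.1
    have hyσ : (y0 : G) ∈ sigmaCore M := y0.2.2.1
    have hy1 : (y0 : G) ≠ 1 := fun h0 => hy0 (Subtype.ext h0)
    have hgy : g * (y0 : G) * g⁻¹ ∈ sigmaCore M := by
      apply hg
      exact ⟨(y0 : G), hyY, by simp [MulAut.conj_apply]⟩
    have hgM : g⁻¹ ∈ M := by
      by_contra hgn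
      have h1 := w.sigmaCore_inf_conj h26 hgn
      have h2 : (y0 : G) ∈ sigmaCore M ⊓ M.map (MulAut.conj g⁻¹).toMonoidHom := by
        refine Subgroup.mem_inf.mpr ⟨hyσ, ?_⟩
        rw [mem_map_conj_iff, inv_inv]
        exact Cfsg.Agent.Helper16.BG147.sigmaCore_le M hgy
      rw [h1, mem_bot] at h2
      exact hy1 h2
    intro x hx
    have hgx : g * x * g⁻¹ ∈ sigmaCore M := by
      apply hg
      exact ⟨x, hx, by simp [MulAut.conj_apply]⟩
    have := Cfsg.Agent.Helper16.BG147.conj_mem_sigmaCore hgM hgx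
    have h3 : g⁻¹ * (g * x * g⁻¹) * g⁻¹⁻¹ = x := by group
    rwa [h3] at this

end R0

end Cfsg.Agent.Helper8.BG14R0
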