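import Mathlib
import Cfsg.Agent.Lib.Helper8.BG14R0C
import Cfsg.Agent.Lib.Helper11.BG1413A
import Cfsg.Agent.Lib.Helper20.BG12A
import Cfsg.Agent.Lib.Lead.BGThmC

/-!
# BG 14.2 in the world `R0` (helper8), part D: entering the world

From the structure theorem of BG 13.11 (`Tau3World`, proved by helper5) and a prime
`p ∈ κ(M) ∩ τ₃(M)`: every Hall `κ(M)`-subgroup `K` gives a configuration `R0 M K`, hence
the statements of S1430 and S1431 for `(M, K)`.
-/

set_option autoImplicit false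

namespace Cfsg.Agent.Helper8.BG14R0

open Cfsg Subgroup
open Cfsg.Agent.Helper16.BG147 (Kst St1430 St1431)
open Cfsg.Agent.Helper22.BG13 (Hyp1350 Hyp1405)
open Cfsg.Agent.Helper18.BG13P (H1409)
open Cfsg.Agent.Helper18.BG13Q (H1406)
open Cfsg.Agent.Helper4.BGSig (H1423 H1426)
open Cfsg.Agent.Helper4.BG1379 (H1425)
open Cfsg.Agent.Helper10 (IsPiNum)
open Cfsg.Agent.Helper15 (IsSylowIn exists_isSylowIn isSylowIn_of_not_dvd_relIndex)

universe u

/-- the structure theorem of BG 13.11 (the world where `κ(M)` meets `τ₃(M)`) -/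
def Tau3World (G : Type u) [Group G] [Finite G] : Prop :=
  ∀ (M E X : Subgroup G) (p : ℕ), IsCoatom M → IsComplIn E (sigmaCore M) M → p ∈ tau3 M →
    X ≤ E → Nat.card X = p → sigmaCore M ⊓ centralizer (X : Set G) ≠ ⊥ →
    (∀ q, q ∉ tau2 M) ∧ (∀ q, q ∈ sigma M → q ∈ beta M) ∧
      (∀ e ∈ E, e ≠ 1 → sigmaCore M ⊓ centralizer ({e} : Set G) =
        sigmaCore M ⊓ centralizer (X : Set G)) ∧
      (∀ X' : Subgroup G, X' ≤ E → (Nat.card X').Prime → E ≤ normalizer (X' : Set G)) ∧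
      (∀ q : ℕ, q.Prime → q ∣ Nat.card E → q ∈ kappa M)

variable {G : Type u} [Group G] [Finite G]

/-- a non-regular subgroup of order `p ∈ κ(M)` inside a given Hall `κ(M)`-subgroup -/
theorem exists_nonregular_le {M K : Subgroup G} (hK : IsPiHallOf (kappa M) K M) {p : ℕ}
    (hpκ : p ∈ kappa M) :
    ∃ X : Subgroup G, X ≤ K ∧ Nat.card X = p ∧ sigmaCore M ⊓ centralizer (X : Set G) ≠ ⊥ := by
  have hp : p.Prime := hpκ.1
  haveI := Fact.mk hp
  obtain ⟨T, hT⟩ := exists_isSylowIn (p := p) K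
  have hTM : IsSylowIn p T M := by
    refine isSylowIn_of_not_dvd_relIndex hT.isPGroup (hT.le.trans hK.1) ?_
    rw [← Subgroup.relIndex_mul_relIndex T K M hT.le hK.1]
    intro hd
    rcases (Nat.Prime.dvd_mul hp).mp hd with h | h
    · exact hT.not_dvd_relIndex h
    · exact hK.2.2 p hp hpκ h
  obtain ⟨-, x, hxP, hx1, y, hy, hy1, hxy⟩ := hpκ.2.2.2 hTM.toSylow
  rw [← SetLike.mem_coe, hTM.coe_toSylow] at hxP
  have hxT : (x : G) ∈ T := hxP
  have hx1' : (x : G) ≠ 1 := fun h => hx1 (Subtype.ext h)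
  obtain ⟨t, k, ht, htd, hok⟩ := Cfsg.Agent.Helper11.BG1413.exists_prime_order_pow hx1'
    (isOfFinOrder_of_finite (x : G))
  have htp : t = p := by
    obtain ⟨j, hj⟩ := (IsPGroup.iff_orderOf.mp hT.isPGroup) ⟨(x : G), hxT⟩
    rw [Subgroup.orderOf_mk] at hj
    rw [hj] at htd
    exact (Nat.prime_dvd_prime_iff_eq ht hp).mp (ht.dvd_of_dvd_pow htd)
  refine ⟨zpowers ((x : G) ^ k), ?_, ?_, ?_⟩
  · rw [zpowers_le]
    exact hT.le (T.pow_mem hxT k)
  · rw [Nat.card_zpowers, hok, htp]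
  · intro hbot
    have hmem : y ∈ sigmaCore M ⊓ centralizer ((zpowers ((x : G) ^ k) : Subgroup G) : Set G) := by
      refine Subgroup.mem_inf.mpr ⟨hy, ?_⟩
      rw [centralizer_zpowers_eq, mem_centralizer_iff]
      intro z hz
      rw [Set.mem_singleton_iff] at hz
      rw [hz]
      exact Cfsg.Agent.Helper11.BG1413.commute_pow_of_commute hxy k
    rw [hbot, mem_bot] at hmem
    exact hy1 hmem

/-- entering the world `R0` -/
theorem r0_of_tau3World (hG : IsMinSimpleOddOrder G) (h50 : Hyp1350 G) (tw : Tau3World G)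
    {M K : Subgroup G} (hM : IsCoatom M) (hK : IsPiHallOf (kappa M) K M) {p : ℕ}
    (hpκ : p ∈ kappa M) (hp3 : p ∈ tau3 M) : R0 M K := by
  have hp : p.Prime := hpκ.1
  obtain ⟨X, hXK, hXc, hXne⟩ := exists_nonregular_le hK hpκ
  have hK1 : K ≠ ⊥ := by
    intro h
    have h1 : X = ⊥ := le_bot_iff.mp (h ▸ hXK)
    rw [h1, Subgroup.card_bot] at hXc
    exact hp.one_lt.ne hXc
  have hallσ : IsPiHallOf (sigma M) (sigmaCore M) M := (h50 M hM).1
  obtain ⟨E₀, hE₀⟩ := Cfsg.Agent.Lead.BGThmC.exists_compl_sigmaCore M hallσ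
  have hsolv : Group.IsSolvable ↥M := hG.2.2.2 M hM.1
  have hcopK : (Nat.card K).Coprime (Nat.card ↥(sigmaCore M)) := by
    apply Nat.coprime_of_dvd
    intro q hq hqK hqσ
    exact (hK.2.1 q hq hqK).2.2.1 (Cfsg.Agent.Helper16.BG147.card_sigmaCore M q hq hqσ)
  have hcopE₀ : (Nat.card E₀).Coprime (Nat.card ↥(sigmaCore M)) := by
    apply Nat.coprime_of_dvd
    intro q hq hqE hqσ
    have h1 : ¬ q ∣ (sigmaCore M).relIndex M :=
      hallσ.2.2 q hq (Cfsg.Agent.Helper16.BG147.card_sigmaCore M q hq hqσ)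
    apply h1
    have h2 : Nat.card M = Nat.card E₀ * Nat.card ↥(sigmaCore M) :=
      Cfsg.Agent.Helper7.IsComplIn.card_eq hE₀
    have h3 : Nat.card M = Nat.card ↥(sigmaCore M) * (sigmaCore M).relIndex M :=
      Cfsg.Agent.Lead.BGThmC2.card_eq_mul_relIndex hallσ.1
    have h4 : (sigmaCore M).relIndex M = Nat.card E₀ := by
      apply Nat.eq_of_mul_eq_mul_left (Nat.card_pos (α := ↥(sigmaCore M)))
      rw [← h3, h2, mul_comm]
    rw [h4]; exact hqE
  obtain ⟨E, hE, hKE, -⟩ :=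
    Cfsg.Agent.Helper20.BG12.exists_isComplIn_ge hsolv hE₀ hcopE₀ hK.1 hcopK
  obtain ⟨-, hβ, hprime, hnormal, hπ⟩ := tw M E X p hM hE hp3 (hXK.trans hKE) hXc hXne
  -- `K = E`
  have hKE' : K = E := by
    apply le_antisymm hKE
    rw [← Subgroup.relIndex_eq_one]
    by_contra hne
    obtain ⟨q, hq, hqd⟩ := Nat.exists_prime_and_dvd hne
    have hqE : q ∣ Nat.card E := by
      have := Cfsg.Agent.Lead.BGThmC2.card_eq_mul_relIndex hKE
      rw [this]; exact hqd.mul_left _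
    have hqκ : q ∈ kappa M := hπ q hq hqE
    apply hK.2.2 q hq hqκ
    rw [← Subgroup.relIndex_mul_relIndex K E M hKE hE.1]
    exact hqd.mul_right _
  subst hKE'
  have hY : sigmaCore M ⊓ centralizer (K : Set G) = sigmaCore M ⊓ centralizer (X : Set G) := by
    apply le_antisymm
    · exact inf_le_inf le_rfl (centralizer_le hXK)
    · intro y hy
      refine Subgroup.mem_inf.mpr ⟨(Subgroup.mem_inf.mp hy).1, ?_⟩
      rw [mem_centralizer_iff]
      intro e he
      by_cases he1 : e = 1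
      · rw [he1]; simp
      · have h1 : y ∈ sigmaCore M ⊓ centralizer ({e} : Set G) := by
          rw [hprime e he he1]; exact hy
        exact (mem_centralizer_iff.mp (Subgroup.mem_inf.mp h1).2) e (Set.mem_singleton e)
  exact
    { hG := hG, hM := hM, hall := hK, hK1 := hK1, compl := hE
      prime := fun e he he1 => by rw [hprime e he he1, hY]
      normal := hnormal
      beta := hβ
      Kst_ne := by rw [hY]; exact hXne }

/-- the statements of S1430 and S1431 for `(M, K)` when `κ(M)` meets `τ₃(M)` -/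
theorem st1430_st1431_of_tau3World (hG : IsMinSimpleOddOrder G) (h50 : Hyp1350 G)
    (tw : Tau3World G) (h23 : H1423 G) (h25 : H1425 G) (h26 : H1426 G) (h05 : Hyp1405 G)
    (h06 : H1406 G) (h09 : H1409 G) (g2 : HypG2 G)
    {M K : Subgroup G} (hM : IsCoatom M) (hK : IsPiHallOf (kappa M) K M) {p : ℕ}
    (hpκ : p ∈ kappa M) (hp3 : p ∈ tau3 M) :
    ((∀ k ∈ K, k ≠ 1 → sigmaCore M ⊓ centralizer ({k} : Set G) =
        (sigmaCore M ⊓ centralizer (K : Set G))) ∧
      (∃ U : Subgroup G, IsMulCommutative U ∧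
        IsPiHallOf {q | q.Prime ∧ q ∉ kappa M ∧ q ∉ sigma M} U M ∧
        K ≤ normalizer (U : Set G) ∧ ∀ k ∈ K, k ≠ 1 → U ⊓ centralizer ({k} : Set G) = ⊥) ∧
      ∀ X : Subgroup G, X ≤ K → (Nat.card X).Prime →
        M ⊓ normalizer (X : Set G) = K ⊔ (sigmaCore M ⊓ centralizer (K : Set G)) ∧
        M ⊓ normalizer (K : Set G) = K ⊔ (sigmaCore M ⊓ centralizer (K : Set G)) ∧
        ∀ Mstar : Subgroup G, IsCoatom Mstar → normalizer (X : Set G) ≤ Mstar →
          X ≤ sigmaCore Mstar) ∧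
    ((∀ g : G, g ∉ M → (sigmaCore M ⊓ centralizer (K : Set G)) ⊓
        M.map (MulAut.conj g).toMonoidHom = ⊥) ∧
      (∀ g ∈ M, g ∉ K ⊔ (sigmaCore M ⊓ centralizer (K : Set G)) →
        K ⊓ K.map (MulAut.conj g).toMonoidHom = ⊥) ∧
      (∀ (p : ℕ), p.Prime → p ∣ Nat.card ↥(sigmaCore M ⊓ centralizer (K : Set G)) →
        ∀ S : Sylow p ↥(sigmaCore M),
        InUniqueMaximal ((S : Subgroup ↥(sigmaCore M)).map (sigmaCore M).subtype) ∧
        (S : Subgroup ↥(sigmaCore M)).map (sigmaCore M).subtype ≤ M ∧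
        ¬ (S : Subgroup ↥(sigmaCore M)).map (sigmaCore M).subtype ≤
          (sigmaCore M ⊓ centralizer (K : Set G))) ∧
      ∀ Y : Subgroup G, (∀ p : ℕ, p.Prime → p ∣ Nat.card Y → p ∈ sigma M) →
        Y ⊓ (sigmaCore M ⊓ centralizer (K : Set G)) ≠ ⊥ → Y ≤ sigmaCore M) := by
  have w := r0_of_tau3World hG h50 tw hM hK hpκ hp3
  exact ⟨w.st1430 h23 g2 h50, w.st1431 h23 h25 h26 h50 h05 h06 h09⟩

end Cfsg.Agent.Helper8.BG14R0
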