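import Mathlib

/-!
# Decomposing an element into its `p`-part and `p'`-part (helper8 library)
-/

set_option autoImplicit false

namespace Cfsg.Agent.Helper8

variable {G : Type*} [Group G]

/-- Every element of finite order is the product of a power of `p`-power order and a power of order
prime to `p`. -/
theorem exists_p_decomp (h : G) (hfin : IsOfFinOrder h) (p : ℕ) (hp : p.Prime) :
    ∃ a b : ℤ, h = h ^ a * h ^ b ∧ (∃ k : ℕ, orderOf (h ^ a) ∣ p ^ k) ∧
      (orderOf (h ^ b)).Coprime p ∧ (p ∣ orderOf h → orderOf (h ^ b) < orderOf h) := by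
  have ho0 : orderOf h ≠ 0 := (hfin.orderOf_pos).ne'
  obtain ⟨k, m, hpm, ho⟩ := Nat.exists_eq_pow_mul_and_not_dvd ho0 p hp.ne_one
  have hm0 : m ≠ 0 := by
    rintro rfl
    rw [mul_zero] at ho
    exact ho0 ho
  have hcop : Nat.Coprime (p ^ k) m :=
    Nat.Coprime.pow_left k ((Nat.Prime.coprime_iff_not_dvd hp).mpr hpm)
  have hic : IsCoprime ((p ^ k : ℕ) : ℤ) (m : ℤ) := Nat.isCoprime_iff_coprime.mpr hcop
  obtain ⟨u, v, huv⟩ := hic
  refine ⟨v * m, u * (p ^ k : ℕ), ?_, ⟨k, ?_⟩, ?_, ?_⟩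
  · rw [← zpow_add]
    have : v * (m : ℤ) + u * ((p ^ k : ℕ) : ℤ) = 1 := by rw [add_comm]; exact huv
    rw [this, zpow_one]
  · apply orderOf_dvd_of_pow_eq_one
    rw [← zpow_natCast, ← zpow_mul]
    have : v * (m : ℤ) * ((p ^ k : ℕ) : ℤ) = ((orderOf h : ℕ) : ℤ) * v := by
      rw [ho]; push_cast; ring
    rw [this, zpow_mul, zpow_natCast, pow_orderOf_eq_one, one_zpow]
  · have h1 : orderOf (h ^ (u * ((p ^ k : ℕ) : ℤ))) ∣ m := by
      apply orderOf_dvd_of_pow_eq_one
      rw [← zpow_natCast, ← zpow_mul]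
      have : u * ((p ^ k : ℕ) : ℤ) * (m : ℤ) = ((orderOf h : ℕ) : ℤ) * u := by
        rw [ho]; push_cast; ring
      rw [this, zpow_mul, zpow_natCast, pow_orderOf_eq_one, one_zpow]
    exact Nat.Coprime.coprime_dvd_left h1 ((Nat.Prime.coprime_iff_not_dvd hp).mpr hpm).symm
  · intro hpo
    have h1 : orderOf (h ^ (u * ((p ^ k : ℕ) : ℤ))) ∣ m := by
      apply orderOf_dvd_of_pow_eq_one
      rw [← zpow_natCast, ← zpow_mul]
      have : u * ((p ^ k : ℕ) : ℤ) * (m : ℤ) = ((orderOf h : ℕ) : ℤ) * u := by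
        rw [ho]; push_cast; ring
      rw [this, zpow_mul, zpow_natCast, pow_orderOf_eq_one, one_zpow]
    have hk0 : k ≠ 0 := by
      rintro rfl
      rw [pow_zero, one_mul] at ho
      rw [ho] at hpo
      exact hpm hpo
    have h2 : orderOf (h ^ (u * ((p ^ k : ℕ) : ℤ))) ≤ m := Nat.le_of_dvd (Nat.pos_of_ne_zero hm0) h1
    have h3 : m < p ^ k * m := by
      have : 1 < p ^ k := Nat.one_lt_pow hk0 hp.one_lt
      nlinarith [Nat.pos_of_ne_zero hm0]
    rw [ho]
    omega

/-- If every power of `c` of prime power order lies in `K`, so does `c`. -/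
theorem mem_of_forall_primePow_pow [Finite G] (K : Subgroup G) :
    ∀ (n : ℕ) (c : G), orderOf c = n →
      (∀ j : ℤ, (∃ q k : ℕ, q.Prime ∧ orderOf (c ^ j) ∣ q ^ k) → c ^ j ∈ K) → c ∈ K := by
  intro n
  induction n using Nat.strong_induction_on with
  | _ n ih =>
    intro c hc hall
    by_cases hc1 : c = 1
    · rw [hc1]; exact K.one_mem
    have hn1 : n ≠ 1 := by
      rintro rfl
      exact hc1 (orderOf_eq_one_iff.mp hc)
    have hq : n.minFac.Prime := Nat.minFac_prime hn1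
    have hqd : n.minFac ∣ orderOf c := by rw [hc]; exact Nat.minFac_dvd n
    obtain ⟨a, b, hab, ⟨k, hk⟩, _, hlt⟩ := exists_p_decomp c (isOfFinOrder_of_finite c) n.minFac hq
    have h1 : c ^ a ∈ K := hall a ⟨n.minFac, k, hq, hk⟩
    have h2 : c ^ b ∈ K := by
      apply ih (orderOf (c ^ b)) (by rw [← hc]; exact hlt hqd) (c ^ b) rfl
      intro j hj
      rw [← zpow_mul] at hj ⊢
      exact hall _ hj
    rw [hab]
    exact K.mul_mem h1 h2

end Cfsg.Agent.Helper8
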