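import Mathlib
import Cfsg.Prelude.Def_OddOrder
import Cfsg.Prelude.Def_LieExceptional
import Cfsg.Agent.S1473
import Cfsg.Agent.Lib.Helper8.ElemDecomp

/-!
# Minimal simple CN-groups of odd order: basic consequences of the hypotheses
-/

set_option autoImplicit false
set_option linter.style.haveILetI false
set_option linter.unusedSectionVars false

namespace Cfsg.Agent.Helper8.CNMin

universe u

open Cfsg
open scoped commutatorElement

variable {G : Type u} [Group G]

/-- The standing hypotheses. -/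
structure Hyp (G : Type u) [Group G] : Prop where
  odd : Odd (Nat.card G)
  simple : IsSimpleGroup G
  nonab : ¬ IsMulCommutative G
  solv : ∀ H : Subgroup G, H ≠ ⊤ → Group.IsSolvable H
  cn : Cfsg.IsCNGroup G

theorem Hyp.of_min (hG : Cfsg.IsMinSimpleOddOrder G) (hCN : Cfsg.IsCNGroup G) : Hyp G :=
  ⟨hG.1, hG.2.1, hG.2.2.1, hG.2.2.2, hCN⟩

theorem Hyp.finite (h : Hyp G) : Finite G := by
  have : Nat.card G ≠ 0 := fun h0 => by
    have := h.odd; rw [h0] at this; simp at this
  exact Nat.finite_of_card_ne_zero this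

theorem Hyp.normal_eq (h : Hyp G) (N : Subgroup G) [hN : N.Normal] : N = ⊥ ∨ N = ⊤ :=
  haveI := h.simple
  hN.eq_bot_or_eq_top

theorem Hyp.not_solvable (h : Hyp G) : ¬ Group.IsSolvable G := by
  intro hs
  haveI := h.simple
  apply h.nonab
  have := IsSimpleGroup.comm_iff_isSolvable.mpr hs
  exact ⟨⟨this⟩⟩

theorem Hyp.commutator_eq_top (h : Hyp G) : commutator G = ⊤ := by
  rcases h.normal_eq (commutator G) with h0 | h0
  · exfalso
    apply h.nonab
    constructor; constructor
    intro a b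
    have : ⁅a, b⁆ ∈ commutator G := Subgroup.commutator_mem_commutator (Subgroup.mem_top a)
      (Subgroup.mem_top b)
    rw [h0, Subgroup.mem_bot] at this
    rw [commutatorElement_def] at this
    calc a * b = (a * b * a⁻¹ * b⁻¹) * (b * a) := by group
      _ = b * a := by rw [this, one_mul]
  · exact h0

/-- A nontrivial `p`-subgroup is not normal. -/
theorem Hyp.normalizer_ne_top (h : Hyp G) {p : ℕ} [Fact p.Prime] (Q : Subgroup G)
    (hQ : IsPGroup p Q) (hQ1 : Q ≠ ⊥) : Subgroup.normalizer (Q : Set G) ≠ ⊤ := by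
  intro htop
  haveI : Finite G := h.finite
  haveI : Q.Normal := Subgroup.normalizer_eq_top_iff.mp htop
  rcases h.normal_eq Q with h0 | h0
  · exact hQ1 h0
  · apply h.not_solvable
    have h1 : IsPGroup p (⊤ : Subgroup G) := h0 ▸ hQ
    haveI : Group.IsNilpotent (⊤ : Subgroup G) := h1.isNilpotent
    haveI : Group.IsNilpotent G := Group.nilpotent_of_mulEquiv (Subgroup.topEquiv (G := G))
    infer_instance

/-- Every proper subgroup containing a nontrivial normal subgroup of itself... (helper): a subgroup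
normalizing a nontrivial `p`-subgroup is solvable. -/
theorem Hyp.solv_of_le_normalizer (h : Hyp G) {p : ℕ} [Fact p.Prime] (Q : Subgroup G)
    (hQ : IsPGroup p Q) (hQ1 : Q ≠ ⊥) : Group.IsSolvable ↥(Subgroup.normalizer (Q : Set G)) :=
  h.solv _ (h.normalizer_ne_top Q hQ hQ1)

/-- The CN property passes to subgroups. -/
theorem cn_subgroup (hCN : Cfsg.IsCNGroup G) (L : Subgroup G) : Cfsg.IsCNGroup ↥L := by
  intro g hg
  have hg' : (g : G) ≠ 1 := fun h0 => hg (Subtype.ext h0)
  have hn := hCN (g : G) hg'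
  let f : ↥(Subgroup.centralizer ({g} : Set ↥L)) →* ↥(Subgroup.centralizer ({(g : G)} : Set G)) :=
    { toFun := fun c => ⟨((c : ↥L) : G), by
        rw [Subgroup.mem_centralizer_singleton_iff]
        have := Subgroup.mem_centralizer_singleton_iff.mp c.2
        exact congrArg Subtype.val this⟩
      map_one' := rfl
      map_mul' := fun _ _ => rfl }
  have hf : Function.Injective f := by
    intro a b hab
    have : ((a : ↥L) : G) = ((b : ↥L) : G) :=
      congrArg (fun c : ↥(Subgroup.centralizer ({(g : G)} : Set G)) => (c : G)) hab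
    exact Subtype.ext (Subtype.ext this)
  haveI := hn
  exact Group.nilpotent_of_mulEquiv (MonoidHom.ofInjective hf).symm

variable [Finite G]

/-- If nontrivial elements of one Sylow `p`-subgroup have `p`-group centralizers, so do all
nontrivial `p`-elements. -/
theorem cent_global {p : ℕ} [Fact p.Prime] (P : Sylow p G)
    (hP : ∀ x ∈ (P : Subgroup G), x ≠ 1 → IsPGroup p (Subgroup.centralizer ({x} : Set G))) :
    ∀ x : G, x ≠ 1 → (∃ k : ℕ, x ^ p ^ k = 1) →
      IsPGroup p (Subgroup.centralizer ({x} : Set G)) := by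
  intro x hx1 hxp
  have hZ : IsPGroup p (Subgroup.zpowers x) := by
    obtain ⟨k, hk⟩ := hxp
    rintro ⟨y, hy⟩
    obtain ⟨n, rfl⟩ := Subgroup.mem_zpowers_iff.mp hy
    refine ⟨k, Subtype.ext ?_⟩
    simp only [Subgroup.coe_pow, Subgroup.coe_one]
    rw [← zpow_natCast, ← zpow_mul, mul_comm, zpow_mul, zpow_natCast, hk, one_zpow]
  obtain ⟨P', hP'⟩ := hZ.exists_le_sylow
  obtain ⟨g, hg⟩ := MulAction.exists_smul_eq G P' P
  have hgx : g * x * g⁻¹ ∈ (P : Subgroup G) := by
    rw [← hg, Sylow.coe_subgroup_smul, Subgroup.mem_pointwise_smul_iff_inv_smul_mem]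
    have : (MulAut.conj g)⁻¹ • (g * x * g⁻¹) = x := by
      simp [MulAut.smul_def, mul_assoc]
    rw [this]
    exact hP' (Subgroup.mem_zpowers x)
  have hgx1 : g * x * g⁻¹ ≠ 1 := by
    intro h0
    apply hx1
    have : x = g⁻¹ * (g * x * g⁻¹) * g := by group
    rw [this, h0]; group
  have hC := hP _ hgx hgx1
  rintro ⟨c, hc⟩
  have hc' : g * c * g⁻¹ ∈ Subgroup.centralizer ({g * x * g⁻¹} : Set G) := by
    rw [Subgroup.mem_centralizer_singleton_iff] at hc ⊢
    calc g * c * g⁻¹ * (g * x * g⁻¹) = g * (c * x) * g⁻¹ := by group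
      _ = g * (x * c) * g⁻¹ := by rw [hc]
      _ = g * x * g⁻¹ * (g * c * g⁻¹) := by group
  obtain ⟨k, hk⟩ := hC ⟨_, hc'⟩
  refine ⟨k, Subtype.ext ?_⟩
  have h1 : (g * c * g⁻¹) ^ p ^ k = 1 := by
    have := congrArg Subtype.val hk
    simpa using this
  have h2 : (g * c * g⁻¹) ^ p ^ k = g * c ^ p ^ k * g⁻¹ := by
    rw [conj_pow]
  rw [h2] at h1
  simp only [Subgroup.coe_pow, Subgroup.coe_one]
  have : c ^ p ^ k = g⁻¹ * (g * c ^ p ^ k * g⁻¹) * g := by group
  rw [this, h1]; group

/-- If a `p`-element `z` with `p`-group centralizer commutes with `x ≠ 1`, then the centralizer of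
`x` is a `p`-group. -/
theorem isPGroup_centralizer_of (hCN : Cfsg.IsCNGroup G) {p : ℕ} [hp : Fact p.Prime] {x z : G}
    (hx1 : x ≠ 1) (hzx : z * x = x * z) (hzp : ∃ k : ℕ, orderOf z ∣ p ^ k)
    (hCz : IsPGroup p (Subgroup.centralizer ({z} : Set G))) :
    IsPGroup p (Subgroup.centralizer ({x} : Set G)) := by
  have hnil := hCN x hx1
  have hzC : z ∈ Subgroup.centralizer ({x} : Set G) :=
    Subgroup.mem_centralizer_singleton_iff.mpr hzx
  rintro ⟨c, hc⟩
  obtain ⟨a, b, hab, ⟨k, hka⟩, hcb, _⟩ :=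
    Helper8.exists_p_decomp c (isOfFinOrder_of_finite c) p hp.out
  -- `c ^ b` is a `p'`-element of the centralizer, commuting with `z`
  have hcbC : c ^ b ∈ Subgroup.centralizer ({x} : Set G) := Subgroup.zpow_mem _ hc b
  obtain ⟨j, hj⟩ := hzp
  have hcomm : c ^ b * z = z * c ^ b :=
    S1473.commute_of_mem_nilpotent hnil hcbC hzC
      (Nat.Coprime.coprime_dvd_right hj (Nat.Coprime.pow_right j hcb))
  have hcbz : c ^ b ∈ Subgroup.centralizer ({z} : Set G) :=
    Subgroup.mem_centralizer_singleton_iff.mpr hcomm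
  obtain ⟨l, hl⟩ := hCz ⟨_, hcbz⟩
  have hl' : (c ^ b) ^ p ^ l = 1 := by
    have := congrArg Subtype.val hl
    simpa using this
  have hdv : orderOf (c ^ b) ∣ p ^ l := orderOf_dvd_of_pow_eq_one hl'
  have hone : orderOf (c ^ b) = 1 :=
    Nat.Coprime.eq_one_of_dvd (Nat.Coprime.pow_right l hcb) hdv
  have hcb1 : c ^ b = 1 := orderOf_eq_one_iff.mp hone
  have hca : c = c ^ a := by
    calc c = c ^ a * c ^ b := hab
      _ = c ^ a := by rw [hcb1, mul_one]
  refine ⟨k, Subtype.ext ?_⟩
  simp only [Subgroup.coe_pow, Subgroup.coe_one]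
  rw [hca]
  exact orderOf_dvd_iff_pow_eq_one.mp hka

end Cfsg.Agent.Helper8.CNMin
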