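import Mathlib
import Cfsg.Agent.S0658
import Cfsg.Agent.Lib.Helper1.Focal

set_option autoImplicit false
open Cfsg

namespace Cfsg.Agent.Helper8.ZJLocal

open Cfsg.Agent.Helper4.ZJ
open scoped commutatorElement
open Cfsg.Agent.S0658 (centerThompsonAOf_ne_bot centerThompsonAOf_le_self exists_normalizer_growth
  card_lt_of_lt exists_conj_le_sylow)

variable {G : Type*} [Group G] [Finite G] {p : ℕ} [Fact p.Prime]

section main

variable (hp : p ≠ 2)
  (hloc : ∀ Q : Subgroup G, IsPGroup p Q → Q ≠ ⊥ →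
    ∀ S : Sylow p ↥(Subgroup.normalizer (Q : Set G)),
      (Cfsg.centerThompsonAOf (S : Subgroup ↥(Subgroup.normalizer (Q : Set G)))).Normal)

include hp hloc

/-- ZJ-theorem in the local subgroup `N(Q)`. -/
theorem normalizer_le_of_sylow (Q : Subgroup G) (hQ : IsPGroup p Q) (hQ1 : Q ≠ ⊥)
    (S : Sylow p ↥(Subgroup.normalizer (Q : Set G))) :
    Subgroup.normalizer (Q : Set G) ≤ Subgroup.normalizer
      (Cfsg.centerThompsonAOf ((S : Subgroup _).map (Subgroup.normalizer (Q : Set G)).subtype) :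
        Set G) := by
  have hn := hloc Q hQ hQ1 S
  rw [centerThompsonAOf_map_of_injOn _ _ (Subgroup.subtype_injective _).injOn]
  intro n hn'
  rw [Subgroup.mem_normalizer_iff]
  intro z
  constructor
  · rintro ⟨z', hz', rfl⟩
    exact ⟨⟨n, hn'⟩ * z' * ⟨n, hn'⟩⁻¹, hn.conj_mem z' hz' ⟨n, hn'⟩, by simp⟩
  · rintro ⟨w, hw, hwz⟩
    have := hn.conj_mem w hw ⟨n, hn'⟩⁻¹
    refine ⟨_, this, ?_⟩
    simp only [inv_inv, Subgroup.subtype_apply, Subgroup.coe_mul, Subgroup.coe_inv] at hwz ⊢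
    rw [hwz]; group

theorem case_le (P : Sylow p G) (Q : Subgroup G) (hQP : Q ≤ (P : Subgroup G)) (hQ1 : Q ≠ ⊥)
    (hPN : (P : Subgroup G) ≤ Subgroup.normalizer (Q : Set G)) :
    Subgroup.normalizer (Q : Set G) ≤
      Subgroup.normalizer (Cfsg.centerThompsonAOf (P : Subgroup G) : Set G) := by
  have h := normalizer_le_of_sylow hp hloc Q (P.2.to_le hQP) hQ1 (P.subtype hPN)
  rwa [Sylow.coe_subtype, Subgroup.map_subgroupOf_eq_of_le hPN] at h

theorem main (P : Sylow p G) : ∀ n : ℕ, ∀ Q : Subgroup G, Q ≤ (P : Subgroup G) → Q ≠ ⊥ →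
    Nat.card (P : Subgroup G) ≤
      Nat.card ((P : Subgroup G) ⊓ Subgroup.normalizer (Q : Set G) : Subgroup G) + n →
    Subgroup.normalizer (Q : Set G) ≤
      Subgroup.normalizer (Cfsg.centerThompsonAOf (P : Subgroup G) : Set G) := by
  intro n
  induction n with
  | zero =>
    intro Q hQP hQ1 hcard
    apply case_le hp hloc P Q hQP hQ1
    have := Subgroup.eq_of_le_of_card_ge (inf_le_left :
      (P : Subgroup G) ⊓ Subgroup.normalizer (Q : Set G) ≤ P) (by simpa using hcard)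
    rw [← this]; exact inf_le_right
  | succ n ih =>
    intro Q hQP hQ1 hcard
    by_cases hPN : (P : Subgroup G) ≤ Subgroup.normalizer (Q : Set G)
    · exact case_le hp hloc P Q hQP hQ1 hPN
    set M := Subgroup.normalizer (Cfsg.centerThompsonAOf (P : Subgroup G) : Set G) with hM
    set R₀ : Subgroup G := (P : Subgroup G) ⊓ Subgroup.normalizer (Q : Set G) with hR₀
    have hR₀P : R₀ ≤ P := inf_le_left
    have hQR₀ : Q ≤ R₀ := le_inf hQP Subgroup.le_normalizer
    have hR₀1 : R₀ ≠ ⊥ := fun h => hQ1 (by rw [eq_bot_iff, ← h]; exact hQR₀)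
    have hR₀p : IsPGroup p R₀ := P.2.to_le hR₀P
    have hPR₀ : ¬ (P : Subgroup G) ≤ R₀ := fun h => hPN (h.trans inf_le_right)
    -- normalizer growth in `P`
    obtain ⟨x, hxP, hxN, hxR₀⟩ := exists_normalizer_growth (P : Subgroup G) R₀ P.2 hR₀P hPR₀
    have hgrow : Nat.card R₀ < Nat.card ((P : Subgroup G) ⊓ Subgroup.normalizer (R₀ : Set G) :
        Subgroup G) :=
      card_lt_of_lt (le_inf hR₀P Subgroup.le_normalizer) (Subgroup.mem_inf.2 ⟨hxP, hxN⟩) hxR₀
    have hNR₀ : Subgroup.normalizer (R₀ : Set G) ≤ M := ih R₀ hR₀P hR₀1 (by omega)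
    -- a Sylow subgroup of `N(Q)` containing `R₀`
    have hR₀' : IsPGroup p (R₀.subgroupOf (Subgroup.normalizer (Q : Set G))) :=
      hR₀p.comap_subtype
    obtain ⟨S, hS⟩ := hR₀'.exists_le_sylow
    set R : Subgroup G := (S : Subgroup _).map (Subgroup.normalizer (Q : Set G)).subtype with hR
    have hRp : IsPGroup p R := S.isPGroup'.map _
    have hRN : R ≤ Subgroup.normalizer (Q : Set G) := Subgroup.map_subtype_le _
    have hR₀R : R₀ ≤ R := by
      intro r hr
      exact ⟨⟨r, (inf_le_right : R₀ ≤ _) hr⟩, hS (Subgroup.mem_subgroupOf.mpr hr), rfl⟩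
    have hL1 := normalizer_le_of_sylow hp hloc Q (P.2.to_le hQP) hQ1 S
    rw [← hR] at hL1
    by_cases hRR : R ≤ R₀
    · -- `R₀` is a Sylow subgroup of `N(Q)`
      have hReq : R = R₀ := le_antisymm hRR hR₀R
      rw [hReq] at hL1
      set T := Cfsg.centerThompsonAOf R₀ with hT
      have hTR₀ : T ≤ R₀ := centerThompsonAOf_le_self R₀
      have hT1 : T ≠ ⊥ := centerThompsonAOf_ne_bot R₀ hR₀p hR₀1
      have hNT : Subgroup.normalizer (R₀ : Set G) ≤ Subgroup.normalizer (T : Set G) :=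
        (dataA hp).normalizer_le R₀
      have hcardT : Nat.card ((P : Subgroup G) ⊓ Subgroup.normalizer (R₀ : Set G) : Subgroup G) ≤
          Nat.card ((P : Subgroup G) ⊓ Subgroup.normalizer (T : Set G) : Subgroup G) :=
        Subgroup.card_le_of_le (inf_le_inf_left _ hNT)
      have hNTM : Subgroup.normalizer (T : Set G) ≤ M :=
        ih T (hTR₀.trans hR₀P) hT1 (by omega)
      exact hL1.trans hNTM
    · -- `R₀` is not a Sylow subgroup of `N(Q)`
      obtain ⟨y, hyR, hyN, hyR₀⟩ := exists_normalizer_growth R R₀ hRp hR₀R hRR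
      set R₂ : Subgroup G := R ⊓ Subgroup.normalizer (R₀ : Set G) with hR₂
      have hR₂p : IsPGroup p R₂ := hRp.to_le inf_le_left
      have hR₂M : R₂ ≤ M := (inf_le_right : R₂ ≤ _).trans hNR₀
      have hR₀R₂ : R₀ ≤ R₂ := le_inf hR₀R Subgroup.le_normalizer
      have hcard₂ : Nat.card R₀ < Nat.card R₂ :=
        card_lt_of_lt hR₀R₂ (Subgroup.mem_inf.2 ⟨hyR, hyN⟩) hyR₀
      have hPM : (P : Subgroup G) ≤ M :=
        Subgroup.le_normalizer.trans ((dataA hp).normalizer_le (P : Subgroup G))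
      obtain ⟨m, hmM, hm⟩ := exists_conj_le_sylow P M hPM R₂ hR₂M hR₂p
      set Q' : Subgroup G := Q.map (MulAut.conj m).toMonoidHom with hQ'
      have hQ'P : Q' ≤ P := by
        rintro _ ⟨q, hq, rfl⟩
        exact hm q (hR₀R₂ (hQR₀ hq))
      have hQ'1 : Q' ≠ ⊥ := by
        intro h
        rw [hQ', Subgroup.map_eq_bot_iff_of_injective _ (MulAut.conj m).injective] at h
        exact hQ1 h
      have hnorm : ∀ g ∈ Subgroup.normalizer (Q : Set G),
          m * g * m⁻¹ ∈ Subgroup.normalizer (Q' : Set G) := by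
        intro g hg
        exact Subgroup.le_normalizer_map (MulAut.conj m).toMonoidHom ⟨g, hg, rfl⟩
      have hle₂ : R₂.map (MulAut.conj m).toMonoidHom ≤
          (P : Subgroup G) ⊓ Subgroup.normalizer (Q' : Set G) := by
        rintro _ ⟨r, hr, rfl⟩
        exact Subgroup.mem_inf.2 ⟨hm r hr, hnorm r (hRN ((inf_le_left : R₂ ≤ R) hr))⟩
      have hcard₃ : Nat.card R₂ ≤
          Nat.card ((P : Subgroup G) ⊓ Subgroup.normalizer (Q' : Set G) : Subgroup G) := by
        have h0 : Nat.card (R₂.map (MulAut.conj m).toMonoidHom) = Nat.card R₂ :=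
          Subgroup.card_map_of_injective (f := (MulAut.conj m).toMonoidHom)
            (MulAut.conj m).injective
        rw [← h0]
        exact Subgroup.card_le_of_le hle₂
      have hNQ' : Subgroup.normalizer (Q' : Set G) ≤ M := ih Q' hQ'P hQ'1 (by omega)
      intro g hg
      have h1 : m * g * m⁻¹ ∈ M := hNQ' (hnorm g hg)
      have h2 : g = m⁻¹ * (m * g * m⁻¹) * m := by group
      rw [h2]
      exact M.mul_mem (M.mul_mem (M.inv_mem hmM) h1) hmM

end main

/-- local subgroups lie in `N(Z(J(P)))`, given the `ZJ`-theorem in every `p`-local subgroup. -/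
theorem local_le (hp : p ≠ 2)
    (hloc : ∀ Q : Subgroup G, IsPGroup p Q → Q ≠ ⊥ →
      ∀ S : Sylow p ↥(Subgroup.normalizer (Q : Set G)),
        (Cfsg.centerThompsonAOf (S : Subgroup ↥(Subgroup.normalizer (Q : Set G)))).Normal)
    (P : Sylow p G) (Q : Subgroup G) (hQP : Q ≤ (P : Subgroup G)) (hQ1 : Q ≠ ⊥) :
    Subgroup.normalizer (Q : Set G) ≤
      Subgroup.normalizer (Cfsg.centerThompsonAOf (P : Subgroup G) : Set G) :=
  main hp hloc P (Nat.card (P : Subgroup G)) Q hQP hQ1 (Nat.le_add_left _ _)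

/-- A subgroup containing `P` and all normalizers of nontrivial subgroups of `P` controls fusion
in `P` in the strongest sense. -/
theorem mem_of_conj_mem (P : Sylow p G) (N : Subgroup G) (hPN : (P : Subgroup G) ≤ N)
    (hloc : ∀ Q : Subgroup G, Q ≤ (P : Subgroup G) → Q ≠ ⊥ →
      Subgroup.normalizer (Q : Set G) ≤ N)
    {x g : G} (hx : x ∈ (P : Subgroup G)) (hx1 : x ≠ 1)
    (hgx : g * x * g⁻¹ ∈ (P : Subgroup G)) : g ∈ N := by
  set R : Subgroup G := (P : Subgroup G).map (MulAut.conj g).toMonoidHom with hR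
  have hRp : IsPGroup p R := P.2.map _
  have hyR : g * x * g⁻¹ ∈ R := ⟨x, hx, by simp [MulAut.conj_apply]⟩
  have hy1 : g * x * g⁻¹ ≠ 1 := by
    intro h
    apply hx1
    have : x = g⁻¹ * (g * x * g⁻¹) * g := by group
    rw [this, h]; group
  have hP1 : (P : Subgroup G) ≠ ⊥ := by
    intro h
    rw [h, Subgroup.mem_bot] at hx
    exact hx1 hx
  -- `R ≤ N`
  have hRN : R ≤ N := by
    by_contra hcon
    set R₀ : Subgroup G := R ⊓ N with hR₀
    have hne : ¬ R ≤ R₀ := fun h => hcon (h.trans inf_le_right)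
    obtain ⟨r, hrR, hrN, hrR₀⟩ := exists_normalizer_growth R R₀ hRp inf_le_left hne
    have hR₀p : IsPGroup p R₀ := hRp.to_le inf_le_left
    obtain ⟨m, hmN, hm⟩ := exists_conj_le_sylow P N hPN R₀ inf_le_right hR₀p
    set Q' : Subgroup G := R₀.map (MulAut.conj m).toMonoidHom with hQ'
    have hQ'P : Q' ≤ P := by
      rintro _ ⟨q, hq, rfl⟩
      exact hm q hq
    have hQ'1 : Q' ≠ ⊥ := by
      intro h
      rw [hQ', Subgroup.map_eq_bot_iff_of_injective _ (MulAut.conj m).injective] at h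
      have : g * x * g⁻¹ ∈ R₀ := Subgroup.mem_inf.2 ⟨hyR, hPN hgx⟩
      rw [h, Subgroup.mem_bot] at this
      exact hy1 this
    have h1 : m * r * m⁻¹ ∈ Subgroup.normalizer (Q' : Set G) :=
      Subgroup.le_normalizer_map (MulAut.conj m).toMonoidHom ⟨r, hrN, rfl⟩
    have h2 : m * r * m⁻¹ ∈ N := hloc Q' hQ'P hQ'1 h1
    have h3 : r ∈ N := by
      have : r = m⁻¹ * (m * r * m⁻¹) * m := by group
      rw [this]
      exact N.mul_mem (N.mul_mem (N.inv_mem hmN) h2) hmN
    exact hrR₀ (Subgroup.mem_inf.2 ⟨hrR, h3⟩)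
  obtain ⟨m, hmN, hm⟩ := exists_conj_le_sylow P N hPN R hRN hRp
  have hle : (P : Subgroup G).map (MulAut.conj (m * g)).toMonoidHom ≤ P := by
    rintro _ ⟨s, hs, rfl⟩
    have h1 : g * s * g⁻¹ ∈ R := ⟨s, hs, by simp [MulAut.conj_apply]⟩
    have h2 := hm _ h1
    have : (MulAut.conj (m * g)).toMonoidHom s = m * (g * s * g⁻¹) * m⁻¹ := by
      simp [MulAut.conj_apply, mul_assoc]
    rw [this]; exact h2
  have heq : (P : Subgroup G).map (MulAut.conj (m * g)).toMonoidHom = P := by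
    apply Subgroup.eq_of_le_of_card_ge hle
    rw [Subgroup.card_map_of_injective (f := (MulAut.conj (m * g)).toMonoidHom)
      (MulAut.conj (m * g)).injective]
  have hmg : m * g ∈ Subgroup.normalizer ((P : Subgroup G) : Set G) :=
    Subgroup.mem_normalizer_iff_map_conj_eq.2 heq
  have hmgN : m * g ∈ N := hloc P le_rfl hP1 hmg
  have : g = m⁻¹ * (m * g) := by group
  rw [this]
  exact N.mul_mem (N.inv_mem hmN) hmgN

/-- With strong fusion control and `G` perfect, the Sylow subgroup lies in the derived subgroup of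
the controlling subgroup. -/
theorem sylow_le_commutator (P : Sylow p G) (N : Subgroup G) (hPN : (P : Subgroup G) ≤ N)
    (hfus : ∀ x ∈ (P : Subgroup G), x ≠ 1 → ∀ g : G, g * x * g⁻¹ ∈ (P : Subgroup G) → g ∈ N)
    (hperf : commutator G = ⊤) : (P : Subgroup G) ≤ ⁅N, N⁆ := by
  have h := Subgroup.commutator_inf_eq_focalSubgroup P
  rw [hperf, top_inf_eq] at h
  rw [h]
  apply Cfsg.Agent.Helper1.focalSubgroup_le_of_forall
  intro x hx u hu
  by_cases hx1 : x = 1
  · rw [hx1]; simp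
  have huN : u ∈ N := hfus x hx hx1 u hu
  have : x * (u * x * u⁻¹)⁻¹ = ⁅x, u⁆ := by rw [commutatorElement_def]; group
  rw [this]
  exact Subgroup.commutator_mem_commutator (hPN hx) huN

end Cfsg.Agent.Helper8.ZJLocal
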