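import Mathlib
import Cfsg.Agent.Lib.Helper8.CNMinBasic
import Cfsg.Agent.Lib.Helper8.ZJLocal
import Cfsg.Agent.Lib.Helper8.OddStable
import Cfsg.Agent.Lib.Helper16.Solvable2

/-!
# Minimal simple CN-groups of odd order: `p`-local analysis when `p`-elements have `p`-group
centralizers
-/

set_option autoImplicit false
set_option linter.style.haveILetI false
set_option linter.unusedSectionVars false

namespace Cfsg.Agent.Helper8.CNMin

universe u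

open Cfsg

variable {G : Type u} [Group G] [Finite G] {p : ℕ} [hpp : Fact p.Prime]

/-- Every nontrivial `p`-element has a `p`-group as centralizer. -/
def PCent (p : ℕ) (G : Type u) [Group G] : Prop :=
  ∀ x : G, x ≠ 1 → (∃ k : ℕ, x ^ p ^ k = 1) → IsPGroup p (Subgroup.centralizer ({x} : Set G))

theorem pPrimeCore_normalizer_eq_bot (hc : PCent p G) (Q : Subgroup G) (hQ : IsPGroup p Q)
    (hQ1 : Q ≠ ⊥) : Cfsg.pPrimeCore p ↥(Subgroup.normalizer (Q : Set G)) = ⊥ := by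
  unfold Cfsg.pPrimeCore
  rw [sSup_eq_bot]
  set N := Subgroup.normalizer (Q : Set G) with hN
  rintro K ⟨hKn, hKc⟩
  haveI := hKn
  obtain ⟨⟨x, hxQ⟩, hx1'⟩ := (Subgroup.ne_bot_iff_exists_ne_one).mp hQ1
  have hx1 : x ≠ 1 := fun h0 => hx1' (Subtype.ext h0)
  have hxN : x ∈ N := Subgroup.le_normalizer hxQ
  have hxp : ∃ k : ℕ, x ^ p ^ k = 1 := by
    obtain ⟨k, hk⟩ := hQ ⟨x, hxQ⟩
    exact ⟨k, by simpa using congrArg Subtype.val hk⟩
  have hCx := hc x hx1 hxp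
  -- `Q` as a normal `p`-subgroup of `N`
  set Q' : Subgroup ↥N := Q.subgroupOf N with hQ'
  have hQ'p : IsPGroup p Q' := hQ.comap_subtype
  have hcop : (Nat.card K).Coprime (Nat.card Q') := by
    obtain ⟨n, hn⟩ := IsPGroup.iff_card.mp hQ'p
    rw [hn]; exact Nat.Coprime.pow_right n hKc
  have hdisj : K ⊓ Q' = ⊥ := Subgroup.inf_eq_bot_of_coprime hcop
  rw [eq_bot_iff]
  intro k hk
  rw [Subgroup.mem_bot]
  -- `k` commutes with `x`
  have hcomm : k * ⟨x, hxN⟩ * k⁻¹ * (⟨x, hxN⟩ : ↥N)⁻¹ = 1 := by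
    have h1 : k * ⟨x, hxN⟩ * k⁻¹ * (⟨x, hxN⟩ : ↥N)⁻¹ ∈ K := by
      have h2 : (⟨x, hxN⟩ : ↥N) * k⁻¹ * (⟨x, hxN⟩ : ↥N)⁻¹ ∈ K :=
        hKn.conj_mem _ (K.inv_mem hk) _
      have h3 : k * ⟨x, hxN⟩ * k⁻¹ * (⟨x, hxN⟩ : ↥N)⁻¹
          = k * ((⟨x, hxN⟩ : ↥N) * k⁻¹ * (⟨x, hxN⟩ : ↥N)⁻¹) := by group
      rw [h3]; exact K.mul_mem hk h2
    have h4 : k * ⟨x, hxN⟩ * k⁻¹ * (⟨x, hxN⟩ : ↥N)⁻¹ ∈ Q' := by
      rw [hQ', Subgroup.mem_subgroupOf]
      have h5 : (k : G) * x * (k : G)⁻¹ ∈ Q := by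
        have := Subgroup.mem_normalizer_iff.mp k.2
        exact (this x).mp hxQ
      have : ((k * ⟨x, hxN⟩ * k⁻¹ * (⟨x, hxN⟩ : ↥N)⁻¹ : ↥N) : G)
          = (k : G) * x * (k : G)⁻¹ * x⁻¹ := by simp
      rw [this]
      exact Q.mul_mem h5 (Q.inv_mem hxQ)
    have h6 : k * ⟨x, hxN⟩ * k⁻¹ * (⟨x, hxN⟩ : ↥N)⁻¹ ∈ K ⊓ Q' := Subgroup.mem_inf.2 ⟨h1, h4⟩
    rw [hdisj, Subgroup.mem_bot] at h6
    exact h6
  have hkC : (k : G) ∈ Subgroup.centralizer ({x} : Set G) := by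
    rw [Subgroup.mem_centralizer_singleton_iff]
    have h7 := congrArg (fun y : ↥N => (y : G)) hcomm
    simp only [Subgroup.coe_mul, Subgroup.coe_inv, Subgroup.coe_one] at h7
    calc (k : G) * x = ((k : G) * x * (k : G)⁻¹ * x⁻¹) * (x * (k : G)) := by group
      _ = x * (k : G) := by rw [h7, one_mul]
  obtain ⟨j, hj⟩ := hCx ⟨_, hkC⟩
  have hj' : (k : G) ^ p ^ j = 1 := by simpa using congrArg Subtype.val hj
  have hkj : k ^ p ^ j = 1 := Subtype.ext (by simpa using hj')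
  have hd1 : orderOf k ∣ p ^ j := orderOf_dvd_of_pow_eq_one hkj
  have hd2 : orderOf k ∣ Nat.card K := by
    have := orderOf_dvd_natCard (⟨k, hk⟩ : K)
    rwa [Subgroup.orderOf_mk] at this
  have hone : orderOf k = 1 :=
    Nat.Coprime.eq_one_of_dvd (Nat.Coprime.coprime_dvd_left hd2 (Nat.Coprime.pow_right j hKc)) hd1
  exact orderOf_eq_one_iff.mp hone

/-- The `ZJ`-theorem in every `p`-local subgroup. -/
theorem zj_normal_local (h : Hyp G) (hp2 : p ≠ 2) (hc : PCent p G) (Q : Subgroup G)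
    (hQ : IsPGroup p Q) (hQ1 : Q ≠ ⊥) (S : Sylow p ↥(Subgroup.normalizer (Q : Set G))) :
    (Cfsg.centerThompsonAOf (S : Subgroup ↥(Subgroup.normalizer (Q : Set G)))).Normal := by
  have hsol := h.solv_of_le_normalizer Q hQ hQ1
  have hO := pPrimeCore_normalizer_eq_bot hc Q hQ hQ1
  have hcent := Cfsg.Agent.Helper16.centralizer_pCore_le_of_isSolvable p hsol hO
  have hodd : Odd (Nat.card ↥(Subgroup.normalizer (Q : Set G))) :=
    Odd.of_dvd_nat h.odd (Subgroup.card_subgroup_dvd_card _)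
  exact Cfsg.Agent.Helper4.ZJ.Z_normal (Cfsg.Agent.Helper4.ZJ.dataA hp2) S
    (Cfsg.Agent.Helper8.OddStable.stab_of_odd hodd hp2) hcent

/-- `N(Z(J(P)))`. -/
abbrev NZJ (P : Sylow p G) : Subgroup G :=
  Subgroup.normalizer (Cfsg.centerThompsonAOf (P : Subgroup G) : Set G)

theorem sylow_le_NZJ (hp2 : p ≠ 2) (P : Sylow p G) : (P : Subgroup G) ≤ NZJ P :=
  Subgroup.le_normalizer.trans ((Cfsg.Agent.Helper4.ZJ.dataA hp2).normalizer_le (P : Subgroup G))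

theorem local_le (h : Hyp G) (hp2 : p ≠ 2) (hc : PCent p G) (P : Sylow p G) (Q : Subgroup G)
    (hQP : Q ≤ (P : Subgroup G)) (hQ1 : Q ≠ ⊥) : Subgroup.normalizer (Q : Set G) ≤ NZJ P :=
  ZJLocal.local_le hp2 (fun Q hQ hQ1 S => zj_normal_local h hp2 hc Q hQ hQ1 S) P Q hQP hQ1

theorem fusion (h : Hyp G) (hp2 : p ≠ 2) (hc : PCent p G) (P : Sylow p G) {x g : G}
    (hx : x ∈ (P : Subgroup G)) (hx1 : x ≠ 1) (hgx : g * x * g⁻¹ ∈ (P : Subgroup G)) :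
    g ∈ NZJ P :=
  ZJLocal.mem_of_conj_mem P (NZJ P) (sylow_le_NZJ hp2 P)
    (fun Q hQP hQ1 => local_le h hp2 hc P Q hQP hQ1) hx hx1 hgx

theorem sylow_le_commutator (h : Hyp G) (hp2 : p ≠ 2) (hc : PCent p G) (P : Sylow p G) :
    (P : Subgroup G) ≤ ⁅NZJ P, NZJ P⁆ :=
  ZJLocal.sylow_le_commutator P (NZJ P) (sylow_le_NZJ hp2 P)
    (fun _ hx hx1 _ hgx => fusion h hp2 hc P hx hx1 hgx) h.commutator_eq_top

end Cfsg.Agent.Helper8.CNMin
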