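import Mathlib

set_option autoImplicit false

namespace Cfsg.Agent.Helper8

/-- A subgroup whose order is coprime to the index of a normal subgroup lies in it. -/
theorem le_of_coprime_index_of_normal {G : Type*} [Group G] [Finite G] (N K : Subgroup G) [N.Normal]
    (h : (Nat.card K).Coprime N.index) : K ≤ N := by
  intro k hk
  have h1 : orderOf (QuotientGroup.mk' N k) ∣ Nat.card K := by
    have h2 : orderOf (QuotientGroup.mk' N k) ∣ orderOf k := orderOf_map_dvd _ k
    have h3 : orderOf (⟨k, hk⟩ : K) ∣ Nat.card K := orderOf_dvd_natCard _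
    rw [Subgroup.orderOf_mk] at h3
    exact h2.trans h3
  have h4 : orderOf (QuotientGroup.mk' N k) ∣ N.index := by
    rw [Subgroup.index_eq_card]
    exact orderOf_dvd_natCard _
  have h5 : orderOf (QuotientGroup.mk' N k) = 1 := Nat.eq_one_of_dvd_coprimes h h1 h4
  rw [orderOf_eq_one_iff] at h5
  exact (QuotientGroup.eq_one_iff k).mp h5

/-- Relative version: inside a subgroup `C`, if `N` is normalized by `C` with complement `M`
(`N ⊓ M = ⊥`, `N ⊔ M = C`) and `K ≤ C` has order coprime to that of `M`, then `K ≤ N`. -/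
theorem le_of_coprime_of_normal_rel {G : Type*} [Group G] [Finite G] (C N M K : Subgroup G)
    (hN : N ≤ C) (hM : M ≤ C) (hK : K ≤ C)
    (hnorm : ∀ c ∈ C, ∀ u ∈ N, c * u * c⁻¹ ∈ N) (hinf : N ⊓ M = ⊥) (hsup : N ⊔ M = C)
    (hcop : (Nat.card K).Coprime (Nat.card M)) : K ≤ N := by
  have : (N.subgroupOf C).Normal := by
    constructor
    intro n hn g
    rw [Subgroup.mem_subgroupOf] at hn ⊢
    simpa using hnorm g.1 g.2 n.1 hn
  have hidx : (N.subgroupOf C).index = Nat.card M := by
    have h1 : N.subgroupOf C ⊔ M.subgroupOf C = ⊤ := by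
      rw [← Subgroup.subgroupOf_sup hN hM, hsup, Subgroup.subgroupOf_self]
    have h2 : N.subgroupOf C ⊓ M.subgroupOf C = ⊥ := by
      ext x
      simp only [Subgroup.mem_inf, Subgroup.mem_subgroupOf, Subgroup.mem_bot]
      constructor
      · rintro ⟨h1, h2⟩
        have : (x : G) ∈ N ⊓ M := ⟨h1, h2⟩
        rw [hinf, Subgroup.mem_bot] at this
        exact Subtype.ext this
      · rintro rfl
        exact ⟨N.one_mem, M.one_mem⟩
    rw [← Subgroup.relIndex_top_right, ← h1, Subgroup.relIndex_sup_left,
      ← Subgroup.inf_relIndex_right, h2, Subgroup.relIndex_bot_left]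
    exact Nat.card_congr (Subgroup.subgroupOfEquivOfLe hM).toEquiv
  have hcard : Nat.card (K.subgroupOf C) = Nat.card K :=
    Nat.card_congr (Subgroup.subgroupOfEquivOfLe hK).toEquiv
  have hle : K.subgroupOf C ≤ N.subgroupOf C := by
    apply le_of_coprime_index_of_normal
    rw [hcard, hidx]
    exact hcop
  intro k hk
  have : (⟨k, hK hk⟩ : C) ∈ N.subgroupOf C := hle (by rw [Subgroup.mem_subgroupOf]; exact hk)
  rwa [Subgroup.mem_subgroupOf] at this

/-- A normal subgroup with a complement has index equal to the order of the complement. -/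
theorem index_eq_card_of_normal_compl {G : Type*} [Group G] (N M : Subgroup G) [N.Normal]
    (hinf : N ⊓ M = ⊥) (hsup : N ⊔ M = ⊤) : N.index = Nat.card M := by
  rw [← Subgroup.relIndex_top_right, ← hsup, Subgroup.relIndex_sup_left,
    ← Subgroup.inf_relIndex_right, hinf, Subgroup.relIndex_bot_left]

/-- `u ^ |K| = 1` for `u ∈ K`. -/
theorem pow_card_of_mem {G : Type*} [Group G] (K : Subgroup G) (u : G) (hu : u ∈ K) :
    u ^ Nat.card K = 1 := by
  have h : (⟨u, hu⟩ : K) ^ Nat.card K = 1 := pow_card_eq_one'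
  have h2 := congrArg Subtype.val h
  rw [Subgroup.coe_pow, Subgroup.coe_one] at h2
  exact h2

/-- order of an element of a subgroup divides the order of the subgroup -/
theorem orderOf_dvd_card_of_mem {G : Type*} [Group G] (K : Subgroup G) (u : G) (hu : u ∈ K) :
    orderOf u ∣ Nat.card K := by
  have := orderOf_dvd_natCard (⟨u, hu⟩ : K)
  rwa [Subgroup.orderOf_mk] at this

end Cfsg.Agent.Helper8
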