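import Mathlib

/-!
# A Frobenius group acting on an abelian group (helper8 library)

`frob_action_fixed`: if `Q ⋊ R` acts on a finite abelian normal subgroup `V` of order prime to `|Q|`,
every non-identity element of `R` acts fixed-point-freely on `Q`, and `C_V(Q) = 1 = C_V(R)`, then
`V = 1`.  (Equivalently: `C_V(Q) = 1` and `V ≠ 1` force `C_V(R) ≠ 1`.)
-/

set_option autoImplicit false

namespace Cfsg.Agent.Helper8

open scoped IsMulCommutative

section

variable {G : Type*} [Group G] [Finite G]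

/-- The product of the conjugates of `w` under a subgroup `A` is fixed by `A`. -/
theorem norm_conj_fixed (V A : Subgroup G) [V.Normal] [IsMulCommutative V] [Fintype A] (w : V)
    (a : G) (ha : a ∈ A) :
    MulAut.conjNormal a (∏ x : A, MulAut.conjNormal (x : G) w) = ∏ x : A, MulAut.conjNormal (x : G) w := by
  rw [map_prod]
  have hbij : Function.Bijective (fun x : A => (⟨a, ha⟩ : A) * x) :=
    (Equiv.mulLeft (⟨a, ha⟩ : A)).bijective
  rw [← hbij.prod_comp (fun x : A => MulAut.conjNormal (x : G) w)]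
  apply Finset.prod_congr rfl
  intro x _
  change MulAut.conjNormal a (MulAut.conjNormal (x : G) w) = MulAut.conjNormal ((a * x : G)) w
  rw [map_mul]; rfl

/-- If `C_V(A) = 1`, the product of the `A`-conjugates of any `w ∈ V` is trivial. -/
theorem norm_conj_eq_one (V A : Subgroup G) [V.Normal] [IsMulCommutative V] [Fintype A]
    (hVA : V ⊓ Subgroup.centralizer (A : Set G) = ⊥) (w : V) :
    ∏ x : A, MulAut.conjNormal (x : G) w = 1 := by
  set n : V := ∏ x : A, MulAut.conjNormal (x : G) w with hn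
  have hmem : (n : G) ∈ V ⊓ Subgroup.centralizer (A : Set G) := by
    refine Subgroup.mem_inf.mpr ⟨n.2, ?_⟩
    rw [Subgroup.mem_centralizer_iff]
    intro a ha
    have h1 := norm_conj_fixed V A w a ha
    have h2 : a * (n : G) * a⁻¹ = (n : G) := by
      have := congrArg Subtype.val h1
      rwa [MulAut.conjNormal_apply] at this
    calc a * (n : G) = (a * (n : G) * a⁻¹) * a := by group
      _ = (n : G) * a := by rw [h2]
  rw [hVA, Subgroup.mem_bot] at hmem
  exact Subtype.ext hmem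

/-- **Frobenius action lemma.** -/
theorem frob_action_fixed (V Q R : Subgroup G) [V.Normal] [IsMulCommutative V]
    (hRQ : ∀ z ∈ R, ∀ x ∈ Q, z * x * z⁻¹ ∈ Q)
    (hfpf : ∀ z ∈ R, z ≠ 1 → ∀ x ∈ Q, z * x = x * z → x = 1)
    (hcop : (Nat.card V).Coprime (Nat.card Q))
    (hVQ : V ⊓ Subgroup.centralizer (Q : Set G) = ⊥)
    (hVR : V ⊓ Subgroup.centralizer (R : Set G) = ⊥) : V = ⊥ := by
  classical
  letI : Fintype Q := Fintype.ofFinite Q
  letI : Fintype R := Fintype.ofFinite R
  rw [eq_bot_iff]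
  intro v0 hv0
  rw [Subgroup.mem_bot]
  set v : V := ⟨v0, hv0⟩ with hv
  -- the double product
  have h1 : ∏ x : Q, ∏ z : R, MulAut.conjNormal ((x : G) * (z : G) * (x : G)⁻¹) v = 1 := by
    apply Finset.prod_eq_one
    intro x _
    have h2 : ∀ z : R, MulAut.conjNormal ((x : G) * (z : G) * (x : G)⁻¹) v
        = MulAut.conjNormal (x : G) (MulAut.conjNormal (z : G) (MulAut.conjNormal ((x : G)⁻¹) v)) := by
      intro z
      rw [map_mul, map_mul]; rfl
    simp only [h2]
    rw [← map_prod, norm_conj_eq_one V R hVR, map_one]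
  rw [Finset.prod_comm] at h1
  have h3 : ∀ z : R, z ≠ 1 →
      ∏ x : Q, MulAut.conjNormal ((x : G) * (z : G) * (x : G)⁻¹) v = 1 := by
    intro z hz
    have hz1 : (z : G) ≠ 1 := fun h => hz (Subtype.ext h)
    -- φ x = x z x⁻¹ z⁻¹ ∈ Q
    have hφmem : ∀ x : Q, (x : G) * (z : G) * (x : G)⁻¹ * (z : G)⁻¹ ∈ Q := by
      intro x
      have h4 : (z : G) * (x : G)⁻¹ * (z : G)⁻¹ ∈ Q := hRQ z z.2 _ (Q.inv_mem x.2)
      have h5 : (x : G) * (z : G) * (x : G)⁻¹ * (z : G)⁻¹
          = (x : G) * ((z : G) * (x : G)⁻¹ * (z : G)⁻¹) := by group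
      rw [h5]; exact Q.mul_mem x.2 h4
    set φ : Q → Q := fun x => ⟨(x : G) * (z : G) * (x : G)⁻¹ * (z : G)⁻¹, hφmem x⟩ with hφ
    have hφinj : Function.Injective φ := by
      intro x x' hxx
      have h6 : (x : G) * (z : G) * (x : G)⁻¹ * (z : G)⁻¹
          = (x' : G) * (z : G) * (x' : G)⁻¹ * (z : G)⁻¹ := congrArg Subtype.val hxx
      have h7 : (z : G) * ((x' : G)⁻¹ * (x : G)) = ((x' : G)⁻¹ * (x : G)) * (z : G) := by
        have h8 : (x : G) * (z : G) * (x : G)⁻¹ = (x' : G) * (z : G) * (x' : G)⁻¹ := by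
          calc (x : G) * (z : G) * (x : G)⁻¹
              = ((x : G) * (z : G) * (x : G)⁻¹ * (z : G)⁻¹) * (z : G) := by group
            _ = ((x' : G) * (z : G) * (x' : G)⁻¹ * (z : G)⁻¹) * (z : G) := by rw [h6]
            _ = (x' : G) * (z : G) * (x' : G)⁻¹ := by group
        calc (z : G) * ((x' : G)⁻¹ * (x : G))
            = (x' : G)⁻¹ * ((x' : G) * (z : G) * (x' : G)⁻¹) * (x : G) := by group
          _ = (x' : G)⁻¹ * ((x : G) * (z : G) * (x : G)⁻¹) * (x : G) := by rw [h8]
          _ = ((x' : G)⁻¹ * (x : G)) * (z : G) := by group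
      have h9 := hfpf z z.2 hz1 ((x' : G)⁻¹ * (x : G)) (Q.mul_mem (Q.inv_mem x'.2) x.2) h7
      apply Subtype.ext
      calc (x : G) = (x' : G) * ((x' : G)⁻¹ * (x : G)) := by group
        _ = (x' : G) := by rw [h9, mul_one]
    have hφbij : Function.Bijective φ := (Finite.injective_iff_bijective).mp hφinj
    have h10 : ∀ x : Q, MulAut.conjNormal ((x : G) * (z : G) * (x : G)⁻¹) v
        = MulAut.conjNormal ((φ x : Q) : G) (MulAut.conjNormal (z : G) v) := by
      intro x
      rw [← MulAut.mul_apply, ← map_mul]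
      congr 2
      change (x : G) * (z : G) * (x : G)⁻¹ = ((x : G) * (z : G) * (x : G)⁻¹ * (z : G)⁻¹) * (z : G)
      group
    simp only [h10]
    rw [hφbij.prod_comp (fun x : Q => MulAut.conjNormal (x : G) (MulAut.conjNormal (z : G) v))]
    exact norm_conj_eq_one V Q hVQ _
  rw [Fintype.prod_eq_single (1 : R) h3] at h1
  have h11 : ∀ x : Q, MulAut.conjNormal ((x : G) * ((1 : R) : G) * (x : G)⁻¹) v = v := by
    intro x
    have : (x : G) * ((1 : R) : G) * (x : G)⁻¹ = 1 := by
      rw [Subgroup.coe_one]; group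
    rw [this, map_one]; rfl
  simp only [h11, Finset.prod_const, Finset.card_univ] at h1
  -- v ^ |Q| = 1 and v ^ |V| = 1
  have h12 : v ^ Nat.card V = 1 := pow_card_eq_one'
  have h13 : v ^ Nat.card Q = 1 := by rw [Nat.card_eq_fintype_card]; exact h1
  have h14 : orderOf v ∣ 1 := by
    rw [← Nat.Coprime.gcd_eq_one hcop]
    exact Nat.dvd_gcd (orderOf_dvd_of_pow_eq_one h12) (orderOf_dvd_of_pow_eq_one h13)
  have h15 : v = 1 := orderOf_eq_one_iff.mp (Nat.dvd_one.mp h14)
  exact congrArg Subtype.val h15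

end

end Cfsg.Agent.Helper8
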