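import Mathlib
import Cfsg.Agent.S1473
import Cfsg.Agent.S1474
import Cfsg.Agent.S0016
import Cfsg.Agent.S0040
import Cfsg.Agent.Lib.Helper8.Basic
import Cfsg.Agent.Lib.Helper8.PGroup
import Cfsg.Agent.Lib.Helper8.ElemDecomp
import Cfsg.Agent.Lib.Helper7.Fitting
import Cfsg.Agent.Lib.Helper7.Coprime
import Cfsg.Agent.Lib.Helper1.FittingSolvable
import Cfsg.Agent.Lib.Helper1.Coprime
import Cfsg.Agent.Lib.Helper1.Complement
import Cfsg.Agent.Lib.Helper1.FpfAction
import Cfsg.Agent.Lib.Helper1.SolvableBasic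

/-!
# Solvable CN-groups

Tools for the trichotomy of solvable CN-groups (nilpotent / Frobenius / three-step).
-/

set_option autoImplicit false
set_option linter.style.haveILetI false
set_option linter.unusedSectionVars false

namespace Cfsg.Agent.Helper8.CNSolv

universe u

open scoped Pointwise

/-- In a finite nilpotent group, for a finset of primes all of whose Sylow subgroups are cyclic there
is an element whose order is the product of the corresponding Sylow orders. -/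
theorem exists_orderOf_eq_prod {X : Type u} [Group X] [Finite X] [Group.IsNilpotent X]
    (s : Finset ℕ) (hs : ∀ q ∈ s, q.Prime)
    (hcyc : ∀ q ∈ s, ∀ (_ : Fact q.Prime) (P : Sylow q X), IsCyclic P) :
    ∃ g : X, orderOf g = ∏ q ∈ s, q ^ (Nat.card X).factorization q := by
  classical
  induction s using Finset.induction_on with
  | empty => exact ⟨1, by simp⟩
  | insert q s hqs ih =>
    obtain ⟨g, hg⟩ := ih (fun r hr => hs r (Finset.mem_insert_of_mem hr))
      (fun r hr => hcyc r (Finset.mem_insert_of_mem hr))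
    have hq : q.Prime := hs q (Finset.mem_insert_self q s)
    haveI : Fact q.Prime := ⟨hq⟩
    obtain ⟨P⟩ : Nonempty (Sylow q X) := inferInstance
    haveI : IsCyclic P := hcyc q (Finset.mem_insert_self q s) ⟨hq⟩ P
    obtain ⟨h, hh⟩ := IsCyclic.exists_generator (α := P)
    have hord : orderOf (h : X) = q ^ (Nat.card X).factorization q := by
      rw [Subgroup.orderOf_coe, orderOf_eq_card_of_forall_mem_zpowers hh, Sylow.card_eq_multiplicity]
    have hcop : (orderOf g).Coprime (orderOf (h : X)) := by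
      rw [hg, hord]
      apply Nat.Coprime.prod_left
      intro r hr
      apply Nat.Coprime.pow
      have hrp : r.Prime := hs r (Finset.mem_insert_of_mem hr)
      rw [Nat.coprime_primes hrp hq]
      rintro rfl
      exact hqs hr
    have hcomm : Commute g (h : X) :=
      Cfsg.Agent.S1473.commute_of_coprime_nilpotent X g h (isOfFinOrder_of_finite _)
        (isOfFinOrder_of_finite _) hcop
    refine ⟨g * h, ?_⟩
    rw [hcomm.orderOf_mul_eq_mul_orderOf_of_coprime hcop, hg, hord, Finset.prod_insert hqs, mul_comm]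


/-- A group isomorphic to a generalized quaternion group that is also a `q`-group forces `q = 2`. -/
theorem eq_two_of_quaternion {P : Type*} [Group P] {q : ℕ} (hq : q.Prime) (hP : IsPGroup q P)
    {n : ℕ} (e : P ≃* QuaternionGroup (2 ^ n)) : q = 2 := by
  have hcard : Nat.card P = 4 * 2 ^ n := by
    rw [Nat.card_congr e.toEquiv, Nat.card_eq_fintype_card, QuaternionGroup.card]
  haveI : Finite P := Nat.finite_of_card_ne_zero (by rw [hcard]; positivity)
  haveI : Fact q.Prime := ⟨hq⟩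
  obtain ⟨k, hk⟩ := hP.exists_card_eq
  have h2 : 2 ∣ q ^ k := by
    rw [← hk, hcard]
    exact Dvd.dvd.mul_right (by norm_num) _
  have := (Nat.prime_dvd_prime_iff_eq Nat.prime_two hq).mp (Nat.Prime.dvd_of_dvd_pow Nat.prime_two h2)
  exact this.symm

theorem card_eq_prod_primeFactors (n : ℕ) (hn : n ≠ 0) :
    ∏ q ∈ n.primeFactors, q ^ n.factorization q = n := by
  rw [← Nat.prod_factorization_eq_prod_primeFactors (fun q k => q ^ k)]
  exact Nat.prod_factorization_pow_eq_self hn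

/-- A finite nilpotent group all of whose Sylow subgroups are cyclic is cyclic. -/
theorem isCyclic_of_sylow_cyclic {X : Type u} [Group X] [Finite X] [Group.IsNilpotent X]
    (hcyc : ∀ (q : ℕ) (_ : Fact q.Prime) (P : Sylow q X), IsCyclic P) : IsCyclic X := by
  obtain ⟨g, hg⟩ := exists_orderOf_eq_prod (X := X) (Nat.card X).primeFactors
    (fun q hq => Nat.prime_of_mem_primeFactors hq) (fun q _ hq P => hcyc q hq P)
  rw [card_eq_prod_primeFactors _ Nat.card_pos.ne'] at hg
  exact isCyclic_of_orderOf_eq_card g hg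

theorem cyclic_or_cyclic_quaternion {G : Type u} [Group G] [Finite G] (E : Subgroup G)
    (hE : Group.IsNilpotent E)
    (hsyl : ∀ (q : ℕ) (_ : Fact q.Prime) (P : Sylow q E),
      IsCyclic P ∨ ∃ n : ℕ, Nonempty (P ≃* QuaternionGroup (2 ^ n))) :
    IsCyclic E ∨ ∃ C Q : Subgroup G, C ⊔ Q = E ∧ (∀ a ∈ C, ∀ b ∈ Q, a * b = b * a) ∧ IsCyclic C ∧
      Odd (Nat.card C) ∧ ∃ n : ℕ, Nonempty (↥Q ≃* QuaternionGroup (2 ^ n)) := by
  classical
  haveI := hE
  have hodd : ∀ (q : ℕ) (hq : Fact q.Prime) (P : Sylow q E), q ≠ 2 → IsCyclic P := by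
    intro q hq P hq2
    rcases hsyl q hq P with h | ⟨n, ⟨e⟩⟩
    · exact h
    · exact absurd (eq_two_of_quaternion hq.out P.2 e) hq2
  haveI : Fact (2 : ℕ).Prime := ⟨Nat.prime_two⟩
  obtain ⟨P₂⟩ : Nonempty (Sylow 2 E) := inferInstance
  rcases hsyl 2 inferInstance P₂ with h2 | ⟨n, ⟨e⟩⟩
  · left
    apply isCyclic_of_sylow_cyclic
    intro q hq P
    by_cases hq2 : q = 2
    · subst hq2
      obtain ⟨g, hg⟩ := MulAction.exists_smul_eq E P₂ P
      rw [← hg]
      exact isCyclic_of_surjective _ (Sylow.equivSMul P₂ g).surjective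
    · exact hodd q hq P hq2
  · right
    obtain ⟨c, hc⟩ := exists_orderOf_eq_prod (X := E) ((Nat.card E).primeFactors.erase 2)
      (fun q hq => Nat.prime_of_mem_primeFactors (Finset.mem_of_mem_erase hq))
      (fun q hq hq' P => hodd q hq' P (Finset.ne_of_mem_erase hq))
    set M := ∏ q ∈ (Nat.card E).primeFactors.erase 2, q ^ (Nat.card E).factorization q with hM
    have hModd : Odd M := by
      rw [hM]
      apply Finset.prod_induction _ Odd (fun a b => Odd.mul) odd_one
      intro q hq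
      apply Odd.pow
      exact (Nat.prime_of_mem_primeFactors (Finset.mem_of_mem_erase hq)).odd_of_ne_two
        (Finset.ne_of_mem_erase hq)
    have hcardP₂ : Nat.card P₂ = 2 ^ (Nat.card E).factorization 2 := Sylow.card_eq_multiplicity P₂
    have h2mem : 2 ∈ (Nat.card E).primeFactors := by
      rw [Nat.mem_primeFactors]
      refine ⟨Nat.prime_two, ?_, Nat.card_pos.ne'⟩
      have : Nat.card P₂ = 4 * 2 ^ n := by
        rw [Nat.card_congr e.toEquiv, Nat.card_eq_fintype_card, QuaternionGroup.card]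
      exact dvd_trans (by rw [this]; exact Dvd.dvd.mul_right (by norm_num) _)
        (Subgroup.card_subgroup_dvd_card (P₂ : Subgroup E))
    have hcardE : Nat.card E = 2 ^ (Nat.card E).factorization 2 * M := by
      conv_lhs => rw [← card_eq_prod_primeFactors (Nat.card E) Nat.card_pos.ne']
      rw [← Finset.mul_prod_erase _ _ h2mem]
    refine ⟨(Subgroup.zpowers c).map E.subtype, (P₂ : Subgroup E).map E.subtype, ?_, ?_, ?_, ?_,
      n, ⟨?_⟩⟩
    · -- sup
      have hle : (Subgroup.zpowers c).map E.subtype ⊔ (P₂ : Subgroup E).map E.subtype ≤ E :=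
        sup_le (Subgroup.map_subtype_le _) (Subgroup.map_subtype_le _)
      apply Subgroup.eq_of_le_of_card_ge hle
      have h1 : Nat.card ((Subgroup.zpowers c).map E.subtype) = M := by
        rw [Subgroup.card_map_of_injective E.subtype_injective, Nat.card_zpowers, hc]
      have h2 : Nat.card ((P₂ : Subgroup E).map E.subtype) = 2 ^ (Nat.card E).factorization 2 := by
        rw [Subgroup.card_map_of_injective E.subtype_injective, hcardP₂]
      have hd1 := Subgroup.card_dvd_of_le (le_sup_left :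
        (Subgroup.zpowers c).map E.subtype ≤
          (Subgroup.zpowers c).map E.subtype ⊔ (P₂ : Subgroup E).map E.subtype)
      have hd2 := Subgroup.card_dvd_of_le (le_sup_right :
        (P₂ : Subgroup E).map E.subtype ≤
          (Subgroup.zpowers c).map E.subtype ⊔ (P₂ : Subgroup E).map E.subtype)
      rw [h1] at hd1
      rw [h2] at hd2
      have hcop : Nat.Coprime (2 ^ (Nat.card E).factorization 2) M :=
        Nat.Coprime.pow_left _ (Nat.coprime_two_left.mpr hModd)
      have := Nat.Coprime.mul_dvd_of_dvd_of_dvd hcop hd2 hd1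
      rw [← hcardE] at this
      exact Nat.le_of_dvd Nat.card_pos this
    · -- commute
      rintro a ⟨a', ha', rfl⟩ b ⟨b', hb', rfl⟩
      have hoa : orderOf a' ∣ M := by
        rw [← hc]
        exact orderOf_dvd_of_mem_zpowers ha'
      have hob : orderOf b' ∣ 2 ^ (Nat.card E).factorization 2 := by
        rw [← hcardP₂]
        have := orderOf_dvd_natCard (⟨b', hb'⟩ : (P₂ : Subgroup E))
        rwa [Subgroup.orderOf_mk] at this
      have hcop : (orderOf a').Coprime (orderOf b') :=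
        Nat.Coprime.coprime_dvd_left hoa (Nat.Coprime.coprime_dvd_right hob
          (Nat.Coprime.pow_right _ (Nat.coprime_two_right.mpr hModd)))
      have := Cfsg.Agent.S1473.commute_of_coprime_nilpotent E a' b' (isOfFinOrder_of_finite _)
        (isOfFinOrder_of_finite _) hcop
      exact congrArg Subtype.val this
    · exact isCyclic_of_surjective _
        ((Subgroup.zpowers c).equivMapOfInjective E.subtype E.subtype_injective).surjective
    · rw [Subgroup.card_map_of_injective E.subtype_injective, Nat.card_zpowers, hc]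
      exact hModd
    · exact (((P₂ : Subgroup E).equivMapOfInjective E.subtype E.subtype_injective).symm).trans e


variable {G : Type u} [Group G] [Finite G]

/-- A nontrivial normal `p`-subgroup inside a nilpotent normal subgroup whose order is divisible by `p`. -/
theorem exists_normal_pSubgroup_le (N : Subgroup G) [hNn : N.Normal] (hN : Group.IsNilpotent N) {p : ℕ}
    [Fact p.Prime] (hp : p ∣ Nat.card N) :
    ∃ Q : Subgroup G, Q.Normal ∧ IsPGroup p Q ∧ Q ≠ ⊥ ∧ Q ≤ N := by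
  obtain ⟨R₀⟩ : Nonempty (Sylow p N) := inferInstance
  have htfae : Group.IsNilpotent N ↔
      ∀ (p : ℕ), Fact (Nat.Prime p) → ∀ (P : Sylow p N), (P : Subgroup N).Normal :=
    (Group.isNilpotent_of_finite_tfae (G := N)).out 0 3
  have hnorm : (R₀ : Subgroup N).Normal := htfae.mp hN p inferInstance R₀
  haveI : (R₀ : Subgroup N).Characteristic := Sylow.characteristic_of_normal R₀ hnorm
  refine ⟨(R₀ : Subgroup N).map N.subtype, ConjAct.normal_of_characteristic_of_normal, R₀.2.map _,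
    ?_, Subgroup.map_subtype_le _⟩
  rw [Ne, Subgroup.map_eq_bot_iff_of_injective _ N.subtype_injective]
  exact R₀.ne_bot_of_dvd_card hp

theorem isPGroup_zpowers {p : ℕ} [hp : Fact p.Prime] {x : G} (hx : ∃ k : ℕ, orderOf x ∣ p ^ k) :
    IsPGroup p (Subgroup.zpowers x) := by
  obtain ⟨k, hk⟩ := hx
  obtain ⟨j, -, hj⟩ := (Nat.dvd_prime_pow hp.out).mp hk
  exact IsPGroup.of_card (n := j) (by rw [Nat.card_zpowers, hj])

theorem orderOf_dvd_of_mem_pGroup {p : ℕ} {Q : Subgroup G} (hQ : IsPGroup p Q)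
    {x : G} (hx : x ∈ Q) : ∃ k : ℕ, orderOf x ∣ p ^ k := by
  obtain ⟨k, hk⟩ := hQ ⟨x, hx⟩
  refine ⟨k, ?_⟩
  apply orderOf_dvd_of_pow_eq_one
  exact congrArg Subtype.val hk

/-- If `F(G)` is a nontrivial `p`-group in a solvable CN-group, the centralizer of every nonidentity
`p`-element is a `p`-group. -/
theorem centralizer_isPGroup [Group.IsSolvable G] (hCN : Cfsg.IsCNGroup G) {p : ℕ} [hp : Fact p.Prime]
    (hFp : IsPGroup p (Cfsg.fittingSubgroup G)) (hF1 : Cfsg.fittingSubgroup G ≠ ⊥)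
    {x : G} (hx1 : x ≠ 1) (hx : ∃ k : ℕ, orderOf x ∣ p ^ k) :
    IsPGroup p (Subgroup.centralizer ({x} : Set G)) := by
  classical
  set F := Cfsg.fittingSubgroup G with hF
  haveI hFn : F.Normal := Helper7.fittingSubgroup_normal'
  obtain ⟨P, hxP⟩ := (isPGroup_zpowers hx).exists_le_sylow
  have hxP' : x ∈ (P : Subgroup G) := hxP (Subgroup.mem_zpowers x)
  have hFP : F ≤ P := hFp.le_sylow_of_normal P
  have hne : F.subgroupOf P ≠ ⊥ := by
    rw [Ne, Subgroup.subgroupOf_eq_bot]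
    intro hd
    apply hF1
    have := hd.eq_bot
    rwa [inf_eq_left.mpr hFP] at this
  obtain ⟨z', hz'F, hz'c, hz'1⟩ :=
    exists_mem_center_of_normal_ne_bot (G := (P : Subgroup G)) P.2 (F.subgroupOf P) hne
  set z : G := (z' : G) with hz
  have hzF : z ∈ F := Subgroup.mem_subgroupOf.mp hz'F
  have hz1 : z ≠ 1 := fun h => hz'1 (Subtype.ext h)
  have hzP : ∀ a ∈ (P : Subgroup G), a * z = z * a := by
    intro a ha
    have := Subgroup.mem_center_iff.mp hz'c ⟨a, ha⟩
    exact congrArg Subtype.val this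
  obtain ⟨kz, hkz⟩ := orderOf_dvd_of_mem_pGroup hFp hzF
  have hCx : Group.IsNilpotent (Subgroup.centralizer ({x} : Set G)) := hCN x hx1
  have hCz : Group.IsNilpotent (Subgroup.centralizer ({z} : Set G)) := hCN z hz1
  have key : ∀ q : ℕ, q.Prime → q ∣ Nat.card (Subgroup.centralizer ({x} : Set G)) → q = p := by
    intro q hq hqd
    by_contra hqp
    haveI : Fact q.Prime := ⟨hq⟩
    obtain ⟨y', hy'⟩ := exists_prime_orderOf_dvd_card' q hqd
    set y : G := (y' : G) with hy
    have hyo : orderOf y = q := by rw [hy, Subgroup.orderOf_coe, hy']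
    have hyC : y ∈ Subgroup.centralizer ({x} : Set G) := y'.2
    have hzC : z ∈ Subgroup.centralizer ({x} : Set G) := by
      rw [Subgroup.mem_centralizer_singleton_iff]
      exact (hzP x hxP').symm
    have hcopq : ∀ k : ℕ, (q).Coprime (p ^ k) := fun k =>
      Nat.Coprime.pow_right k ((Nat.coprime_primes hq hp.out).mpr hqp)
    have hyz : y * z = z * y := by
      apply Cfsg.Agent.S1473.commute_of_mem_nilpotent hCx hyC hzC
      rw [hyo]
      exact Nat.Coprime.coprime_dvd_right hkz (hcopq kz)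
    have hyCz : y ∈ Subgroup.centralizer ({z} : Set G) := by
      rw [Subgroup.mem_centralizer_singleton_iff]
      exact hyz
    have hyF : y ∈ Subgroup.centralizer (F : Set G) := by
      rw [Subgroup.mem_centralizer_iff]
      intro f hf
      have hfCz : f ∈ Subgroup.centralizer ({z} : Set G) := by
        rw [Subgroup.mem_centralizer_singleton_iff]
        exact hzP f (hFP hf)
      obtain ⟨kf, hkf⟩ := orderOf_dvd_of_mem_pGroup hFp hf
      apply Cfsg.Agent.S1473.commute_of_mem_nilpotent hCz hfCz hyCz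
      rw [hyo]
      exact (Nat.Coprime.coprime_dvd_right hkf (hcopq kf)).symm
    have hyF' : y ∈ F := Helper1.centralizer_fittingSubgroup_le_of_isSolvable hyF
    obtain ⟨ky, hky⟩ := orderOf_dvd_of_mem_pGroup hFp hyF'
    rw [hyo] at hky
    exact hqp ((Nat.prime_dvd_prime_iff_eq hq hp.out).mp (hq.dvd_of_dvd_pow hky))
  have hcard := Nat.eq_prime_pow_of_unique_prime_dvd (Nat.card_pos (α := Subgroup.centralizer ({x} : Set G))).ne'
    (fun {q} hq hqd => key q hq hqd)
  exact IsPGroup.of_card hcard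


/-- In a CN-group whose Fitting subgroup has order divisible by two distinct primes `p`, `q`, the Sylow
`p`-subgroups are normal. -/
theorem sylow_normal_of_two_primes (hCN : Cfsg.IsCNGroup G) {p q : ℕ} [hp : Fact p.Prime]
    [hq : Fact q.Prime] (hpq : p ≠ q) (hpF : p ∣ Nat.card (Cfsg.fittingSubgroup G))
    (hqF : q ∣ Nat.card (Cfsg.fittingSubgroup G)) (P : Sylow p G) : (P : Subgroup G).Normal := by
  classical
  set F := Cfsg.fittingSubgroup G with hF
  haveI hFn : F.Normal := Helper7.fittingSubgroup_normal'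
  have hFnil : Group.IsNilpotent F := Helper7.fittingSubgroup_isNilpotent
  obtain ⟨Fp, hFpn, hFpp, hFp1, hFpF⟩ := exists_normal_pSubgroup_le F hFnil hpF
  obtain ⟨Fq, hFqn, hFqq, hFq1, hFqF⟩ := exists_normal_pSubgroup_le F hFnil hqF
  haveI := hFpn
  haveI := hFqn
  have hFpP : Fp ≤ P := hFpp.le_sylow_of_normal P
  have hne : Fp.subgroupOf P ≠ ⊥ := by
    rw [Ne, Subgroup.subgroupOf_eq_bot]
    intro hd
    apply hFp1
    have := hd.eq_bot
    rwa [inf_eq_left.mpr hFpP] at this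
  obtain ⟨z', hz'F, hz'c, hz'1⟩ :=
    exists_mem_center_of_normal_ne_bot (G := (P : Subgroup G)) P.2 (Fp.subgroupOf P) hne
  set z : G := (z' : G) with hz
  have hzFp : z ∈ Fp := Subgroup.mem_subgroupOf.mp hz'F
  have hz1 : z ≠ 1 := fun h => hz'1 (Subtype.ext h)
  have hzP : ∀ a ∈ (P : Subgroup G), a * z = z * a := by
    intro a ha
    have := Subgroup.mem_center_iff.mp hz'c ⟨a, ha⟩
    exact congrArg Subtype.val this
  have hCz : Group.IsNilpotent (Subgroup.centralizer ({z} : Set G)) := hCN z hz1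
  obtain ⟨kz, hkz⟩ := orderOf_dvd_of_mem_pGroup hFpp hzFp
  have hcop : ∀ j k : ℕ, (p ^ j).Coprime (q ^ k) := fun j k =>
    Nat.Coprime.pow j k ((Nat.coprime_primes hp.out hq.out).mpr hpq)
  -- `P` centralizes `Fq`
  have hPC : (P : Subgroup G) ≤ Subgroup.centralizer (Fq : Set G) := by
    intro a ha
    rw [Subgroup.mem_centralizer_iff]
    intro y hy
    have haCz : a ∈ Subgroup.centralizer ({z} : Set G) := by
      rw [Subgroup.mem_centralizer_singleton_iff]
      exact hzP a ha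
    have hyCz : y ∈ Subgroup.centralizer ({z} : Set G) := by
      rw [Subgroup.mem_centralizer_singleton_iff]
      obtain ⟨ky, hky⟩ := orderOf_dvd_of_mem_pGroup hFqq hy
      exact Cfsg.Agent.S1473.commute_of_mem_nilpotent hFnil (hFqF hy) (hFpF hzFp)
        (Nat.Coprime.coprime_dvd_left hky (Nat.Coprime.coprime_dvd_right hkz (hcop kz ky).symm))
    obtain ⟨ka, hka⟩ := orderOf_dvd_of_mem_pGroup P.2 ha
    obtain ⟨ky, hky⟩ := orderOf_dvd_of_mem_pGroup hFqq hy
    exact Cfsg.Agent.S1473.commute_of_mem_nilpotent hCz hyCz haCz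
      (Nat.Coprime.coprime_dvd_left hky (Nat.Coprime.coprime_dvd_right hka (hcop ka ky).symm))
  obtain ⟨y₀', hy₀'⟩ := (Subgroup.ne_bot_iff_exists_ne_one).mp hFq1
  set y₀ : G := (y₀' : G) with hy₀def
  have hy₀ : y₀ ∈ Fq := y₀'.2
  have hy₀1 : y₀ ≠ 1 := fun h => hy₀' (Subtype.ext h)
  have hCnil : Group.IsNilpotent (Subgroup.centralizer (Fq : Set G)) := by
    apply Helper7.isNilpotent_of_le _ (hCN y₀ hy₀1)
    apply Subgroup.centralizer_le
    intro t ht
    rw [Set.mem_singleton_iff] at ht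
    rw [ht]; exact hy₀
  exact Cfsg.Agent.S1474.sylow_normal_of_le_nilpotent P (Subgroup.centralizer (Fq : Set G)) hCnil hPC


/-- Data for the three-step analysis. -/
structure TSData (p : ℕ) (F A : Subgroup G) : Prop where
  hp : p.Prime
  Fnormal : F.Normal
  Fp : IsPGroup p F
  F1 : F ≠ ⊥
  cent : ∀ x : G, x ≠ 1 → (∃ k : ℕ, orderOf x ∣ p ^ k) →
    IsPGroup p (Subgroup.centralizer ({x} : Set G))
  A1 : A ≠ ⊥
  Acop : (Nat.card A).Coprime p
  Knormal : (F ⊔ A).Normal
  Fidx : p ∣ F.index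
  Anil : Group.IsNilpotent A
  CA : Subgroup.centralizer (A : Set G) ≤ F ⊔ A

namespace TSData

variable {p : ℕ} {F A : Subgroup G}

theorem eq_one_of_pow (h : TSData p F A) {a : G} (ha : a ∈ A)
    (hk : ∃ k : ℕ, orderOf a ∣ p ^ k) : a = 1 := by
  obtain ⟨k, hk⟩ := hk
  have h1 : orderOf a ∣ Nat.card A := Cfsg.Agent.Helper8.orderOf_dvd_card_of_mem A a ha
  have h2 : (orderOf a).Coprime (p ^ k) :=
    Nat.Coprime.coprime_dvd_left h1 (Nat.Coprime.pow_right k h.Acop)
  exact orderOf_eq_one_iff.mp (Nat.Coprime.eq_one_of_dvd h2 hk)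

/-- A nonidentity element of `A` commutes with no nonidentity `p`-element. -/
theorem not_commute (h : TSData p F A) {a x : G} (ha : a ∈ A) (ha1 : a ≠ 1) (hx1 : x ≠ 1)
    (hx : ∃ k : ℕ, orderOf x ∣ p ^ k) : a * x ≠ x * a := by
  intro hax
  haveI : Fact p.Prime := ⟨h.hp⟩
  have hC := h.cent x hx1 hx
  have haC : a ∈ Subgroup.centralizer ({x} : Set G) := by
    rw [Subgroup.mem_centralizer_singleton_iff]; exact hax
  exact ha1 (h.eq_one_of_pow ha (orderOf_dvd_of_mem_pGroup hC haC))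

theorem fpf (h : TSData p F A) : ∀ a ∈ A, a ≠ 1 → F ⊓ Subgroup.centralizer ({a} : Set G) = ⊥ := by
  intro a ha ha1
  rw [eq_bot_iff]
  intro f hf
  obtain ⟨hfF, hfC⟩ := Subgroup.mem_inf.mp hf
  rw [Subgroup.mem_bot]
  by_contra hf1
  rw [Subgroup.mem_centralizer_singleton_iff] at hfC
  exact h.not_commute ha ha1 hf1 (orderOf_dvd_of_mem_pGroup h.Fp hfF) hfC.symm

theorem disj (h : TSData p F A) : F ⊓ A = ⊥ := by
  rw [eq_bot_iff]
  intro f hf
  obtain ⟨hfF, hfA⟩ := Subgroup.mem_inf.mp hf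
  rw [Subgroup.mem_bot]
  exact h.eq_one_of_pow hfA (orderOf_dvd_of_mem_pGroup h.Fp hfF)

theorem exists_ne_one (h : TSData p F A) : ∃ a ∈ A, a ≠ 1 := by
  obtain ⟨a, ha⟩ := (Subgroup.ne_bot_iff_exists_ne_one).mp h.A1
  exact ⟨a, a.2, fun h1 => ha (Subtype.ext h1)⟩

/-- An element of `F` normalizing `A` is trivial. -/
theorem disj_normalizer (h : TSData p F A) : F ⊓ Subgroup.normalizer (A : Set G) = ⊥ := by
  haveI := h.Fnormal
  rw [eq_bot_iff]
  intro f hf
  obtain ⟨hfF, hfN⟩ := Subgroup.mem_inf.mp hf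
  obtain ⟨a₁, ha₁, ha₁1⟩ := h.exists_ne_one
  have hcomm : ∀ a ∈ A, f * a = a * f := by
    intro a ha
    have h1 : f * a * f⁻¹ ∈ A := (Subgroup.mem_normalizer_iff.mp hfN a).mp ha
    have h2 : f * a * f⁻¹ * a⁻¹ ∈ F ⊓ A := by
      refine Subgroup.mem_inf.mpr ⟨?_, A.mul_mem h1 (A.inv_mem ha)⟩
      have : f * a * f⁻¹ * a⁻¹ = f * (a * f⁻¹ * a⁻¹) := by group
      rw [this]
      exact F.mul_mem hfF (h.Fnormal.conj_mem _ (F.inv_mem hfF) a)
    rw [h.disj, Subgroup.mem_bot] at h2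
    calc f * a = (f * a * f⁻¹ * a⁻¹) * (a * f) := by group
      _ = a * f := by rw [h2, one_mul]
  have h3 : f ∈ F ⊓ Subgroup.centralizer ({a₁} : Set G) := by
    refine Subgroup.mem_inf.mpr ⟨hfF, ?_⟩
    rw [Subgroup.mem_centralizer_singleton_iff]
    exact hcomm a₁ ha₁
  rw [h.fpf a₁ ha₁ ha₁1] at h3
  exact h3

theorem card_coprime (h : TSData p F A) : (Nat.card A).Coprime (Nat.card F) := by
  haveI : Fact p.Prime := ⟨h.hp⟩
  obtain ⟨k, hk⟩ := h.Fp.exists_card_eq
  rw [hk]
  exact Nat.Coprime.pow_right k h.Acop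

/-- Frattini argument: `G = F · N_G(A)`. -/
theorem frattini (h : TSData p F A) (g : G) :
    ∃ f ∈ F, ∃ n ∈ Subgroup.normalizer (A : Set G), g = f * n := by
  haveI := h.Fnormal
  haveI := h.Knormal
  haveI : Fact p.Prime := ⟨h.hp⟩
  have hAN : A ≤ Subgroup.normalizer (F : Set G) := by
    rw [Subgroup.normalizer_eq_top]; exact le_top
  have hB : MulAut.conj g • A ≤ F ⊔ A := by
    intro b hb
    rw [Helper1.mem_conj_smul_iff] at hb
    have h1 : g⁻¹ * b * g ∈ F ⊔ A := Subgroup.mem_sup_right hb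
    have h2 := h.Knormal.conj_mem _ h1 g
    have : g * (g⁻¹ * b * g) * g⁻¹ = b := by group
    rwa [this] at h2
  have hsolv : Group.IsSolvable A ∨ Group.IsSolvable F := by
    right
    haveI := h.Fp.isNilpotent
    infer_instance
  obtain ⟨n, hn, hnA⟩ := Helper1.sz_internal F A (MulAut.conj g • A) hAN h.card_coprime hsolv hB
    (Helper1.card_conj_smul _ _)
  rw [Helper1.conj_smul_conj_smul] at hnA
  refine ⟨n⁻¹, F.inv_mem hn, n * g, ?_, by group⟩
  rw [Subgroup.mem_normalizer_iff]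
  intro a
  constructor
  · intro ha
    rw [← hnA, Helper1.mem_conj_smul_iff]
    have : (n * g)⁻¹ * (n * g * a * (n * g)⁻¹) * (n * g) = a := by group
    rw [this]; exact ha
  · intro ha
    rw [← hnA, Helper1.mem_conj_smul_iff] at ha
    have : (n * g)⁻¹ * (n * g * a * (n * g)⁻¹) * (n * g) = a := by group
    rwa [this] at ha

theorem isComplement' (h : TSData p F A) :
    Subgroup.IsComplement' F (Subgroup.normalizer (A : Set G)) :=
  Helper1.isComplement'_of_forall h.disj_normalizer h.frattini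

/-- `N_G(A)` contains an element of order `p`. -/
theorem exists_orderOf_eq (h : TSData p F A) :
    ∃ x ∈ Subgroup.normalizer (A : Set G), orderOf x = p := by
  haveI : Fact p.Prime := ⟨h.hp⟩
  have h1 := h.isComplement'.card_mul_card
  have h2 := F.card_mul_index
  have h3 : Nat.card (Subgroup.normalizer (A : Set G)) = F.index := by
    have hF0 : 0 < Nat.card F := Nat.card_pos
    apply Nat.eq_of_mul_eq_mul_left hF0
    rw [h1, h2]
  have h4 : p ∣ Nat.card (Subgroup.normalizer (A : Set G)) := by rw [h3]; exact h.Fidx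
  obtain ⟨x, hx⟩ := exists_prime_orderOf_dvd_card' p h4
  exact ⟨x, x.2, by rw [Subgroup.orderOf_coe, hx]⟩

/-- An involution of `A` inverts `F`. -/
theorem inverts (h : TSData p F A) {t : G} (ht : t ∈ A) (ht1 : t ≠ 1) (ht2 : t * t = 1) :
    ∀ f ∈ F, t * f * t⁻¹ = f⁻¹ := by
  haveI := h.Fnormal
  have ht' : t⁻¹ = t := inv_eq_of_mul_eq_one_right ht2
  let φ : F → F := fun f => ⟨(f : G)⁻¹ * (t * f * t⁻¹),
    F.mul_mem (F.inv_mem f.2) (h.Fnormal.conj_mem _ f.2 t)⟩
  have hinj : Function.Injective φ := by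
    intro f g hfg
    have heq : (f : G)⁻¹ * (t * f * t⁻¹) = (g : G)⁻¹ * (t * g * t⁻¹) := congrArg Subtype.val hfg
    have h1 : t * (f : G) = f * (g : G)⁻¹ * (t * g) := by
      calc t * (f : G) = f * ((f : G)⁻¹ * (t * f * t⁻¹)) * t := by group
        _ = f * ((g : G)⁻¹ * (t * g * t⁻¹)) * t := by rw [heq]
        _ = f * (g : G)⁻¹ * (t * g) := by group
    have h2 : ((g : G) * (f : G)⁻¹) * t = t * ((g : G) * (f : G)⁻¹) := by
      calc ((g : G) * (f : G)⁻¹) * t = g * (f : G)⁻¹ * (t * f) * (f : G)⁻¹ := by group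
        _ = g * (f : G)⁻¹ * (f * (g : G)⁻¹ * (t * g)) * (f : G)⁻¹ := by rw [h1]
        _ = t * ((g : G) * (f : G)⁻¹) := by group
    have h3 : (g : G) * (f : G)⁻¹ ∈ F ⊓ Subgroup.centralizer ({t} : Set G) := by
      refine Subgroup.mem_inf.mpr ⟨F.mul_mem g.2 (F.inv_mem f.2), ?_⟩
      rw [Subgroup.mem_centralizer_singleton_iff]
      exact h2
    rw [h.fpf t ht ht1, Subgroup.mem_bot] at h3
    apply Subtype.ext
    exact (mul_inv_eq_one.mp h3).symm
  have hsurj : Function.Surjective φ := Finite.surjective_of_injective hinj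
  intro f hf
  obtain ⟨g, hg⟩ := hsurj ⟨f, hf⟩
  have hfg : f = (g : G)⁻¹ * (t * g * t⁻¹) := (congrArg Subtype.val hg).symm
  rw [hfg, ht']
  have e1 : t * ((g : G)⁻¹ * (t * g * t)) * t = t * (g : G)⁻¹ * t * g * (t * t) := by group
  have e2 : ((g : G)⁻¹ * (t * g * t))⁻¹ = t⁻¹ * (g : G)⁻¹ * t⁻¹ * g := by group
  rw [e1, ht2, mul_one, e2, ht']

/-- `A` has at most one involution. -/
theorem involution_unique (h : TSData p F A) {t t' : G} (ht : t ∈ A) (ht1 : t ≠ 1)
    (ht2 : t * t = 1) (ht' : t' ∈ A) (ht'1 : t' ≠ 1) (ht'2 : t' * t' = 1) : t = t' := by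
  by_contra hne
  have hs1 : t'⁻¹ * t ≠ 1 := by
    intro h1
    apply hne
    have := inv_mul_eq_one.mp h1
    exact this.symm
  have hsA : t'⁻¹ * t ∈ A := A.mul_mem (A.inv_mem ht') ht
  obtain ⟨f₀, hf₀⟩ := (Subgroup.ne_bot_iff_exists_ne_one).mp h.F1
  have hcomm : ∀ f ∈ F, (t'⁻¹ * t) * f = f * (t'⁻¹ * t) := by
    intro f hf
    have h1 := h.inverts ht ht1 ht2 f hf
    have h2 := h.inverts ht' ht'1 ht'2 f hf
    have h3 : t * f * t⁻¹ = t' * f * t'⁻¹ := by rw [h1, h2]
    calc (t'⁻¹ * t) * f = t'⁻¹ * (t * f * t⁻¹) * t := by group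
      _ = t'⁻¹ * (t' * f * t'⁻¹) * t := by rw [h3]
      _ = f * (t'⁻¹ * t) := by group
  have h4 : (f₀ : G) ∈ F ⊓ Subgroup.centralizer ({t'⁻¹ * t} : Set G) := by
    refine Subgroup.mem_inf.mpr ⟨f₀.2, ?_⟩
    rw [Subgroup.mem_centralizer_singleton_iff]
    exact (hcomm f₀ f₀.2).symm
  rw [h.fpf _ hsA hs1, Subgroup.mem_bot] at h4
  exact hf₀ (Subtype.ext h4)

theorem odd_card (h : TSData p F A) : Odd (Nat.card A) := by
  by_contra hodd
  rw [Nat.not_odd_iff_even, even_iff_two_dvd] at hodd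
  haveI : Fact (2 : ℕ).Prime := ⟨Nat.prime_two⟩
  obtain ⟨t', ht'⟩ := exists_prime_orderOf_dvd_card' 2 hodd
  set t : G := (t' : G) with htdef
  have hto : orderOf t = 2 := by rw [htdef, Subgroup.orderOf_coe, ht']
  have htA : t ∈ A := t'.2
  have ht1 : t ≠ 1 := by
    intro h1
    rw [h1, orderOf_one] at hto
    omega
  have ht2 : t * t = 1 := by
    rw [← pow_two, ← hto, pow_orderOf_eq_one]
  obtain ⟨x, hxN, hxo⟩ := h.exists_orderOf_eq
  have hx1 : x ≠ 1 := by
    intro h1
    rw [h1, orderOf_one] at hxo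
    exact h.hp.one_lt.ne hxo
  have hcA : x * t * x⁻¹ ∈ A := (Subgroup.mem_normalizer_iff.mp hxN t).mp htA
  have hc1 : x * t * x⁻¹ ≠ 1 := by
    intro h1
    apply ht1
    have : t = x⁻¹ * (x * t * x⁻¹) * x := by group
    rw [this, h1]; group
  have hc2 : (x * t * x⁻¹) * (x * t * x⁻¹) = 1 := by
    have : (x * t * x⁻¹) * (x * t * x⁻¹) = x * (t * t) * x⁻¹ := by group
    rw [this, ht2]; group
  have heq := h.involution_unique htA ht1 ht2 hcA hc1 hc2
  have hcomm : t * x = x * t := by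
    calc t * x = (x * t * x⁻¹) * x := by rw [← heq]
      _ = x * t := by group
  exact h.not_commute htA ht1 hx1 ⟨1, by rw [hxo, pow_one]⟩ hcomm

end TSData

/-- Sylow subgroups of a group acting fixed-point-freely are cyclic or generalized quaternion
(internal version of `S0040`). -/
theorem sylow_cyclic_or_quaternion (K H : Subgroup G) [K.Normal] (hK : K ≠ ⊥)
    (hfpf : ∀ h ∈ H, h ≠ 1 → K ⊓ Subgroup.centralizer {h} = ⊥) (q : ℕ) [Fact q.Prime]
    (P : Sylow q H) : IsCyclic P ∨ ∃ n : ℕ, Nonempty (P ≃* QuaternionGroup (2 ^ n)) := by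
  have hp : Fact q.Prime := inferInstance
  have hP : IsPGroup q P := P.2
  suffices huniq : ∀ A B : Subgroup P, Nat.card A = q → Nat.card B = q → A = B by
    rcases Cfsg.Agent.S0016.result q hP huniq with h | ⟨-, h⟩
    · exact Or.inl h
    · exact Or.inr h
  let ι : P →* G := H.subtype.comp (P : Subgroup H).subtype
  have hι : Function.Injective ι := by
    intro a b hab
    exact Subtype.ext (Subtype.ext hab)
  set Q : Subgroup G := ι.range with hQ
  have hQH : Q ≤ H := by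
    rintro _ ⟨x, rfl⟩
    exact (x : H).2
  have hQp : IsPGroup q Q := hP.of_equiv (MonoidHom.ofInjective hι)
  intro A B hA hB
  obtain ⟨a, ha, rfl⟩ := Cfsg.Agent.S0040.exists_zpowers_eq A hA
  obtain ⟨b, hb, rfl⟩ := Cfsg.Agent.S0040.exists_zpowers_eq B hB
  haveI : Nontrivial P := by
    refine ⟨⟨a, 1, ?_⟩⟩
    intro h
    rw [h, orderOf_one] at ha
    exact hp.out.one_lt.ne ha
  haveI hcn : Nontrivial (Subgroup.center P) := hP.center_nontrivial
  have hdvd : q ∣ Nat.card (Subgroup.center P) := by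
    obtain ⟨k, hk⟩ := (hP.to_subgroup (Subgroup.center P)).exists_card_eq
    rw [hk]
    have hk0 : k ≠ 0 := by
      rintro rfl
      rw [pow_zero] at hk
      have := Finite.one_lt_card_iff_nontrivial.mpr hcn
      omega
    exact dvd_pow_self q hk0
  obtain ⟨z', hz'⟩ := exists_prime_orderOf_dvd_card' q hdvd
  set z₀ : P := (z' : P) with hz₀
  have hz₀ord : orderOf z₀ = q := by rw [hz₀, Subgroup.orderOf_coe, hz']
  have hz₀c : ∀ x : P, z₀ * x = x * z₀ := by
    intro x
    exact (Subgroup.mem_center_iff.mp z'.2 x).symm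
  have hzord : orderOf (ι z₀) = q := by rw [orderOf_injective ι hι, hz₀ord]
  have hzc : ∀ y ∈ Q, ι z₀ * y = y * ι z₀ := by
    rintro _ ⟨x, rfl⟩
    rw [← map_mul, ← map_mul, hz₀c]
  have key : ∀ c : P, orderOf c = q → Subgroup.zpowers c = Subgroup.zpowers z₀ := by
    intro c hcord
    have h1 : ι c ∈ Subgroup.zpowers (ι z₀) :=
      Helper1.mem_zpowers_of_fpf hK hfpf Q hQH hQp ⟨z₀, rfl⟩ hzord hzc ⟨c, rfl⟩
        (by rw [orderOf_injective ι hι, hcord])
    obtain ⟨k, hk⟩ := Subgroup.mem_zpowers_iff.mp h1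
    have h2 : c = z₀ ^ k := by
      apply hι
      rw [map_zpow]; exact hk.symm
    apply Subgroup.eq_of_le_of_card_ge
    · rw [Subgroup.zpowers_le, h2]
      exact Subgroup.zpow_mem _ (Subgroup.mem_zpowers z₀) k
    · rw [Nat.card_zpowers, Nat.card_zpowers, hcord, hz₀ord]
  rw [key a ha, key b hb]


namespace TSData

variable {p : ℕ} {F A : Subgroup G}

theorem isCyclic (h : TSData p F A) : IsCyclic A := by
  haveI := h.Fnormal
  haveI := h.Anil
  apply isCyclic_of_sylow_cyclic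
  intro q hq P
  rcases sylow_cyclic_or_quaternion F A h.F1 h.fpf q P with hc | ⟨n, ⟨e⟩⟩
  · exact hc
  · exfalso
    have hq2 : q = 2 := eq_two_of_quaternion hq.out P.2 e
    have hcard : Nat.card P = 4 * 2 ^ n := by
      rw [Nat.card_congr e.toEquiv, Nat.card_eq_fintype_card, QuaternionGroup.card]
    have h2 : 2 ∣ Nat.card A :=
      dvd_trans (by rw [hcard]; exact Dvd.dvd.mul_right (by norm_num) _)
        (Subgroup.card_subgroup_dvd_card (P : Subgroup A))
    have := h.odd_card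
    rw [← Nat.not_even_iff_odd, even_iff_two_dvd] at this
    exact this h2

theorem comm (h : TSData p F A) : ∀ a ∈ A, ∀ b ∈ A, a * b = b * a := by
  haveI := h.isCyclic
  intro a ha b hb
  have := IsCyclic.commGroup.mul_comm (⟨a, ha⟩ : A) ⟨b, hb⟩
  exact congrArg Subtype.val this

/-- `C_G(A) = A`. -/
theorem centralizer_le (h : TSData p F A) : Subgroup.centralizer (A : Set G) ≤ A := by
  haveI := h.Fnormal
  intro c hc
  have hAN : A ≤ Subgroup.normalizer (F : Set G) := by
    rw [Subgroup.normalizer_eq_top]; exact le_top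
  obtain ⟨f, hf, a, ha, rfl⟩ := Helper1.exists_mul_of_mem_sup hAN (h.CA hc)
  obtain ⟨a₁, ha₁, ha₁1⟩ := h.exists_ne_one
  have h1 : f ∈ F ⊓ Subgroup.centralizer ({a₁} : Set G) := by
    refine Subgroup.mem_inf.mpr ⟨hf, ?_⟩
    rw [Subgroup.mem_centralizer_singleton_iff]
    have h2 : a₁ * (f * a) = f * a * a₁ := (Subgroup.mem_centralizer_iff.mp hc a₁ ha₁)
    have h3 : a * a₁ = a₁ * a := h.comm a ha a₁ ha₁
    calc f * a₁ = (f * a * a₁) * a⁻¹ * (a * a₁⁻¹ * a⁻¹ * a₁) := by group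
      _ = (f * a * a₁) * a⁻¹ := by
          have : a * a₁⁻¹ * a⁻¹ * a₁ = 1 := by
            calc a * a₁⁻¹ * a⁻¹ * a₁ = a * a₁⁻¹ * a⁻¹ * a₁ := rfl
              _ = a₁⁻¹ * (a₁ * a) * a₁⁻¹ * a⁻¹ * a₁ := by group
              _ = a₁⁻¹ * (a * a₁) * a₁⁻¹ * a⁻¹ * a₁ := by rw [h3]
              _ = 1 := by group
          rw [this, mul_one]
      _ = a₁ * (f * a) * a⁻¹ := by rw [h2]
      _ = a₁ * f := by group
  rw [h.fpf a₁ ha₁ ha₁1, Subgroup.mem_bot] at h1
  rw [h1, one_mul]
  exact ha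

/-- `N_G(A)/A` is abelian. -/
theorem commutator_mem (h : TSData p F A) {x y : G} (hx : x ∈ Subgroup.normalizer (A : Set G))
    (hy : y ∈ Subgroup.normalizer (A : Set G)) : x * y * x⁻¹ * y⁻¹ ∈ A := by
  haveI := h.isCyclic
  obtain ⟨g, hg⟩ := IsCyclic.exists_generator (α := A)
  set a₀ : G := (g : G) with ha₀
  have hgen : ∀ a ∈ A, a ∈ Subgroup.zpowers a₀ := by
    intro a ha
    obtain ⟨k, hk⟩ := Subgroup.mem_zpowers_iff.mp (hg ⟨a, ha⟩)
    refine Subgroup.mem_zpowers_iff.mpr ⟨k, ?_⟩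
    have := congrArg Subtype.val hk
    simpa using this
  have ha₀A : a₀ ∈ A := g.2
  -- key: for u v ∈ N, u⁻¹ v⁻¹ u v centralizes a₀
  have key : ∀ u v : G, u ∈ Subgroup.normalizer (A : Set G) → v ∈ Subgroup.normalizer (A : Set G) →
      u⁻¹ * v⁻¹ * u * v ∈ A := by
    intro u v hu hv
    have hu' : u * a₀ * u⁻¹ ∈ A := (Subgroup.mem_normalizer_iff.mp hu a₀).mp ha₀A
    have hv' : v * a₀ * v⁻¹ ∈ A := (Subgroup.mem_normalizer_iff.mp hv a₀).mp ha₀A
    obtain ⟨i, hi⟩ := Subgroup.mem_zpowers_iff.mp (hgen _ hu')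
    obtain ⟨j, hj⟩ := Subgroup.mem_zpowers_iff.mp (hgen _ hv')
    have h1 : (u * v) * a₀ * (u * v)⁻¹ = (a₀ ^ i) ^ j := by
      calc (u * v) * a₀ * (u * v)⁻¹ = u * (v * a₀ * v⁻¹) * u⁻¹ := by group
        _ = u * a₀ ^ j * u⁻¹ := by rw [hj]
        _ = (u * a₀ * u⁻¹) ^ j := by rw [conj_zpow]
        _ = (a₀ ^ i) ^ j := by rw [hi]
    have h2 : (v * u) * a₀ * (v * u)⁻¹ = (a₀ ^ j) ^ i := by
      calc (v * u) * a₀ * (v * u)⁻¹ = v * (u * a₀ * u⁻¹) * v⁻¹ := by group
        _ = v * a₀ ^ i * v⁻¹ := by rw [hi]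
        _ = (v * a₀ * v⁻¹) ^ i := by rw [conj_zpow]
        _ = (a₀ ^ j) ^ i := by rw [hj]
    have h3 : (u * v) * a₀ * (u * v)⁻¹ = (v * u) * a₀ * (v * u)⁻¹ := by
      rw [h1, h2, ← zpow_mul, ← zpow_mul, mul_comm]
    have h4 : (u⁻¹ * v⁻¹ * u * v) * a₀ = a₀ * (u⁻¹ * v⁻¹ * u * v) := by
      calc (u⁻¹ * v⁻¹ * u * v) * a₀ = (v * u)⁻¹ * ((u * v) * a₀ * (u * v)⁻¹) * (u * v) := by group
        _ = (v * u)⁻¹ * ((v * u) * a₀ * (v * u)⁻¹) * (u * v) := by rw [h3]
        _ = a₀ * (u⁻¹ * v⁻¹ * u * v) := by group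
    apply h.centralizer_le
    rw [Subgroup.mem_centralizer_iff]
    intro a ha
    obtain ⟨k, hk⟩ := Subgroup.mem_zpowers_iff.mp (hgen a ha)
    rw [← hk]
    exact ((Commute.zpow_left (show Commute a₀ (u⁻¹ * v⁻¹ * u * v) from h4.symm) k)).eq
  have := key x⁻¹ y⁻¹ (Subgroup.inv_mem _ hx) (Subgroup.inv_mem _ hy)
  simpa using this

end TSData

/-- `(y a)^m ∈ y^m A` for `y ∈ N_G(A)`, `a ∈ A`. -/
theorem mul_pow_mem {A : Subgroup G} {y a : G} (hy : y ∈ Subgroup.normalizer (A : Set G))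
    (ha : a ∈ A) (m : ℕ) : ∃ a' ∈ A, (y * a) ^ m = y ^ m * a' := by
  induction m with
  | zero => exact ⟨1, A.one_mem, by simp⟩
  | succ m ih =>
    obtain ⟨a', ha', hm⟩ := ih
    have hy' : y⁻¹ ∈ Subgroup.normalizer (A : Set G) := Subgroup.inv_mem _ hy
    have h1 : y⁻¹ * a' * y⁻¹⁻¹ ∈ A := (Subgroup.mem_normalizer_iff.mp hy' a').mp ha'
    rw [inv_inv] at h1
    refine ⟨(y⁻¹ * a' * y) * a, A.mul_mem h1 ha, ?_⟩
    rw [pow_succ, hm, pow_succ]
    group

namespace TSData

variable {p : ℕ} {F A : Subgroup G}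

/-- Elements of `N_G(A)` of order prime to `p` lie in `A`. -/
theorem mem_of_coprime (h : TSData p F A) {y : G} (hy : y ∈ Subgroup.normalizer (A : Set G))
    (hyo : (orderOf y).Coprime p) : y ∈ A := by
  haveI : Fact p.Prime := ⟨h.hp⟩
  haveI := h.Anil
  obtain ⟨x, hxN, hxo⟩ := h.exists_orderOf_eq
  have hx1 : x ≠ 1 := by
    intro h1
    rw [h1, orderOf_one] at hxo
    exact h.hp.one_lt.ne hxo
  have hAD : Subgroup.zpowers x ≤ Subgroup.normalizer (A : Set G) :=
    Subgroup.zpowers_le.mpr hxN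
  have hcop : (Nat.card (Subgroup.zpowers x)).Coprime (Nat.card A) := by
    rw [Nat.card_zpowers, hxo]
    exact h.Acop.symm
  have hsolv : Group.IsSolvable (Subgroup.zpowers x) ∨ Group.IsSolvable A := Or.inr inferInstance
  have hcoset : ∀ a ∈ Subgroup.zpowers x, y⁻¹ * a * y * a⁻¹ ∈ A := by
    intro a ha
    have := h.commutator_mem (Subgroup.inv_mem _ hy) (hAD ha)
    simpa using this
  obtain ⟨c, hc, hcA⟩ := Helper1.exists_centralizer_mem_coset A (Subgroup.zpowers x) hAD hcop hsolv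
    y hcoset
  have hcx : c * x = x * c :=
    (Subgroup.mem_centralizer_iff.mp hc x (Subgroup.mem_zpowers x)).symm
  have hcC : c ∈ Subgroup.centralizer ({x} : Set G) := by
    rw [Subgroup.mem_centralizer_singleton_iff]; exact hcx
  have hCp := h.cent x hx1 ⟨1, by rw [hxo, pow_one]⟩
  obtain ⟨k, hk⟩ := orderOf_dvd_of_mem_pGroup hCp hcC
  -- c = y * a₁
  set a₁ := y⁻¹ * c with ha₁
  have hc_eq : c = y * a₁ := by rw [ha₁]; group
  obtain ⟨a', ha', hpow⟩ := mul_pow_mem hy hcA (orderOf c)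
  rw [← hc_eq, pow_orderOf_eq_one] at hpow
  have hym : y ^ orderOf c ∈ A := by
    have : y ^ orderOf c = a'⁻¹ := by
      rw [eq_inv_iff_mul_eq_one]; exact hpow.symm
    rw [this]; exact A.inv_mem ha'
  have hcop2 : (orderOf y).Coprime (orderOf c) :=
    Nat.Coprime.coprime_dvd_right hk (Nat.Coprime.pow_right k hyo)
  have hle : Subgroup.zpowers (y ^ orderOf c) ≤ Subgroup.zpowers y :=
    Subgroup.zpowers_le.mpr (Subgroup.pow_mem _ (Subgroup.mem_zpowers y) _)
  have heq : Subgroup.zpowers (y ^ orderOf c) = Subgroup.zpowers y := by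
    apply Subgroup.eq_of_le_of_card_ge hle
    rw [Nat.card_zpowers, Nat.card_zpowers, hcop2.orderOf_pow]
  have : y ∈ Subgroup.zpowers (y ^ orderOf c) := by rw [heq]; exact Subgroup.mem_zpowers y
  exact (Subgroup.zpowers_le.mpr hym) this

theorem normalizer_inf (h : TSData p F A) {x : G} (hxN : x ∈ Subgroup.normalizer (A : Set G))
    (hxK : x ∈ F ⊔ A) : x ∈ A := by
  haveI := h.Fnormal
  have hAN : A ≤ Subgroup.normalizer (F : Set G) := by
    rw [Subgroup.normalizer_eq_top]; exact le_top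
  obtain ⟨f, hf, a, ha, rfl⟩ := Helper1.exists_mul_of_mem_sup hAN hxK
  have hfN : f ∈ Subgroup.normalizer (A : Set G) := by
    have : f = (f * a) * a⁻¹ := by group
    rw [this]
    exact Subgroup.mul_mem _ hxN (Subgroup.inv_mem _ (Subgroup.le_normalizer ha))
  have h1 : f ∈ F ⊓ Subgroup.normalizer (A : Set G) := Subgroup.mem_inf.mpr ⟨hf, hfN⟩
  rw [h.disj_normalizer, Subgroup.mem_bot] at h1
  rw [h1, one_mul]; exact ha

theorem ne_top (h : TSData p F A) : F ⊔ A ≠ ⊤ := by
  intro htop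
  obtain ⟨x, hxN, hxo⟩ := h.exists_orderOf_eq
  have hxA : x ∈ A := h.normalizer_inf hxN (by rw [htop]; exact Subgroup.mem_top x)
  have := h.eq_one_of_pow hxA ⟨1, by rw [hxo, pow_one]⟩
  rw [this, orderOf_one] at hxo
  exact h.hp.one_lt.ne hxo

/-- `G / FA` is a `p`-group. -/
theorem isPGroup_quotient (h : TSData p F A) : 
    haveI := h.Knormal
    IsPGroup p (G ⧸ (F ⊔ A)) := by
  haveI := h.Knormal
  intro gbar
  obtain ⟨g, rfl⟩ := QuotientGroup.mk_surjective gbar
  obtain ⟨f, hf, n, hn, rfl⟩ := h.frattini g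
  obtain ⟨α, β, hdec, ⟨k, hk⟩, hβ, -⟩ :=
    Cfsg.Agent.Helper8.exists_p_decomp n (isOfFinOrder_of_finite n) p h.hp
  have hβA : n ^ β ∈ A := h.mem_of_coprime (Subgroup.zpow_mem _ hn β) hβ
  refine ⟨k, ?_⟩
  have h1 : ((f * n : G) : G ⧸ (F ⊔ A)) = ((n ^ α : G) : G ⧸ (F ⊔ A)) := by
    rw [QuotientGroup.eq]
    have hinv : n⁻¹ = (n ^ β)⁻¹ * (n ^ α)⁻¹ := by
      conv_lhs => rw [hdec]
      rw [mul_inv_rev]
    have h2 : (f * n)⁻¹ * n ^ α = (n ^ β)⁻¹ * ((n ^ α)⁻¹ * f⁻¹ * n ^ α) := by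
      rw [mul_inv_rev, hinv]
      simp only [mul_assoc]
    rw [h2]
    apply Subgroup.mul_mem _ (Subgroup.inv_mem _ (Subgroup.mem_sup_right hβA))
    have := h.Knormal.conj_mem _ (Subgroup.mem_sup_left (F.inv_mem hf) : f⁻¹ ∈ F ⊔ A) (n ^ α)⁻¹
    simpa using this
  rw [h1, ← QuotientGroup.mk_pow, ← QuotientGroup.mk_one]
  congr 1
  exact orderOf_dvd_iff_pow_eq_one.mp hk

theorem index_eq (h : TSData p F A) : ∃ n : ℕ, (F ⊔ A).index = p ^ n := by
  haveI := h.Knormal
  haveI : Fact p.Prime := ⟨h.hp⟩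
  obtain ⟨n, hn⟩ := h.isPGroup_quotient.exists_card_eq
  exact ⟨n, by rw [Subgroup.index_eq_card, hn]⟩

theorem commutator_not_mem (h : TSData p F A) : ∀ x : G, x ∉ F ⊔ A → ∀ a ∈ A, a ≠ 1 →
    x * a * x⁻¹ * a⁻¹ ∉ F := by
  haveI := h.Fnormal
  intro x hxK a ha ha1 hcomm
  obtain ⟨f, hf, n, hn, rfl⟩ := h.frattini x
  have hnA : n ∉ A := by
    intro hnA
    exact hxK (Subgroup.mul_mem _ (Subgroup.mem_sup_left hf) (Subgroup.mem_sup_right hnA))
  have hb : n * a * n⁻¹ ∈ A := (Subgroup.mem_normalizer_iff.mp hn a).mp ha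
  have h1 : n * a * n⁻¹ * a⁻¹ ∈ F ⊓ A := by
    refine Subgroup.mem_inf.mpr ⟨?_, A.mul_mem hb (A.inv_mem ha)⟩
    have h2 : n * a * n⁻¹ * a⁻¹ =
        ((n * a * n⁻¹) * f * (n * a * n⁻¹)⁻¹) * f⁻¹ * (f * n * a * (f * n)⁻¹ * a⁻¹) := by group
    rw [h2]
    exact F.mul_mem (F.mul_mem (h.Fnormal.conj_mem _ hf _) (F.inv_mem hf)) hcomm
  rw [h.disj, Subgroup.mem_bot] at h1
  have hna : n * a = a * n := by
    calc n * a = (n * a * n⁻¹ * a⁻¹) * (a * n) := by group
      _ = a * n := by rw [h1, one_mul]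
  obtain ⟨α, β, hdec, hα, hβ, -⟩ :=
    Cfsg.Agent.Helper8.exists_p_decomp n (isOfFinOrder_of_finite n) p h.hp
  have hβA : n ^ β ∈ A := h.mem_of_coprime (Subgroup.zpow_mem _ hn β) hβ
  have hα1 : n ^ α ≠ 1 := by
    intro h1'
    apply hnA
    rw [hdec, h1', one_mul]; exact hβA
  have hαa : a * n ^ α = n ^ α * a :=
    ((Commute.zpow_right (show Commute a n from hna.symm) α)).eq
  exact h.not_commute ha ha1 hα1 hα hαa

end TSData


/-- The quotient data: for a nontrivial normal `p`-subgroup `F` containing every normal `p`-subgroup,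
in a solvable group with `F ≠ ⊤`, the preimage `K` of `F(G/F)` splits as `F ⋊ A` with `A` a nontrivial
nilpotent `p'`-group containing its centralizer modulo `F`. -/
theorem exists_complement_fitting_quotient [Group.IsSolvable G] {p : ℕ} [hp : Fact p.Prime]
    (F : Subgroup G) [hFn : F.Normal] (hFp : IsPGroup p F) (hFtop : F ≠ ⊤)
    (hFmax : ∀ Q : Subgroup G, Q.Normal → IsPGroup p Q → Q ≤ F) :
    ∃ A : Subgroup G, A ≠ ⊥ ∧ (Nat.card A).Coprime p ∧ (F ⊔ A).Normal ∧ Group.IsNilpotent A ∧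
      Subgroup.centralizer (A : Set G) ≤ F ⊔ A := by
  classical
  set π := QuotientGroup.mk' F with hπ
  have hπs : Function.Surjective π := QuotientGroup.mk'_surjective F
  set Fbar := Cfsg.fittingSubgroup (G ⧸ F) with hFbar
  haveI hFbn : Fbar.Normal := Helper7.fittingSubgroup_normal'
  have hFbnil : Group.IsNilpotent Fbar := Helper7.fittingSubgroup_isNilpotent
  set K := Fbar.comap π with hK
  haveI hKn : K.Normal := Subgroup.Normal.comap hFbn π
  have hFK : F ≤ K := by
    intro f hf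
    rw [hK, Subgroup.mem_comap]
    have : π f = 1 := (QuotientGroup.eq_one_iff f).mpr hf
    rw [this]; exact Fbar.one_mem
  have hKmap : K.map π = Fbar := Subgroup.map_comap_eq_self_of_surjective hπs Fbar
  -- `Fbar` is nontrivial
  have hFb1 : Fbar ≠ ⊥ := by
    haveI : Nontrivial (G ⧸ F) := by
      rw [← Finite.one_lt_card_iff_nontrivial, ← Subgroup.index_eq_card]
      have h0 : F.index ≠ 0 := Subgroup.index_ne_zero_of_finite
      have h1 : F.index ≠ 1 := fun h => hFtop (Subgroup.index_eq_one.mp h)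
      omega
    obtain ⟨q, hq, Q, hQn, hQ1, hQq⟩ := Helper1.exists_normal_pSubgroup_of_solvable (G ⧸ F)
    haveI : Fact q.Prime := ⟨hq⟩
    haveI := hQn
    have hle : Q ≤ Fbar := Helper7.le_fittingSubgroup Q hQq.isNilpotent
    intro hb
    apply hQ1
    rw [eq_bot_iff, ← hb]; exact hle
  -- `Fbar` is a `p'`-group
  have hFbcop : (Nat.card Fbar).Coprime p := by
    rw [Nat.coprime_comm, Nat.Prime.coprime_iff_not_dvd hp.out]
    intro hdvd
    obtain ⟨Qb, hQbn, hQbp, hQb1, hQbF⟩ := exists_normal_pSubgroup_le Fbar hFbnil hdvd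
    haveI := hQbn
    set Q := Qb.comap π with hQ
    haveI hQn : Q.Normal := Subgroup.Normal.comap hQbn π
    have hQp : IsPGroup p Q := by
      intro g
      obtain ⟨a, ha⟩ := hQbp ⟨π g, g.2⟩
      have ha' : π ((g : G) ^ p ^ a) = 1 := by
        rw [map_pow]
        exact congrArg Subtype.val ha
      have hgF : (g : G) ^ p ^ a ∈ F := (QuotientGroup.eq_one_iff _).mp ha'
      obtain ⟨b, hb⟩ := hFp ⟨_, hgF⟩
      refine ⟨a + b, ?_⟩
      apply Subtype.ext
      have hb' : ((g : G) ^ p ^ a) ^ p ^ b = 1 := congrArg Subtype.val hb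
      rw [Subgroup.coe_pow, pow_add, pow_mul, hb']
      rfl
    have hQF : Q ≤ F := hFmax Q hQn hQp
    apply hQb1
    rw [eq_bot_iff]
    intro x hx
    obtain ⟨g, rfl⟩ := hπs x
    have hgQ : g ∈ Q := hx
    rw [Subgroup.mem_bot]
    exact (QuotientGroup.eq_one_iff g).mpr (hQF hgQ)
  -- Schur–Zassenhaus in `K`
  set N₀ := F.subgroupOf K with hN₀
  haveI hN₀n : N₀.Normal := Subgroup.Normal.subgroupOf hFn K
  have hcardN₀ : Nat.card N₀ = Nat.card F := by
    rw [hN₀]
    exact Nat.card_congr (Subgroup.subgroupOfEquivOfLe hFK).toEquiv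
  have hidx : N₀.index = Nat.card Fbar := by
    have h1 : N₀.index = F.relIndex K := rfl
    have h2 : F = (⊥ : Subgroup (G ⧸ F)).comap π := by
      rw [MonoidHom.comap_bot, hπ, QuotientGroup.ker_mk']
    rw [h1]
    conv_lhs => rw [h2]
    rw [Subgroup.relIndex_comap, hKmap, Subgroup.relIndex_bot_left]
  obtain ⟨kF, hkF⟩ := hFp.exists_card_eq
  have hcop : (Nat.card N₀).Coprime N₀.index := by
    rw [hcardN₀, hidx, hkF]
    exact (Nat.Coprime.pow_right kF hFbcop).symm
  obtain ⟨A₀, hA₀⟩ := Subgroup.exists_right_complement'_of_coprime hcop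
  set A := A₀.map K.subtype with hA
  have hAK : A ≤ K := Subgroup.map_subtype_le A₀
  have hcardA : Nat.card A = Nat.card Fbar := by
    rw [hA, Subgroup.card_map_of_injective K.subtype_injective]
    have h1 := hA₀.card_mul_card
    have h2 := N₀.card_mul_index
    have h3 : Nat.card A₀ = N₀.index := by
      apply Nat.eq_of_mul_eq_mul_left (Nat.card_pos (α := N₀))
      rw [h1, h2]
    rw [h3, hidx]
  have hsup : F ⊔ A = K := by
    apply le_antisymm (sup_le hFK hAK)
    intro k hk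
    obtain ⟨n₀, hn₀, a₀, ha₀, hmul⟩ := Helper1.IsComplement'.exists_mul hA₀ ⟨k, hk⟩
    have hk' : k = (n₀ : G) * (a₀ : G) := congrArg Subtype.val hmul
    rw [hk']
    exact Subgroup.mul_mem _ (Subgroup.mem_sup_left (Subgroup.mem_subgroupOf.mp hn₀))
      (Subgroup.mem_sup_right (Subgroup.mem_map_of_mem K.subtype ha₀))
  have hAcop : (Nat.card A).Coprime p := by rw [hcardA]; exact hFbcop
  have hA1 : A ≠ ⊥ := by
    intro hb
    rw [hb, Subgroup.card_bot] at hcardA
    apply hFb1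
    exact Subgroup.card_eq_one.mp hcardA.symm
  have hAmap : A.map π = Fbar := by
    rw [← hKmap, ← hsup, Subgroup.map_sup]
    have : F.map π = ⊥ := by
      rw [eq_bot_iff]
      rintro _ ⟨f, hf, rfl⟩
      rw [Subgroup.mem_bot]
      exact (QuotientGroup.eq_one_iff f).mpr hf
    rw [this, bot_sup_eq]
  have hFA : F ⊓ A = ⊥ := by
    apply (Subgroup.disjoint_of_coprime_natCard ?_).eq_bot
    rw [hkF]
    exact (Nat.Coprime.pow_right kF hAcop).symm
  -- `A` is nilpotent
  have hAnil : Group.IsNilpotent A := by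
    have hmapnil : Group.IsNilpotent (A.map π) := by rw [hAmap]; exact hFbnil
    have hinj : Function.Injective (π.subgroupMap A) := by
      rw [injective_iff_map_eq_one]
      intro a ha
      have h1 : π (a : G) = 1 := congrArg Subtype.val ha
      have h2 : (a : G) ∈ F := (QuotientGroup.eq_one_iff _).mp h1
      have h3 : (a : G) ∈ F ⊓ A := Subgroup.mem_inf.mpr ⟨h2, a.2⟩
      rw [hFA, Subgroup.mem_bot] at h3
      exact Subtype.ext h3
    have e : A ≃* A.map π :=
      MulEquiv.ofBijective (π.subgroupMap A) ⟨hinj, π.subgroupMap_surjective A⟩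
    haveI := hmapnil
    exact Group.nilpotent_of_mulEquiv e.symm
  refine ⟨A, hA1, hAcop, by rw [hsup]; exact hKn, hAnil, ?_⟩
  -- centralizer
  intro c hc
  rw [hsup, hK, Subgroup.mem_comap]
  apply Helper1.centralizer_fittingSubgroup_le_of_isSolvable
  rw [Subgroup.mem_centralizer_iff]
  intro x hx
  have hx' : x ∈ A.map π := by rw [hAmap]; exact hx
  obtain ⟨a, ha, rfl⟩ := hx'
  rw [← map_mul, ← map_mul, Subgroup.mem_centralizer_iff.mp hc a ha]


end Cfsg.Agent.Helper8.CNSolv
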