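import Mathlib
import Cfsg.Prelude.Def_OddOrderLocal
import Cfsg.Agent.Lib.Helper8.CNMinBasic
import Cfsg.Agent.Lib.Helper14.Basic
import Cfsg.Prelude.Def_CaseTheorems
import Cfsg.Agent.S1476

/-!
# Three-step groups: elementary consequences of the definition
-/

set_option autoImplicit false
set_option linter.style.haveILetI false
set_option linter.unusedSectionVars false

namespace Cfsg.Agent.Helper8.CNMin

universe u

open Cfsg
open scoped Pointwise

section typeLevel

variable {X : Type u} [Group X] [Finite X]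

/-- A normal subgroup of `q`-power index together with a Sylow `q`-subgroup generates the group. -/
theorem sylow_sup_eq_top {q : ℕ} [hq : Fact q.Prime] (M : Subgroup X) (hidx : ∃ n : ℕ, M.index = q ^ n)
    (S : Sylow q X) : (S : Subgroup X) ⊔ M = ⊤ := by
  obtain ⟨n, hn⟩ := hidx
  have h1 : ((S : Subgroup X) ⊔ M).index ∣ q ^ n := hn ▸ Subgroup.index_dvd_of_le le_sup_right
  have h2 : ((S : Subgroup X) ⊔ M).index ∣ (S : Subgroup X).index :=
    Subgroup.index_dvd_of_le le_sup_left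
  obtain ⟨j, _, hj⟩ := (Nat.dvd_prime_pow hq.out).mp h1
  rcases Nat.eq_zero_or_pos j with h0 | hpos
  · rw [h0, pow_zero] at hj
    exact Subgroup.index_eq_one.mp hj
  · exfalso
    apply S.not_dvd_index
    refine dvd_trans ?_ h2
    rw [hj]
    exact dvd_pow_self q hpos.ne'

/-- A `q`-element outside a proper normal subgroup of `q`-power index. -/
theorem exists_qElement_not_mem {q : ℕ} [hq : Fact q.Prime] (M : Subgroup X) (hM : M ≠ ⊤)
    (hidx : ∃ n : ℕ, M.index = q ^ n) : ∃ x : X, x ∉ M ∧ ∃ k : ℕ, x ^ q ^ k = 1 := by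
  obtain ⟨S⟩ : Nonempty (Sylow q X) := inferInstance
  have hsup := sylow_sup_eq_top M hidx S
  have hnle : ¬ (S : Subgroup X) ≤ M := by
    intro h
    apply hM
    rw [← hsup]; exact (sup_eq_right.mpr h).symm
  obtain ⟨x, hxS, hxM⟩ := SetLike.not_le_iff_exists.mp hnle
  refine ⟨x, hxM, ?_⟩
  obtain ⟨k, hk⟩ := S.2 ⟨x, hxS⟩
  exact ⟨k, by simpa using congrArg Subtype.val hk⟩

/-- A Sylow `q`-subgroup is not contained in the derived subgroup when there is a proper normal
subgroup of `q`-power index. -/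
theorem sylow_not_le_commutator {q : ℕ} [hq : Fact q.Prime] (M : Subgroup X) [hMn : M.Normal]
    (hM : M ≠ ⊤) (hidx : ∃ n : ℕ, M.index = q ^ n) (S : Sylow q X) :
    ¬ (S : Subgroup X) ≤ commutator X := by
  intro hle
  have hsup := sylow_sup_eq_top M hidx S
  obtain ⟨n, hn⟩ := hidx
  have hcard : Nat.card (X ⧸ M) = q ^ n := by rw [← Subgroup.index_eq_card]; exact hn
  have hPQ : IsPGroup q (X ⧸ M) := IsPGroup.of_card hcard
  haveI : Group.IsNilpotent (X ⧸ M) := hPQ.isNilpotent
  haveI : Nontrivial (X ⧸ M) := by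
    rw [← Finite.one_lt_card_iff_nontrivial, ← Subgroup.index_eq_card]
    have h1 : M.index ≠ 1 := fun h => hM (Subgroup.index_eq_one.mp h)
    have h0 : M.index ≠ 0 := Subgroup.index_ne_zero_of_finite
    omega
  have hlt := IsSolvable.commutator_lt_top_of_nontrivial (X ⧸ M)
  apply hlt.ne
  rw [eq_top_iff]
  calc (⊤ : Subgroup (X ⧸ M)) = (⊤ : Subgroup X).map (QuotientGroup.mk' M) := by
        rw [← MonoidHom.range_eq_map]
        exact (MonoidHom.range_eq_top.mpr (QuotientGroup.mk'_surjective M)).symm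
    _ = ((S : Subgroup X) ⊔ M).map (QuotientGroup.mk' M) := by rw [hsup]
    _ = (S : Subgroup X).map (QuotientGroup.mk' M) := by
        rw [Subgroup.map_sup, QuotientGroup.map_mk'_self, sup_bot_eq]
    _ ≤ (commutator X).map (QuotientGroup.mk' M) := Subgroup.map_mono hle
    _ ≤ commutator (X ⧸ M) := by
        rw [commutator_def, Subgroup.map_commutator, commutator_def]
        exact Subgroup.commutator_mono le_top le_top

/-- `q`-elements of `H A` lie in `H`, for `H` a normal `q`-subgroup and `A` of order prime to `q`. -/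
theorem mem_of_qElement_mem_sup {q : ℕ} (H A : Subgroup X) [hHn : H.Normal] (hH : IsPGroup q H)
    (hA : (Nat.card A).Coprime q) {y : X} (hy : y ∈ H ⊔ A) (hyq : ∃ k : ℕ, y ^ q ^ k = 1) :
    y ∈ H := by
  have hy' : y ∈ ((H ⊔ A : Subgroup X) : Set X) := hy
  rw [Subgroup.normal_mul] at hy'
  obtain ⟨h, hh, a, ha, rfl⟩ := Set.mem_mul.mp hy'
  obtain ⟨k, hk⟩ := hyq
  -- in the quotient `X ⧸ H`, the image of `a` is killed by `q ^ k` and by `card A`
  have h1 : (QuotientGroup.mk' H a) ^ q ^ k = 1 := by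
    have : QuotientGroup.mk' H (h * a) = QuotientGroup.mk' H a := by
      have h0 : QuotientGroup.mk' H h = 1 := (QuotientGroup.eq_one_iff h).mpr hh
      rw [map_mul, h0, one_mul]
    rw [← this, ← map_pow, hk, map_one]
  have h2 : (QuotientGroup.mk' H a) ^ Nat.card A = 1 := by
    rw [← map_pow]
    have : a ^ Nat.card A = 1 := by
      exact S1473.pow_card_eq_one_of_mem A ha
    rw [this, map_one]
  have h3 : QuotientGroup.mk' H a = 1 :=
    Cfsg.Agent.Helper14.eq_one_of_pow_eq_one_of_coprime h1 h2 (Nat.Coprime.pow_left k hA.symm)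
  have haH : a ∈ H := (QuotientGroup.eq_one_iff a).mp h3
  exact H.mul_mem hh haH

/-- An element of `H A` centralizing `H` lies in `H` (three-step data). -/
theorem mem_of_centralizes {H A : Subgroup X} [hHn : H.Normal] (hH1 : H ≠ ⊥)
    (hfpf : ∀ a ∈ A, a ≠ 1 → H ⊓ Subgroup.centralizer ({a} : Set X) = ⊥)
    {y : X} (hy : y ∈ H ⊔ A) (hyc : ∀ h ∈ H, y * h = h * y) : y ∈ H := by
  have hy' : y ∈ ((H ⊔ A : Subgroup X) : Set X) := hy
  rw [Subgroup.normal_mul] at hy'
  obtain ⟨h, hh, a, ha, rfl⟩ := Set.mem_mul.mp hy'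
  by_cases ha1 : a = 1
  · rw [ha1, mul_one]; exact hh
  exfalso
  have hdis := hfpf a ha ha1
  -- `a` commutes with `h`
  have hah : h * a = a * h := by
    have := hyc h hh
    -- h * a * h = h * (h * a) → a * h = h * a
    have h2 : h * (a * h) = h * (h * a) := by rw [← mul_assoc, this]
    exact (mul_left_cancel h2).symm
  have hh1 : h = 1 := by
    have : h ∈ H ⊓ Subgroup.centralizer ({a} : Set X) :=
      Subgroup.mem_inf.2 ⟨hh, Subgroup.mem_centralizer_singleton_iff.mpr hah⟩
    rw [hdis, Subgroup.mem_bot] at this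
    exact this
  rw [hh1, one_mul] at hyc
  apply hH1
  rw [eq_bot_iff, ← hdis]
  intro h' hh'
  exact Subgroup.mem_inf.2 ⟨hh', Subgroup.mem_centralizer_singleton_iff.mpr (hyc h' hh').symm⟩

/-- A three-step group is not nilpotent. -/
theorem ts_not_nilpotent {p : ℕ} (hts : Cfsg.IsThreeStepGroup p X) : ¬ Group.IsNilpotent X := by
  intro hnil
  obtain ⟨hH1, A, hA1, -, -, hAcop, -, -, -, hfpf, -⟩ := hts
  obtain ⟨⟨a, haA⟩, ha1'⟩ := (Subgroup.ne_bot_iff_exists_ne_one).mp hA1
  have ha1 : a ≠ 1 := fun h0 => ha1' (Subtype.ext h0)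
  have hHp : IsPGroup p (pCore p X) := Cfsg.Agent.Helper14.pCore_isPGroup p X
  apply hH1
  rw [eq_bot_iff, ← hfpf a haA ha1]
  intro h hh
  refine Subgroup.mem_inf.2 ⟨hh, Subgroup.mem_centralizer_singleton_iff.mpr ?_⟩
  obtain ⟨k, hk⟩ := hHp ⟨h, hh⟩
  have hk' : h ^ p ^ k = 1 := by simpa using congrArg Subtype.val hk
  have hoa : orderOf a ∣ Nat.card A := by
    have := orderOf_dvd_natCard (⟨a, haA⟩ : A)
    rwa [Subgroup.orderOf_mk] at this
  have hcop : (orderOf h).Coprime (orderOf a) :=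
    Nat.Coprime.coprime_dvd_left (orderOf_dvd_of_pow_eq_one hk')
      (Nat.Coprime.coprime_dvd_right hoa (Nat.Coprime.pow_left k hAcop.symm))
  exact S1473.commute_of_coprime_nilpotent X h a (isOfFinOrder_of_finite h)
    (isOfFinOrder_of_finite a) hcop

/-- A three-step group has no nontrivial normal Sylow subgroup. -/
theorem ts_no_normal_sylow {p : ℕ} (hts : Cfsg.IsThreeStepGroup p X) (r : ℕ) [hr : Fact r.Prime]
    (R : Sylow r X) (hR1 : (R : Subgroup X) ≠ ⊥) (hRn : (R : Subgroup X).Normal) : False := by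
  obtain ⟨hH1, A, hA1, -, -, hAcop, hKn, hKtop, ⟨n, hn⟩, hfpf, -⟩ := hts
  set H := pCore p X with hH
  have hHp : IsPGroup p H := Cfsg.Agent.Helper14.pCore_isPGroup p X
  have hn1 : n ≠ 0 := by
    rintro rfl
    rw [pow_zero] at hn
    exact hKtop (Subgroup.index_eq_one.mp hn)
  by_cases hrp : r ∣ p
  · have hRp : IsPGroup p (R : Subgroup X) := by
      intro g
      obtain ⟨k, hk⟩ := R.2 g
      refine ⟨k, ?_⟩
      obtain ⟨c, hc⟩ := pow_dvd_pow_of_dvd hrp k
      rw [hc, pow_mul, hk, one_pow]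
    have hRH : (R : Subgroup X) ≤ H := Cfsg.Agent.Helper14.le_pCore hRn hRp
    have h1 : r ∣ (H ⊔ A).index := by
      rw [hn]; exact dvd_trans hrp (dvd_pow_self p hn1)
    exact R.not_dvd_index (dvd_trans h1 (Subgroup.index_dvd_of_le (hRH.trans le_sup_left)))
  · have hcop : Nat.Coprime r p := (Nat.Prime.coprime_iff_not_dvd hr.out).mpr hrp
    have hRH : ∀ y ∈ (R : Subgroup X), y ∈ H → y = 1 := by
      intro y hyR hyH
      obtain ⟨j, hj⟩ := R.2 ⟨y, hyR⟩
      obtain ⟨k, hk⟩ := hHp ⟨y, hyH⟩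
      have hj' : y ^ r ^ j = 1 := by simpa using congrArg Subtype.val hj
      have hk' : y ^ p ^ k = 1 := by simpa using congrArg Subtype.val hk
      exact Cfsg.Agent.Helper14.eq_one_of_pow_eq_one_of_coprime hj' hk'
        (Nat.Coprime.pow j k hcop)
    have hcent : ∀ y ∈ (R : Subgroup X), ∀ h ∈ H, y * h = h * y := by
      intro y hy h hh
      have h1 : y * h * y⁻¹ * h⁻¹ ∈ (R : Subgroup X) := by
        have : y * h * y⁻¹ * h⁻¹ = y * (h * y⁻¹ * h⁻¹) := by group
        rw [this]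
        exact Subgroup.mul_mem _ hy (hRn.conj_mem _ (Subgroup.inv_mem _ hy) h)
      have h2 : y * h * y⁻¹ * h⁻¹ ∈ H :=
        H.mul_mem ((pCore_normal p X).conj_mem h hh y) (H.inv_mem hh)
      have h3 := hRH _ h1 h2
      calc y * h = (y * h * y⁻¹ * h⁻¹) * (h * y) := by group
        _ = h * y := by rw [h3, one_mul]
    have hdisj : (H ⊔ A) ⊓ (R : Subgroup X) = ⊥ := by
      rw [eq_bot_iff]
      intro y hy
      obtain ⟨hy1, hy2⟩ := Subgroup.mem_inf.1 hy
      rw [Subgroup.mem_bot]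
      exact hRH y hy2 (mem_of_centralizes hH1 hfpf hy1 (hcent y hy2))
    haveI := hKn
    have h1 : (H ⊔ A).relIndex (R : Subgroup X) ∣ (H ⊔ A).index :=
      Subgroup.relIndex_dvd_index_of_normal _ _
    rw [← Subgroup.inf_relIndex_right, hdisj, Subgroup.relIndex_bot_left, hn] at h1
    have h2 : r ∣ Nat.card (R : Subgroup X) := by
      by_contra hnd
      obtain ⟨j, hj⟩ := IsPGroup.iff_card.mp R.2
      rcases Nat.eq_zero_or_pos j with h0 | hpos
      · rw [h0, pow_zero] at hj
        exact hR1 (Subgroup.card_eq_one.mp hj)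
      · exact hnd (hj ▸ dvd_pow_self r hpos.ne')
    exact hrp (hr.out.dvd_of_dvd_pow (dvd_trans h2 h1))

/-- A three-step group (for an arbitrary parameter) that is a solvable CN-group is a three-step
group for a prime. -/
theorem ts_prime [Group.IsSolvable X] (hCN : Cfsg.IsCNGroup X) {p : ℕ}
    (hts : Cfsg.IsThreeStepGroup p X) : ∃ q : ℕ, q.Prime ∧ Cfsg.IsThreeStepGroup q X :=
  Cfsg.Agent.S1476.threeStep_case hCN (ts_not_nilpotent hts)
    (fun r _ R hR1 hRn => ts_no_normal_sylow hts r R hR1 hRn)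

end typeLevel

end Cfsg.Agent.Helper8.CNMin
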