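import Mathlib
import Cfsg.Agent.Lib.Helper8.CNMinThree
import Cfsg.Agent.Lib.Helper8.CNSolvable
import Cfsg.Agent.S1474
import Cfsg.Agent.S0040

/-!
# Subgroups of a minimal simple CN-group of odd order: nilpotent, Frobenius type, or three-step
-/

set_option autoImplicit false
set_option linter.style.haveILetI false
set_option linter.unusedSectionVars false

namespace Cfsg.Agent.Helper8.CNMin

universe u

open Cfsg

variable {G : Type u} [Group G] [Finite G]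

/-- Three-step data for a subgroup `L` of `G`, expressed with subgroups of `G`. -/
structure TS (p : ℕ) (L H A : Subgroup G) : Prop where
  H_le : H ≤ L
  A_le : A ≤ L
  H_p : IsPGroup p H
  H_ne : H ≠ ⊥
  H_norm : ∀ l ∈ L, ∀ h ∈ H, l * h * l⁻¹ ∈ H
  A_ne : A ≠ ⊥
  A_cop : (Nat.card A).Coprime p
  HA_norm : ∀ l ∈ L, ∀ y ∈ H ⊔ A, l * y * l⁻¹ ∈ H ⊔ A
  ex : ∃ x ∈ L, x ∉ H ⊔ A ∧ ∃ k : ℕ, x ^ p ^ k = 1
  pel : ∀ y ∈ H ⊔ A, (∃ k : ℕ, y ^ p ^ k = 1) → y ∈ H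
  fpf : ∀ a ∈ A, a ≠ 1 → H ⊓ Subgroup.centralizer ({a} : Set G) = ⊥
  comm : ∀ x ∈ L, x ∉ H ⊔ A → ∀ a ∈ A, a ≠ 1 → x * a * x⁻¹ * a⁻¹ ∉ H
  nsyl : ∀ P : Sylow p G, (P : Subgroup G) ≤ L → ¬ (P : Subgroup G) ≤ ⁅L, L⁆

theorem coe_mem_map_iff (L : Subgroup G) {S₀ : Subgroup ↥L} {y : ↥L} :
    (y : G) ∈ S₀.map L.subtype ↔ y ∈ S₀ :=
  Subgroup.mem_map_iff_mem L.subtype_injective

theorem TS.of {q : ℕ} [hq : Fact q.Prime] (L : Subgroup G)
    (hts : Cfsg.IsThreeStepGroup q ↥L) : ∃ H A : Subgroup G, TS q L H A := by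
  obtain ⟨hH1, A₀, hA1, -, -, hAcop, hKn, hKtop, hidx, hfpf, hcomm⟩ := hts
  set H₀ := pCore q ↥L with hH₀
  have hH₀p : IsPGroup q H₀ := Cfsg.Agent.Helper14.pCore_isPGroup q ↥L
  have hH₀n : H₀.Normal := pCore_normal q ↥L
  have hsup : (H₀ ⊔ A₀).map L.subtype = H₀.map L.subtype ⊔ A₀.map L.subtype :=
    Subgroup.map_sup _ _ _
  refine ⟨H₀.map L.subtype, A₀.map L.subtype, ?_⟩
  refine
    { H_le := Subgroup.map_subtype_le _
      A_le := Subgroup.map_subtype_le _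
      H_p := hH₀p.map _
      H_ne := ?_
      H_norm := ?_
      A_ne := ?_
      A_cop := ?_
      HA_norm := ?_
      ex := ?_
      pel := ?_
      fpf := ?_
      comm := ?_
      nsyl := ?_ }
  · intro h
    rw [Subgroup.map_eq_bot_iff_of_injective _ L.subtype_injective] at h
    exact hH1 h
  · rintro l hl _ ⟨h₀, hh₀, rfl⟩
    have := hH₀n.conj_mem h₀ hh₀ ⟨l, hl⟩
    exact ⟨_, this, by simp⟩
  · intro h
    rw [Subgroup.map_eq_bot_iff_of_injective _ L.subtype_injective] at h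
    exact hA1 h
  · rw [Subgroup.card_map_of_injective L.subtype_injective]; exact hAcop
  · intro l hl y hy
    rw [← hsup] at hy ⊢
    obtain ⟨y₀, hy₀, rfl⟩ := hy
    have := hKn.conj_mem y₀ hy₀ ⟨l, hl⟩
    exact ⟨_, this, by simp⟩
  · obtain ⟨x₀, hx₀, k, hk⟩ := exists_qElement_not_mem (H₀ ⊔ A₀) hKtop hidx
    refine ⟨(x₀ : G), x₀.2, ?_, k, ?_⟩
    · rw [← hsup, coe_mem_map_iff]; exact hx₀
    · simpa using congrArg Subtype.val hk
  · intro y hy hyq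
    rw [← hsup] at hy
    obtain ⟨y₀, hy₀, rfl⟩ := hy
    obtain ⟨k, hk⟩ := hyq
    have hk' : y₀ ^ q ^ k = 1 := Subtype.ext (by simpa using hk)
    have := mem_of_qElement_mem_sup H₀ A₀ hH₀p hAcop hy₀ ⟨k, hk'⟩
    exact ⟨y₀, this, rfl⟩
  · rintro _ ⟨a₀, ha₀, rfl⟩ ha1
    have ha₀1 : a₀ ≠ 1 := fun h => ha1 (by rw [h]; rfl)
    have hd := hfpf a₀ ha₀ ha₀1
    rw [eq_bot_iff]
    rintro z ⟨⟨h₀, hh₀, rfl⟩, hz⟩
    rw [Subgroup.mem_bot]
    have hc : h₀ ∈ Subgroup.centralizer ({a₀} : Set ↥L) := by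
      rw [Subgroup.mem_centralizer_singleton_iff]
      have := Subgroup.mem_centralizer_singleton_iff.mp hz
      exact Subtype.ext (by simpa using this)
    have : h₀ ∈ H₀ ⊓ Subgroup.centralizer ({a₀} : Set ↥L) := Subgroup.mem_inf.2 ⟨hh₀, hc⟩
    rw [hd, Subgroup.mem_bot] at this
    rw [this]; rfl
  · rintro x hx hxn _ ⟨a₀, ha₀, rfl⟩ ha1
    have ha₀1 : a₀ ≠ 1 := fun h => ha1 (by rw [h]; rfl)
    have hx₀ : (⟨x, hx⟩ : ↥L) ∉ H₀ ⊔ A₀ := by
      intro h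
      apply hxn
      rw [← hsup]
      exact ⟨_, h, rfl⟩
    have := hcomm ⟨x, hx⟩ hx₀ a₀ ha₀ ha₀1
    intro hmem
    apply this
    have h2 : ((⟨x, hx⟩ * a₀ * (⟨x, hx⟩ : ↥L)⁻¹ * a₀⁻¹ : ↥L) : G) ∈ H₀.map L.subtype := by
      simpa using hmem
    exact (coe_mem_map_iff L).mp h2
  · intro P hPL hle
    have := sylow_not_le_commutator (H₀ ⊔ A₀) hKtop hidx (P.subtype hPL)
    apply this
    intro x hx
    rw [Sylow.coe_subtype, Subgroup.mem_subgroupOf] at hx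
    have h1 : (x : G) ∈ ⁅L, L⁆ := hle hx
    rw [← Subgroup.map_subtype_commutator] at h1
    obtain ⟨y, hy, hyx⟩ := h1
    have : y = x := Subtype.ext hyx
    rw [← this]; exact hy

/-- Frobenius-type data for a subgroup `L` of `G`. -/
structure FT (L K E : Subgroup G) : Prop where
  K_le : K ≤ L
  E_le : E ≤ L
  K_norm : ∀ l ∈ L, ∀ k ∈ K, l * k * l⁻¹ ∈ K
  K_nil : Group.IsNilpotent K
  K_ne : K ≠ ⊥
  E_ne : E ≠ ⊥
  disj : K ⊓ E = ⊥
  prod : ∀ m ∈ L, ∃ k ∈ K, ∃ e ∈ E, m = k * e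
  fpf : ∀ e ∈ E, e ≠ 1 → K ⊓ Subgroup.centralizer ({e} : Set G) = ⊥
  E_comm : ∀ a ∈ E, ∀ b ∈ E, a * b = b * a
  cop : (Nat.card K).Coprime (Nat.card E)
  K_eq : K = Cfsg.fittingHallOf L

theorem FT.of (hodd : Odd (Nat.card G)) (hCN : Cfsg.IsCNGroup G) (L : Subgroup G)
    (hnn : ¬ Group.IsNilpotent ↥L) (r : ℕ) [Fact r.Prime] (R : Sylow r ↥L)
    (hR1 : (R : Subgroup ↥L) ≠ ⊥) (hRn : (R : Subgroup ↥L).Normal) :
    ∃ K E : Subgroup G, FT L K E := by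
  have hCNL := cn_subgroup hCN L
  obtain ⟨hH1, hH2, ⟨E₀, hc, hfrob, hfpf⟩, hquot⟩ :=
    Cfsg.Agent.S1474.result hCNL hnn r R hR1 hRn
  set K₀ := Cfsg.fittingHall ↥L with hK₀
  have hK₀n : K₀.Normal := inferInstance
  have hEnil : Group.IsNilpotent E₀ := by
    haveI := hquot
    exact Group.nilpotent_of_mulEquiv hc.symm.QuotientMulEquiv
  have hcyc : IsCyclic E₀ := by
    rcases Cfsg.Agent.Helper8.CNSolv.cyclic_or_cyclic_quaternion E₀ hEnil
      (fun q hq P => Cfsg.Agent.S0040.result K₀ E₀ hc hH1 hfpf q P) with h | ⟨C, Q, -, -, -, -, n, ⟨e⟩⟩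
    · exact h
    · exfalso
      have h1 : Nat.card Q = 4 * 2 ^ n := by
        haveI : NeZero (2 ^ n) := ⟨pow_ne_zero n two_ne_zero⟩
        rw [Nat.card_congr e.toEquiv, Nat.card_eq_fintype_card, QuaternionGroup.card]
      have h2 : Nat.card Q ∣ Nat.card G :=
        dvd_trans (Subgroup.card_subgroup_dvd_card Q) (Subgroup.card_subgroup_dvd_card L)
      have h3 : Even (Nat.card G) := by
        rw [h1] at h2
        exact (even_iff_two_dvd.mpr (dvd_trans ⟨2 * 2 ^ n, by ring⟩ h2))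
      exact (Nat.not_even_iff_odd.mpr hodd) h3
  refine ⟨K₀.map L.subtype, E₀.map L.subtype, ?_⟩
  refine
    { K_le := Subgroup.map_subtype_le _
      E_le := Subgroup.map_subtype_le _
      K_norm := ?_
      K_nil := S1473.isNilpotent_map L.subtype Cfsg.Agent.S1474.fittingHall_isNilpotent
      K_ne := ?_
      E_ne := ?_
      disj := ?_
      prod := ?_
      fpf := ?_
      E_comm := ?_
      cop := ?_
      K_eq := rfl }
  · rintro l hl _ ⟨k₀, hk₀, rfl⟩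
    have := hK₀n.conj_mem k₀ hk₀ ⟨l, hl⟩
    exact ⟨_, this, by simp⟩
  · intro h
    rw [Subgroup.map_eq_bot_iff_of_injective _ L.subtype_injective] at h
    exact hH1 h
  · intro h
    rw [Subgroup.map_eq_bot_iff_of_injective _ L.subtype_injective] at h
    exact hfrob.1 h
  · rw [← Subgroup.map_inf _ _ _ L.subtype_injective, hc.disjoint.eq_bot, Subgroup.map_bot]
  · intro m hm
    obtain ⟨⟨⟨k₀, hk₀⟩, ⟨e₀, he₀⟩⟩, hke, -⟩ := hc.existsUnique ⟨m, hm⟩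
    refine ⟨(k₀ : G), ⟨k₀, hk₀, rfl⟩, (e₀ : G), ⟨e₀, he₀, rfl⟩, ?_⟩
    have := congrArg Subtype.val hke
    simpa using this.symm
  · rintro _ ⟨e₀, he₀, rfl⟩ he1
    have he₀1 : e₀ ≠ 1 := fun h => he1 (by rw [h]; rfl)
    have hd := hfpf e₀ he₀ he₀1
    rw [eq_bot_iff]
    rintro z ⟨⟨k₀, hk₀, rfl⟩, hz⟩
    rw [Subgroup.mem_bot]
    have hcz : k₀ ∈ Subgroup.centralizer ({e₀} : Set ↥L) := by
      rw [Subgroup.mem_centralizer_singleton_iff]
      have := Subgroup.mem_centralizer_singleton_iff.mp hz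
      exact Subtype.ext (by simpa using this)
    have : k₀ ∈ K₀ ⊓ Subgroup.centralizer ({e₀} : Set ↥L) := Subgroup.mem_inf.2 ⟨hk₀, hcz⟩
    rw [hd, Subgroup.mem_bot] at this
    rw [this]; rfl
  · rintro _ ⟨a₀, ha₀, rfl⟩ _ ⟨b₀, hb₀, rfl⟩
    obtain ⟨g, hg⟩ := hcyc.exists_generator
    have hcomm : ∀ x y : E₀, x * y = y * x := by
      intro x y
      obtain ⟨i, rfl⟩ := Subgroup.mem_zpowers_iff.mp (hg x)
      obtain ⟨j, rfl⟩ := Subgroup.mem_zpowers_iff.mp (hg y)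
      rw [← zpow_add, ← zpow_add, add_comm]
    have := hcomm ⟨a₀, ha₀⟩ ⟨b₀, hb₀⟩
    have h2 := congrArg (fun z : E₀ => ((z : ↥L) : G)) this
    simpa using h2
  · rw [Subgroup.card_map_of_injective L.subtype_injective,
      Subgroup.card_map_of_injective L.subtype_injective, ← hc.symm.index_eq_card]
    exact Cfsg.Agent.S1474.fittingHall_coprime

/-- The trichotomy for proper subgroups. -/
theorem trichotomy (h : Hyp G) (L : Subgroup G) (hL : L ≠ ⊤) :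
    Group.IsNilpotent ↥L ∨ (∃ K E : Subgroup G, FT L K E) ∨
      ∃ (q : ℕ) (_ : Fact q.Prime) (H A : Subgroup G), TS q L H A := by
  by_cases hnil : Group.IsNilpotent ↥L
  · exact Or.inl hnil
  right
  have hCNL := cn_subgroup h.cn L
  by_cases hns : ∃ (r : ℕ) (_ : Fact r.Prime) (R : Sylow r ↥L),
      (R : Subgroup ↥L) ≠ ⊥ ∧ (R : Subgroup ↥L).Normal
  · left
    obtain ⟨r, hr, R, hR1, hRn⟩ := hns
    exact FT.of h.odd h.cn L hnil r R hR1 hRn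
  · right
    haveI := h.solv L hL
    obtain ⟨q, hq, hts⟩ := Cfsg.Agent.S1476.threeStep_case hCNL hnil
      (fun r hr R hR1 hRn => hns ⟨r, hr, R, hR1, hRn⟩)
    haveI : Fact q.Prime := ⟨hq⟩
    obtain ⟨H, A, hTS⟩ := TS.of L hts
    exact ⟨q, ⟨hq⟩, H, A, hTS⟩

end Cfsg.Agent.Helper8.CNMin
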