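import Mathlib
import Cfsg.Agent.Lib.Helper8.CNMinStruct
import Cfsg.Agent.Lib.Helper8.CNMinLocal
import Cfsg.Agent.S1477

/-!
# No three-step subgroups in a minimal simple CN-group of odd order
-/

set_option autoImplicit false
set_option linter.style.haveILetI false
set_option linter.unusedSectionVars false

namespace Cfsg.Agent.Helper8.CNMin

universe u

open Cfsg
open scoped commutatorElement

variable {G : Type u} [Group G] [Finite G]

/-- Every nilpotent subgroup lies in a maximal nilpotent subgroup. -/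
theorem exists_max_nilpotent (C : Subgroup G) (hC : Group.IsNilpotent C) :
    ∃ X : Subgroup G, C ≤ X ∧ Group.IsNilpotent X ∧
      ∀ L : Subgroup G, Group.IsNilpotent L → X ≤ L → L = X := by
  have hne : {X : Subgroup G | C ≤ X ∧ Group.IsNilpotent X}.Nonempty := ⟨C, le_rfl, hC⟩
  obtain ⟨X, ⟨hCX, hXn⟩, hmax⟩ := WellFounded.has_min wellFounded_gt _ hne
  refine ⟨X, hCX, hXn, fun L hL hXL => ?_⟩
  by_contra hne'
  exact hmax L ⟨hCX.trans hXL, hL⟩ (lt_of_le_of_ne hXL (Ne.symm hne'))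

/-- A `p`-element normalizing a Sylow `p`-subgroup lies in it. -/
theorem mem_sylow_of_normalizes {p : ℕ} [Fact p.Prime] (P : Sylow p G) {x : G}
    (hx : ∃ k : ℕ, x ^ p ^ k = 1) (hn : x ∈ Subgroup.normalizer ((P : Subgroup G) : Set G)) :
    x ∈ (P : Subgroup G) := by
  have hZ : IsPGroup p (Subgroup.zpowers x) := by
    obtain ⟨k, hk⟩ := hx
    rintro ⟨y, hy⟩
    obtain ⟨n, rfl⟩ := Subgroup.mem_zpowers_iff.mp hy
    refine ⟨k, Subtype.ext ?_⟩
    simp only [Subgroup.coe_pow, Subgroup.coe_one]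
    rw [← zpow_natCast, ← zpow_mul, mul_comm, zpow_mul, zpow_natCast, hk, one_zpow]
  have hle : Subgroup.zpowers x ≤ Subgroup.normalizer ((P : Subgroup G) : Set G) :=
    Subgroup.zpowers_le.2 hn
  have hsup : IsPGroup p (Subgroup.zpowers x ⊔ (P : Subgroup G) : Subgroup G) :=
    hZ.to_sup_of_normal_right' P.2 hle
  have := P.is_maximal' hsup le_sup_right
  rw [← this]
  exact le_sup_left (a := Subgroup.zpowers x) (Subgroup.mem_zpowers x)

/-- In a subgroup of Frobenius type the derived subgroup lies in the kernel. -/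
theorem FT.commutator_le {L K E : Subgroup G} (hft : FT L K E) : ⁅L, L⁆ ≤ K := by
  rw [Subgroup.commutator_le]
  intro a ha b hb
  obtain ⟨k₁, hk₁, e₁, he₁, rfl⟩ := hft.prod a ha
  obtain ⟨k₂, hk₂, e₂, he₂, rfl⟩ := hft.prod b hb
  have h1 : e₁ * k₂ * e₁⁻¹ ∈ K := hft.K_norm e₁ (hft.E_le he₁) k₂ hk₂
  have h2 : e₂ * k₁ * e₂⁻¹ ∈ K := hft.K_norm e₂ (hft.E_le he₂) k₁ hk₁
  have hc := hft.E_comm e₁ he₁ e₂ he₂
  have : ⁅k₁ * e₁, k₂ * e₂⁆ = (k₁ * (e₁ * k₂ * e₁⁻¹)) * (k₂ * (e₂ * k₁ * e₂⁻¹))⁻¹ := by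
    rw [commutatorElement_def]
    have e1 : k₁ * e₁ * (k₂ * e₂) = (k₁ * (e₁ * k₂ * e₁⁻¹)) * (e₁ * e₂) := by group
    have e2 : k₂ * e₂ * (k₁ * e₁) = (k₂ * (e₂ * k₁ * e₂⁻¹)) * (e₁ * e₂) := by
      rw [hc]; group
    calc k₁ * e₁ * (k₂ * e₂) * (k₁ * e₁)⁻¹ * (k₂ * e₂)⁻¹
        = (k₁ * e₁ * (k₂ * e₂)) * (k₂ * e₂ * (k₁ * e₁))⁻¹ := by group
      _ = (k₁ * (e₁ * k₂ * e₁⁻¹)) * (k₂ * (e₂ * k₁ * e₂⁻¹))⁻¹ := by rw [e1, e2]; group
  rw [this]
  exact K.mul_mem (K.mul_mem hk₁ h1) (K.inv_mem (K.mul_mem hk₂ h2))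

/-- The key contradiction: a `p`-subgroup containing `x` and normalized by `a`. -/
theorem TS.false_of_pgroup {p : ℕ} {L H A : Subgroup G} (hts : TS p L H A) {x a : G}
    (hxL : x ∈ L) (hx : x ∉ H ⊔ A) (ha : a ∈ A) (ha1 : a ≠ 1) (D : Subgroup G)
    (hD : IsPGroup p D) (hxD : x ∈ D) (haD : ∀ d ∈ D, a * d * a⁻¹ ∈ D) : False := by
  have hc : x * a * x⁻¹ * a⁻¹ ∈ D := by
    have : x * a * x⁻¹ * a⁻¹ = x * (a * x⁻¹ * a⁻¹) := by group
    rw [this]
    exact D.mul_mem hxD (haD _ (D.inv_mem hxD))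
  have hcHA : x * a * x⁻¹ * a⁻¹ ∈ H ⊔ A := by
    have haHA : a ∈ H ⊔ A := (le_sup_right : A ≤ H ⊔ A) ha
    exact (H ⊔ A).mul_mem (hts.HA_norm x hxL a haHA) ((H ⊔ A).inv_mem haHA)
  obtain ⟨k, hk⟩ := hD ⟨_, hc⟩
  have hk' : (x * a * x⁻¹ * a⁻¹) ^ p ^ k = 1 := by simpa using congrArg Subtype.val hk
  exact hts.comm x hxL hx a ha ha1 (hts.pel _ hcHA ⟨k, hk'⟩)

/-- A subgroup that is not a `p`-group has order divisible by another prime. -/
theorem exists_prime_ne_dvd {p : ℕ} [hp : Fact p.Prime] (C : Subgroup G) (hC : ¬ IsPGroup p C) :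
    ∃ r : ℕ, r.Prime ∧ r ≠ p ∧ r ∣ Nat.card C := by
  by_contra hcon
  push Not at hcon
  apply hC
  have := Nat.eq_prime_pow_of_unique_prime_dvd (Nat.card_pos (α := C)).ne' (p := p)
    (fun {q} hq hqd => by
      by_contra hne
      exact hcon q hq hne hqd)
  exact IsPGroup.of_card this

theorem not_isPrimePow_of_two_primes {n p r : ℕ} (hp : p.Prime) (hr : r.Prime) (hne : r ≠ p)
    (hpn : p ∣ n) (hrn : r ∣ n) : ¬ IsPrimePow n := by
  intro h
  obtain ⟨q, k, hq, _, rfl⟩ := (isPrimePow_nat_iff n).mp h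
  have h1 : p = q := (Nat.prime_dvd_prime_iff_eq hp hq).mp (hp.dvd_of_dvd_pow hpn)
  have h2 : r = q := (Nat.prime_dvd_prime_iff_eq hr hq).mp (hr.dvd_of_dvd_pow hrn)
  exact hne (h2.trans h1.symm)

/-- A nontrivial `p`-subgroup has a nontrivial central element. -/
theorem exists_central {p : ℕ} [hp : Fact p.Prime] (H : Subgroup G) (hH : IsPGroup p H)
    (hH1 : H ≠ ⊥) : ∃ z ∈ H, z ≠ 1 ∧ ∀ y ∈ H, y * z = z * y := by
  haveI : Nontrivial H := (Subgroup.nontrivial_iff_ne_bot _).mpr hH1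
  haveI := hH.center_nontrivial
  obtain ⟨u₀, hu₀⟩ := exists_ne (1 : Subgroup.center H)
  refine ⟨((u₀ : H) : G), (u₀ : H).2, fun h0 => hu₀ (Subtype.ext (Subtype.ext h0)), ?_⟩
  intro y hy
  have := (Subgroup.mem_center_iff.mp u₀.2) ⟨y, hy⟩
  exact congrArg Subtype.val this

theorem pElement_of_mem {p : ℕ} {H : Subgroup G} (hH : IsPGroup p H) {y : G} (hy : y ∈ H) :
    ∃ k : ℕ, y ^ p ^ k = 1 := by
  obtain ⟨k, hk⟩ := hH ⟨y, hy⟩
  exact ⟨k, by simpa using congrArg Subtype.val hk⟩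

/-- Step 1: nontrivial elements of `O_p(L)` have `p`-groups as centralizers. -/
theorem TS.cent_pgroup (h : Hyp G) {p : ℕ} [hp : Fact p.Prime] {L H A : Subgroup G}
    (hts : TS p L H A) :
    ∀ y ∈ H, y ≠ 1 → IsPGroup p (Subgroup.centralizer ({y} : Set G)) := by
  obtain ⟨⟨a, haA⟩, ha1'⟩ := (Subgroup.ne_bot_iff_exists_ne_one).mp hts.A_ne
  have ha1 : a ≠ 1 := fun h0 => ha1' (Subtype.ext h0)
  obtain ⟨x, hxL, hxn, hxp⟩ := hts.ex
  obtain ⟨z, hzH, hz1, hzc⟩ := exists_central H hts.H_p hts.H_ne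
  have hCz : IsPGroup p (Subgroup.centralizer ({z} : Set G)) := by
    by_contra hnot
    set C := Subgroup.centralizer ({z} : Set G) with hC
    have hCnil := h.cn z hz1
    obtain ⟨X, hCX, hXnil, hXmax⟩ := exists_max_nilpotent C hCnil
    have hHC : H ≤ C := fun y hy => Subgroup.mem_centralizer_singleton_iff.mpr (hzc y hy)
    have hHX : H ≤ X := hHC.trans hCX
    have hpH : p ∣ Nat.card H := by
      obtain ⟨n, hn⟩ := IsPGroup.iff_card.mp hts.H_p
      rcases Nat.eq_zero_or_pos n with h0 | hpos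
      · rw [h0, pow_zero] at hn
        exact absurd (Subgroup.card_eq_one.mp hn) hts.H_ne
      · rw [hn]; exact dvd_pow_self p hpos.ne'
    have hpX : p ∣ Nat.card X := dvd_trans hpH (Subgroup.card_dvd_of_le hHX)
    obtain ⟨r, hr, hrp, hrC⟩ := exists_prime_ne_dvd C hnot
    have hrX : r ∣ Nat.card X := dvd_trans hrC (Subgroup.card_dvd_of_le hCX)
    have hnpp : ¬ IsPrimePow (Nat.card X) :=
      not_isPrimePow_of_two_primes hp.out hr hrp hpX hrX
    have hne1 : Nat.card X ≠ 1 := by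
      intro h1
      rw [h1] at hpX
      exact hp.out.ne_one (Nat.dvd_one.mp hpX)
    obtain ⟨hcop, hTI, -⟩ := Cfsg.Agent.S1477.result h.cn X hXnil hXmax
    have hTI' := hTI hnpp hne1
    -- `L` normalizes `X`
    have hLX : ∀ l ∈ L, X.map (MulAut.conj l).toMonoidHom = X := by
      intro l hl
      by_contra hne
      have hbot := hTI' l hne
      apply hts.H_ne
      rw [eq_bot_iff, ← hbot]
      intro y hy
      refine Subgroup.mem_inf.2 ⟨hHX hy, ?_⟩
      refine ⟨l⁻¹ * y * l, hHX ?_, by simp [MulAut.conj_apply, mul_assoc]⟩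
      have := hts.H_norm l⁻¹ (L.inv_mem hl) y hy
      simpa using this
    obtain ⟨D, hDX, hDp, hD1, hDall, hDidx, -⟩ := Cfsg.Agent.S1477.exists_pPart X hXnil p hpX
    have hXidx : ¬ p ∣ X.index := by
      intro hd
      have := Nat.dvd_gcd hpX hd
      rw [hcop] at this
      exact hp.out.ne_one (Nat.dvd_one.mp this)
    have hDidx' := hDidx hXidx
    -- `L` normalizes `D`
    have hLD : ∀ l ∈ L, ∀ d ∈ D, l * d * l⁻¹ ∈ D := by
      intro l hl d hd
      apply hDall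
      · rw [← hLX l hl]
        exact ⟨d, hDX hd, by simp [MulAut.conj_apply]⟩
      · obtain ⟨k, hk⟩ := pElement_of_mem hDp hd
        refine ⟨k, orderOf_dvd_of_pow_eq_one ?_⟩
        rw [conj_pow, hk]; group
    have hxD : x ∈ D := by
      have hxN : x ∈ Subgroup.normalizer (((hDp.toSylow hDidx' : Sylow p G) : Subgroup G) : Set G) := by
        rw [IsPGroup.toSylow_coe, Subgroup.mem_normalizer_iff]
        intro g
        constructor
        · intro hg; exact hLD x hxL g hg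
        · intro hg
          have := hLD x⁻¹ (L.inv_mem hxL) _ hg
          have e : x⁻¹ * (x * g * x⁻¹) * x⁻¹⁻¹ = g := by group
          rwa [e] at this
      have := mem_sylow_of_normalizes (hDp.toSylow hDidx') hxp hxN
      rwa [IsPGroup.toSylow_coe] at this
    exact hts.false_of_pgroup hxL hxn haA ha1 D hDp hxD (fun d hd => hLD a (hts.A_le haA) d hd)
  intro y hy hy1
  obtain ⟨k, hk⟩ := pElement_of_mem hts.H_p hzH
  exact isPGroup_centralizer_of h.cn hy1 (hzc y hy).symm ⟨k, orderOf_dvd_of_pow_eq_one hk⟩ hCz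


theorem TS.le_normalizer {p : ℕ} {L H A : Subgroup G} (hts : TS p L H A) :
    L ≤ Subgroup.normalizer (H : Set G) := by
  intro l hl
  rw [Subgroup.mem_normalizer_iff]
  intro g
  constructor
  · intro hg; exact hts.H_norm l hl g hg
  · intro hg
    have := hts.H_norm l⁻¹ (L.inv_mem hl) _ hg
    have e : l⁻¹ * (l * g * l⁻¹) * l⁻¹⁻¹ = g := by group
    rwa [e] at this

/-- If `P ≤ K` with `K` nilpotent and normalized by `n`, then `n` normalizes the Sylow subgroup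
`P`. -/
theorem mem_normalizer_sylow_of_le_nilpotent {p : ℕ} [Fact p.Prime] (P : Sylow p G)
    (K : Subgroup G) (hK : Group.IsNilpotent K) (hPK : (P : Subgroup G) ≤ K) {n : G}
    (hn : ∀ k ∈ K, n * k * n⁻¹ ∈ K) : n ∈ Subgroup.normalizer ((P : Subgroup G) : Set G) := by
  open scoped Pointwise in
  have h1 : ((n • P : Sylow p G) : Subgroup G) ≤ K := by
    intro y hy
    rw [Sylow.coe_subgroup_smul, Subgroup.mem_pointwise_smul_iff_inv_smul_mem] at hy
    have h2 : (MulAut.conj n)⁻¹ • y = n⁻¹ * y * n := by simp [MulAut.smul_def]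
    rw [h2] at hy
    have h3 := hn _ (hPK hy)
    have e : n * (n⁻¹ * y * n) * n⁻¹ = y := by group
    rwa [e] at h3
  have heq := Cfsg.Agent.S1477.sylow_eq_of_le_nilpotent (n • P) P K hK h1 hPK
  rw [Subgroup.mem_normalizer_iff]
  intro g
  have key : n * g * n⁻¹ ∈ ((n • P : Sylow p G) : Subgroup G) ↔ g ∈ (P : Subgroup G) := by
    rw [Sylow.coe_subgroup_smul, Subgroup.mem_pointwise_smul_iff_inv_smul_mem]
    have h2 : (MulAut.conj n)⁻¹ • (n * g * n⁻¹) = g := by simp [MulAut.smul_def, mul_assoc]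
    rw [h2]
  rw [heq] at key
  exact key.symm

/-- Main step: a maximal three-step subgroup cannot exist. -/
theorem no_TS_aux (h : Hyp G) {p : ℕ} [hp : Fact p.Prime] {L H A : Subgroup G}
    (hts : TS p L H A)
    (hmax : ∀ L' : Subgroup G, L ≤ L' →
      (∃ (q : ℕ) (_ : Fact q.Prime) (H' A' : Subgroup G), TS q L' H' A') → L' = L) : False := by
  obtain ⟨⟨a, haA⟩, ha1'⟩ := (Subgroup.ne_bot_iff_exists_ne_one).mp hts.A_ne
  have ha1 : a ≠ 1 := fun h0 => ha1' (Subtype.ext h0)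
  obtain ⟨x, hxL, hxn, hxp⟩ := hts.ex
  obtain ⟨⟨h₀, hh₀H⟩, hh₀1'⟩ := (Subgroup.ne_bot_iff_exists_ne_one).mp hts.H_ne
  have hh₀1 : h₀ ≠ 1 := fun h0 => hh₀1' (Subtype.ext h0)
  -- `p` is odd
  have hp2 : p ≠ 2 := by
    rintro rfl
    have h1 : orderOf h₀ ∣ Nat.card G := orderOf_dvd_natCard h₀
    obtain ⟨k, hk⟩ := pElement_of_mem hts.H_p hh₀H
    obtain ⟨j, _, hj⟩ := (Nat.dvd_prime_pow Nat.prime_two).mp (orderOf_dvd_of_pow_eq_one hk)
    rcases Nat.eq_zero_or_pos j with h0 | hpos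
    · rw [h0, pow_zero] at hj
      exact hh₀1 (orderOf_eq_one_iff.mp hj)
    · have h2 : 2 ∣ Nat.card G := dvd_trans (hj ▸ dvd_pow_self 2 hpos.ne') h1
      exact (Nat.not_even_iff_odd.mpr h.odd) (even_iff_two_dvd.mpr h2)
  have hHc := hts.cent_pgroup h
  obtain ⟨P, hHP⟩ := hts.H_p.exists_le_sylow
  have hP1 : (P : Subgroup G) ≠ ⊥ := ne_bot_of_le_ne_bot hts.H_ne hHP
  obtain ⟨z', hz'P, hz'1, hz'c⟩ := exists_central (P : Subgroup G) P.2 hP1
  obtain ⟨k₀, hk₀⟩ := pElement_of_mem hts.H_p hh₀H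
  have hCz' : IsPGroup p (Subgroup.centralizer ({z'} : Set G)) :=
    isPGroup_centralizer_of h.cn hz'1 (hz'c h₀ (hHP hh₀H)) ⟨k₀, orderOf_dvd_of_pow_eq_one hk₀⟩
      (hHc h₀ hh₀H hh₀1)
  obtain ⟨k₁, hk₁⟩ := pElement_of_mem P.2 hz'P
  have hPc : ∀ y ∈ (P : Subgroup G), y ≠ 1 →
      IsPGroup p (Subgroup.centralizer ({y} : Set G)) := fun y hy hy1 =>
    isPGroup_centralizer_of h.cn hy1 (hz'c y hy).symm ⟨k₁, orderOf_dvd_of_pow_eq_one hk₁⟩ hCz'
  have hPC : PCent p G := cent_global P hPc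
  have hPN := sylow_le_NZJ hp2 P
  have hLN : L ≤ NZJ P := hts.le_normalizer.trans (local_le h hp2 hPC P H hHP hts.H_ne)
  have hN : NZJ P ≠ ⊤ :=
    h.normalizer_ne_top (Cfsg.centerThompsonAOf (P : Subgroup G))
      (P.2.to_le (Cfsg.Agent.S0658.centerThompsonAOf_le_self (P : Subgroup G)))
      (Cfsg.Agent.S0658.centerThompsonAOf_ne_bot (P : Subgroup G) P.2 hP1)
  have hPcomm := sylow_le_commutator h hp2 hPC P
  rcases trichotomy h (NZJ P) hN with hnil | ⟨K, E, hft⟩ | ⟨q, hq, H', A', hts'⟩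
  · -- nilpotent
    apply hts.H_ne
    rw [eq_bot_iff, ← hts.fpf a haA ha1]
    intro y hy
    refine Subgroup.mem_inf.2 ⟨hy, Subgroup.mem_centralizer_singleton_iff.mpr ?_⟩
    obtain ⟨k, hk⟩ := pElement_of_mem hts.H_p hy
    have hoa : orderOf a ∣ Nat.card A := by
      have := orderOf_dvd_natCard (⟨a, haA⟩ : A)
      rwa [Subgroup.orderOf_mk] at this
    have hcop : (orderOf y).Coprime (orderOf a) :=
      Nat.Coprime.coprime_dvd_left (orderOf_dvd_of_pow_eq_one hk)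
        (Nat.Coprime.coprime_dvd_right hoa (Nat.Coprime.pow_left k hts.A_cop.symm))
    exact S1473.commute_of_mem_nilpotent hnil (hLN (hts.H_le hy)) (hLN (hts.A_le haA)) hcop
  · -- Frobenius type
    have hPK : (P : Subgroup G) ≤ K := hPcomm.trans hft.commutator_le
    have hnorm : ∀ n ∈ NZJ P, n ∈ Subgroup.normalizer ((P : Subgroup G) : Set G) :=
      fun n hn => mem_normalizer_sylow_of_le_nilpotent P K hft.K_nil hPK (hft.K_norm n hn)
    have hxP : x ∈ (P : Subgroup G) := mem_sylow_of_normalizes P hxp (hnorm x (hLN hxL))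
    have haP := hnorm a (hLN (hts.A_le haA))
    rw [Subgroup.mem_normalizer_iff] at haP
    exact hts.false_of_pgroup hxL hxn haA ha1 (P : Subgroup G) P.2 hxP
      (fun d hd => (haP d).mp hd)
  · -- three-step
    have hNL := hmax (NZJ P) hLN ⟨q, hq, H', A', hts'⟩
    rw [hNL] at hPN hPcomm
    exact hts.nsyl P hPN hPcomm

/-- No subgroup of `G` carries three-step data. -/
theorem no_TS (h : Hyp G) : ¬ ∃ (L : Subgroup G) (q : ℕ) (_ : Fact q.Prime) (H A : Subgroup G),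
    TS q L H A := by
  intro hex
  have hne : {L : Subgroup G | ∃ (q : ℕ) (_ : Fact q.Prime) (H A : Subgroup G),
      TS q L H A}.Nonempty := by
    obtain ⟨L, hL⟩ := hex
    exact ⟨L, hL⟩
  obtain ⟨L, ⟨q, hq, H, A, hts⟩, hmax⟩ := WellFounded.has_min wellFounded_gt _ hne
  haveI := hq
  refine no_TS_aux h hts (fun L' hLL' hL' => ?_)
  by_contra hne'
  exact hmax L' hL' (lt_of_le_of_ne hLL' (Ne.symm hne'))

/-- **No three-step subgroups.** -/
theorem no_threeStep (h : Hyp G) (L : Subgroup G) (p : ℕ) : ¬ Cfsg.IsThreeStepGroup p ↥L := by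
  intro hts
  have hL : L ≠ ⊤ := by
    rintro rfl
    -- `G` itself would have a proper nontrivial normal subgroup
    obtain ⟨hH1, A, hA1, -, -, -, hKn, hKtop, -, -, -⟩ := hts
    have hn : ((pCore p ↥(⊤ : Subgroup G) ⊔ A).map (⊤ : Subgroup G).subtype).Normal := by
      constructor
      rintro _ ⟨y, hy, rfl⟩ g
      exact ⟨⟨g, Subgroup.mem_top g⟩ * y * ⟨g, Subgroup.mem_top g⟩⁻¹,
        hKn.conj_mem y hy ⟨g, Subgroup.mem_top g⟩, by simp⟩
    rcases @Hyp.normal_eq _ _ h _ hn with h0 | h0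
    · rw [Subgroup.map_eq_bot_iff_of_injective _ (Subgroup.subtype_injective _)] at h0
      apply hH1
      rw [eq_bot_iff, ← h0]; exact le_sup_left
    · apply hKtop
      rw [eq_top_iff]
      intro y _
      have : (y : G) ∈ (pCore p ↥(⊤ : Subgroup G) ⊔ A).map (⊤ : Subgroup G).subtype := by
        rw [h0]; exact Subgroup.mem_top _
      exact (coe_mem_map_iff _).mp this
  haveI := h.solv L hL
  obtain ⟨q, hq, hts'⟩ := ts_prime (cn_subgroup h.cn L) hts
  haveI : Fact q.Prime := ⟨hq⟩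
  obtain ⟨H, A, hTS⟩ := TS.of L hts'
  exact no_TS h ⟨L, q, ⟨hq⟩, H, A, hTS⟩


end Cfsg.Agent.Helper8.CNMin
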