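import Mathlib
import Cfsg.Agent.Lib.Helper8.CNMinNoTS

/-!
# CN-groups: maximal nilpotent subgroups are conjugate or of coprime orders
-/

set_option autoImplicit false
set_option linter.style.haveILetI false
set_option linter.unusedSectionVars false

namespace Cfsg.Agent.Helper8.CNMin

universe u

open Cfsg
open scoped Pointwise

variable {G : Type u} [Group G] [Finite G]

/-- `H` is a maximal nilpotent subgroup. -/
def MaxNil (H : Subgroup G) : Prop :=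
  Group.IsNilpotent ↥H ∧ ∀ L : Subgroup G, Group.IsNilpotent L → H ≤ L → L = H

theorem MaxNil.coprime (hCN : Cfsg.IsCNGroup G) {H : Subgroup G} (hH : MaxNil H) :
    (Nat.card H).Coprime H.index :=
  Cfsg.Agent.S1477.partA hCN H hH.1 hH.2

/-- A maximal nilpotent subgroup is the centralizer of any nontrivial central element of its
`p`-part. -/
theorem MaxNil.eq_centralizer (hCN : Cfsg.IsCNGroup G) {H : Subgroup G} (hH : MaxNil H) {p : ℕ}
    (hp : p.Prime) {P : Subgroup G}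
    (hPall : ∀ y ∈ H, (∃ k : ℕ, orderOf y ∣ p ^ k) → y ∈ P) {z : G} (hzH : z ∈ H)
    (hzp : ∃ k : ℕ, orderOf z ∣ p ^ k) (hz1 : z ≠ 1) (hzc : ∀ y ∈ P, y * z = z * y) :
    Subgroup.centralizer ({z} : Set G) = H :=
  Cfsg.Agent.S1477.centralizer_eq hCN H hH.2 hz1
    (Cfsg.Agent.S1477.central_of_p_central H hH.1 hp hzH hzp
      (fun y hy hyp => hzc y (hPall y hy hyp)))

/-- The Sylow data of a maximal nilpotent subgroup at a prime dividing its order. -/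
theorem MaxNil.exists_sylow (hCN : Cfsg.IsCNGroup G) {H : Subgroup G} (hH : MaxNil H) (p : ℕ)
    [hp : Fact p.Prime] (hpH : p ∣ Nat.card H) :
    ∃ S : Sylow p G, (S : Subgroup G) ≤ H ∧ (S : Subgroup G) ≠ ⊥ ∧
      (∀ y ∈ H, (∃ k : ℕ, orderOf y ∣ p ^ k) → y ∈ (S : Subgroup G)) ∧
      ∀ z ∈ (S : Subgroup G), z ≠ 1 → (∀ y ∈ (S : Subgroup G), y * z = z * y) →
        Subgroup.centralizer ({z} : Set G) = H := by
  obtain ⟨P, hPH, hPp, hP1, hPall, hPidx, -⟩ := Cfsg.Agent.S1477.exists_pPart H hH.1 p hpH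
  have hHidx : ¬ p ∣ H.index := by
    intro hd
    have := Nat.dvd_gcd hpH hd
    rw [hH.coprime hCN] at this
    exact hp.out.ne_one (Nat.dvd_one.mp this)
  refine ⟨hPp.toSylow (hPidx hHidx), ?_, ?_, ?_, ?_⟩
  · rw [IsPGroup.toSylow_coe]; exact hPH
  · rw [IsPGroup.toSylow_coe]; exact hP1
  · rw [IsPGroup.toSylow_coe]; exact hPall
  · rw [IsPGroup.toSylow_coe]
    intro z hz hz1 hzc
    obtain ⟨k, hk⟩ := pElement_of_mem hPp hz
    exact hH.eq_centralizer hCN hp.out hPall (hPH hz) ⟨k, orderOf_dvd_of_pow_eq_one hk⟩ hz1 hzc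

theorem centralizer_conj (g z : G) :
    Subgroup.centralizer ({g * z * g⁻¹} : Set G) =
      (Subgroup.centralizer ({z} : Set G)).map (MulAut.conj g).toMonoidHom := by
  ext y
  rw [Subgroup.mem_map]
  constructor
  · intro hy
    refine ⟨g⁻¹ * y * g, ?_, by simp [MulAut.conj_apply, mul_assoc]⟩
    rw [Subgroup.mem_centralizer_singleton_iff] at hy ⊢
    have : g⁻¹ * (y * (g * z * g⁻¹)) * g = g⁻¹ * ((g * z * g⁻¹) * y) * g := by rw [hy]
    calc g⁻¹ * y * g * z = g⁻¹ * (y * (g * z * g⁻¹)) * g := by group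
      _ = g⁻¹ * ((g * z * g⁻¹) * y) * g := this
      _ = z * (g⁻¹ * y * g) := by group
  · rintro ⟨c, hc, rfl⟩
    rw [Subgroup.mem_centralizer_singleton_iff] at hc ⊢
    simp only [MulEquiv.coe_toMonoidHom, MulAut.conj_apply]
    calc g * c * g⁻¹ * (g * z * g⁻¹) = g * (c * z) * g⁻¹ := by group
      _ = g * (z * c) * g⁻¹ := by rw [hc]
      _ = g * z * g⁻¹ * (g * c * g⁻¹) := by group

/-- Two maximal nilpotent subgroups are conjugate or of coprime orders. -/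
theorem MaxNil.conj_or_coprime (hCN : Cfsg.IsCNGroup G) {H₁ H₂ : Subgroup G} (h₁ : MaxNil H₁)
    (h₂ : MaxNil H₂) :
    (∃ g : G, H₂ = H₁.map (MulAut.conj g).toMonoidHom) ∨
      (Nat.card H₁).Coprime (Nat.card H₂) := by
  by_cases hcop : (Nat.card H₁).Coprime (Nat.card H₂)
  · exact Or.inr hcop
  left
  obtain ⟨p, hp, hp1, hp2⟩ := Nat.Prime.not_coprime_iff_dvd.mp hcop
  haveI : Fact p.Prime := ⟨hp⟩
  obtain ⟨S₁, hS₁H, hS₁1, hS₁all, hS₁c⟩ := h₁.exists_sylow hCN p hp1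
  obtain ⟨S₂, hS₂H, hS₂1, hS₂all, hS₂c⟩ := h₂.exists_sylow hCN p hp2
  obtain ⟨z, hzS, hz1, hzc⟩ := exists_central (S₁ : Subgroup G) S₁.2 hS₁1
  obtain ⟨g, hg⟩ := MulAction.exists_smul_eq G S₁ S₂
  have hmem : ∀ y : G, g * y * g⁻¹ ∈ (S₂ : Subgroup G) ↔ y ∈ (S₁ : Subgroup G) := by
    intro y
    rw [← hg, Sylow.coe_subgroup_smul, Subgroup.mem_pointwise_smul_iff_inv_smul_mem]
    have h2 : (MulAut.conj g)⁻¹ • (g * y * g⁻¹) = y := by simp [MulAut.smul_def, mul_assoc]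
    rw [h2]
  refine ⟨g, ?_⟩
  have e1 := hS₁c z hzS hz1 hzc
  have hz' : g * z * g⁻¹ ∈ (S₂ : Subgroup G) := (hmem z).mpr hzS
  have hz'1 : g * z * g⁻¹ ≠ 1 := by
    intro h0
    apply hz1
    have : z = g⁻¹ * (g * z * g⁻¹) * g := by group
    rw [this, h0]; group
  have hz'c : ∀ y ∈ (S₂ : Subgroup G), y * (g * z * g⁻¹) = (g * z * g⁻¹) * y := by
    intro y hy
    have hy' : g⁻¹ * y * g ∈ (S₁ : Subgroup G) := by
      rw [← hmem]
      have : g * (g⁻¹ * y * g) * g⁻¹ = y := by group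
      rw [this]; exact hy
    have := hzc _ hy'
    calc y * (g * z * g⁻¹) = g * ((g⁻¹ * y * g) * z) * g⁻¹ := by group
      _ = g * (z * (g⁻¹ * y * g)) * g⁻¹ := by rw [this]
      _ = (g * z * g⁻¹) * y := by group
  have e2 := hS₂c _ hz' hz'1 hz'c
  rw [← e2, centralizer_conj, e1]

theorem prime_dvd_orderOf_of_isPGroup {p : ℕ} [hp : Fact p.Prime] {x : G} (hx1 : x ≠ 1)
    (hx : IsPGroup p (Subgroup.zpowers x)) : ∃ k : ℕ, 0 < k ∧ orderOf x = p ^ k := by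
  obtain ⟨k, hk⟩ := IsPGroup.iff_card.mp hx
  rw [Nat.card_zpowers] at hk
  refine ⟨k, ?_, hk⟩
  rcases Nat.eq_zero_or_pos k with h0 | hpos
  · rw [h0, pow_zero] at hk
    exact absurd (orderOf_eq_one_iff.mp hk) hx1
  · exact hpos

/-- Transitivity of the commuting relation on primes in a CN-group. -/
theorem commuting_trans (hCN : Cfsg.IsCNGroup G) (p q r : ℕ) (hp : p.Prime) (hq : q.Prime)
    (hr : r.Prime) (x y y' z : G) (hx1 : x ≠ 1) (hy1 : y ≠ 1) (hy'1 : y' ≠ 1) (hz1 : z ≠ 1)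
    (hxp : IsPGroup p (Subgroup.zpowers x)) (hyq : IsPGroup q (Subgroup.zpowers y))
    (hy'q : IsPGroup q (Subgroup.zpowers y')) (hzr : IsPGroup r (Subgroup.zpowers z))
    (hxy : x * y = y * x) (hy'z : y' * z = z * y') :
    ∃ x' z' : G, x' ≠ 1 ∧ z' ≠ 1 ∧ IsPGroup p (Subgroup.zpowers x') ∧
      IsPGroup r (Subgroup.zpowers z') ∧ x' * z' = z' * x' := by
  haveI : Fact p.Prime := ⟨hp⟩
  haveI : Fact q.Prime := ⟨hq⟩
  haveI : Fact r.Prime := ⟨hr⟩
  obtain ⟨kx, hkx, hox⟩ := prime_dvd_orderOf_of_isPGroup hx1 hxp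
  obtain ⟨ky, hky, hoy⟩ := prime_dvd_orderOf_of_isPGroup hy1 hyq
  obtain ⟨ky', hky', hoy'⟩ := prime_dvd_orderOf_of_isPGroup hy'1 hy'q
  obtain ⟨kz, hkz, hoz⟩ := prime_dvd_orderOf_of_isPGroup hz1 hzr
  obtain ⟨X₁, hCX₁, hX₁n, hX₁m⟩ := exists_max_nilpotent _ (hCN y hy1)
  obtain ⟨X₂, hCX₂, hX₂n, hX₂m⟩ := exists_max_nilpotent _ (hCN y' hy'1)
  have hxX₁ : x ∈ X₁ := hCX₁ (Subgroup.mem_centralizer_singleton_iff.mpr hxy)
  have hyX₁ : y ∈ X₁ := hCX₁ (Subgroup.mem_centralizer_singleton_iff.mpr rfl)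
  have hy'X₂ : y' ∈ X₂ := hCX₂ (Subgroup.mem_centralizer_singleton_iff.mpr rfl)
  have hzX₂ : z ∈ X₂ := hCX₂ (Subgroup.mem_centralizer_singleton_iff.mpr hy'z.symm)
  have hq1 : q ∣ Nat.card X₁ := by
    have := Subgroup.orderOf_dvd_natCard X₁ hyX₁
    rw [hoy] at this
    exact dvd_trans (dvd_pow_self q hky.ne') this
  have hq2 : q ∣ Nat.card X₂ := by
    have := Subgroup.orderOf_dvd_natCard X₂ hy'X₂
    rw [hoy'] at this
    exact dvd_trans (dvd_pow_self q hky'.ne') this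
  have hr2 : r ∣ Nat.card X₂ := by
    have := Subgroup.orderOf_dvd_natCard X₂ hzX₂
    rw [hoz] at this
    exact dvd_trans (dvd_pow_self r hkz.ne') this
  have hr1 : r ∣ Nat.card X₁ := by
    rcases MaxNil.conj_or_coprime hCN ⟨hX₁n, hX₁m⟩ ⟨hX₂n, hX₂m⟩ with ⟨g, hg⟩ | hcop
    · rw [hg, Subgroup.card_map_of_injective (f := (MulAut.conj g).toMonoidHom)
        (MulAut.conj g).injective] at hr2
      exact hr2
    · exfalso
      have := Nat.dvd_gcd hq1 hq2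
      rw [hcop] at this
      exact hq.ne_one (Nat.dvd_one.mp this)
  by_cases hpr : p = r
  · subst hpr
    exact ⟨x, x, hx1, hx1, hxp, hxp, rfl⟩
  · obtain ⟨w, hw⟩ := exists_prime_orderOf_dvd_card' (G := ↥X₁) r hr1
    have hw' : orderOf (w : G) = r := by rw [Subgroup.orderOf_coe]; exact hw
    have hw1 : (w : G) ≠ 1 := by
      intro h0
      rw [h0, orderOf_one] at hw'
      exact hr.ne_one hw'.symm
    have hwr : IsPGroup r (Subgroup.zpowers (w : G)) := by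
      apply IsPGroup.of_card (n := 1)
      rw [Nat.card_zpowers, hw', pow_one]
    refine ⟨x, (w : G), hx1, hw1, hxp, hwr, ?_⟩
    apply S1473.commute_of_mem_nilpotent hX₁n hxX₁ w.2
    rw [hox, hw']
    exact Nat.Coprime.pow_left kx ((Nat.coprime_primes hp hr).mpr hpr)


end Cfsg.Agent.Helper8.CNMin
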