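import Mathlib
import Cfsg.Agent.Lib.Helper8.CNMinConj
import Cfsg.Agent.Lib.Helper20.NilpotentMax3
import Cfsg.Agent.Lib.Helper22.Burnside

/-!
# Minimal simple CN-groups of odd order: maximal subgroups and maximal nilpotent subgroups
-/

set_option autoImplicit false
set_option linter.style.haveILetI false
set_option linter.unusedSectionVars false

namespace Cfsg.Agent.Helper8.CNMin

universe u

open Cfsg
open scoped Pointwise

variable {G : Type u} [Group G] [Finite G]

/-- No normal `p`-complement for a prime dividing the order. -/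
theorem Hyp.no_npc (h : Hyp G) {p : ℕ} [hp : Fact p.Prime] (hpG : p ∣ Nat.card G) :
    ¬ Cfsg.HasNormalPComplement p G := by
  rintro ⟨P, N, hN, hc⟩
  rcases h.normal_eq N with h0 | h0
  · rw [h0, Subgroup.isComplement'_bot_left] at hc
    apply h.not_solvable
    have h1 : IsPGroup p (⊤ : Subgroup G) := hc ▸ P.2
    haveI : Group.IsNilpotent (⊤ : Subgroup G) := h1.isNilpotent
    haveI : Group.IsNilpotent G := Group.nilpotent_of_mulEquiv (Subgroup.topEquiv (G := G))
    infer_instance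
  · rw [h0, Subgroup.isComplement'_top_left] at hc
    have := P.not_dvd_index
    rw [hc, Subgroup.index_bot] at this
    exact this hpG

theorem Hyp.core_eq_bot (h : Hyp G) {M : Subgroup G} (hM : M ≠ ⊤) :
    ∀ L : Subgroup G, L.Normal → L ≤ M → L = ⊥ := by
  intro L hL hLM
  rcases h.normal_eq L with h0 | h0
  · exact h0
  · exfalso
    apply hM
    rw [eq_top_iff, ← h0]; exact hLM

theorem Hyp.coatom_ne_bot (h : Hyp G) {M : Subgroup G} (hM : IsCoatom M) : M ≠ ⊥ := by
  intro h0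
  subst h0
  apply h.nonab
  have hnt : ∃ x : G, x ≠ 1 := by
    by_contra hne
    push_neg at hne
    apply h.nonab
    constructor; constructor
    intro a b
    rw [hne a, hne b]
  obtain ⟨x, hx1⟩ := hnt
  have hz : Subgroup.zpowers x = ⊤ := by
    rcases hM.le_iff.mp (bot_le : (⊥ : Subgroup G) ≤ Subgroup.zpowers x) with h1 | h1
    · exact h1
    · exfalso
      apply hx1
      have : x ∈ Subgroup.zpowers x := Subgroup.mem_zpowers x
      rw [h1, Subgroup.mem_bot] at this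
      exact this
  constructor; constructor
  intro a b
  have ha : a ∈ Subgroup.zpowers x := by rw [hz]; exact Subgroup.mem_top a
  have hb : b ∈ Subgroup.zpowers x := by rw [hz]; exact Subgroup.mem_top b
  obtain ⟨i, rfl⟩ := Subgroup.mem_zpowers_iff.mp ha
  obtain ⟨j, rfl⟩ := Subgroup.mem_zpowers_iff.mp hb
  rw [← zpow_add, ← zpow_add, add_comm]

/-- Every maximal subgroup is of Frobenius type. -/
theorem coatom_FT (h : Hyp G) {M : Subgroup G} (hM : IsCoatom M) : ∃ K E : Subgroup G, FT M K E := by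
  rcases trichotomy h M hM.1 with hnil | hft | ⟨q, hq, H, A, hts⟩
  · exfalso
    have hM1 : Nat.card M ≠ 1 := by
      intro h1
      exact h.coatom_ne_bot hM (Subgroup.card_eq_one.mp h1)
    obtain ⟨p, hp, hpM⟩ := Nat.exists_prime_and_dvd hM1
    haveI : Fact p.Prime := ⟨hp⟩
    have hpG : p ∣ Nat.card G := dvd_trans hpM (Subgroup.card_subgroup_dvd_card M)
    have hp2 : p ≠ 2 := by
      rintro rfl
      exact (Nat.not_even_iff_odd.mpr h.odd) (even_iff_two_dvd.mpr hpG)
    exact h.no_npc hpG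
      (Cfsg.Agent.Helper20.hasNormalPComplement_of_odd_prime M hM hnil (h.core_eq_bot hM.1) p hpM hp2)
  · exact hft
  · exact absurd ⟨M, q, hq, H, A, hts⟩ (no_TS h)

theorem FT.le_normalizer {M K E : Subgroup G} (hft : FT M K E) :
    M ≤ Subgroup.normalizer (K : Set G) :=
  Cfsg.Agent.Helper20.le_normalizer_of_forall_conj_mem M K hft.K_norm

theorem FT.pow_decomp {M K E : Subgroup G} (hft : FT M K E) {k e : G} (hk : k ∈ K) (he : e ∈ E)
    (n : ℕ) : ∃ k' ∈ K, (k * e) ^ n = k' * e ^ n := by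
  induction n with
  | zero => exact ⟨1, K.one_mem, by simp⟩
  | succ n ih =>
    obtain ⟨k', hk', hpow⟩ := ih
    have hen : e ^ n ∈ M := hft.E_le (E.pow_mem he n)
    refine ⟨k' * (e ^ n * k * (e ^ n)⁻¹), K.mul_mem hk' (hft.K_norm _ hen k hk), ?_⟩
    rw [pow_succ, hpow, pow_succ]
    group

/-- An element of `M` of order prime to `|E|` lies in the kernel. -/
theorem FT.mem_K_of_coprime {M K E : Subgroup G} (hft : FT M K E) {t : G} (ht : t ∈ M)
    (hcop : (orderOf t).Coprime (Nat.card E)) : t ∈ K := by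
  obtain ⟨k, hk, e, he, rfl⟩ := hft.prod t ht
  obtain ⟨k', hk', hpow⟩ := hft.pow_decomp hk he (orderOf (k * e))
  rw [pow_orderOf_eq_one] at hpow
  have h1 : e ^ orderOf (k * e) ∈ K ⊓ E := by
    refine Subgroup.mem_inf.2 ⟨?_, E.pow_mem he _⟩
    have : e ^ orderOf (k * e) = k'⁻¹ := eq_inv_of_mul_eq_one_right hpow.symm
    rw [this]; exact K.inv_mem hk'
  rw [hft.disj, Subgroup.mem_bot] at h1
  have h2 : e ^ Nat.card E = 1 := Cfsg.Agent.S1473.pow_card_eq_one_of_mem E he
  have h3 : orderOf e ∣ Nat.gcd (orderOf (k * e)) (Nat.card E) :=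
    Nat.dvd_gcd (orderOf_dvd_of_pow_eq_one h1) (orderOf_dvd_of_pow_eq_one h2)
  rw [hcop, Nat.dvd_one, orderOf_eq_one_iff] at h3
  rw [h3, mul_one]; exact hk

theorem FT.mem_K_of_pElement {M K E : Subgroup G} (hft : FT M K E) {r : ℕ} (hr : r.Prime)
    (hrK : r ∣ Nat.card K) {t : G} (ht : t ∈ M) (htr : ∃ j : ℕ, orderOf t ∣ r ^ j) : t ∈ K := by
  obtain ⟨j, hj⟩ := htr
  apply hft.mem_K_of_coprime ht
  have h1 : (r ^ j).Coprime (Nat.card E) := by
    apply Nat.Coprime.pow_left
    exact Nat.Coprime.coprime_dvd_left hrK hft.cop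
  exact Nat.Coprime.coprime_dvd_left hj h1

/-- The normalizer of the kernel of a maximal subgroup, and its maximal nilpotency. -/
theorem FT.normalizer_eq (h : Hyp G) {M K E : Subgroup G} (hM : IsCoatom M) (hft : FT M K E) :
    Subgroup.normalizer (K : Set G) = M :=
  Cfsg.Agent.Helper20.normalizer_eq_of_coatom M hM (h.core_eq_bot hM.1) K hft.le_normalizer
    hft.K_le hft.K_ne

theorem FT.maxNil (h : Hyp G) {M K E : Subgroup G} (hM : IsCoatom M) (hft : FT M K E) :
    MaxNil K := by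
  refine ⟨hft.K_nil, ?_⟩
  intro X hX hKX
  have hK1 : Nat.card K ≠ 1 := fun h1 => hft.K_ne (Subgroup.card_eq_one.mp h1)
  obtain ⟨r, hr, hrK⟩ := Nat.exists_prime_and_dvd hK1
  haveI : Fact r.Prime := ⟨hr⟩
  have hrX : r ∣ Nat.card X := dvd_trans hrK (Subgroup.card_dvd_of_le hKX)
  obtain ⟨R, hRK, hRp, hR1, hRall, -, -⟩ := Cfsg.Agent.S1477.exists_pPart K hft.K_nil r hrK
  obtain ⟨Y, hYX, hYp, hY1, hYall, -, -⟩ := Cfsg.Agent.S1477.exists_pPart X hX r hrX
  have hRY : R ≤ Y := fun y hy =>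
    hYall y (hKX (hRK hy)) (Cfsg.Agent.S1473.orderOf_dvd_of_isPGroup hRp hy)
  -- `M` normalizes `R`
  have hconj_ord : ∀ (m y : G), orderOf (m * y * m⁻¹) = orderOf y := by
    intro m y
    have : m * y * m⁻¹ = MulAut.conj m y := by simp [MulAut.conj_apply]
    rw [this, MulEquiv.orderOf_eq]
  have hMR : M ≤ Subgroup.normalizer (R : Set G) := by
    apply Cfsg.Agent.Helper20.le_normalizer_of_forall_conj_mem
    intro m hm y hy
    apply hRall _ (hft.K_norm m hm y (hRK hy))
    obtain ⟨j, hj⟩ := Cfsg.Agent.S1473.orderOf_dvd_of_isPGroup hRp hy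
    exact ⟨j, by rw [hconj_ord]; exact hj⟩
  have hNR : Subgroup.normalizer (R : Set G) = M :=
    Cfsg.Agent.Helper20.normalizer_eq_of_coatom M hM (h.core_eq_bot hM.1) R hMR
      (hRK.trans hft.K_le) hR1
  -- `Y = R`
  have hYR : Y ≤ R := by
    by_contra hne
    obtain ⟨x, hxY, hxN, hxR⟩ := Cfsg.Agent.S0658.exists_normalizer_growth Y R hYp hRY hne
    rw [hNR] at hxN
    have hxK : x ∈ K := hft.mem_K_of_pElement hr hrK hxN
      (Cfsg.Agent.S1473.orderOf_dvd_of_isPGroup hYp hxY)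
    exact hxR (hRall x hxK (Cfsg.Agent.S1473.orderOf_dvd_of_isPGroup hYp hxY))
  have hYeq : Y = R := le_antisymm hYR hRY
  -- `X ≤ M`
  have hXM : X ≤ M := by
    rw [← hNR, ← hYeq]
    apply Cfsg.Agent.Helper20.le_normalizer_of_forall_conj_mem
    intro x hx y hy
    apply hYall _ (X.mul_mem (X.mul_mem hx (hYX hy)) (X.inv_mem hx))
    obtain ⟨j, hj⟩ := Cfsg.Agent.S1473.orderOf_dvd_of_isPGroup hYp hy
    exact ⟨j, by rw [hconj_ord]; exact hj⟩
  apply le_antisymm _ hKX
  intro x hx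
  obtain ⟨k, hk, e, he, rfl⟩ := hft.prod x (hXM hx)
  have heX : e ∈ X := by
    have : e = k⁻¹ * (k * e) := by group
    rw [this]; exact X.mul_mem (X.inv_mem (hKX hk)) hx
  by_cases he1 : e = 1
  · rw [he1, mul_one]; exact hk
  · exfalso
    obtain ⟨y, hyR, hy1⟩ : ∃ y ∈ R, y ≠ 1 := by
      by_contra hne
      push_neg at hne
      exact hR1 ((Subgroup.eq_bot_iff_forall R).mpr hne)
    obtain ⟨j, hj⟩ := Cfsg.Agent.S1473.orderOf_dvd_of_isPGroup hRp hyR
    have hcop : (orderOf y).Coprime (orderOf e) := by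
      have h1 : (r ^ j).Coprime (Nat.card E) := by
        apply Nat.Coprime.pow_left
        exact Nat.Coprime.coprime_dvd_left hrK hft.cop
      have h2 : orderOf e ∣ Nat.card E :=
        orderOf_dvd_of_pow_eq_one (Cfsg.Agent.S1473.pow_card_eq_one_of_mem E he)
      exact Nat.Coprime.coprime_dvd_left hj (Nat.Coprime.coprime_dvd_right h2 h1)
    have hcomm := Cfsg.Agent.S1473.commute_of_mem_nilpotent hX (hKX (hRK hyR)) heX hcop
    have : y ∈ K ⊓ Subgroup.centralizer ({e} : Set G) :=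
      Subgroup.mem_inf.2 ⟨hRK hyR, Subgroup.mem_centralizer_singleton_iff.mpr hcomm⟩
    rw [hft.fpf e he he1, Subgroup.mem_bot] at this
    exact hy1 this

theorem zpowers_isNilpotent (x : G) : Group.IsNilpotent ↥(Subgroup.zpowers x) := by
  have hc : ∀ a b : ↥(Subgroup.zpowers x), a * b = b * a := by
    intro a b
    obtain ⟨i, hi⟩ := Subgroup.mem_zpowers_iff.mp a.2
    obtain ⟨j, hj⟩ := Subgroup.mem_zpowers_iff.mp b.2
    apply Subtype.ext
    simp only [Subgroup.coe_mul]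
    rw [← hi, ← hj, ← zpow_add, ← zpow_add, add_comm]
  exact @CommGroup.isNilpotent _
    { (inferInstance : Group ↥(Subgroup.zpowers x)) with mul_comm := hc }

theorem MaxNil.ne_bot (h : Hyp G) {H : Subgroup G} (hH : MaxNil H) : H ≠ ⊥ := by
  intro h0
  subst h0
  apply h.nonab
  constructor; constructor
  have hall : ∀ x : G, x = 1 := by
    intro x
    have hn : Group.IsNilpotent ↥(Subgroup.zpowers x) := zpowers_isNilpotent x
    have := hH.2 _ hn bot_le
    have hx : x ∈ Subgroup.zpowers x := Subgroup.mem_zpowers x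
    rw [this, Subgroup.mem_bot] at hx
    exact hx
  intro a b
  rw [hall a, hall b]

/-- The normalizer of a maximal nilpotent subgroup is a maximal subgroup of Frobenius type with
kernel `H`. -/
theorem MaxNil.exists_FT (h : Hyp G) {H : Subgroup G} (hH : MaxNil H) :
    ∃ E : Subgroup G, FT (Subgroup.normalizer (H : Set G)) H E ∧
      IsCoatom (Subgroup.normalizer (H : Set G)) := by
  have hH1 : Nat.card H ≠ 1 := fun h1 => hH.ne_bot h (Subgroup.card_eq_one.mp h1)
  obtain ⟨p, hp, hpH⟩ := Nat.exists_prime_and_dvd hH1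
  haveI : Fact p.Prime := ⟨hp⟩
  have hpG : p ∣ Nat.card G := dvd_trans hpH (Subgroup.card_subgroup_dvd_card H)
  obtain ⟨S, hSH, hS1, hSall, hSc⟩ := hH.exists_sylow h.cn p hpH
  have hNS : Subgroup.normalizer ((S : Subgroup G) : Set G) ≠ ⊤ :=
    h.normalizer_ne_top (S : Subgroup G) S.2 hS1
  obtain ⟨M, hM, hNM⟩ := (eq_top_or_exists_le_coatom _).resolve_left hNS
  obtain ⟨K, E, hft⟩ := coatom_FT h hM
  have hK := hft.maxNil h hM
  have hNK := hft.normalizer_eq h hM
  have hSM : (S : Subgroup G) ≤ M := Subgroup.le_normalizer.trans hNM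
  by_cases hpK : p ∣ Nat.card K
  · have hSK : (S : Subgroup G) ≤ K := fun y hy =>
      hft.mem_K_of_pElement hp hpK (hSM hy) (Cfsg.Agent.S1473.orderOf_dvd_of_isPGroup S.2 hy)
    obtain ⟨S', hS'K, hS'1, hS'all, hS'c⟩ := hK.exists_sylow h.cn p hpK
    have hSS' : (S : Subgroup G) = S' :=
      Cfsg.Agent.S1477.sylow_eq_of_le_nilpotent S S' K hK.1 hSK hS'K
    obtain ⟨z, hzS, hz1, hzc⟩ := exists_central (S : Subgroup G) S.2 hS1
    have e1 := hSc z hzS hz1 hzc
    have e2 := hS'c z (hSS' ▸ hzS) hz1 (fun y hy => hzc y (hSS' ▸ hy))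
    have hHK : H = K := e1.symm.trans e2
    subst hHK
    rw [hNK]
    exact ⟨E, hft, hM⟩
  · exfalso
    apply h.no_npc hpG
    apply Cfsg.Agent.Helper22.hasNormalPComplement_of_normalizer_le_centralizer S
    intro n hn
    rw [Subgroup.mem_centralizer_iff]
    intro s hs
    have hnM : n ∈ M := hNM hn
    have h1 : n * s * n⁻¹ * s⁻¹ ∈ (S : Subgroup G) := by
      apply (S : Subgroup G).mul_mem _ ((S : Subgroup G).inv_mem hs)
      exact (Subgroup.mem_normalizer_iff.mp hn s).mp hs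
    have h2 : n * s * n⁻¹ * s⁻¹ ∈ K := by
      apply hft.commutator_le
      have := Subgroup.commutator_mem_commutator hnM (hSM hs)
      rwa [commutatorElement_def] at this
    have h3 : (S : Subgroup G) ⊓ K = ⊥ := by
      apply (Subgroup.disjoint_of_coprime_natCard ?_).eq_bot
      obtain ⟨k, hk⟩ := IsPGroup.iff_card.mp S.2
      rw [hk]
      apply Nat.Coprime.pow_left
      exact (Nat.Prime.coprime_iff_not_dvd hp).mpr hpK
    have h4 : n * s * n⁻¹ * s⁻¹ ∈ (S : Subgroup G) ⊓ K := Subgroup.mem_inf.2 ⟨h1, h2⟩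
    rw [h3, Subgroup.mem_bot] at h4
    calc s * n = (n * s * n⁻¹ * s⁻¹)⁻¹ * (n * s) := by group
      _ = n * s := by rw [h4, inv_one, one_mul]

/-- A maximal nilpotent `p`-subgroup is a TI-subgroup. -/
theorem MaxNil.ti_of_pgroup (h : Hyp G) {H : Subgroup G} (hH : MaxNil H) {p : ℕ}
    [hp : Fact p.Prime] (hHp : IsPGroup p H) (g : G)
    (hg : H.map (MulAut.conj g).toMonoidHom ≠ H) :
    H ⊓ H.map (MulAut.conj g).toMonoidHom = ⊥ := by
  obtain ⟨E, -, hco⟩ := hH.exists_FT h
  have hH1 : Nat.card H ≠ 1 := fun h1 => hH.ne_bot h (Subgroup.card_eq_one.mp h1)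
  have hpH : p ∣ Nat.card H := by
    obtain ⟨k, hk⟩ := IsPGroup.iff_card.mp hHp
    rcases Nat.eq_zero_or_pos k with h0 | hpos
    · rw [h0, pow_zero] at hk; exact absurd hk hH1
    · rw [hk]; exact dvd_pow_self p hpos.ne'
  have hpG : p ∣ Nat.card G := dvd_trans hpH (Subgroup.card_subgroup_dvd_card H)
  have hp2 : p ≠ 2 := by
    rintro rfl
    exact (Nat.not_even_iff_odd.mpr h.odd) (even_iff_two_dvd.mpr hpG)
  obtain ⟨S, hSH, hS1, hSall, hSc⟩ := hH.exists_sylow h.cn p hpH
  have hHS : H = (S : Subgroup G) :=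
    le_antisymm (fun y hy => hSall y hy (Cfsg.Agent.S1473.orderOf_dvd_of_isPGroup hHp hy)) hSH
  obtain ⟨z, hzS, hz1, hzc⟩ := exists_central (S : Subgroup G) S.2 hS1
  have hCz : Subgroup.centralizer ({z} : Set G) = H := hSc z hzS hz1 hzc
  have hpc : PCent p G := by
    apply cent_global S
    intro x hx hx1
    apply isPGroup_centralizer_of h.cn hx1 (hzc x hx).symm
      (Cfsg.Agent.S1473.orderOf_dvd_of_isPGroup S.2 hzS)
    rw [hCz]; exact hHp
  by_contra hne
  obtain ⟨y, hy, hy1⟩ : ∃ y ∈ H ⊓ H.map (MulAut.conj g).toMonoidHom, y ≠ 1 := by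
    by_contra hcon
    push_neg at hcon
    exact hne ((Subgroup.eq_bot_iff_forall _).mpr hcon)
  obtain ⟨hyH, x, hxH, hxy⟩ := hy
  have hxy' : g * x * g⁻¹ = y := by simpa [MulAut.conj_apply] using hxy
  have hx1 : x ≠ 1 := by
    rintro rfl
    apply hy1
    rw [← hxy']; group
  have hgN : g ∈ NZJ S := by
    apply fusion h hp2 hpc S (hHS ▸ hxH) hx1
    rw [hxy']; exact hHS ▸ hyH
  have hZp : IsPGroup p (Cfsg.centerThompsonAOf (S : Subgroup G)) :=
    S.2.to_le (Cfsg.Agent.S0658.centerThompsonAOf_le_self _)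
  have hZ1 : Cfsg.centerThompsonAOf (S : Subgroup G) ≠ ⊥ :=
    Cfsg.Agent.S0658.centerThompsonAOf_ne_bot _ S.2 hS1
  have hNZJ : NZJ S ≠ ⊤ := h.normalizer_ne_top _ hZp hZ1
  have hle : Subgroup.normalizer (H : Set G) ≤ NZJ S := by
    rw [hHS]
    exact (Cfsg.Agent.Helper4.ZJ.dataA hp2).normalizer_le (S : Subgroup G)
  have heq : NZJ S = Subgroup.normalizer (H : Set G) := by
    rcases hco.le_iff.mp hle with h1 | h1
    · exact absurd h1 hNZJ
    · exact h1
  rw [heq] at hgN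
  exact hg (Cfsg.Agent.Helper20.map_conj_eq_of_mem_normalizer hgN)

/-- Maximal nilpotent subgroups are TI-subgroups. -/
theorem MaxNil.ti (h : Hyp G) {H : Subgroup G} (hH : MaxNil H) (g : G)
    (hg : H.map (MulAut.conj g).toMonoidHom ≠ H) :
    H ⊓ H.map (MulAut.conj g).toMonoidHom = ⊥ := by
  have hH1 : Nat.card H ≠ 1 := fun h1 => hH.ne_bot h (Subgroup.card_eq_one.mp h1)
  by_cases hpp : IsPrimePow (Nat.card H)
  · obtain ⟨p, k, hp, hk, hpk⟩ := (isPrimePow_nat_iff _).mp hpp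
    haveI : Fact p.Prime := ⟨hp⟩
    exact hH.ti_of_pgroup h (IsPGroup.of_card hpk.symm) g hg
  · exact (Cfsg.Agent.S1477.result h.cn H hH.1 hH.2).2.1 hpp hH1 g hg

end Cfsg.Agent.Helper8.CNMin
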