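import Mathlib
import Cfsg.Prelude.Def_HallClasses

/-!
# Hall subgroups of symmetric groups: definitions (helper8)

Definitions for the Hall--Thompson classification of the Hall `π`-subgroups of `Sym(Ω)`.
-/

set_option autoImplicit false

namespace Cfsg.Agent.Helper8.HS

open Equiv

universe u

variable {Ω : Type u}

/-- The part of `H` supported on the subtype `{x // q x}`: the permutations of the subtype whose
extension by the identity lies in `H`. -/
def resSub (H : Subgroup (Perm Ω)) (q : Ω → Prop) [DecidablePred q] :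
    Subgroup (Perm {x // q x}) :=
  H.comap (Perm.ofSubtype : Perm {x // q x} →* Perm Ω)

theorem mem_resSub (H : Subgroup (Perm Ω)) (q : Ω → Prop) [DecidablePred q] (τ : Perm {x // q x}) :
    τ ∈ resSub H q ↔ Perm.ofSubtype τ ∈ H := Iff.rfl

variable [Fintype Ω] [DecidableEq Ω]

/-- `p` is a prime of `π` that is at most `n`. -/
def PiLe (π : Set ℕ) (n p : ℕ) : Prop := p.Prime ∧ p ∈ π ∧ p ≤ n

/-- At most one prime of `π` is at most `n`. -/
def AtMostOne (π : Set ℕ) (n : ℕ) : Prop := ∀ p q : ℕ, PiLe π n p → PiLe π n q → p = q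

/-- Every prime up to `n` lies in `π`. -/
def AllIn (π : Set ℕ) (n : ℕ) : Prop := ∀ p : ℕ, p.Prime → p ≤ n → p ∈ π

/-- Type 3: the degree is a prime `n`, the primes of `π` up to `n` are exactly the primes below `n`,
and `H` is a point stabilizer. -/
def IsT3 (π : Set ℕ) (H : Subgroup (Perm Ω)) : Prop :=
  (Fintype.card Ω).Prime ∧
    (∀ p : ℕ, p.Prime → p ≤ Fintype.card Ω → (p ∈ π ↔ p < Fintype.card Ω)) ∧
    ∃ ω : Ω, ∀ σ : Perm Ω, σ ∈ H ↔ σ ω = ω

/-- Type 4: degree 7, the primes of `π` up to 7 are 2 and 3, and `H` is the stabilizer of a 3-subset. -/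
def IsT4 (π : Set ℕ) (H : Subgroup (Perm Ω)) : Prop :=
  Fintype.card Ω = 7 ∧
    (∀ p : ℕ, p.Prime → p ≤ 7 → (p ∈ π ↔ (p = 2 ∨ p = 3))) ∧
    ∃ S : Finset Ω, S.card = 3 ∧ ∀ σ : Perm Ω, σ ∈ H ↔ ∀ x, σ x ∈ S ↔ x ∈ S

/-- Type 5: degree 8, the primes of `π` up to 8 are 2 and 3, and `H` is the stabilizer of a partition
into two 4-subsets. -/
def IsT5 (π : Set ℕ) (H : Subgroup (Perm Ω)) : Prop :=
  Fintype.card Ω = 8 ∧
    (∀ p : ℕ, p.Prime → p ≤ 8 → (p ∈ π ↔ (p = 2 ∨ p = 3))) ∧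
    ∃ S : Finset Ω, S.card = 4 ∧
      ∀ σ : Perm Ω, σ ∈ H ↔ ((∀ x, σ x ∈ S ↔ x ∈ S) ∨ (∀ x, σ x ∈ S ↔ x ∉ S))

/-- The conclusion of the classification of the Hall `π`-subgroups of `Sym(Ω)`. -/
def Concl (π : Set ℕ) (H : Subgroup (Perm Ω)) : Prop :=
  AtMostOne π (Fintype.card Ω) ∨ (AllIn π (Fintype.card Ω) ∧ H = ⊤) ∨
    IsT3 π H ∨ IsT4 π H ∨ IsT5 π H

end Cfsg.Agent.Helper8.HS
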