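import Mathlib
import Cfsg.Agent.Lib.Helper8.HTDefs

/-!
# Half-transitive linear groups: central elements of prime order are fixed-point-free (helper8)
-/

set_option autoImplicit false

namespace Cfsg.Agent.Helper8.HT

variable {q : ℕ} [Fact q.Prime] {V : Type*} [AddCommGroup V] [Module (ZMod q) V]
  {G : Type*} [Group G] (ρ : G →* (V ≃ₗ[ZMod q] V))

/-- The norm (trace) operator of an element `z`, on vectors. -/
def normOp (p : ℕ) (z : G) (v : V) : V := ∑ i ∈ Finset.range p, ρ (z ^ i) v

theorem normOp_add (p : ℕ) (z : G) (v w : V) :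
    normOp ρ p z (v + w) = normOp ρ p z v + normOp ρ p z w := by
  unfold normOp
  rw [← Finset.sum_add_distrib]
  exact Finset.sum_congr rfl fun i _ => map_add _ _ _

theorem normOp_neg (p : ℕ) (z : G) (v : V) : normOp ρ p z (-v) = -normOp ρ p z v := by
  unfold normOp
  rw [← Finset.sum_neg_distrib]
  exact Finset.sum_congr rfl fun i _ => map_neg _ _

theorem normOp_sub (p : ℕ) (z : G) (v w : V) :
    normOp ρ p z (v - w) = normOp ρ p z v - normOp ρ p z w := by
  rw [sub_eq_add_neg, normOp_add, normOp_neg, ← sub_eq_add_neg]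

theorem normOp_nsmul (p : ℕ) (z : G) (n : ℕ) (v : V) :
    normOp ρ p z (n • v) = n • normOp ρ p z v := by
  unfold normOp
  rw [Finset.smul_sum]
  exact Finset.sum_congr rfl fun i _ => map_nsmul _ _ _

/-- `normOp` of a fixed vector. -/
theorem normOp_of_fixed (p : ℕ) {z : G} {v : V} (h : ρ z v = v) : normOp ρ p z v = p • v := by
  have hpow : ∀ i : ℕ, ρ (z ^ i) v = v := by
    intro i
    induction i with
    | zero => rw [pow_zero, map_one]; rfl
    | succ n ih => rw [pow_succ, map_mul, LinearEquiv.mul_apply, h, ih]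
  unfold normOp
  rw [Finset.sum_congr rfl fun i _ => hpow i, Finset.sum_const, Finset.card_range]

/-- The image of `normOp` is fixed by `z` when `z ^ p = 1`. -/
theorem apply_normOp {p : ℕ} {z : G} (hz : z ^ p = 1) (v : V) :
    ρ z (normOp ρ p z v) = normOp ρ p z v := by
  unfold normOp
  rw [map_sum]
  have h1 : ∀ i, ρ z (ρ (z ^ i) v) = ρ (z ^ (i + 1)) v := by
    intro i
    rw [← LinearEquiv.mul_apply, ← map_mul, pow_succ']
  rw [Finset.sum_congr rfl fun i _ => h1 i]
  have h2 := Finset.sum_range_succ (fun i => ρ (z ^ i) v) p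
  have h2' := Finset.sum_range_succ' (fun i => ρ (z ^ i) v) p
  have h3 : ρ (z ^ p) v = ρ (z ^ 0) v := by
    rw [hz, pow_zero]
  rw [h2] at h2'
  simp only [h3] at h2'
  exact (add_right_cancel h2').symm

/-- `normOp` commutes with elements commuting with `z`. -/
theorem normOp_apply_comm (p : ℕ) {z g : G} (hc : g * z = z * g) (v : V) :
    normOp ρ p z (ρ g v) = ρ g (normOp ρ p z v) := by
  unfold normOp
  rw [map_sum]
  refine Finset.sum_congr rfl fun i _ => ?_
  have h : z ^ i * g = g * z ^ i := ((Commute.pow_right (show Commute g z from hc) i)).eq.symm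
  rw [← LinearEquiv.mul_apply, ← map_mul, h, map_mul, LinearEquiv.mul_apply]

/-- `p • x = 0` forces `x = 0` when `p ≠ q` are primes. -/
theorem eq_zero_of_nsmul {p : ℕ} [Fact p.Prime] (hpq : p ≠ q) {x : V} (h : p • x = 0) : x = 0 := by
  have hp : p.Prime := Fact.out
  have hq : q.Prime := Fact.out
  have hne : (p : ZMod q) ≠ 0 := by
    intro h0
    rw [ZMod.natCast_eq_zero_iff] at h0
    exact hpq ((Nat.prime_dvd_prime_iff_eq hq hp).1 h0).symm
  have h1 : (p : ZMod q) • x = 0 := by
    rw [Nat.cast_smul_eq_nsmul]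
    exact h
  exact (smul_eq_zero.1 h1).resolve_left hne

variable [Finite V] [Finite G]

/-- PIECE HTFPF. A central element of prime order `p ≠ q` has no non-zero fixed vector. -/
theorem fpf_of_central (hρ : Function.Injective ρ) (hhalf : Half ρ) {p : ℕ} [Fact p.Prime]
    (hpq : p ≠ q) {z : G} (hzc : z ∈ Subgroup.center G) (hzo : orderOf z = p) :
    ∀ v : V, v ≠ 0 → ρ z v ≠ v := by
  intro v hv hzv
  have hp : p.Prime := Fact.out
  have hzp : z ^ p = 1 := by rw [← hzo]; exact pow_orderOf_eq_one z
  have hcomm : ∀ g : G, g * z = z * g := fun g => (Subgroup.mem_center_iff.1 hzc g)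
  -- the kernel of the norm operator is trivial
  have hker : ∀ w : V, normOp ρ p z w = 0 → w = 0 := by
    intro w hNw
    by_contra hw
    have hvw : v + w ≠ 0 := by
      intro h0
      have hw' : w = -v := by
        rw [eq_neg_iff_add_eq_zero, add_comm]; exact h0
      rw [hw', normOp_neg, normOp_of_fixed ρ p hzv, neg_eq_zero] at hNw
      exact hv (eq_zero_of_nsmul hpq hNw)
    have hle : stab ρ (v + w) ≤ stab ρ v ⊓ stab ρ w := by
      intro g hg
      rw [mem_stab, map_add] at hg
      set x : V := ρ g v - v with hx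
      have hx' : x = w - ρ g w := by
        rw [hx, sub_eq_sub_iff_add_eq_add, hg, add_comm]
      have hzx : ρ z x = x := by
        rw [hx, map_sub, hzv]
        congr 1
        rw [← LinearEquiv.mul_apply, ← map_mul, ← hcomm g, map_mul, LinearEquiv.mul_apply, hzv]
      have hNx : normOp ρ p z x = 0 := by
        rw [hx', normOp_sub, normOp_apply_comm ρ p (hcomm g), hNw, map_zero, sub_zero]
      rw [normOp_of_fixed ρ p hzx] at hNx
      have hx0 := eq_zero_of_nsmul hpq hNx
      refine ⟨?_, ?_⟩
      · change ρ g v = v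
        exact sub_eq_zero.1 (hx ▸ hx0)
      · change ρ g w = w
        exact (sub_eq_zero.1 (hx' ▸ hx0)).symm
    have hle1 : stab ρ (v + w) ≤ stab ρ v := hle.trans inf_le_left
    have heq : stab ρ (v + w) = stab ρ v :=
      Subgroup.eq_of_le_of_card_ge hle1 (card_stab_eq ρ hhalf hvw hv).ge
    have hz1 : z ∈ stab ρ (v + w) := by rw [heq]; exact hzv
    have hzw : ρ z w = w := (hle hz1).2
    rw [normOp_of_fixed ρ p hzw] at hNw
    exact hw (eq_zero_of_nsmul hpq hNw)
  -- hence `z` acts trivially
  have htriv : ∀ x : V, ρ z x = x := by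
    intro x
    have h1 : normOp ρ p z (p • x - normOp ρ p z x) = 0 := by
      rw [normOp_sub, normOp_nsmul, normOp_of_fixed ρ p (apply_normOp ρ hzp x), sub_self]
    have h2 := sub_eq_zero.1 (hker _ h1)
    have h3 : ρ z (p • x) = p • x := by
      rw [h2]; exact apply_normOp ρ hzp x
    rw [map_nsmul] at h3
    have h4 : p • (ρ z x - x) = 0 := by rw [smul_sub, h3, sub_self]
    exact sub_eq_zero.1 (eq_zero_of_nsmul hpq h4)
  have hz1 : z = 1 := by
    apply hρ
    rw [map_one]
    ext x
    exact htriv x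
  rw [hz1, orderOf_one] at hzo
  exact hp.one_lt.ne hzo

end Cfsg.Agent.Helper8.HT
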