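import Mathlib
import Cfsg.Agent.Lib.Helper8.HTFPF

/-!
# Half-transitive linear `2`-groups, case B: the central involution is `-1`, and the swap lemma
(helper8)
-/

set_option autoImplicit false

namespace Cfsg.Agent.Helper8.HT

variable {q : ℕ} [Fact q.Prime] {V : Type*} [AddCommGroup V] [Module (ZMod q) V] [Finite V]
  {G : Type*} [Group G] [Finite G] (ρ : G →* (V ≃ₗ[ZMod q] V))

/-- `x = -x` forces `x = 0` in odd characteristic. -/
theorem eq_zero_of_eq_neg (hq2 : q ≠ 2) {x : V} (h : x = -x) : x = 0 := by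
  haveI : Fact (Nat.Prime 2) := ⟨Nat.prime_two⟩
  apply eq_zero_of_nsmul (q := q) (p := 2) (fun h => hq2 h.symm)
  rw [two_nsmul]
  nth_rewrite 1 [h]
  exact neg_add_cancel x

omit [Finite V] [Finite G] in
/-- An involution squares to the identity on vectors. -/
theorem apply_apply_of_orderOf_two {a : G} (ha : orderOf a = 2) (v : V) : ρ a (ρ a v) = v := by
  rw [← LinearEquiv.mul_apply, ← map_mul, ← pow_two, ← ha, pow_orderOf_eq_one, map_one]
  rfl

/-- PIECE HTSWAP (a). In case B the central involution acts as `-1`. -/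
theorem caseB_neg (hρ : Function.Injective ρ) (hhalf : Half ρ) (hq2 : q ≠ 2) {z a : G}
    (hB : CaseB z a) : ∀ v : V, ρ z v = -v := by
  intro v
  haveI : Fact (Nat.Prime 2) := ⟨Nat.prime_two⟩
  have hfpf := fpf_of_central ρ hρ hhalf (p := 2) (fun h => hq2 h.symm) hB.hzc hB.hz2
  have hx : ρ z (v + ρ z v) = v + ρ z v := by
    rw [map_add, apply_apply_of_orderOf_two ρ hB.hz2, add_comm]
  by_contra hne
  apply hfpf (v + ρ z v) _ hx
  intro h0
  apply hne
  rw [eq_neg_iff_add_eq_zero, add_comm]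
  exact h0

omit [Finite V] [Finite G] in
/-- Elements centralizing `a` preserve the eigenspaces of `a`. -/
theorem apply_comm_of_conj {a g : G} (hg : g * a * g⁻¹ = a) (v : V) :
    ρ a (ρ g v) = ρ g (ρ a v) := by
  have h : a * g = g * a := by
    calc a * g = g * a * g⁻¹ * g := by rw [hg]
      _ = g * a := by group
  rw [← LinearEquiv.mul_apply, ← map_mul, h, map_mul, LinearEquiv.mul_apply]

/-- Elements sending `a` to `a z` swap the eigenspaces of `a`. -/
theorem apply_anticomm_of_conj (hρ : Function.Injective ρ) (hhalf : Half ρ) (hq2 : q ≠ 2)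
    {z a h : G} (hB : CaseB z a) (hh : h * a * h⁻¹ = a * z) (v : V) :
    ρ a (ρ h v) = -ρ h (ρ a v) := by
  have hz := caseB_neg ρ hρ hhalf hq2 hB
  have hzc : ∀ g : G, g * z = z * g := fun g => Subgroup.mem_center_iff.1 hB.hzc g
  have hz2 : z * z = 1 := by
    rw [← pow_two, ← hB.hz2]; exact pow_orderOf_eq_one z
  have h1 : a * h = z * (h * a) := by
    have e1 : h * a = a * z * h := by
      calc h * a = h * a * h⁻¹ * h := by group
        _ = a * z * h := by rw [hh]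
    rw [e1, ← mul_assoc, ← mul_assoc, ← hzc a, mul_assoc a z z, hz2, mul_one]
  rw [← LinearEquiv.mul_apply, ← map_mul, h1, map_mul, LinearEquiv.mul_apply, hz, map_mul,
    LinearEquiv.mul_apply]

/-- PIECE HTSWAP (b). In case B any `v₀ ∈ C_V(a)#`, `v₁ ∈ C_V(az)#` are swapped by some element
of `G` not centralizing `a`. -/
theorem caseB_exists_swap (hρ : Function.Injective ρ) (hhalf : Half ρ) (hq2 : q ≠ 2) {z a : G}
    (hB : CaseB z a) {v₀ v₁ : V} (h0 : ρ a v₀ = v₀) (h1 : ρ a v₁ = -v₁) (hv0 : v₀ ≠ 0)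
    (hv1 : v₁ ≠ 0) : ∃ h : G, h * a * h⁻¹ = a * z ∧ ρ h v₀ = v₁ ∧ ρ h v₁ = v₀ := by
  have hw : v₀ + v₁ ≠ 0 := by
    intro hw0
    have e : v₀ = -v₁ := by rw [eq_neg_iff_add_eq_zero]; exact hw0
    apply hv0
    apply eq_zero_of_eq_neg hq2
    calc v₀ = ρ a v₀ := h0.symm
      _ = ρ a (-v₁) := by rw [← e]
      _ = v₁ := by rw [map_neg, h1, neg_neg]
      _ = -v₀ := by rw [e, neg_neg]
  by_cases hex : ∃ h ∈ stab ρ (v₀ + v₁), h * a * h⁻¹ = a * z
  · obtain ⟨h, hst, hh⟩ := hex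
    have hst' : ρ h v₀ + ρ h v₁ = v₀ + v₁ := by
      have : ρ h (v₀ + v₁) = v₀ + v₁ := hst
      rwa [map_add] at this
    have e1 : ρ h v₀ - v₁ = v₀ - ρ h v₁ := by
      rw [sub_eq_sub_iff_add_eq_add, hst', add_comm]
    have ha0 : ρ a (ρ h v₀) = -ρ h v₀ := by
      rw [apply_anticomm_of_conj ρ hρ hhalf hq2 hB hh, h0]
    have ha1 : ρ a (ρ h v₁) = ρ h v₁ := by
      rw [apply_anticomm_of_conj ρ hρ hhalf hq2 hB hh, h1, map_neg, neg_neg]
    have hx0 : ρ h v₀ - v₁ = 0 := by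
      apply eq_zero_of_eq_neg hq2
      have hA : ρ a (ρ h v₀ - v₁) = -(ρ h v₀ - v₁) := by
        rw [map_sub, ha0, h1]; abel
      have hB' : ρ a (ρ h v₀ - v₁) = ρ h v₀ - v₁ := by
        rw [e1, map_sub, h0, ha1]
      rw [← hA, hB']
    refine ⟨h, hh, sub_eq_zero.1 hx0, ?_⟩
    rw [hx0] at e1
    exact (sub_eq_zero.1 e1.symm).symm
  · exfalso
    push Not at hex
    have hcent : ∀ h ∈ stab ρ (v₀ + v₁), h * a * h⁻¹ = a := fun h hh =>
      (hB.hconj h).resolve_right (hex h hh)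
    have hle : stab ρ (v₀ + v₁) ≤ stab ρ v₀ ⊓ stab ρ v₁ := by
      intro h hst
      have hst' : ρ h v₀ + ρ h v₁ = v₀ + v₁ := by
        have : ρ h (v₀ + v₁) = v₀ + v₁ := hst
        rwa [map_add] at this
      have hc := hcent h hst
      have e1 : ρ h v₀ - v₀ = v₁ - ρ h v₁ := by
        rw [sub_eq_sub_iff_add_eq_add, hst', add_comm]
      have hx0 : ρ h v₀ - v₀ = 0 := by
        apply eq_zero_of_eq_neg hq2
        have hA : ρ a (ρ h v₀ - v₀) = ρ h v₀ - v₀ := by
          rw [map_sub, apply_comm_of_conj ρ hc, h0]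
        have hB' : ρ a (ρ h v₀ - v₀) = -(ρ h v₀ - v₀) := by
          rw [e1, map_sub, apply_comm_of_conj ρ hc, h1, map_neg]; abel
        rw [← hB', hA]
      refine ⟨sub_eq_zero.1 hx0, ?_⟩
      rw [hx0] at e1
      exact (sub_eq_zero.1 e1.symm).symm
    have heq : stab ρ (v₀ + v₁) = stab ρ v₀ :=
      Subgroup.eq_of_le_of_card_ge (hle.trans inf_le_left) (card_stab_eq ρ hhalf hw hv0).ge
    have ha : a ∈ stab ρ (v₀ + v₁) := by rw [heq]; exact h0
    have ha1 : ρ a v₁ = v₁ := (hle ha).2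
    rw [h1] at ha1
    exact hv1 (eq_zero_of_eq_neg hq2 ha1.symm)

end Cfsg.Agent.Helper8.HT
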