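import Mathlib
import Cfsg.Agent.Lib.Helper8.HTSWAP
import Cfsg.Agent.Lib.Helper20.PowSubOne

/-!
# Half-transitive linear `2`-groups, case B: the cardinality of `V` (helper8)
-/

set_option autoImplicit false

namespace Cfsg.Agent.Helper8.HT

variable {q : ℕ} [Fact q.Prime] {V : Type*} [AddCommGroup V] [Module (ZMod q) V] [Finite V]
  {G : Type*} [Group G] [Finite G] (ρ : G →* (V ≃ₗ[ZMod q] V))

/-- A central involution acts as `-1`. -/
theorem neg_of_central_involution (hρ : Function.Injective ρ) (hhalf : Half ρ) (hq2 : q ≠ 2)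
    {z : G} (hzc : z ∈ Subgroup.center G) (hz2 : orderOf z = 2) : ∀ v : V, ρ z v = -v := by
  intro v
  haveI : Fact (Nat.Prime 2) := ⟨Nat.prime_two⟩
  have hfpf := fpf_of_central ρ hρ hhalf (p := 2) (fun h => hq2 h.symm) hzc hz2
  have hx : ρ z (v + ρ z v) = v + ρ z v := by
    rw [map_add, apply_apply_of_orderOf_two ρ hz2, add_comm]
  by_contra hne
  apply hfpf (v + ρ z v) _ hx
  intro h0
  apply hne
  rw [eq_neg_iff_add_eq_zero, add_comm]
  exact h0

/-- In case B, `a` is not central: some element conjugates `a` to `a z`. -/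
theorem caseB_exists_conj (hρ : Function.Injective ρ) (hhalf : Half ρ) (hq2 : q ≠ 2) {z a : G}
    (hB : CaseB z a) : ∃ g : G, g * a * g⁻¹ = a * z := by
  by_contra hcon
  push Not at hcon
  have hc : a ∈ Subgroup.center G := by
    rw [Subgroup.mem_center_iff]
    intro g
    have h := (hB.hconj g).resolve_right (hcon g)
    calc g * a = g * a * g⁻¹ * g := by group
      _ = a * g := by rw [h]
  apply hB.haz
  apply hρ
  ext v
  rw [neg_of_central_involution ρ hρ hhalf hq2 hc hB.ha2, caseB_neg ρ hρ hhalf hq2 hB]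

/-- The `-1`-eigenspace of `a` is the fixed space of `a z`. -/
theorem mem_fix_mul_iff (hρ : Function.Injective ρ) (hhalf : Half ρ) (hq2 : q ≠ 2) {z a : G}
    (hB : CaseB z a) (v : V) : v ∈ fix ρ (a * z) ↔ ρ a v = -v := by
  rw [mem_fix, map_mul, LinearEquiv.mul_apply, caseB_neg ρ hρ hhalf hq2 hB, map_neg]
  constructor
  · intro h
    rw [eq_neg_iff_add_eq_zero, add_comm, ← eq_neg_iff_add_eq_zero]
    exact h.symm
  · intro h
    rw [h, neg_neg]

/-- The conjugate of `a` by the inverse. -/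
theorem conj_inv_of_conj {z a g : G} (hB : CaseB z a) (hg : g * a * g⁻¹ = a * z) :
    g⁻¹ * a * g⁻¹⁻¹ = a * z := by
  have hzc : ∀ x : G, x * z = z * x := fun x => Subgroup.mem_center_iff.1 hB.hzc x
  have hz2 : z * z = 1 := by
    rw [← pow_two, ← hB.hz2]; exact pow_orderOf_eq_one z
  have h1 : a = g⁻¹ * (a * z) * g := by rw [← hg]; group
  have h2 : g⁻¹ * (a * z) * g = g⁻¹ * a * g * z := by
    rw [mul_assoc g⁻¹ (a * z) g, mul_assoc a z g, ← hzc g, ← mul_assoc a g z, ← mul_assoc,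
      ← mul_assoc]
  rw [inv_inv]
  have h3 : g⁻¹ * a * g = a * z := by
    have : a * z = g⁻¹ * a * g * z * z := by rw [← h2, ← h1]
    rw [this, mul_assoc _ z z, hz2, mul_one]
  exact h3

/-- In case B, `V` is the direct sum of the two eigenspaces of `a`. -/
theorem caseB_isCompl (hρ : Function.Injective ρ) (hhalf : Half ρ) (hq2 : q ≠ 2) {z a : G}
    (hB : CaseB z a) : IsCompl (fix ρ a) (fix ρ (a * z)) := by
  have hq : q.Prime := Fact.out
  have h2ne : (2 : ZMod q) ≠ 0 := by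
    intro h0
    have : ((2 : ℕ) : ZMod q) = 0 := by exact_mod_cast h0
    rw [ZMod.natCast_eq_zero_iff] at this
    exact hq2 ((Nat.prime_dvd_prime_iff_eq hq Nat.prime_two).1 this)
  constructor
  · rw [Submodule.disjoint_def]
    intro x hx0 hx1
    rw [mem_fix] at hx0
    rw [mem_fix_mul_iff ρ hρ hhalf hq2 hB] at hx1
    exact eq_zero_of_eq_neg hq2 (hx0.symm.trans hx1)
  · rw [codisjoint_iff, eq_top_iff]
    intro v _
    rw [Submodule.mem_sup]
    refine ⟨(2 : ZMod q)⁻¹ • (v + ρ a v), ?_, (2 : ZMod q)⁻¹ • (v - ρ a v), ?_, ?_⟩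
    · apply Submodule.smul_mem
      rw [mem_fix, map_add, apply_apply_of_orderOf_two ρ hB.ha2, add_comm]
    · apply Submodule.smul_mem
      rw [mem_fix_mul_iff ρ hρ hhalf hq2 hB, map_sub, apply_apply_of_orderOf_two ρ hB.ha2]
      abel
    · rw [← smul_add]
      have : v + ρ a v + (v - ρ a v) = (2 : ZMod q) • v := by
        rw [two_smul]; abel
      rw [this, smul_smul, inv_mul_cancel₀ h2ne, one_smul]

/-- In case B the two eigenspaces have the same cardinality. -/
theorem caseB_card_fix_eq (hρ : Function.Injective ρ) (hhalf : Half ρ) (hq2 : q ≠ 2) {z a : G}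
    (hB : CaseB z a) : Nat.card (fix ρ a) = Nat.card (fix ρ (a * z)) := by
  obtain ⟨g, hg⟩ := caseB_exists_conj ρ hρ hhalf hq2 hB
  have hg' := conj_inv_of_conj hB hg
  refine Nat.card_congr
    { toFun := fun v => ⟨ρ g v, ?_⟩
      invFun := fun w => ⟨ρ g⁻¹ w, ?_⟩
      left_inv := ?_
      right_inv := ?_ }
  · rw [mem_fix_mul_iff ρ hρ hhalf hq2 hB, apply_anticomm_of_conj ρ hρ hhalf hq2 hB hg]
    have := v.2
    rw [mem_fix] at this
    rw [this]
  · rw [mem_fix, apply_anticomm_of_conj ρ hρ hhalf hq2 hB hg']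
    have := w.2
    rw [mem_fix_mul_iff ρ hρ hhalf hq2 hB] at this
    rw [this, map_neg, neg_neg]
  · intro v
    apply Subtype.ext
    exact apply_inv_apply ρ g v
  · intro w
    apply Subtype.ext
    exact apply_apply_inv ρ g w

/-- PIECE HTB1. -/
theorem caseB_card [Nontrivial V] (hρ : Function.Injective ρ) (hhalf : Half ρ) (hq2 : q ≠ 2)
    (hG : IsPGroup 2 G) {z a : G} (hB : CaseB z a) :
    (Nat.card V = 81 ∧ q = 3) ∨
      (Nat.card V = q ^ 2 ∧ (∃ m : ℕ, q = 2 ^ m + 1) ∧ Nat.card (fix ρ a) = q) := by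
  classical
  have hq : q.Prime := Fact.out
  set V0 := fix ρ a with hV0
  set V1 := fix ρ (a * z) with hV1
  have hcompl := caseB_isCompl ρ hρ hhalf hq2 hB
  have hcardeq : Nat.card V0 = Nat.card V1 := caseB_card_fix_eq ρ hρ hhalf hq2 hB
  -- `|V| = |V0| ^ 2`
  have hVcard : Nat.card V = Nat.card V0 ^ 2 := by
    have e := Submodule.prodEquivOfIsCompl V0 V1 hcompl
    rw [← Nat.card_congr e.toEquiv, Nat.card_prod, ← hcardeq, pow_two]
  -- `V0` is not trivial
  have hV0big : 1 < Nat.card V0 := by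
    by_contra hle
    have h1 : Nat.card V0 = 1 := by
      have : 0 < Nat.card V0 := Nat.card_pos
      omega
    rw [h1, one_pow] at hVcard
    have : 1 < Nat.card V := Finite.one_lt_card
    omega
  have hV1big : 1 < Nat.card V1 := hcardeq ▸ hV0big
  obtain ⟨e0, he0⟩ : ∃ v : V0, v ≠ 0 := by
    haveI : Nontrivial V0 := Finite.one_lt_card_iff_nontrivial.1 hV0big
    exact exists_ne 0
  obtain ⟨e1, he1⟩ : ∃ v : V1, v ≠ 0 := by
    haveI : Nontrivial V1 := Finite.one_lt_card_iff_nontrivial.1 hV1big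
    exact exists_ne 0
  have he0' : (e0 : V) ≠ 0 := fun h => he0 (Subtype.ext h)
  have he1' : (e1 : V) ≠ 0 := fun h => he1 (Subtype.ext h)
  have he0fix : ρ a (e0 : V) = e0 := e0.2
  have he1fix : ρ a (e1 : V) = -(e1 : V) := (mem_fix_mul_iff ρ hρ hhalf hq2 hB _).1 e1.2
  -- the orbit of `e0`
  have horb : {u : V | ∃ g : G, ρ g (e0 : V) = u} = ((V0 : Set V) \ {0}) ∪ ((V1 : Set V) \ {0}) := by
    ext u
    constructor
    · rintro ⟨g, rfl⟩
      have hne : ρ g (e0 : V) ≠ 0 := apply_ne_zero ρ g he0'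
      rcases hB.hconj g with hg | hg
      · left
        refine ⟨?_, hne⟩
        change ρ a (ρ g (e0 : V)) = ρ g (e0 : V)
        rw [apply_comm_of_conj ρ hg, he0fix]
      · right
        refine ⟨?_, hne⟩
        change ρ g (e0 : V) ∈ fix ρ (a * z)
        rw [mem_fix_mul_iff ρ hρ hhalf hq2 hB, apply_anticomm_of_conj ρ hρ hhalf hq2 hB hg,
          he0fix]
    · rintro (⟨hu, hu0⟩ | ⟨hu, hu0⟩)
      · -- two swaps
        have hu0' : u ≠ 0 := hu0
        obtain ⟨h, -, hh0, -⟩ := caseB_exists_swap ρ hρ hhalf hq2 hB he0fix he1fix he0' he1'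
        obtain ⟨h', -, -, hh1⟩ := caseB_exists_swap ρ hρ hhalf hq2 hB (v₀ := u) hu he1fix hu0' he1'
        refine ⟨h' * h, ?_⟩
        rw [map_mul, LinearEquiv.mul_apply, hh0, hh1]
      · have hu0' : u ≠ 0 := hu0
        have hu' : ρ a u = -u := (mem_fix_mul_iff ρ hρ hhalf hq2 hB _).1 hu
        obtain ⟨h, -, hh0, -⟩ := caseB_exists_swap ρ hρ hhalf hq2 hB he0fix hu' he0' hu0'
        exact ⟨h, hh0⟩
  have hdisj : Disjoint ((V0 : Set V) \ {0}) ((V1 : Set V) \ {0}) := by
    rw [Set.disjoint_left]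
    rintro u ⟨hu0, hune⟩ ⟨hu1, -⟩
    apply hune
    have : u ∈ V0 ⊓ V1 := ⟨hu0, hu1⟩
    rw [hcompl.inf_eq_bot] at this
    exact this
  have hcardorb : Nat.card {u : V | ∃ g : G, ρ g (e0 : V) = u} = 2 * (Nat.card V0 - 1) := by
    rw [horb, Nat.card_coe_set_eq, Set.ncard_union_eq hdisj (Set.toFinite _) (Set.toFinite _),
      Set.ncard_diff_singleton_of_mem (Submodule.zero_mem V0),
      Set.ncard_diff_singleton_of_mem (Submodule.zero_mem V1),
      ← Nat.card_coe_set_eq, ← Nat.card_coe_set_eq]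
    change Nat.card V0 - 1 + (Nat.card V1 - 1) = _
    rw [← hcardeq]
    ring
  -- the orbit length is a power of `2`
  have hdvd : 2 * (Nat.card V0 - 1) ∣ Nat.card G := by
    rw [← hcardorb]
    exact Dvd.intro _ (card_orbit_mul_card_stab ρ (e0 : V))
  obtain ⟨n, hn⟩ := IsPGroup.iff_card.1 hG
  rw [hn] at hdvd
  obtain ⟨k, -, hk⟩ := (Nat.dvd_prime_pow Nat.prime_two).1 hdvd
  have hk1 : 1 ≤ k := by
    by_contra hk0
    have : k = 0 := by omega
    rw [this, pow_zero] at hk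
    omega
  obtain ⟨j, rfl⟩ : ∃ j, k = j + 1 := ⟨k - 1, by omega⟩
  have hV0j : Nat.card V0 = 2 ^ j + 1 := by
    rw [pow_succ] at hk
    omega
  -- `|V0|` is a power of `q`
  haveI : Module.Finite (ZMod q) V0 := Module.Finite.of_finite
  have hV0q : Nat.card V0 = q ^ Module.finrank (ZMod q) V0 := by
    rw [Module.natCard_eq_pow_finrank (K := ZMod q), Nat.card_zmod]
  set d := Module.finrank (ZMod q) V0 with hd
  have hd1 : 1 ≤ d := by
    by_contra h0
    have : d = 0 := by omega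
    rw [this, pow_zero] at hV0q
    omega
  rcases Cfsg.Agent.Helper20.PowSubOne.fermat_pow q d j hq hq2 hd1 (hV0q.symm.trans hV0j) with
    h1 | ⟨h3, h2⟩
  · right
    rw [h1, pow_one] at hV0q
    refine ⟨by rw [hVcard, hV0q], ⟨j, hV0q.symm.trans hV0j⟩, hV0q⟩
  · left
    refine ⟨?_, h3⟩
    rw [hVcard, hV0q, h2, h3]
    norm_num

end Cfsg.Agent.Helper8.HT
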