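import Mathlib
import Cfsg.Prelude.Def_JComponents
import Cfsg.Agent.Lib.Helper19.JCDefs
import Cfsg.Agent.Lib.Helper9.PCoreSub
import Cfsg.Agent.Lib.Helper14.Ambient

/-!
# S2945 piece PSET (helper8): `pset_one`
-/

set_option autoImplicit false
set_option linter.unusedSectionVars false
set_option linter.unusedVariables false

namespace Cfsg.Agent.Helper15.JC45

open Cfsg Cfsg.Agent.Helper19.JC

universe u

variable {G : Type u} [Group G] [Finite G]

/-- transfer of odd generation into a subgroup containing `K` -/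
theorem pset_gen {K Y : Subgroup G} (hKY : K ≤ Y)
    (hodd : Subgroup.closure {g : G | g ∈ K ∧ Odd (orderOf g)} = K) :
    K.subgroupOf Y ≤
      Subgroup.closure {g : ↥Y | g ∈ K.subgroupOf Y ∧ (orderOf g).Coprime 2} := by
  have key : ∀ g (hg : g ∈ Subgroup.closure {g : G | g ∈ K ∧ Odd (orderOf g)}),
      ∃ hgY : g ∈ Y, (⟨g, hgY⟩ : ↥Y) ∈
        Subgroup.closure {g : ↥Y | g ∈ K.subgroupOf Y ∧ (orderOf g).Coprime 2} := by
    intro g hg
    induction hg using Subgroup.closure_induction with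
    | mem x hx =>
      refine ⟨hKY hx.1, Subgroup.subset_closure ⟨?_, ?_⟩⟩
      · rw [Subgroup.mem_subgroupOf]; exact hx.1
      · rw [Subgroup.orderOf_mk]
        exact Nat.Coprime.symm ((Nat.coprime_two_left).mpr hx.2)
    | one => exact ⟨Y.one_mem, Subgroup.one_mem _⟩
    | mul x y hx hy ihx ihy =>
      obtain ⟨hxY, hx'⟩ := ihx
      obtain ⟨hyY, hy'⟩ := ihy
      exact ⟨Y.mul_mem hxY hyY, Subgroup.mul_mem _ hx' hy'⟩
    | inv x hx ihx =>
      obtain ⟨hxY, hx'⟩ := ihx
      exact ⟨Y.inv_mem hxY, Subgroup.inv_mem _ hx'⟩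
  intro b hb
  rw [Subgroup.mem_subgroupOf] at hb
  rw [← hodd] at hb
  obtain ⟨_, h⟩ := key (b : G) hb
  exact h

theorem pset_one {K J Y : Subgroup G} (c : Comp K J) (hKY : K ≤ Y)
    (h : (K.subgroupOf Y).IsSubnormal) :
    pCoreOf 2 K ≤ pCoreOf 2 Y ∧ pCoreOf 2 Y ≤ Subgroup.normalizer (K : Set G) := by
  have hP0K : pCoreOf 2 K ≤ K := Cfsg.Agent.Helper14.pCoreOf_le 2 K
  constructor
  · -- first half
    have hle : (pCoreOf 2 K).subgroupOf Y ≤ K.subgroupOf Y := by
      intro x hx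
      rw [Subgroup.mem_subgroupOf] at hx ⊢
      exact hP0K hx
    have hN : (((pCoreOf 2 K).subgroupOf Y).subgroupOf (K.subgroupOf Y)).Normal := by
      constructor
      intro n hn g
      rw [Subgroup.mem_subgroupOf, Subgroup.mem_subgroupOf] at hn ⊢
      have hg : ((g : ↥Y) : G) ∈ K := by
        have := g.2
        rw [Subgroup.mem_subgroupOf] at this
        exact this
      have hg' := Cfsg.Agent.Helper14.le_normalizer_pCoreOf 2 K hg
      rw [Subgroup.mem_normalizer_iff] at hg'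
      have := (hg' _).mp hn
      simpa using this
    have hsub : ((pCoreOf 2 K).subgroupOf Y).IsSubnormal :=
      Subgroup.IsSubnormal.step _ _ hle h hN
    have hp : IsPGroup 2 ((pCoreOf 2 K).subgroupOf Y) :=
      (Cfsg.Agent.Helper14.pCoreOf_isPGroup 2 K).comap_of_injective _
        (Subgroup.subtype_injective Y)
    have h1 := Cfsg.Agent.Helper9.subnormal_pGroup_le_pCore 2 _ hsub hp
    intro x hx
    rw [Cfsg.Agent.Helper14.mem_pCoreOf_iff]
    refine ⟨hKY (hP0K hx), ?_⟩
    apply h1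
    rw [Subgroup.mem_subgroupOf]
    exact hx
  · -- second half
    have hnorm := Cfsg.Agent.Helper9.normal_pGroup_normalizes 2 (pCore 2 ↥Y) (K.subgroupOf Y)
      (pCore_normal 2 ↥Y) (Cfsg.Agent.Helper9.pCore_isPGroup' 2 ↥Y) h (pset_gen hKY c.hodd)
    have key : ∀ u ∈ pCoreOf 2 Y, ∀ x ∈ K, u * x * u⁻¹ ∈ K := by
      intro u hu x hx
      rw [Cfsg.Agent.Helper14.mem_pCoreOf_iff] at hu
      obtain ⟨huY, hu'⟩ := hu
      have := hnorm ⟨u, huY⟩ hu' ⟨x, hKY hx⟩ (by rw [Subgroup.mem_subgroupOf]; exact hx)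
      rw [Subgroup.mem_subgroupOf] at this
      simpa using this
    intro u hu
    rw [Subgroup.mem_normalizer_iff]
    intro x
    constructor
    · exact key u hu x
    · intro hx
      have := key u⁻¹ ((pCoreOf 2 Y).inv_mem hu) _ hx
      simpa [mul_assoc] using this

end Cfsg.Agent.Helper15.JC45
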