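import Mathlib
import Cfsg.Prelude.Def_Characters

/-!
# S4756: characters multiplicative on pairs of elements of coprime prime-power orders
Definitions shared by the pieces (helper8).
-/

set_option autoImplicit false

namespace Cfsg.Agent.Helper8.MX

open Cfsg

universe u

/-- Hypothesis (1) of S4756. -/
def Mult (G : Type u) [Group G] : Prop :=
  ∀ (x y : G) (χ : Cfsg.IrrCharacter G), x ≠ 1 → y ≠ 1 →
    (∃ p q a b : ℕ, p.Prime ∧ q.Prime ∧ p ≠ q ∧ orderOf x = p ^ a ∧ orderOf y = q ^ b) →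
    (χ : G → ℂ) (x * y) = (χ : G → ℂ) x * (χ : G → ℂ) y

/-- The third alternative of conclusion (2) of S4756, for fixed `p`, `P`, `A`. -/
def Struct (G : Type u) [Group G] (p : ℕ) [Fact p.Prime] (P : Sylow p G) (A : Subgroup G) : Prop :=
  (P : Subgroup G).Normal ∧ IsCyclic ↥A ∧ A ≠ ⊥ ∧ (Nat.card ↥A).Coprime p ∧
    A ⊔ (P : Subgroup G) = ⊤ ∧
    IsMulCommutative ↥((P : Subgroup G) ⊓ Subgroup.centralizer (A : Set G)) ∧
    (⁅A, (P : Subgroup G)⁆).Normal ∧
    ((P : Subgroup G) ⊓ Subgroup.centralizer (A : Set G)) ⊔ ⁅A, (P : Subgroup G)⁆ =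
      (P : Subgroup G) ∧
    ((P : Subgroup G) ⊓ Subgroup.centralizer (A : Set G)) ⊓ ⁅A, (P : Subgroup G)⁆ = ⊥ ∧
    ∀ a ∈ A, a ≠ 1 → ∀ d ∈ ⁅A, (P : Subgroup G)⁆, a * d = d * a → d = 1

/-- `p` is a good prime: every nonlinear irreducible character vanishes on all nontrivial
elements of prime-power order for primes other than `p`. -/
def Good (G : Type u) [Group G] (p : ℕ) : Prop :=
  ∀ (χ : Cfsg.IrrCharacter G), (χ : G → ℂ) 1 ≠ 1 → ∀ y : G, y ≠ 1 →
    (∃ q b : ℕ, q.Prime ∧ q ≠ p ∧ orderOf y = q ^ b) → (χ : G → ℂ) y = 0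

/-- The purely group-theoretic consequence of `Good G p`. -/
def CentCard (G : Type u) [Group G] (p : ℕ) : Prop :=
  ∀ y : G, y ≠ 1 → (∃ q b : ℕ, q.Prime ∧ q ≠ p ∧ orderOf y = q ^ b) →
    Nat.card (Subgroup.centralizer ({y} : Set G)) = (commutator G).index

end Cfsg.Agent.Helper8.MX
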