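import Mathlib
import Cfsg.Agent.Lib.Helper15.S52Defs
import Cfsg.Agent.Lib.Helper12.SL2Pow

/-!
# S3452 piece S52-NONSPLIT: the nonsplit torus witness

`g = mk y` has order `(p+1)/2` and `m = rtrans trfun (mk x)` has nonzero norm sum under `g`
(evaluate at the point `1`: only the term `k = 0` contributes).
-/

set_option autoImplicit false

namespace Cfsg.Agent.Helper15.S52

open Cfsg.Agent.Helper2

/-- the inverse of a `2 × 2` matrix of determinant one is `tr • 1 - M` -/
theorem s52_nonsplit_inv {F : Type*} [Field F] (y : SL2 F) :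
    (y⁻¹ : SL2 F).1 = y.1.trace • (1 : Matrix (Fin 2) (Fin 2) F) - y.1 := by
  have h1 : y.1 * y.1 = y.1.trace • y.1 - 1 :=
    Cfsg.Agent.Helper12.sq_eq_of_det_one y.1 y.2
  have h2 : (y⁻¹ : SL2 F).1 * y.1 = 1 := by
    rw [← Matrix.SpecialLinearGroup.coe_mul, inv_mul_cancel, Matrix.SpecialLinearGroup.coe_one]
  have h3 : y.1 * (y.1.trace • (1 : Matrix (Fin 2) (Fin 2) F) - y.1) = 1 := by
    rw [mul_sub, h1, Matrix.mul_smul, mul_one]
    abel
  calc (y⁻¹ : SL2 F).1 = (y⁻¹ : SL2 F).1 * (y.1 * (y.1.trace • (1 : Matrix (Fin 2) (Fin 2) F) - y.1)) := by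
        rw [h3, mul_one]
    _ = y.1.trace • (1 : Matrix (Fin 2) (Fin 2) F) - y.1 := by
        rw [← mul_assoc, h2, one_mul]

/-- every inverse power of `y` lies in the span of `1` and `y` -/
theorem s52_nonsplit_span {F : Type*} [Field F] (y : SL2 F) (k : ℕ) :
    ∃ α β : F, ((y ^ k)⁻¹ : SL2 F).1 = α • (1 : Matrix (Fin 2) (Fin 2) F) + β • y.1 := by
  induction k with
  | zero =>
    refine ⟨1, 0, ?_⟩
    rw [pow_zero, inv_one, Matrix.SpecialLinearGroup.coe_one, one_smul, zero_smul, add_zero]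
  | succ k ih =>
    obtain ⟨α, β, hk⟩ := ih
    have h1 : y.1 * y.1 = y.1.trace • y.1 - 1 :=
      Cfsg.Agent.Helper12.sq_eq_of_det_one y.1 y.2
    refine ⟨α * y.1.trace + β, -α, ?_⟩
    have : ((y ^ (k + 1))⁻¹ : SL2 F) = (y ^ k)⁻¹ * y⁻¹ := by
      rw [pow_succ', mul_inv_rev]
    rw [this, Matrix.SpecialLinearGroup.coe_mul, hk, s52_nonsplit_inv]
    simp only [add_mul, mul_sub, Matrix.smul_mul, Matrix.mul_smul, one_mul, mul_one]
    rw [h1]
    module

/-- the trace identity `tr (Z x) = (s/2) tr Z` on the span of `1` and `y` -/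
theorem s52_nonsplit_trace {F : Type*} [Field F] (h2 : (2 : F) ≠ 0) (y x : SL2 F)
    (hx1 : x.1.trace = y.1.trace) (hx2 : (y.1 * x.1).trace = y.1.trace ^ 2 / 2) (k : ℕ) :
    (((y ^ k)⁻¹ * x : SL2 F).1).trace = y.1.trace / 2 * ((y ^ k)⁻¹ : SL2 F).1.trace := by
  obtain ⟨α, β, hk⟩ := s52_nonsplit_span y k
  rw [Matrix.SpecialLinearGroup.coe_mul, hk, add_mul, Matrix.smul_mul, Matrix.smul_mul, one_mul,
    Matrix.trace_add, Matrix.trace_smul, Matrix.trace_smul, Matrix.trace_add, Matrix.trace_smul,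
    Matrix.trace_smul, hx1, hx2, Matrix.trace_one, Fintype.card_fin]
  simp only [smul_eq_mul]
  field_simp
  push_cast
  ring

/-- a matrix of determinant one with `tr² = 4` has `Z^(2p) = 1` in characteristic `p` -/
theorem s52_nonsplit_pow {F : Type*} [Field F] (p : ℕ) [Fact p.Prime] [CharP F p]
    (Z : SL2 F) (ht : Z.1.trace ^ 2 = 4) : Z ^ (p * 2) = 1 := by
  have hcases : Z.1.trace = 2 ∨ Z.1.trace = -2 := by
    have : (Z.1.trace - 2) * (Z.1.trace + 2) = 0 := by ring_nf; rw [ht]; ring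
    rcases mul_eq_zero.1 this with h | h
    · left; exact sub_eq_zero.1 h
    · right; exact eq_neg_of_add_eq_zero_left h
  apply Subtype.ext
  rw [Matrix.SpecialLinearGroup.coe_pow, Matrix.SpecialLinearGroup.coe_one, pow_mul]
  rcases hcases with h | h
  · have := Cfsg.Agent.Helper12.pow_char_eq_smul_of_root Z.1 Z.2 1 (by rw [h]; ring) (by ring) p
    rw [this, one_pow, one_smul, one_pow]
  · have := Cfsg.Agent.Helper12.pow_char_eq_smul_of_root Z.1 Z.2 (-1) (by rw [h]; ring) (by ring) p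
    rw [this, smul_pow, one_pow, ← pow_mul, mul_comm, pow_mul, neg_one_sq, one_pow, one_smul]

/-- an element of `SL₂` whose square is one is central (characteristic not two) -/
theorem s52_nonsplit_central {F : Type*} [Field F] (h2 : (2 : F) ≠ 0) (Z : SL2 F) (hZ : Z ^ 2 = 1) :
    Z ∈ Subgroup.center (SL2 F) := by
  have h1 : Z.1 * Z.1 = Z.1.trace • Z.1 - 1 :=
    Cfsg.Agent.Helper12.sq_eq_of_det_one Z.1 Z.2
  have h3 : Z.1 * Z.1 = 1 := by
    have := congrArg Subtype.val hZ
    rwa [Matrix.SpecialLinearGroup.coe_pow, Matrix.SpecialLinearGroup.coe_one, pow_two] at this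
  have h4 : Z.1.trace • Z.1 = (2 : F) • (1 : Matrix (Fin 2) (Fin 2) F) := by
    have : Z.1.trace • Z.1 = 1 + 1 := by
      rw [h3] at h1
      rw [eq_sub_iff_add_eq] at h1
      exact h1.symm
    rw [this, two_smul]
  have ht : Z.1.trace ≠ 0 := by
    intro h0
    rw [h0, zero_smul] at h4
    have := congrFun (congrFun h4 0) 0
    simp at this
    exact h2 this.symm
  obtain ⟨c, hc⟩ : ∃ c : F, Z.1 = c • (1 : Matrix (Fin 2) (Fin 2) F) := by
    refine ⟨2 / Z.1.trace, ?_⟩
    calc Z.1 = (Z.1.trace)⁻¹ • (Z.1.trace • Z.1) := by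
          rw [smul_smul, inv_mul_cancel₀ ht, one_smul]
      _ = (Z.1.trace)⁻¹ • ((2 : F) • (1 : Matrix (Fin 2) (Fin 2) F)) := by rw [h4]
      _ = (2 / Z.1.trace) • (1 : Matrix (Fin 2) (Fin 2) F) := by
          rw [smul_smul, div_eq_inv_mul]
  rw [Matrix.SpecialLinearGroup.mem_center_iff]
  refine ⟨c, ?_, ?_⟩
  · have hdet : Z.1.det = 1 := Z.2
    rw [hc, Matrix.det_smul, Matrix.det_one, mul_one] at hdet
    exact hdet
  · rw [hc]
    ext i j
    simp [Matrix.scalar_apply, Matrix.smul_apply, Matrix.one_apply, Matrix.diagonal_apply]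

/-- PIECE S52-NONSPLIT -/
theorem nonsplit_main {F : Type*} [Field F] [Fintype F] {p : ℕ} [Fact p.Prime]
    (hF : Fintype.card F = p) (hp5 : 5 ≤ p) (y : SL2 F) (hy : orderOf y = p + 1)
    (hs : GoodS y.1.trace) (hmem : trfun F y.1.trace ∈ cuspSub (us F))
    (x : SL2 F) (hx1 : x.1.trace = y.1.trace) (hx2 : (y.1 * x.1).trace = y.1.trace ^ 2 / 2) :
    ∃ (g : P2 F) (m : W (us F)), orderOf g = (p + 1) / 2 ∧
      ∑ k ∈ Finset.range ((p + 1) / 2), g ^ k • m ≠ 0 := by
  classical
  have hpp : p.Prime := Fact.out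
  have : CharP F p := charP_of_card_eq_prime hF
  have hpodd : p % 2 = 1 := by
    rcases hpp.eq_two_or_odd with h | h
    · omega
    · exact h
  have h2 : (2 : F) ≠ 0 := by
    intro h
    have h' : ((2 : ℕ) : F) = 0 := by exact_mod_cast h
    have := (CharP.cast_eq_zero_iff F p 2).1 h'
    have := Nat.le_of_dvd (by norm_num) this
    omega
  set n := (p + 1) / 2 with hn
  have hn2 : n * 2 = p + 1 := by omega
  set s := y.1.trace with hsdef
  -- the order of `mk y`
  have hcen : y ^ n ∈ Subgroup.center (SL2 F) := by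
    apply s52_nonsplit_central h2
    rw [← pow_mul, hn2, ← hy, pow_orderOf_eq_one]
  have hdvd : ∀ j : ℕ, (mk F y) ^ j = 1 → n ∣ j := by
    intro j hj
    rw [← map_pow, mk_eq_one_iff] at hj
    obtain ⟨r, hr, hrj⟩ := Matrix.SpecialLinearGroup.mem_center_iff.1 hj
    have hr2 : r ^ 2 = 1 := by simpa using hr
    have hyj : y ^ (j * 2) = 1 := by
      apply Subtype.ext
      rw [pow_mul, Matrix.SpecialLinearGroup.coe_pow, Matrix.SpecialLinearGroup.coe_one, ← hrj]
      ext a b
      rw [pow_two]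
      simp only [Matrix.scalar_apply, Matrix.diagonal_mul_diagonal, Matrix.diagonal_apply,
        Matrix.one_apply]
      by_cases hab : a = b
      · simp only [hab, if_true]
        rw [← pow_two]; exact hr2
      · simp only [hab, if_false]
    have := orderOf_dvd_of_pow_eq_one hyj
    rw [hy, ← hn2] at this
    exact Nat.dvd_of_mul_dvd_mul_right (by norm_num) this
  have hgn : (mk F y) ^ n = 1 := by
    rw [← map_pow, mk_eq_one_iff]
    exact hcen
  have hord : orderOf (mk F y) = n :=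
    Nat.dvd_antisymm (orderOf_dvd_of_pow_eq_one hgn) (hdvd _ (pow_orderOf_eq_one _))
  refine ⟨mk F y, rtrans ⟨trfun F s, hmem⟩ (mk F x), hord, ?_⟩
  intro hsum
  have hval : (∑ k ∈ Finset.range n, (mk F y) ^ k • rtrans ⟨trfun F s, hmem⟩ (mk F x)).1 1
      = (0 : W (us F)).1 1 := by rw [hsum]
  rw [sum_apply] at hval
  have hterm : ∀ k : ℕ, (((mk F y) ^ k) • rtrans ⟨trfun F s, hmem⟩ (mk F x)).1 1
      = trfun0 F s ((y ^ k)⁻¹ * x) := by
    intro k
    rw [smul_apply, rtrans_apply]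
    show trfun F s (((mk F y) ^ k)⁻¹ * 1 * mk F x) = _
    rw [mul_one, ← map_pow, ← map_inv, ← map_mul, trfun_mk]
  have hzero : ((0 : W (us F)).1 : P2 F → ZMod 2) 1 = 0 := rfl
  rw [hzero, Finset.sum_congr rfl (fun k _ => hterm k)] at hval
  have hn0 : 0 < n := by omega
  rw [Finset.sum_eq_single 0] at hval
  · rw [pow_zero, inv_one, one_mul] at hval
    have h1 : trfun0 F s x = 1 := trfun0_eq_one F (by rw [hx1])
    rw [h1] at hval
    exact one_ne_zero hval
  · intro k hk hk0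
    apply trfun0_eq_zero F
    intro htr
    rw [s52_nonsplit_trace h2 y x hx1 hx2 k] at htr
    have ht4 : ((y ^ k)⁻¹ : SL2 F).1.trace ^ 2 = 4 := by
      have hs0 : s ≠ 0 := hs.1
      have h4 : (4 : F) ≠ 0 := by
        have : (4 : F) = 2 * 2 := by norm_num
        rw [this]; exact mul_ne_zero h2 h2
      have hs2 : s ^ 2 ≠ 0 := pow_ne_zero 2 hs0
      have : s ^ 2 * (((y ^ k)⁻¹ : SL2 F).1.trace ^ 2 - 4) = 0 := by
        have e : (s / 2 * ((y ^ k)⁻¹ : SL2 F).1.trace) ^ 2
            = s ^ 2 * ((y ^ k)⁻¹ : SL2 F).1.trace ^ 2 / 4 := by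
          field_simp
          ring
        rw [e, div_eq_iff h4] at htr
        linear_combination htr
      rcases mul_eq_zero.1 this with h | h
      · exact absurd h hs2
      · exact sub_eq_zero.1 h
    have hpow := s52_nonsplit_pow p ((y ^ k)⁻¹) ht4
    rw [inv_pow, inv_eq_one, ← pow_mul] at hpow
    have hd := orderOf_dvd_of_pow_eq_one hpow
    rw [hy] at hd
    -- (p+1) ∣ k * (p * 2), coprime to p
    have hcop : Nat.Coprime (p + 1) p := by
      rw [Nat.coprime_comm]
      exact (Nat.coprime_self_add_right).2 (Nat.coprime_one_right p)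
    have hd' : (p + 1) ∣ (k * 2) * p := by
      have : k * (p * 2) = (k * 2) * p := by ring
      rwa [this] at hd
    have hd2 := hcop.dvd_of_dvd_mul_right hd'
    have hklt : k < n := Finset.mem_range.1 hk
    have hkpos : 0 < k := Nat.pos_of_ne_zero hk0
    have := Nat.le_of_dvd (by omega) hd2
    omega
  · intro h0
    exact absurd (Finset.mem_range.2 hn0) h0

end Cfsg.Agent.Helper15.S52
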