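import Mathlib
import Cfsg.Prelude.Def_Classical
import Cfsg.Agent.Lib.Helper15.S74Defs
import Cfsg.Agent.Lib.Helper25.S74RESTR
import Cfsg.Agent.Lib.Helper19.S74MINSUB
import Cfsg.Agent.Lib.Helper27.S74ORDUTIL
import Cfsg.Agent.Lib.Helper27.S74PERPDIM

/-!
# S2474 piece S74-DICHB (helper8), core: the reducible case of the dichotomy, with the statements
of S74-CNT (`dvd_card_pow_sub_one`) and S74-INVFORM (`invform`) as hypotheses.
-/

set_option autoImplicit false

open Cfsg.Agent.Helper15.S62

namespace Cfsg.Agent.Helper15.S74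

universe u

variable {F : Type u} [Field F]

theorem s74_dichb_dvd_sq (q m t : ℕ) (h : t ∣ q ^ m - 1 ∨ t ∣ q ^ m + 1) :
    t ∣ q ^ (2 * m) - 1 := by
  have h1 : q ^ (2 * m) - 1 = (q ^ m - 1) * (q ^ m + 1) := by
    have : q ^ (2 * m) = q ^ m * q ^ m := by rw [two_mul, pow_add]
    rw [this]
    rcases Nat.eq_zero_or_pos (q ^ m) with h0 | h0
    · rw [h0]
    · have hle : 1 ≤ q ^ m * q ^ m := Nat.mul_pos h0 h0
      zify [hle, h0]
      ring
  rw [h1]
  rcases h with h | h
  · exact Dvd.dvd.mul_right h _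
  · exact Dvd.dvd.mul_left h _

theorem s74_dichb_pow_eq_one {U : Type u} [AddCommGroup U] [Module F U] (y : Module.End F U)
    (t : ℕ) (hsum : ∑ i ∈ Finset.range t, y ^ i = 0) : y ^ t = 1 := by
  have := mul_geom_sum y t
  rw [hsum, mul_zero] at this
  exact (sub_eq_zero.1 this.symm)

/-- S74-DICHB core -/
theorem s74_dichb_core [Fintype F] {W : Type u} [AddCommGroup W] [Module F W]
    [FiniteDimensional F W] (B : LinearMap.BilinForm F W) (hnd : LND B) (y : Module.End F W)
    (hy : Isom B y) (t : ℕ) (ht : t.Prime) (ht2 : t ≠ 2) (htF : (t : F) ≠ 0)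
    (hsum : ∑ i ∈ Finset.range t, y ^ i = 0) (n : ℕ) (hn : 1 ≤ n)
    (hdim : Module.finrank F W = 2 * n) (hns : ¬ Small (Fintype.card F) t (n - 1))
    (hirr : ¬ Irred y)
    (hCNT : ∀ (U : Type u) [AddCommGroup U] [Module F U] [FiniteDimensional F U]
      (y' : Module.End F U), (∑ i ∈ Finset.range t, y' ^ i = 0) →
      t ∣ Fintype.card F ^ Module.finrank F U - 1)
    (hINV : ∀ (U : Type u) [AddCommGroup U] [Module F U] [FiniteDimensional F U]
      (g : Module.End F U), Irred g → g ^ t = 1 → g ^ 2 ≠ 1 →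
      ∀ β : LinearMap.BilinForm F U, β ≠ 0 → Isom β g →
      ∃ k : ℕ, 1 ≤ k ∧ Module.finrank F U = 2 * k ∧
        ∀ z : Module.End F U, Commute z g → Isom β z → z ^ (Fintype.card F ^ k + 1) = 1) :
    ∃ (M : Submodule F W) (hM : Invar y M), Irred (y.restrict hM) ∧ Module.finrank F M = n ∧
        (∀ x, x ∈ M ↔ ∀ a ∈ M, B a x = 0) ∧
        ∀ z : Module.End F W, Commute z y → Isom B z → Invar z M := by
  classical
  -- `W` is nontrivial
  have : Nontrivial W := by
    apply Module.nontrivial_of_finrank_pos (R := F)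
    omega
  -- a proper nonzero invariant subspace
  have hex : ∃ U₀ : Submodule F W, Invar y U₀ ∧ U₀ ≠ ⊥ ∧ U₀ ≠ ⊤ := by
    by_contra hcon
    apply hirr
    refine ⟨inferInstance, fun U hU => ?_⟩
    by_contra h2
    rw [not_or] at h2
    exact hcon ⟨U, hU, h2.1, h2.2⟩
  obtain ⟨U₀, hU₀, hU₀b, hU₀t⟩ := hex
  obtain ⟨M, hM, hMU, hMne, hMirr⟩ := exists_irred_le y U₀ hU₀b hU₀
  have : Nontrivial M := hMirr.1
  have hMW : M ≤ Wpart y t := by
    intro v _
    rw [mem_Wpart, ← LinearMap.sum_apply, hsum, LinearMap.zero_apply]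
  have hsumM : ∑ i ∈ Finset.range t, (y.restrict hM) ^ i = 0 := restrict_geom_sum y M hM t hMW
  have hcnt := hCNT M (y.restrict hM) hsumM
  have hmpos : 1 ≤ Module.finrank F M := Module.finrank_pos
  have hmlt : Module.finrank F M < 2 * n := by
    have h1 : Module.finrank F M ≤ Module.finrank F U₀ := Submodule.finrank_mono hMU
    have h2 : Module.finrank F U₀ < Module.finrank F W :=
      Submodule.finrank_lt hU₀t
    omega
  have hpowM : (y.restrict hM) ^ t = 1 := s74_dichb_pow_eq_one _ t hsumM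
  have hg2 : (y.restrict hM) ^ 2 ≠ 1 := by
    intro h2
    have := dvd_of_geom_sum_eq_zero (y.restrict hM) t ht htF hsumM 2 h2
    rcases (Nat.dvd_prime Nat.prime_two).1 this with h | h
    · exact ht.one_lt.ne' h
    · exact ht2 h
  -- a nonzero invariant form on `M` forces `Small`
  have hkey : ∀ β : LinearMap.BilinForm F M, Isom β (y.restrict hM) → β = 0 := by
    intro β hβinv
    by_contra hβ
    obtain ⟨k, hk1, hk2, hz⟩ := hINV M (y.restrict hM) hMirr hpowM hg2 β hβ hβinv
    have hz1 := hz (y.restrict hM) (Commute.refl _) hβinv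
    have hdvd := dvd_of_geom_sum_eq_zero (y.restrict hM) t ht htF hsumM _ hz1
    exact hns ⟨k, hk1, by omega, s74_dichb_dvd_sq _ _ _ (Or.inr hdvd)⟩
  have hβM : B.restrict M = 0 := hkey _ (isom_restrict B y M hM hy)
  have hle : M ≤ B.orthogonal M := by
    intro x hx
    rw [LinearMap.BilinForm.mem_orthogonal_iff]
    intro a ha
    have := congrArg (fun b : LinearMap.BilinForm F M => b ⟨a, ha⟩ ⟨x, hx⟩) hβM
    exact this
  have h1 := finrank_add_finrank_orthogonal' B hnd M
  have h2 := Submodule.finrank_mono hle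
  have hmn : Module.finrank F M = n := by
    by_contra hne
    have hlt : Module.finrank F M ≤ n - 1 := by omega
    exact hns ⟨Module.finrank F M, hmpos, hlt, s74_dichb_dvd_sq _ _ _ (Or.inl hcnt)⟩
  have hMeq : M = B.orthogonal M := by
    apply Submodule.eq_of_le_of_finrank_eq hle
    omega
  have hmem : ∀ x, x ∈ M ↔ ∀ a ∈ M, B a x = 0 := by
    intro x
    constructor
    · intro hx a ha
      have := hle hx
      rw [LinearMap.BilinForm.mem_orthogonal_iff] at this
      exact this a ha
    · intro hx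
      rw [hMeq, LinearMap.BilinForm.mem_orthogonal_iff]
      exact hx
  refine ⟨M, hM, hMirr, hmn, hmem, ?_⟩
  intro z hzy _
  -- the twisted form `β' a b = B a (z b)` on `M`
  have hinv' : Isom (LinearMap.BilinForm.restrict (B.compl₂ z) M) (y.restrict hM) := by
    intro a b
    show B (y a) (z (y b)) = B a (z b)
    have hc : z (y (b : W)) = y (z b) := by
      have := congrArg (fun f : Module.End F W => f (b : W)) hzy.eq
      simpa [Module.End.mul_apply] using this
    rw [hc]
    exact hy _ _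
  have h0 := hkey _ hinv'
  intro v hv
  rw [hmem]
  intro a ha
  have := congrArg (fun b : LinearMap.BilinForm F M => b ⟨a, ha⟩ ⟨v, hv⟩) h0
  exact this

end Cfsg.Agent.Helper15.S74
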