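import Mathlib
import Cfsg.Prelude.Def_Classical
import Cfsg.Agent.Lib.Helper15.S74Defs
import Cfsg.Agent.Lib.Helper8.S74DICHBCore
import Cfsg.Agent.Lib.Helper9.S74INVFORM
import Cfsg.Agent.Lib.Helper13.PrimeOrderSemisimple

/-!
# S2474 piece S74-DICHB (helper8): the reducible case of the dichotomy (exact skeleton name).
The counting input (statement of S74-CNT) is proved locally as `s74_dichb_cnt`.
-/

set_option autoImplicit false

open Cfsg.Agent.Helper15.S62

namespace Cfsg.Agent.Helper15.S74

universe u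

variable {F : Type u} [Field F]

/-- local copy of the S74-CNT statement: a fixed-point-free element of prime order `t`. -/
theorem s74_dichb_cnt [Fintype F] {U : Type u} [AddCommGroup U] [Module F U]
    [FiniteDimensional F U] (y : Module.End F U) (t : ℕ) (ht : t.Prime) (htF : (t : F) ≠ 0)
    (hsum : ∑ i ∈ Finset.range t, y ^ i = 0) :
    t ∣ Fintype.card F ^ Module.finrank F U - 1 := by
  have : Fact t.Prime := ⟨ht⟩
  have hpow : y ^ t = 1 := s74_dichb_pow_eq_one y t hsum
  have h := Cfsg.Agent.Helper13.POS.card_modEq_of_pow_eq_one t y hpow ⊤ (fun v _ => Submodule.mem_top)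
  have hker : LinearMap.ker (y - 1) = ⊥ := by
    rw [LinearMap.ker_eq_bot']
    intro v hv
    rw [LinearMap.sub_apply, sub_eq_zero] at hv
    have hv' : y v = v := hv
    have hp : ∀ i : ℕ, (y ^ i) v = v := by
      intro i
      induction i with
      | zero => rfl
      | succ i ih => rw [pow_succ, Module.End.mul_apply, hv', ih]
    have h0 : (∑ i ∈ Finset.range t, y ^ i) v = 0 := by rw [hsum]; rfl
    rw [LinearMap.sum_apply] at h0
    simp only [hp, Finset.sum_const, Finset.card_range] at h0
    rw [← Nat.cast_smul_eq_nsmul F] at h0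
    exact (smul_eq_zero.1 h0).resolve_left htF
  rw [hker, inf_bot_eq, finrank_bot, pow_zero, finrank_top] at h
  have hq : 1 ≤ Fintype.card F ^ Module.finrank F U := Nat.one_le_pow _ _ Fintype.card_pos
  exact (Nat.modEq_iff_dvd' hq).1 h.symm

/-- S74-DICHB (uses MINSUB, CNT, PERPDIM, INVFORM, ORDUTIL, RESTR): the reducible case. -/
theorem dich_of_not_irred [Fintype F] {W : Type u} [AddCommGroup W] [Module F W]
    [FiniteDimensional F W] (B : LinearMap.BilinForm F W) (hnd : LND B) (y : Module.End F W)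
    (hy : Isom B y) (t : ℕ) (ht : t.Prime) (ht2 : t ≠ 2) (htF : (t : F) ≠ 0)
    (hsum : ∑ i ∈ Finset.range t, y ^ i = 0) (n : ℕ) (hn : 1 ≤ n)
    (hdim : Module.finrank F W = 2 * n) (hns : ¬ Small (Fintype.card F) t (n - 1))
    (hirr : ¬ Irred y) :
    ∃ (M : Submodule F W) (hM : Invar y M), Irred (y.restrict hM) ∧ Module.finrank F M = n ∧
        (∀ x, x ∈ M ↔ ∀ a ∈ M, B a x = 0) ∧
        ∀ z : Module.End F W, Commute z y → Isom B z → Invar z M :=
  s74_dichb_core B hnd y hy t ht ht2 htF hsum n hn hdim hns hirr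
    (fun _ _ _ _ y' h => s74_dichb_cnt y' t ht htF h)
    (fun _ _ _ _ g hg hgt hg2 β hβ hinv => invform g hg t ht.pos hgt hg2 β hβ hinv)

end Cfsg.Agent.Helper15.S74
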