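import Mathlib
import Cfsg.Agent.Lib.Helper15.S64Defs
import Cfsg.Agent.Lib.Helper2.OutCongr

/-!
# S3664, piece S64-FIXF (helper8): elements of the field with 8 elements fixed by a non-trivial
field automorphism lie in the prime field.
-/

set_option autoImplicit false
set_option linter.unusedSectionVars false
set_option linter.unusedVariables false

namespace Cfsg.Agent.Helper15.S64

open Matrix Cfsg.Agent.Helper2 Cfsg.Agent.Helper2.Sz

/-- abstract form: a field with `2 ^ 3` elements -/
theorem s64_fixf_aux {F : Type*} [Field F] [Fintype F] (hF : Fintype.card F = 2 ^ 3)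
    (ψ : F ≃+* F) (hψ : ψ ≠ 1) (x : F) (hx : ψ x = x) : x ^ 2 = x := by
  haveI : Fact (Nat.Prime 2) := ⟨Nat.prime_two⟩
  haveI : Fact (Nat.Prime 3) := ⟨Nat.prime_three⟩
  haveI hchar : CharP F 2 := charP_of_card_eq_prime_pow hF
  have hcard : Nat.card (F ≃+* F) = 3 := OutCongr.card_ringEquiv (p := 2) (n := 3) hF
  haveI : Finite (F ≃+* F) := Nat.finite_of_card_ne_zero (by rw [hcard]; norm_num)
  -- `ψ` generates the automorphism group
  have hgen : ∀ g : F ≃+* F, g ∈ Subgroup.zpowers ψ :=
    fun g => mem_zpowers_of_prime_card (p := 3) hcard hψ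
  obtain ⟨k, hk⟩ := Subgroup.mem_zpowers_iff.1 (hgen (frobeniusEquiv F 2))
  -- the stabiliser of `x` is a subgroup containing `ψ`
  let St : Subgroup (F ≃+* F) :=
    { carrier := {g | g x = x}
      one_mem' := rfl
      mul_mem' := by
        intro a b ha hb
        show a (b x) = x
        rw [show b x = x from hb]; exact ha
      inv_mem' := by
        intro a ha
        show a⁻¹ x = x
        have h1 : a x = x := ha
        calc a⁻¹ x = a⁻¹ (a x) := by rw [h1]
          _ = x := a.symm_apply_apply x }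
  have hψS : ψ ∈ St := hx
  have hfS : frobeniusEquiv F 2 ∈ St := by
    rw [← hk]
    exact St.zpow_mem hψS k
  have h1 : frobeniusEquiv F 2 x = x := hfS
  rw [frobeniusEquiv_apply, frobenius_def] at h1
  exact h1

variable {F : Type*} [Field F] [Fintype F] (S : SzData F 1)
  (hF : Fintype.card F = 2 ^ (2 * 1 + 1))

include S hF in
/-- PIECE S64-FIXF -/
theorem sq_eq_of_fixed (ψ : F ≃+* F) (hψ : ψ ≠ 1) (x : F) (hx : ψ x = x) : x ^ 2 = x :=
  s64_fixf_aux (by rw [hF]) ψ hψ x hx

end Cfsg.Agent.Helper15.S64
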