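import Mathlib
import Cfsg.Prelude.Def_TwoFusion
/-!
# SD: direct decomposability of the Sylow 2-subgroups of `Alt(n)` (statement S2221) -- definitions

helper8 plan `plans/SD_plan.md`.  Everything lives in `Cfsg.Agent.Helper8.SD`.
-/

set_option autoImplicit false

namespace Cfsg.Agent.Helper8.SD

open Equiv

/-- `P` is the internal direct product of two nontrivial subgroups. -/
def Decomp {G : Type*} [Group G] (P : Subgroup G) : Prop :=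
  ∃ S₁ S₂ : Subgroup G, S₁ ≠ ⊥ ∧ S₂ ≠ ⊥ ∧ Cfsg.IsInternalDirectProduct S₁ S₂ P

/-- the conjugate `τ A τ⁻¹` -/
def conjS {G : Type*} [Group G] (τ : G) (A : Subgroup G) : Subgroup G :=
  A.map (MulAut.conj τ).toMonoidHom

/-- the "wreath product" `⟨A, τ A τ⁻¹, τ⟩` -/
def dblG {G : Type*} [Group G] (A : Subgroup G) (τ : G) : Subgroup G :=
  A ⊔ conjS τ A ⊔ Subgroup.zpowers τ

/-- hypotheses making `dblG A τ` an internal wreath product `A ≀ C₂`: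
every element is uniquely `a * (τ b τ⁻¹)` or `a * (τ b τ⁻¹) * τ` with `a, b ∈ A`. -/
structure WrHyp {G : Type*} [Group G] (A : Subgroup G) (τ : G) : Prop where
  sq : τ * τ = 1
  comm : ∀ a ∈ A, ∀ b ∈ A, a * (τ * b * τ⁻¹) = τ * b * τ⁻¹ * a
  disj : ∀ a ∈ A, τ * a * τ⁻¹ ∈ A → a = 1
  notin : ∀ a ∈ A, ∀ b ∈ A, a * (τ * b * τ⁻¹) ≠ τ

/-- `IsW Q B`: `Q` is an iterated wreath product `C₂ ≀ ⋯ ≀ C₂` acting on the block `B` (of `2`-power size)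
and fixing every point outside `B`. -/
inductive IsW {Ω : Type*} [DecidableEq Ω] : Subgroup (Perm Ω) → Finset Ω → Prop
  | single (x : Ω) : IsW ⊥ {x}
  | wreath {A : Subgroup (Perm Ω)} {B₁ : Finset Ω} (τ : Perm Ω) (hA : IsW A B₁)
      (hτ2 : τ * τ = 1) (hτB : ∀ x ∈ B₁, τ x ∉ B₁)
      (hτfix : ∀ x, x ∉ B₁ → τ x ∉ B₁ → τ x = x) :
      IsW (dblG A τ) (B₁ ∪ B₁.image τ)

/-- the properties of an iterated wreath product that the proof uses -/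
structure WProps {Ω : Type*} [DecidableEq Ω] [Fintype Ω] (Q : Subgroup (Perm Ω)) (B : Finset Ω) :
    Prop where
  supp : ∀ σ ∈ Q, ∀ x, x ∉ B → σ x = x
  card : Nat.card Q = 2 ^ (B.card - 1)
  pow : ∃ a : ℕ, B.card = 2 ^ a
  odd : 2 ≤ B.card → ∃ t ∈ Q, t * t = 1 ∧ Perm.sign t = -1
  cen : 2 ≤ B.card → ∃ z ∈ Q, z ≠ 1 ∧ z * z = 1 ∧
      (∀ c ∈ Q, (∀ q ∈ Q, c * q = q * c) ↔ (c = 1 ∨ c = z)) ∧
      (4 ≤ B.card → Perm.sign z = 1 ∧ ∃ g ∈ Q, g * g = z)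
  cp : ∀ X Y : Subgroup (Perm Ω), X ≤ Q → Y ≤ Q → (∀ x ∈ X, ∀ y ∈ Y, x * y = y * x) →
      X ⊔ Y = Q → (∀ x ∈ X, ∀ q ∈ Q, x * q = q * x) ∨ (∀ y ∈ Y, ∀ q ∈ Q, y * q = q * y)
  cenAlt : 8 ≤ B.card → ∀ c ∈ Q, Perm.sign c = 1 →
      (∀ q ∈ Q, Perm.sign q = 1 → c * q = q * c) → ∀ q ∈ Q, c * q = q * c

/-- the product of the characters `ε i` on a product of groups -/
def sgnPi {ι : Type*} [Fintype ι] {H : ι → Type*} [∀ i, Group (H i)] (ε : ∀ i, H i →* ℤˣ) :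
    (∀ i, H i) →* ℤˣ where
  toFun x := ∏ i, ε i (x i)
  map_one' := by simp
  map_mul' x y := by simp [Finset.prod_mul_distrib]

theorem sgnPi_apply {ι : Type*} [Fintype ι] {H : ι → Type*} [∀ i, Group (H i)]
    (ε : ∀ i, H i →* ℤˣ) (x : ∀ i, H i) : sgnPi ε x = ∏ i, ε i (x i) := rfl

end Cfsg.Agent.Helper8.SD
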