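import Mathlib
import Cfsg.Agent.Lib.Helper8.SDDefs
import Cfsg.Agent.Lib.Helper15.SDModel
/-!
# SD-WEX: existence of iterated wreath products on a block of `2`-power size, and of the model family
(helper8 plan `plans/SD_plan.md`)
-/

set_option autoImplicit false

namespace Cfsg.Agent.Helper8.SD

open Equiv

variable {Ω : Type*} [DecidableEq Ω] [Fintype Ω]

/-- an involution exchanging two disjoint finsets of the same size and fixing everything else -/
theorem exists_swap_finsets (B₁ B₂ : Finset Ω) (hd : Disjoint B₁ B₂) (hc : B₁.card = B₂.card) :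
    ∃ τ : Perm Ω, τ * τ = 1 ∧ (∀ x ∈ B₁, τ x ∈ B₂) ∧ (∀ x ∈ B₂, τ x ∈ B₁) ∧
      ∀ x, x ∉ B₁ → x ∉ B₂ → τ x = x := by
  classical
  let e : ↥B₁ ≃ ↥B₂ := Finset.equivOfCardEq hc
  let f : Ω → Ω := fun x =>
    if h1 : x ∈ B₁ then ((e ⟨x, h1⟩ : ↥B₂) : Ω)
    else if h2 : x ∈ B₂ then ((e.symm ⟨x, h2⟩ : ↥B₁) : Ω) else x
  have hf1 : ∀ x (h1 : x ∈ B₁), f x = ((e ⟨x, h1⟩ : ↥B₂) : Ω) := by
    intro x h1
    simp only [f, dif_pos h1]
  have hf2 : ∀ x (h2 : x ∈ B₂), f x = ((e.symm ⟨x, h2⟩ : ↥B₁) : Ω) := by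
    intro x h2
    have h1 : x ∉ B₁ := Finset.disjoint_right.mp hd h2
    simp only [f, dif_neg h1, dif_pos h2]
  have hf3 : ∀ x, x ∉ B₁ → x ∉ B₂ → f x = x := by
    intro x h1 h2
    simp only [f, dif_neg h1, dif_neg h2]
  have hff : ∀ x, f (f x) = x := by
    intro x
    by_cases h1 : x ∈ B₁
    · rw [hf1 x h1, hf2 _ (e ⟨x, h1⟩).2]
      simp
    · by_cases h2 : x ∈ B₂
      · rw [hf2 x h2, hf1 _ (e.symm ⟨x, h2⟩).2]
        simp
      · rw [hf3 x h1 h2, hf3 x h1 h2]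
  refine ⟨⟨f, f, hff, hff⟩, ?_, ?_, ?_, ?_⟩
  · ext x
    exact hff x
  · intro x h1
    change f x ∈ B₂
    rw [hf1 x h1]
    exact (e ⟨x, h1⟩).2
  · intro x h2
    change f x ∈ B₁
    rw [hf2 x h2]
    exact (e.symm ⟨x, h2⟩).2
  · intro x h1 h2
    exact hf3 x h1 h2

theorem exists_isW (a : ℕ) (B : Finset Ω) (hB : B.card = 2 ^ a) :
    ∃ Q : Subgroup (Perm Ω), IsW Q B := by
  induction a generalizing B with
  | zero =>
    rw [pow_zero, Finset.card_eq_one] at hB
    obtain ⟨x, rfl⟩ := hB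
    exact ⟨⊥, IsW.single x⟩
  | succ a ih =>
    have hle : 2 ^ a ≤ B.card := by
      rw [hB, pow_succ]
      omega
    obtain ⟨B₁, hB₁, hc₁⟩ := Finset.exists_subset_card_eq hle
    have hc₂ : (B \ B₁).card = 2 ^ a := by
      rw [Finset.card_sdiff_of_subset hB₁, hB, hc₁, pow_succ]
      omega
    have hd : Disjoint B₁ (B \ B₁) := Finset.disjoint_sdiff
    obtain ⟨τ, hτ2, h12, h21, hfix⟩ := exists_swap_finsets B₁ (B \ B₁) hd (hc₁.trans hc₂.symm)
    obtain ⟨A, hA⟩ := ih B₁ hc₁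
    have himg : B₁.image τ = B \ B₁ := by
      apply Finset.eq_of_subset_of_card_le
      · intro y hy
        obtain ⟨x, hx, rfl⟩ := Finset.mem_image.mp hy
        exact h12 x hx
      · rw [Finset.card_image_of_injective _ τ.injective, hc₁, hc₂]
    have hB' : B₁ ∪ B₁.image τ = B := by
      rw [himg]
      exact Finset.union_sdiff_of_subset hB₁
    refine ⟨dblG A τ, ?_⟩
    rw [← hB']
    refine IsW.wreath τ hA hτ2 ?_ ?_
    · intro x hx
      exact Finset.disjoint_right.mp hd (h12 x hx)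
    · intro x hx1 hx2
      by_cases hx3 : x ∈ B \ B₁
      · exact absurd (h21 x hx3) hx2
      · exact hfix x hx1 hx3

/-- the model: blocks of pairwise distinct sizes `2 ^ a ≥ 2` covering all but `n % 2` points,
each with an iterated wreath product -/
theorem exists_model (n : ℕ) :
    ∃ (ι : Type) (_ : Fintype ι) (_ : DecidableEq ι) (B : ι → Finset (Fin n))
      (Qs : ι → Subgroup (Perm (Fin n))),
      (∀ i, IsW (Qs i) (B i)) ∧ (∀ i, 2 ≤ (B i).card) ∧
      (∀ i j, i ≠ j → Disjoint (B i) (B j)) ∧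
      (∀ i j, (B i).card = (B j).card → i = j) ∧ ∑ i, (B i).card = 2 * (n / 2) := by
  exact MODEL.exists_model_of n (fun a B h => exists_isW a B h)

end Cfsg.Agent.Helper8.SD
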