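import Mathlib
import Cfsg.Agent.Lib.Helper8.BG149A
import Cfsg.Agent.Lib.Helper14.BG1369B
import Cfsg.Agent.Lib.Helper22.BG13A
import Cfsg.Agent.Lib.Helper1.PiHall
import Cfsg.Agent.Lib.Helper21.BG143B
import Cfsg.Agent.Lib.Helper4.BGSigA
import Cfsg.Agent.Lib.Lead.BGThmC2

/-!
# BG 14.9 (S1435), part B: the configuration, `κ(H) = ∅`, `K` acts freely on `H_σ`,
and `U ≤ H_σ` (helper8)
-/

set_option autoImplicit false

namespace Cfsg.Agent.Helper8.BG149

open Cfsg Subgroup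
open Cfsg.Agent.Helper16.BG147 (Ctx Kst)
open Cfsg.Agent.Helper22.BG13 (Hyp1350 Hyp1417 Hyp1418)
open Cfsg.Agent.Helper10 (IsPiNum)

variable {G : Type*} [Group G] [Finite G]

/-- the configuration of BG 14.9: `M = K U M_σ` of type `P₂` with partner `M*`, and a maximal
subgroup `H ⊇ U K` not conjugate to `M` or `M*` -/
structure Cfg (M K Ms U H : Subgroup G) : Prop where
  c : Ctx M K Ms
  hKU : IsSigmaDecomposition M K U
  hU1 : U ≠ ⊥
  hUfree : ∀ k ∈ K, k ≠ 1 → U ⊓ centralizer ({k} : Set G) = ⊥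
  hH : IsCoatom H
  hUH : U ≤ H
  hKH : K ≤ H
  hnM : ∀ g : G, H ≠ M.map (MulAut.conj g).toMonoidHom
  hnMs : ∀ g : G, H ≠ Ms.map (MulAut.conj g).toMonoidHom
  h50 : Hyp1350 G
  h17 : Hyp1417 G
  h18 : Hyp1418 G
  hHσ : sigmaCore H ≠ ⊥

namespace Cfg

variable {M K Ms U H : Subgroup G} (d : Cfg M K Ms U H)
include d

theorem kappa_eq_empty : kappa H = ∅ := by
  by_contra hne
  have hne' : (kappa H).Nonempty := Set.nonempty_iff_ne_empty.mpr hne
  obtain ⟨g, hg | hg⟩ := Cfsg.Agent.Helper14.BG1369.part2 d.c H d.hH hne'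
  · exact d.hnM g hg
  · exact d.hnMs g hg

theorem H_ne_Ms : H ≠ Ms := by
  intro h
  apply d.hnMs 1
  rw [h]
  ext x
  simp [Subgroup.mem_map]

theorem solvH : Group.IsSolvable ↥H := d.c.hG.2.2.2 H d.hH.1

theorem K_not_sigma : ∀ p : ℕ, p.Prime → p ∣ Nat.card K → p ∉ sigma H := by
  intro p hp hpK hpH
  have h1 : p ∈ sigma Ms := by
    have hdvd : Nat.card K ∣ Nat.card ↥(sigmaCore Ms) := Subgroup.card_dvd_of_le d.c.K_le_sigmaCore_Ms
    exact Cfsg.Agent.Helper16.BG147.card_sigmaCore Ms p hp (hpK.trans hdvd)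
  obtain ⟨g, hg⟩ := d.c.h78 Ms H d.c.hMs d.hH ⟨p, h1, hpH⟩
  exact d.hnMs g hg

theorem orderOf_dvd_card_of_mem {A : Subgroup G} {x : G} (hx : x ∈ A) : orderOf x ∣ Nat.card A := by
  have := orderOf_dvd_natCard (⟨x, hx⟩ : A)
  rwa [Subgroup.orderOf_mk] at this

/-- `K` acts freely on `H_σ` -/
theorem K_free : ∀ k ∈ K, k ≠ 1 → sigmaCore H ⊓ centralizer ({k} : Set G) = ⊥ := by
  intro k hk hk1
  rw [eq_bot_iff]
  intro y hy
  rw [mem_bot]
  by_contra hy1
  obtain ⟨hyσ, hyc⟩ := mem_inf.mp hy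
  rw [Cfsg.Agent.Helper16.BG147.mem_centralizer_singleton] at hyc
  have hkc : k ∈ H ⊓ centralizer ({y} : Set G) := by
    refine mem_inf.mpr ⟨d.hKH hk, ?_⟩
    rw [Cfsg.Agent.Helper16.BG147.mem_centralizer_singleton]
    exact hyc.symm
  have hord : ∀ p : ℕ, p.Prime → p ∣ orderOf k → p ∉ sigma H := fun p hp hpd =>
    d.K_not_sigma p hp (hpd.trans (d.orderOf_dvd_card_of_mem hk))
  have hne : orderOf k ≠ 1 := by
    rw [Ne, orderOf_eq_one_iff]; exact hk1
  obtain ⟨p, hp, hpd⟩ := Nat.exists_prime_and_dvd hne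
  rcases d.c.h32 H d.hH y hyσ hy1 k hkc hk1 hord with h | h
  · have := h.1 p hp hpd
    rw [d.kappa_eq_empty] at this
    exact this
  · have h1 := d.c.centralizer_K_le hk hk1
    exact d.H_ne_Ms (h.2.2.2 Ms d.c.hMs h1).symm

theorem sigmaCore_le_normalizer {V : Subgroup G} (hVH : V ≤ H) :
    V ≤ normalizer ((sigmaCore H : Subgroup G) : Set G) :=
  hVH.trans (Cfsg.Agent.Helper16.BG147.le_normalizer_sigmaCore H)

/-- primes of `V ⊔ K` -/
theorem sup_K_not_sigma {V : Subgroup G} (hKV : K ≤ normalizer (V : Set G))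
    (hVσ : ∀ p : ℕ, p.Prime → p ∣ Nat.card V → p ∉ sigma H) :
    ∀ p : ℕ, p.Prime → p ∣ Nat.card ↥(V ⊔ K) → p ∉ sigma H := by
  intro p hp hpd
  have h1 : Nat.card ↥(V ⊔ K) ∣ Nat.card V * Nat.card K :=
    Cfsg.Agent.Helper7.card_sup_dvd_mul_of_le_normalizer hKV
  rcases (Nat.Prime.dvd_mul hp).mp (hpd.trans h1) with h | h
  · exact hVσ p hp h
  · exact d.K_not_sigma p hp h

/-- the Frobenius trick inside `H` -/
theorem centralizes_of_frob (V : Subgroup G) (hVH : V ≤ H)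
    (hKV : K ≤ normalizer (V : Set G))
    (hfree : ∀ k ∈ K, k ≠ 1 → V ⊓ centralizer ({k} : Set G) = ⊥)
    (hab : ∀ a ∈ V, ∀ b ∈ V, a * b = b * a)
    (hVσ : ∀ p : ℕ, p.Prime → p ∣ Nat.card V → p ∉ sigma H) :
    sigmaCore H ≤ centralizer (V : Set G) := by
  have hsolvH := d.solvH
  apply frob_centralizes V K (sigmaCore H)
  · intro e he u hu
    exact (mem_normalizer_iff.mp (hKV he) u).mp hu
  · intro e he he1 u hu heu
    have : u ∈ V ⊓ centralizer ({e} : Set G) :=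
      mem_inf.mpr ⟨hu, Cfsg.Agent.Helper16.BG147.mem_centralizer_singleton.mpr heu⟩
    rw [hfree e he he1, mem_bot] at this
    exact this
  · haveI : IsMulCommutative V := ⟨⟨fun a b => Subtype.ext (hab a a.2 b b.2)⟩⟩
    letI : CommGroup V := { (inferInstance : Group V) with mul_comm := fun a b => Subtype.ext (hab a a.2 b b.2) }
    exact CommGroup.isNilpotent
  · exact solvable_of_solvable_injective
      (Subgroup.inclusion_injective (Cfsg.Agent.Helper16.BG147.sigmaCore_le H))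
  · exact sup_le (d.sigmaCore_le_normalizer hVH) (d.sigmaCore_le_normalizer d.hKH)
  · apply Nat.coprime_of_dvd
    intro p hp hp1 hp2
    exact d.sup_K_not_sigma hKV hVσ p hp hp2
      (Cfsg.Agent.Helper16.BG147.card_sigmaCore H p hp hp1)
  · obtain ⟨k, hk, hk1⟩ := d.c.exists_K_ne_one
    rw [eq_bot_iff, ← d.K_free k hk hk1]
    exact inf_le_inf le_rfl (centralizer_le (Set.singleton_subset_iff.mpr hk))

end Cfg

end Cfsg.Agent.Helper8.BG149
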