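import Mathlib
import Cfsg.Agent.Lib.Helper8.BG149B

/-!
# BG 14.9 (S1435), part C: `U ≤ H_σ` (helper8)
-/

set_option autoImplicit false

namespace Cfsg.Agent.Helper8.BG149

open Cfsg Subgroup
open Cfsg.Agent.Helper16.BG147 (Ctx Kst)
open Cfsg.Agent.Helper22.BG13 (Hyp1350 Hyp1417 Hyp1418)
open Cfsg.Agent.Helper10 (IsPiNum)
open Cfsg.Agent.Helper4.BGSig (omegaSub mem_omegaSub omegaSub_le normalizer_le_normalizer_omegaSub)

variable {G : Type*} [Group G] [Finite G]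

namespace Cfg

variable {M K Ms U H : Subgroup G} (d : Cfg M K Ms U H)
include d

theorem hallM : IsPiHallOf (sigma M) (sigmaCore M) M := (d.h50 M d.c.hM).1

theorem hallH : IsPiHallOf (sigma H) (sigmaCore H) H := (d.h50 H d.hH).1

theorem U_le_M : U ≤ M := d.hKU.compl.1

/-- `U` is abelian -/
theorem U_comm : ∀ a ∈ U, ∀ b ∈ U, a * b = b * a := by
  obtain ⟨U₀, hU₀c, hU₀, -, -⟩ := (d.c.h30 M d.c.hM K d.c.hall d.c.hK1).2.1
  have h := Cfsg.Agent.Lead.BGThmC2.U_abelian d.c.hG M K U d.c.hM d.hKU d.hallM U₀ hU₀c hU₀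
  intro a ha b hb
  have := h.is_comm.comm ⟨a, ha⟩ ⟨b, hb⟩
  exact congrArg Subtype.val this

theorem U_not_sigma {s : ℕ} (hs : s.Prime) (hsU : s ∣ Nat.card U) : s ∉ sigma M :=
  Cfsg.Agent.Lead.BGThmC.not_mem_sigma_of_dvd_card M K U d.hKU d.hallM hs hsU

theorem U_not_kappa {s : ℕ} (hs : s.Prime) (hsU : s ∣ Nat.card U) : s ∉ kappa M :=
  Cfsg.Agent.Lead.BGThmC2.not_mem_kappa_of_dvd_card M K U d.hKU hs hsU

theorem U_not_dvd_K {s : ℕ} (hs : s.Prime) (hsU : s ∣ Nat.card U) : ¬ s ∣ Nat.card K :=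
  fun h => d.U_not_kappa hs hsU (d.c.hall.2.1 s hs h)

theorem U_not_dvd_Kst {s : ℕ} (hs : s.Prime) (hsU : s ∣ Nat.card U) :
    ¬ s ∣ Nat.card ↥(Kst M K) := by
  intro h
  apply d.U_not_sigma hs hsU
  exact Cfsg.Agent.Helper16.BG147.card_sigmaCore M s hs
    (h.trans (Subgroup.card_dvd_of_le d.c.Kst_le_sigmaCore))

theorem U_not_sigma_Ms {s : ℕ} (hs : s.Prime) (hsU : s ∣ Nat.card U) : s ∉ sigma Ms := by
  intro h
  apply d.c.K_hall.2.2 s hs h
  have h2 : Nat.card M = Nat.card K * K.relIndex M :=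
    Cfsg.Agent.Lead.BGThmC2.card_eq_mul_relIndex d.c.K_le
  have h3 : s ∣ Nat.card M := hsU.trans (Subgroup.card_dvd_of_le d.U_le_M)
  rw [h2] at h3
  rcases (Nat.Prime.dvd_mul hs).mp h3 with h4 | h4
  · exact absurd h4 (d.U_not_dvd_K hs hsU)
  · exact h4

theorem U_not_kappa_Ms {s : ℕ} (hs : s.Prime) (hsU : s ∣ Nat.card U) : s ∉ kappa Ms := by
  intro h
  apply d.U_not_dvd_Kst hs hsU
  have h1 : s ∣ Nat.card Ms := h.2.1
  have h2 : Nat.card Ms = Nat.card ↥(Kst M K) * (Kst M K).relIndex Ms :=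
    Cfsg.Agent.Lead.BGThmC2.card_eq_mul_relIndex d.c.hKstH.1
  rw [h2] at h1
  rcases (Nat.Prime.dvd_mul hs).mp h1 with h4 | h4
  · exact h4
  · exact absurd h4 (d.c.hKstH.2.2 s hs h)

theorem exists_sigmaCore_ne_one : ∃ y ∈ sigmaCore H, y ≠ 1 := by
  by_contra h
  push Not at h
  apply d.hHσ
  rw [eq_bot_iff]
  intro y hy
  rw [mem_bot]
  exact h y hy

/-- a subgroup centralising `H_σ` that contains `A` with `C_{H_σ}(A) = 1` cannot exist -/
theorem false_of_centralizes {A : Subgroup G}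
    (hA : sigmaCore H ⊓ centralizer (A : Set G) = ⊥) (hc : sigmaCore H ≤ centralizer (A : Set G)) :
    False := by
  apply d.hHσ
  rw [eq_bot_iff, ← hA]
  exact le_inf le_rfl hc

theorem orderOf_eq_of_pow {s : ℕ} (hs : s.Prime) {x : G} (hx : x ^ s = 1) (hx1 : x ≠ 1) :
    orderOf x = s := by
  have h1 : orderOf x ∣ s := orderOf_dvd_of_pow_eq_one hx
  rcases (Nat.dvd_prime hs).mp h1 with h | h
  · exact absurd (orderOf_eq_one_iff.mp h) hx1
  · exact h

/-- every prime divisor of `|U|` lies in `σ(H)` -/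
theorem prime_mem_sigma {s : ℕ} (hs : s.Prime) (hsU : s ∣ Nat.card U) : s ∈ sigma H := by
  by_contra hsH
  haveI := Fact.mk hs
  haveI := d.solvH
  have hUab := d.U_comm
  set X := omegaSub U hUab s with hX
  have hXU : X ≤ U := omegaSub_le U hUab s
  have hXH : X ≤ H := hXU.trans d.hUH
  have hXs : ∀ x ∈ X, x ^ s = 1 := fun x hx => (mem_omegaSub.mp hx).2
  have hXab : ∀ a ∈ X, ∀ b ∈ X, a * b = b * a := fun a ha b hb => hUab a (hXU ha) b (hXU hb)
  -- an element of order `s`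
  obtain ⟨u, hu⟩ := exists_prime_orderOf_dvd_card' s hsU
  have hu' : orderOf (u : G) = s := by rw [Subgroup.orderOf_coe, hu]
  have huX : (u : G) ∈ X := by
    refine mem_omegaSub.mpr ⟨u.2, ?_⟩
    rw [← hu']; exact pow_orderOf_eq_one _
  have hu1 : (u : G) ≠ 1 := by
    intro h
    rw [h, orderOf_one] at hu'
    exact hs.one_lt.ne hu'
  have hKX : K ≤ normalizer (X : Set G) :=
    d.hKU.normal.trans (normalizer_le_normalizer_omegaSub U hUab s)
  have hXp : IsPGroup s X := by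
    intro x
    refine ⟨1, ?_⟩
    rw [pow_one]
    exact Subtype.ext (by simpa using hXs x x.2)
  have hXσ : ∀ p : ℕ, p.Prime → p ∣ Nat.card X → p ∉ sigma H := by
    intro p hp hpd
    obtain ⟨n, hn⟩ := hXp.exists_card_eq
    rw [hn] at hpd
    have := (Nat.prime_dvd_prime_iff_eq hp hs).mp (hp.dvd_of_dvd_pow hpd)
    rw [this]; exact hsH
  have hXfree : ∀ k ∈ K, k ≠ 1 → X ⊓ centralizer ({k} : Set G) = ⊥ := by
    intro k hk hk1
    rw [eq_bot_iff, ← d.hUfree k hk hk1]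
    exact inf_le_inf hXU le_rfl
  have hcent : sigmaCore H ≤ centralizer (X : Set G) :=
    d.centralizes_of_frob X hXH hKX hXfree hXab hXσ
  -- `s ∈ τ₂(H)`
  obtain ⟨y, hyσ, hy1⟩ := d.exists_sigmaCore_ne_one
  have huc : (u : G) ∈ H ⊓ centralizer ({y} : Set G) := by
    refine mem_inf.mpr ⟨hXH huX, ?_⟩
    rw [Cfsg.Agent.Helper16.BG147.mem_centralizer_singleton]
    have := hcent hyσ
    rw [mem_centralizer_iff] at this
    exact (this u huX).symm
  have hτ2 : s ∈ tau2 H := by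
    rcases d.c.h32 H d.hH y hyσ hy1 u huc hu1
      (fun p hp hpd => by
        rw [hu'] at hpd
        rw [(Nat.prime_dvd_prime_iff_eq hp hs).mp hpd]; exact hsH) with h | h
    · have := h.1 s hs (by rw [hu'])
      rw [d.kappa_eq_empty] at this
      exact absurd this (Set.notMem_empty s)
    · exact h.1 s hs (by rw [hu'])
  -- a complement containing `X K`
  obtain ⟨E, hE, hXKE, -, -⟩ := Cfsg.Agent.Helper1.PiHall.exists_isComplIn_ge d.hallH
    (Cfsg.Agent.Helper16.BG147.le_normalizer_sigmaCore H) (sup_le hXH d.hKH)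
    (d.sup_K_not_sigma hKX hXσ)
  have hXE : X ≤ E := le_sup_left.trans hXKE
  have hKE : K ≤ E := le_sup_right.trans hXKE
  obtain ⟨A, hAE, hAe, hAc⟩ :=
    Cfsg.Agent.Helper21.BG143.exists_elemAb_sq_le_compl d.c.hG d.h50 d.hH hE hτ2
  have hAH : A ≤ H := hAE.trans hE.1
  have h18 := d.h18 H d.hH E hE s hτ2 A ⟨hAE, hAe, hAc⟩
  have h17 := d.h17 H d.hH s hτ2 A ⟨hAH, hAe, hAc⟩
  have hAcent : sigmaCore H ⊓ centralizer (A : Set G) = ⊥ := h17.2.2.2.1
  have hAab : ∀ a ∈ A, ∀ b ∈ A, a * b = b * a := by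
    intro a ha b hb
    have := hAe.1.is_comm.comm ⟨a, ha⟩ ⟨b, hb⟩
    exact congrArg Subtype.val this
  -- `X ≤ A`
  have hXA : X ≤ A := by
    intro x hx
    by_cases hx1 : x = 1
    · rw [hx1]; exact A.one_mem
    · have hox : orderOf x = s := d.orderOf_eq_of_pow hs (hXs x hx) hx1
      have h1 : zpowers x ≤ E := by rw [zpowers_le]; exact hXE hx
      have h2 : Nat.card (zpowers x) = s := by rw [Nat.card_zpowers, hox]
      exact h18.1.2 (zpowers x) h1 h2 (mem_zpowers x)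
  have hKA : K ≤ normalizer (A : Set G) := hKE.trans h18.1.1
  have hAσ : ∀ p : ℕ, p.Prime → p ∣ Nat.card A → p ∉ sigma H := by
    intro p hp hpd
    rw [hAc] at hpd
    rw [(Nat.prime_dvd_prime_iff_eq hp hs).mp (hp.dvd_of_dvd_pow hpd)]
    exact hsH
  by_cases hfreeA : ∀ k ∈ K, k ≠ 1 → A ⊓ centralizer ({k} : Set G) = ⊥
  · exact d.false_of_centralizes hAcent (d.centralizes_of_frob A hAH hKA hfreeA hAab hAσ)
  · push Not at hfreeA
    obtain ⟨k₀, hk₀, hk₀1, hne⟩ := hfreeA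
    obtain ⟨a, ha, ha1⟩ : ∃ a ∈ A ⊓ centralizer ({k₀} : Set G), a ≠ 1 := by
      by_contra h
      push Not at h
      apply hne
      rw [eq_bot_iff]
      intro t ht
      rw [mem_bot]
      exact h t ht
    obtain ⟨haA, hac⟩ := mem_inf.mp ha
    have haMs : a ∈ Ms := d.c.centralizer_K_le hk₀ hk₀1 hac
    have hoa : orderOf a = s := d.orderOf_eq_of_pow hs (hAe.2 a haA) ha1
    have h32 := d.c.h32 Ms d.c.hMs k₀ (d.c.K_le_sigmaCore_Ms hk₀) hk₀1 a
      (mem_inf.mpr ⟨haMs, hac⟩) ha1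
      (fun p hp hpd => by
        rw [hoa] at hpd
        rw [(Nat.prime_dvd_prime_iff_eq hp hs).mp hpd]; exact d.U_not_sigma_Ms hs hsU)
    rcases h32 with h | h
    · exact d.U_not_kappa_Ms hs hsU (h.1 s hs (by rw [hoa]))
    · have hcaMs : centralizer ({a} : Set G) ≤ Ms := h.2.2.1
      have huMs : (u : G) ∈ Ms := by
        apply hcaMs
        rw [Cfsg.Agent.Helper16.BG147.mem_centralizer_singleton]
        exact hAab a haA u (hXA huX)
      have huZ : (u : G) ∈ K ⊔ Kst M K := by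
        rw [← d.c.inf_Ms]
        exact mem_inf.mpr ⟨d.U_le_M u.2, huMs⟩
      have hdvd : s ∣ Nat.card ↥(K ⊔ Kst M K) := by
        rw [← hu']; exact d.orderOf_dvd_card_of_mem huZ
      rw [d.c.card_Z] at hdvd
      rcases (Nat.Prime.dvd_mul hs).mp hdvd with h4 | h4
      · exact d.U_not_dvd_K hs hsU h4
      · exact d.U_not_dvd_Kst hs hsU h4

/-- `U ≤ H_σ` -/
theorem U_le_sigmaCore : U ≤ sigmaCore H :=
  Cfsg.Agent.Helper22.BG13.le_sigmaCore_of_isPiNum d.h50 d.hH d.hUH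
    (fun p hp hpd => d.prime_mem_sigma hp hpd)

end Cfg

end Cfsg.Agent.Helper8.BG149
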