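import Mathlib
import Cfsg.Agent.Lib.Helper8.BG149C

/-!
# BG 14.9 (S1435), part D: `M ∩ H = U K` and `N_H(U) ⊄ M` (helper8)
-/

set_option autoImplicit false

namespace Cfsg.Agent.Helper8.BG149

open Cfsg Subgroup
open Cfsg.Agent.Helper16.BG147 (Ctx Kst)
open Cfsg.Agent.Helper22.BG13 (Hyp1350 Hyp1417 Hyp1418)
open Cfsg.Agent.Helper10 (IsPiNum)

universe u

/-- statement of S1429 (BG 13.7-type) -/
def Hyp1429 (G : Type u) [Group G] [Finite G] : Prop :=
  ∀ (M : Subgroup G) (_ : IsCoatom M)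
    (_ : ¬ (∀ q : ℕ, q.Prime → q ∣ Nat.card M → q ∉ Cfsg.sigma M → q ∈ Cfsg.kappa M))
    (p : ℕ) [Fact p.Prime] (_ : p ∣ Nat.card M) (_ : p ∉ Cfsg.sigma M ∪ Cfsg.kappa M) (S : Sylow p M),
    Nat.card ↥(Subgroup.closure {x : G | x ∈ (S : Subgroup M).map M.subtype ∧ x ^ p = 1}) ≤ p ^ 2 ∧
      Cfsg.sigmaCore M ⊓ Subgroup.centralizer ((Subgroup.closure {x : G | x ∈ (S : Subgroup M).map M.subtype ∧ x ^ p = 1} : Subgroup G) : Set G) = ⊥ ∧
      Group.IsNilpotent (Cfsg.sigmaCore M)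

variable {G : Type u} [Group G] [Finite G]

namespace Cfg

variable {M K Ms U H : Subgroup G} (d : Cfg M K Ms U H)
include d

theorem sigma_disj : ∀ p, p ∈ sigma M → p ∉ sigma H := by
  intro p hp hpH
  obtain ⟨g, hg⟩ := d.c.h78 M H d.c.hM d.hH ⟨p, hp, hpH⟩
  exact d.hnM g hg

theorem sigmaCore_inf : sigmaCore M ⊓ sigmaCore H = ⊥ := by
  apply Cfsg.Agent.Helper1.PiHall.inf_eq_bot_of_coprime
  apply Nat.coprime_of_dvd
  intro p hp h1 h2
  exact d.sigma_disj p (Cfsg.Agent.Helper16.BG147.card_sigmaCore M p hp h1)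
    (Cfsg.Agent.Helper16.BG147.card_sigmaCore H p hp h2)

theorem exists_prime_U : ∃ s : ℕ, s.Prime ∧ s ∣ Nat.card U := by
  apply Nat.exists_prime_and_dvd
  intro h
  exact d.hU1 (Subgroup.card_eq_one.mp h)

/-- `M_σ ∩ H` centralises `U` -/
theorem inf_le_centralizer_U : sigmaCore M ⊓ H ≤ centralizer (U : Set G) := by
  intro x hx
  obtain ⟨hxσ, hxH⟩ := mem_inf.mp hx
  rw [mem_centralizer_iff]
  intro u hu
  have huσ : u ∈ sigmaCore H := d.U_le_sigmaCore hu
  -- the commutator `u x u⁻¹ x⁻¹` lies in `M_σ ∩ H_σ`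
  have h1 : u * x * u⁻¹ ∈ sigmaCore M :=
    Cfsg.Agent.Helper16.BG147.conj_mem_sigmaCore (d.U_le_M hu) hxσ
  have h2 : x * u⁻¹ * x⁻¹ ∈ sigmaCore H :=
    Cfsg.Agent.Helper16.BG147.conj_mem_sigmaCore hxH (inv_mem huσ)
  have h3 : u * x * u⁻¹ * x⁻¹ ∈ sigmaCore M ⊓ sigmaCore H := by
    refine mem_inf.mpr ⟨mul_mem h1 (inv_mem hxσ), ?_⟩
    have : u * x * u⁻¹ * x⁻¹ = u * (x * u⁻¹ * x⁻¹) := by group
    rw [this]
    exact mul_mem huσ h2
  rw [d.sigmaCore_inf, mem_bot] at h3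
  calc u * x = (u * x * u⁻¹ * x⁻¹) * (x * u) := by group
    _ = x * u := by rw [h3, one_mul]

theorem not_P1 : ¬ (∀ q : ℕ, q.Prime → q ∣ Nat.card M → q ∉ sigma M → q ∈ kappa M) := by
  intro h
  obtain ⟨s, hs, hsU⟩ := d.exists_prime_U
  exact d.U_not_kappa hs hsU (h s hs (hsU.trans (Subgroup.card_dvd_of_le d.U_le_M))
    (d.U_not_sigma hs hsU))

/-- `M_σ ∩ H = 1` -/
theorem sigmaCore_M_inf_H (h29 : Hyp1429 G) : sigmaCore M ⊓ H = ⊥ := by
  obtain ⟨s, hs, hsU⟩ := d.exists_prime_U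
  haveI := Fact.mk hs
  -- a Sylow `s`-subgroup of `M` inside `U`
  have hidx : ¬ s ∣ (U.subgroupOf M).index := by
    intro h
    have hcard := Cfsg.Agent.Helper7.IsComplIn.card_eq d.hKU.compl
    have h2 : Nat.card M = Nat.card U * U.relIndex M :=
      Cfsg.Agent.Lead.BGThmC2.card_eq_mul_relIndex d.U_le_M
    have h3 : U.relIndex M = Nat.card ↥(K ⊔ sigmaCore M) := by
      have hUpos : 0 < Nat.card U := Nat.card_pos
      apply Nat.eq_of_mul_eq_mul_left hUpos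
      rw [← h2, hcard]
    have h4 : s ∣ Nat.card ↥(K ⊔ sigmaCore M) := by rw [← h3]; exact h
    rcases Cfsg.Agent.Lead.BGThmC2.prime_dvd_card_sup M K U d.hKU hs h4 with h5 | h5
    · exact d.U_not_kappa hs hsU h5
    · exact d.U_not_sigma hs hsU h5
  obtain ⟨S, hS⟩ := Cfsg.Agent.Helper16.BG147.exists_sylow_le_of_not_dvd_index (U.subgroupOf M) s hidx
  have hSU : (S : Subgroup M).map M.subtype ≤ U := by
    rintro _ ⟨x, hx, rfl⟩
    exact Subgroup.mem_subgroupOf.mp (hS hx)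
  have h := (h29 M d.c.hM d.not_P1 s (hsU.trans (Subgroup.card_dvd_of_le d.U_le_M))
    (by
      rintro (h | h)
      · exact d.U_not_sigma hs hsU h
      · exact d.U_not_kappa hs hsU h) S).2.1
  rw [eq_bot_iff, ← h]
  refine le_inf inf_le_left ?_
  refine d.inf_le_centralizer_U.trans (centralizer_le ?_)
  have : closure {x : G | x ∈ (S : Subgroup M).map M.subtype ∧ x ^ s = 1} ≤ U := by
    rw [closure_le]
    intro x hx
    exact hSU hx.1
  exact this

/-- `M ∩ H = U K` -/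
theorem M_inf_H (h29 : Hyp1429 G) : M ⊓ H = U ⊔ K := by
  apply le_antisymm
  · intro m hm
    obtain ⟨hmM, hmH⟩ := mem_inf.mp hm
    obtain ⟨u, hu, b, hb, rfl⟩ := d.hKU.compl.2.2.2 m hmM
    have hKn : K ≤ normalizer ((sigmaCore M : Subgroup G) : Set G) :=
      d.c.K_le.trans (Cfsg.Agent.Helper16.BG147.le_normalizer_sigmaCore M)
    rw [sup_comm] at hb
    obtain ⟨y, hy, k, hk, rfl⟩ := Cfsg.Agent.Helper1.exists_mul_of_mem_sup hKn hb
    have hyH : y ∈ H := by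
      have : y = u⁻¹ * (u * (y * k)) * k⁻¹ := by group
      rw [this]
      exact mul_mem (mul_mem (inv_mem (d.hUH hu)) hmH) (inv_mem (d.hKH hk))
    have hy1 : y ∈ sigmaCore M ⊓ H := mem_inf.mpr ⟨hy, hyH⟩
    rw [d.sigmaCore_M_inf_H h29, mem_bot] at hy1
    rw [hy1, one_mul]
    exact mul_mem (mem_sup_left hu) (mem_sup_right hk)
  · exact sup_le (le_inf d.U_le_M d.hUH) (le_inf d.c.K_le d.hKH)

theorem K_inf_sigmaCore_H : K ⊓ sigmaCore H = ⊥ := by
  apply Cfsg.Agent.Helper1.PiHall.inf_eq_bot_of_coprime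
  apply Nat.coprime_of_dvd
  intro p hp h1 h2
  exact d.K_not_sigma p hp h1 (Cfsg.Agent.Helper16.BG147.card_sigmaCore H p hp h2)

/-- `H_σ` is nilpotent -/
theorem nilpotent_sigmaCore_H (h29 : Hyp1429 G) : Group.IsNilpotent ↥(sigmaCore H) := by
  obtain ⟨k, hk, hk1⟩ := d.c.exists_K_ne_one
  have hne : orderOf k ≠ 1 := by
    rw [Ne, orderOf_eq_one_iff]; exact hk1
  obtain ⟨p, hp, hpd⟩ := Nat.exists_prime_and_dvd hne
  haveI := Fact.mk hp
  have hpK : p ∣ Nat.card K := hpd.trans (d.orderOf_dvd_card_of_mem hk)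
  have hpH : p ∣ Nat.card H := hpK.trans (Subgroup.card_dvd_of_le d.hKH)
  have hnot : p ∉ sigma H ∪ kappa H := by
    rintro (h | h)
    · exact d.K_not_sigma p hp hpK h
    · rw [d.kappa_eq_empty] at h; exact h
  have hP1 : ¬ (∀ q : ℕ, q.Prime → q ∣ Nat.card H → q ∉ sigma H → q ∈ kappa H) := by
    intro h
    have := h p hp hpH (d.K_not_sigma p hp hpK)
    rw [d.kappa_eq_empty] at this
    exact this
  exact (h29 H d.hH hP1 p hpH hnot default).2.2

/-- `N_H(U) ⊄ M` -/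
theorem normalizer_U_not_le (h29 : Hyp1429 G) : ¬ H ⊓ normalizer (U : Set G) ≤ M := by
  intro hle
  have hUσ := d.U_le_sigmaCore
  by_cases hU : U = sigmaCore H
  · -- then `H ≤ N(U)`, so `H ≤ M`
    have h1 : H ≤ normalizer (U : Set G) := by
      rw [hU]; exact Cfsg.Agent.Helper16.BG147.le_normalizer_sigmaCore H
    have h2 : H ≤ M := (le_inf le_rfl h1).trans hle
    rcases d.hH.le_iff.mp h2 with h3 | h3
    · exact d.c.hM.1 h3
    · apply d.hnM 1
      rw [← h3]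
      ext x
      simp [Subgroup.mem_map]
  · -- normalisers grow in the nilpotent group `H_σ`
    haveI := d.nilpotent_sigmaCore_H h29
    have hlt : U.subgroupOf (sigmaCore H) < ⊤ := by
      rw [lt_top_iff_ne_top]
      intro h
      apply hU
      apply le_antisymm hUσ
      rw [← Subgroup.subgroupOf_eq_top]
      exact h
    have hnc := normalizerCondition_of_isNilpotent (G := ↥(sigmaCore H)) _ hlt
    obtain ⟨x, hxN, hxU⟩ := Set.exists_of_ssubset hnc
    have hxU' : (x : G) ∉ U := fun h => hxU (Subgroup.mem_subgroupOf.mpr h)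
    have hxn : (x : G) ∈ normalizer (U : Set G) := by
      rw [mem_normalizer_iff]
      intro y
      constructor
      · intro hy
        have hyσ : y ∈ sigmaCore H := hUσ hy
        have := (mem_normalizer_iff.mp hxN ⟨y, hyσ⟩).mp (Subgroup.mem_subgroupOf.mpr hy)
        exact Subgroup.mem_subgroupOf.mp this
      · intro hy
        have hyσ : (x : G)⁻¹ * ((x : G) * y * (x : G)⁻¹) * (x : G) ∈ sigmaCore H :=
          mul_mem (mul_mem (inv_mem x.2) (hUσ hy)) x.2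
        have hyσ' : y ∈ sigmaCore H := by
          have : y = (x : G)⁻¹ * ((x : G) * y * (x : G)⁻¹) * (x : G) := by group
          rw [this]; exact hyσ
        have := (mem_normalizer_iff.mp hxN ⟨y, hyσ'⟩).mpr (Subgroup.mem_subgroupOf.mpr hy)
        exact Subgroup.mem_subgroupOf.mp this
    have hxH : (x : G) ∈ H := Cfsg.Agent.Helper16.BG147.sigmaCore_le H x.2
    have hxM : (x : G) ∈ M := hle (mem_inf.mpr ⟨hxH, hxn⟩)
    have hxUK : (x : G) ∈ U ⊔ K := by
      rw [← d.M_inf_H h29]; exact mem_inf.mpr ⟨hxM, hxH⟩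
    obtain ⟨u, hu, k, hk, hxe⟩ := Cfsg.Agent.Helper1.exists_mul_of_mem_sup d.hKU.normal hxUK
    have hkσ : k ∈ K ⊓ sigmaCore H := by
      refine mem_inf.mpr ⟨hk, ?_⟩
      have : k = u⁻¹ * (x : G) := by rw [hxe]; group
      rw [this]
      exact mul_mem (inv_mem (hUσ hu)) x.2
    rw [d.K_inf_sigmaCore_H, mem_bot] at hkσ
    apply hxU'
    rw [hxe, hkσ, mul_one]
    exact hu

end Cfg

end Cfsg.Agent.Helper8.BG149
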