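import Mathlib
import Cfsg.Agent.Lib.Helper8.BG149D
import Cfsg.Agent.Lib.Helper15.SylowIn
import Cfsg.Agent.Lib.Helper16.BG145A
import Cfsg.Agent.Lib.Helper17.BG11X
import Cfsg.Agent.Lib.Helper22.BG13C
import Cfsg.Agent.Lib.Helper7.TypeP

/-!
# BG 14.9 (S1435), part E: building the configuration from the frozen hypotheses (helper8)
-/

set_option autoImplicit false

namespace Cfsg.Agent.Helper8.BG149

open Cfsg Subgroup
open Cfsg.Agent.Helper16.BG147 (Ctx Kst St1430 St1431 St1432 St1351b St1378b)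
open Cfsg.Agent.Helper22.BG13 (Hyp1350 Hyp1417 Hyp1418)
open Cfsg.Agent.Helper10 (IsPiNum)
open Cfsg.Agent.Helper15 (IsSylowIn isSylowIn_map_subtype isSylowIn_of_not_dvd_relIndex
  isSylowIn_of_card)

universe u

variable {G : Type u} [Group G] [Finite G]

/-- a Sylow subgroup of `U` is a Sylow subgroup of `M` -/
theorem isSylowIn_M {M K U : Subgroup G} (hKU : IsSigmaDecomposition M K U)
    (hallM : IsPiHallOf (sigma M) (sigmaCore M) M) {r : ℕ} [Fact r.Prime]
    (hr : r ∣ Nat.card U) (R : Sylow r U) :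
    IsSylowIn r ((R : Subgroup U).map U.subtype) M := by
  have hrp : r.Prime := Fact.out
  have hRU : IsSylowIn r ((R : Subgroup U).map U.subtype) U := isSylowIn_map_subtype R
  have hUM : U ≤ M := hKU.compl.1
  refine isSylowIn_of_not_dvd_relIndex hRU.isPGroup (hRU.le.trans hUM) ?_
  rw [← Subgroup.relIndex_mul_relIndex _ U M hRU.le hUM]
  intro hdvd
  rcases (Nat.Prime.dvd_mul hrp).mp hdvd with h | h
  · exact hRU.not_dvd_relIndex h
  · have hcard := Cfsg.Agent.Helper7.IsComplIn.card_eq hKU.compl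
    have hcard' : Nat.card M = Nat.card U * U.relIndex M :=
      Cfsg.Agent.Lead.BGThmC2.card_eq_mul_relIndex hUM
    have hrel : U.relIndex M = Nat.card ↥(K ⊔ sigmaCore M) := by
      have hUpos : 0 < Nat.card U := Nat.card_pos
      apply Nat.eq_of_mul_eq_mul_left hUpos
      rw [← hcard', hcard]
    rw [hrel] at h
    rcases Cfsg.Agent.Lead.BGThmC2.prime_dvd_card_sup M K U hKU hrp h with h' | h'
    · exact Cfsg.Agent.Lead.BGThmC2.not_mem_kappa_of_dvd_card M K U hKU hrp hr h'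
    · exact Cfsg.Agent.Lead.BGThmC.not_mem_sigma_of_dvd_card M K U hKU hallM hrp hr h'

theorem mem_sigma_of_isSylowIn {H T : Subgroup G} {r : ℕ} [Fact r.Prime]
    (hT : IsSylowIn r T H) (hrH : r ∣ Nat.card H) (hN : normalizer (T : Set G) ≤ H) :
    r ∈ sigma H := by
  refine ⟨Fact.out, hrH, hT.toSylow, ?_⟩
  rw [hT.map_toSylow]
  exact hN

theorem map_conj_one_eq (A : Subgroup G) : A.map (MulAut.conj (1 : G)).toMonoidHom = A := by
  ext x
  simp [Subgroup.mem_map]

/-- the configuration of BG 14.9 from the hypotheses of the frozen statement -/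
theorem mkCfg (hG : IsMinSimpleOddOrder G) {M K U Ms H : Subgroup G} (hM : IsCoatom M)
    (hKU : IsSigmaDecomposition M K U) (hK1 : K ≠ ⊥) (hU1 : U ≠ ⊥) (hMs : IsCoatom Ms)
    (hKst : K = sigmaCore Ms ⊓ centralizer ((sigmaCore M ⊓ centralizer (K : Set G) : Subgroup G) : Set G))
    (hKstH : IsPiHallOf (kappa Ms) (sigmaCore M ⊓ centralizer (K : Set G)) Ms)
    {r : ℕ} [Fact r.Prime] (hr : r ∣ Nat.card U) (R : Sylow r U) (hH : IsCoatom H)
    (hNR : normalizer (((R : Subgroup U).map U.subtype : Subgroup G) : Set G) ≤ H)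
    (h30 : St1430 G) (h31 : St1431 G) (h32 : St1432 G) (h51 : St1351b G) (h78 : St1378b G)
    (h53 : ∀ k ∈ K, k ≠ 1 → U ⊓ centralizer ({k} : Set G) = ⊥)
    (h50 : Hyp1350 G) (h17 : Hyp1417 G) (h18 : Hyp1418 G) :
    Cfg M K Ms U H := by
  have hrp : r.Prime := Fact.out
  have c : Ctx M K Ms :=
    { hG := hG, hM := hM, hMs := hMs, cyc := hKU.cyclic, hall := hKU.hall, hK1 := hK1,
      hKst := hKst, hKstH := hKstH, h30 := h30, h31 := h31, h32 := h32, h51 := h51, h78 := h78 }
  have hallM : IsPiHallOf (sigma M) (sigmaCore M) M := (h50 M hM).1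
  -- `U` is abelian
  obtain ⟨U₀, hU₀c, hU₀, -, -⟩ := (h30 M hM K hKU.hall hK1).2.1
  have hUc : IsMulCommutative ↥U :=
    Cfsg.Agent.Lead.BGThmC2.U_abelian hG M K U hM hKU hallM U₀ hU₀c hU₀
  have hnil : Group.IsNilpotent ↥U := by
    letI : CommGroup ↥U := { (inferInstance : Group ↥U) with mul_comm := hUc.is_comm.comm }
    exact CommGroup.isNilpotent
  have hRU : IsSylowIn r ((R : Subgroup U).map U.subtype) U := isSylowIn_map_subtype R
  have hRM : IsSylowIn r ((R : Subgroup U).map U.subtype) M := isSylowIn_M hKU hallM hr R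
  have hUH : U ≤ H :=
    (Cfsg.Agent.Helper22.BG13.le_normalizer_of_isNilpotent hnil hRU).trans hNR
  have hKH : K ≤ H :=
    (Cfsg.Agent.Helper22.BG13.le_normalizer_sylow_of_nilpotent_normal hKU.normal hnil hRU).trans hNR
  have hrσ : r ∉ sigma M :=
    Cfsg.Agent.Lead.BGThmC.not_mem_sigma_of_dvd_card M K U hKU hallM hrp hr
  refine
    { c := c, hKU := hKU, hU1 := hU1, hUfree := h53, hH := hH, hUH := hUH, hKH := hKH,
      hnM := ?_, hnMs := ?_, h50 := h50, h17 := h17, h18 := h18,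
      hHσ := Cfsg.Agent.Helper17.BG11.sigmaCore_ne_bot' hG hH }
  · intro g hg
    apply hrσ
    rw [← Cfsg.Agent.Helper16.BG145.sigma_map_conj M g, ← hg]
    have hcardH : Nat.card H = Nat.card M := by
      rw [hg]; exact Cfsg.Agent.Helper15.card_map_conj M g
    have hRH : IsSylowIn r ((R : Subgroup U).map U.subtype) H := by
      apply isSylowIn_of_card (hRU.le.trans hUH)
      rw [hcardH]
      exact hRM.card_eq
    have hrH : r ∣ Nat.card H := hr.trans (Subgroup.card_dvd_of_le hUH)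
    exact mem_sigma_of_isSylowIn hRH hrH hNR
  · intro g hg
    have h1 := (c.symm.h31 Ms hMs (Kst M K) hKstH c.symm.hK1).1 g
    have hgMs : g ∈ Ms := by
      by_contra hgn
      have h2 := h1 hgn
      apply hK1
      rw [eq_bot_iff, ← h2, ← hg]
      refine le_inf ?_ hKH
      rw [← hKst]
    have hHMs : H = Ms := by
      rw [hg]
      exact Cfsg.Agent.Helper15.map_conj_eq_self_of_mem hgMs
    apply hU1
    rw [eq_bot_iff, ← hKU.compl.2.2.1]
    refine le_inf le_rfl ?_
    have h3 : U ≤ M ⊓ Ms := le_inf hKU.compl.1 (hHMs ▸ hUH)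
    rw [c.inf_Ms] at h3
    exact h3.trans (sup_le_sup_left c.Kst_le_sigmaCore K)

/-- the first four conclusions of BG 14.9 -/
theorem main_four {M K Ms U H : Subgroup G} (d : Cfg M K Ms U H) (h29 : Hyp1429 G) :
    kappa H = ∅ ∧ U ≤ sigmaCore H ∧ M ⊓ H = U ⊔ K ∧ ¬ H ⊓ normalizer (U : Set G) ≤ M :=
  ⟨d.kappa_eq_empty, d.U_le_sigmaCore, d.M_inf_H h29, d.normalizer_U_not_le h29⟩

end Cfsg.Agent.Helper8.BG149
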