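import Mathlib
import Cfsg.Agent.Lib.Helper8.HTFPF
import Cfsg.Agent.Lib.Helper16.UniqueOrderP

/-!
# Half-transitive linear `p`-groups with a unique subgroup of order `p` are semiregular; the case
`p = q` (helper8)
-/

set_option autoImplicit false

namespace Cfsg.Agent.Helper8.HT

open Cfsg.Agent.Helper16 (UniqueOrderP)

variable {q : ℕ} [Fact q.Prime] {V : Type*} [AddCommGroup V] [Module (ZMod q) V] [Finite V]
  {G : Type*} [Group G] [Finite G] (ρ : G →* (V ≃ₗ[ZMod q] V))

theorem apply_pow_of_fixed {g : G} {v : V} (h : ρ g v = v) (i : ℕ) : ρ (g ^ i) v = v := by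
  induction i with
  | zero => rw [pow_zero, map_one]; rfl
  | succ n ih => rw [pow_succ, map_mul, LinearEquiv.mul_apply, h, ih]

theorem apply_zpow_of_fixed {g : G} {v : V} (h : ρ g v = v) (i : ℤ) : ρ (g ^ i) v = v := by
  have hmem : g ^ i ∈ stab ρ v := Subgroup.zpow_mem _ h i
  exact hmem

/-- A nontrivial subgroup of a `p`-group contains an element of order `p`. -/
theorem exists_orderOf_eq_prime_of_ne_bot {p : ℕ} [Fact p.Prime] (hG : IsPGroup p G)
    (H : Subgroup G) (hH : H ≠ ⊥) : ∃ x ∈ H, orderOf x = p := by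
  have hp : p.Prime := Fact.out
  have hHp : IsPGroup p H := hG.to_subgroup H
  haveI : Nontrivial H := (Subgroup.nontrivial_iff_ne_bot H).2 hH
  obtain ⟨n, hn⟩ := IsPGroup.iff_card.1 hHp
  have hn0 : n ≠ 0 := by
    rintro rfl
    rw [pow_zero] at hn
    have : 1 < Nat.card H := Finite.one_lt_card
    omega
  have hdvd : p ∣ Nat.card H := by
    rw [hn]; exact dvd_pow_self p hn0
  obtain ⟨x, hx⟩ := exists_prime_orderOf_dvd_card' p hdvd
  exact ⟨x, x.2, by rw [← hx, Subgroup.orderOf_coe]⟩

/-- PIECE HTSEMI. -/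
theorem semiregular_of_uniqueOrderP (hρ : Function.Injective ρ) (hhalf : Half ρ) {p : ℕ}
    [Fact p.Prime] (hpq : p ≠ q) (hG : IsPGroup p G) (hu : UniqueOrderP p G) :
    ∀ v : V, v ≠ 0 → ∀ g : G, ρ g v = v → g = 1 := by
  intro v hv g hg
  by_contra hg1
  have hp : p.Prime := Fact.out
  -- an element of order `p` in `⟨g⟩`
  have hne : Subgroup.zpowers g ≠ ⊥ := by
    intro h
    exact hg1 (Subgroup.zpowers_eq_bot.1 h)
  obtain ⟨x, hxg, hxo⟩ := exists_orderOf_eq_prime_of_ne_bot hG _ hne
  obtain ⟨i, rfl⟩ := Subgroup.mem_zpowers_iff.1 hxg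
  have hxv : ρ (g ^ i) v = v := apply_zpow_of_fixed ρ hg i
  -- a central element of order `p`
  haveI : Nontrivial G := ⟨⟨g, 1, hg1⟩⟩
  have hcne : Subgroup.center G ≠ ⊥ := by
    haveI := hG.center_nontrivial
    exact (Subgroup.nontrivial_iff_ne_bot _).1 inferInstance
  obtain ⟨z, hzc, hzo⟩ := exists_orderOf_eq_prime_of_ne_bot hG _ hcne
  have hzx : z ∈ Subgroup.zpowers (g ^ i) := hu (g ^ i) z hxo hzo
  obtain ⟨j, rfl⟩ := Subgroup.mem_zpowers_iff.1 hzx
  exact fpf_of_central ρ hρ hhalf hpq hzc hzo v hv (apply_zpow_of_fixed ρ hxv j)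

/-- PIECE HTPQ. The case `p = q`: the group is trivial. -/
theorem trivial_of_p_eq_q [Nontrivial V] (hρ : Function.Injective ρ) (hhalf : Half ρ)
    (hG : IsPGroup q G) : ∀ g : G, g = 1 := by
  classical
  have hq : q.Prime := Fact.out
  letI : MulAction G V := MulAction.compHom V ρ
  haveI : Fintype V := Fintype.ofFinite V
  haveI : Fintype (MulAction.fixedPoints G V) := Fintype.ofFinite _
  -- number of fixed points is divisible by `q`
  have hmod := hG.card_modEq_card_fixedPoints V
  haveI : Module.Finite (ZMod q) V := Module.Finite.of_finite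
  have hVcard : Nat.card V = q ^ Module.finrank (ZMod q) V := by
    rw [Module.natCard_eq_pow_finrank (K := ZMod q), Nat.card_zmod]
  have hfr : Module.finrank (ZMod q) V ≠ 0 := by
    have : 0 < Module.finrank (ZMod q) V := Module.finrank_pos
    omega
  have hqV : q ∣ Nat.card V := by rw [hVcard]; exact dvd_pow_self q hfr
  have hqF : q ∣ Nat.card (MulAction.fixedPoints G V) := by
    exact (Nat.modEq_zero_iff_dvd.1 (hmod.symm.trans (Nat.modEq_zero_iff_dvd.2 hqV)))
  have h0mem : (0 : V) ∈ MulAction.fixedPoints G V := by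
    intro g
    change ρ g 0 = 0
    exact map_zero _
  -- a nonzero fixed vector
  obtain ⟨v, hvF, hv0⟩ : ∃ v ∈ MulAction.fixedPoints G V, v ≠ 0 := by
    by_contra hcon
    push Not at hcon
    have hsub : Subsingleton (MulAction.fixedPoints G V) :=
      ⟨fun a b => Subtype.ext ((hcon a a.2).trans (hcon b b.2).symm)⟩
    have hle : Nat.card (MulAction.fixedPoints G V) ≤ 1 := Finite.card_le_one_iff_subsingleton.2 hsub
    have hpos : 0 < Nat.card (MulAction.fixedPoints G V) := Nat.card_pos_iff.2 ⟨⟨⟨0, h0mem⟩⟩, inferInstance⟩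
    have := Nat.le_of_dvd hpos hqF
    have := hq.two_le
    omega
  -- the stabilizer of `v` is everything, hence so is every stabilizer
  have hstabv : Nat.card (stab ρ v) = Nat.card G := by
    have : stab ρ v = ⊤ := by
      ext g
      simp only [Subgroup.mem_top, iff_true]
      exact hvF g
    rw [this, Subgroup.card_top]
  intro g
  apply hρ
  rw [map_one]
  ext w
  by_cases hw : w = 0
  · rw [hw, map_zero]; rfl
  · have h1 : Nat.card (stab ρ w) = Nat.card G := (card_stab_eq ρ hhalf hw hv0).trans hstabv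
    have h2 : stab ρ w = ⊤ := (Subgroup.card_eq_iff_eq_top _).1 h1
    have : g ∈ stab ρ w := by rw [h2]; exact Subgroup.mem_top g
    exact this

end Cfsg.Agent.Helper8.HT
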