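import Mathlib
import Cfsg.Agent.Lib.Helper8.HTB1
import Cfsg.Agent.Lib.Helper8.HTSEMI

/-!
# Half-transitive linear `2`-groups with a semiregular subgroup of index two: counting (helper8)
-/

set_option autoImplicit false

namespace Cfsg.Agent.Helper8.HT

variable {q : ℕ} [Fact q.Prime] {V : Type*} [AddCommGroup V] [Module (ZMod q) V] [Finite V]
  {G : Type*} [Group G] [Finite G] (ρ : G →* (V ≃ₗ[ZMod q] V))

omit [Finite V] [Finite G] in
theorem apply_apply_of_sq {t : G} (ht : t ^ 2 = 1) (v : V) : ρ t (ρ t v) = v := by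
  rw [← LinearEquiv.mul_apply, ← map_mul, ← pow_two, ht, map_one]
  rfl

omit [Finite V] [Finite G] in
/-- The fixed space of `t z` is the `-1`-eigenspace of `t` when `z` acts as `-1`. -/
theorem mem_fix_mul_neg {z t : G} (hz : ∀ v : V, ρ z v = -v) (v : V) :
    v ∈ fix ρ (t * z) ↔ ρ t v = -v := by
  rw [mem_fix, map_mul, LinearEquiv.mul_apply, hz, map_neg]
  constructor
  · intro h
    rw [eq_neg_iff_add_eq_zero, add_comm, ← eq_neg_iff_add_eq_zero]
    exact h.symm
  · intro h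
    rw [h, neg_neg]

omit [Finite G] in
/-- `V` is the direct sum of the eigenspaces of an involution. -/
theorem isCompl_fix_of_sq (hq2 : q ≠ 2) {z t : G} (hz : ∀ v : V, ρ z v = -v) (ht : t ^ 2 = 1) :
    IsCompl (fix ρ t) (fix ρ (t * z)) := by
  have hq : q.Prime := Fact.out
  have h2ne : (2 : ZMod q) ≠ 0 := by
    intro h0
    have : ((2 : ℕ) : ZMod q) = 0 := by exact_mod_cast h0
    rw [ZMod.natCast_eq_zero_iff] at this
    exact hq2 ((Nat.prime_dvd_prime_iff_eq hq Nat.prime_two).1 this)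
  constructor
  · rw [Submodule.disjoint_def]
    intro x hx0 hx1
    rw [mem_fix] at hx0
    rw [mem_fix_mul_neg ρ hz] at hx1
    exact eq_zero_of_eq_neg hq2 (hx0.symm.trans hx1)
  · rw [codisjoint_iff, eq_top_iff]
    intro v _
    rw [Submodule.mem_sup]
    refine ⟨(2 : ZMod q)⁻¹ • (v + ρ t v), ?_, (2 : ZMod q)⁻¹ • (v - ρ t v), ?_, ?_⟩
    · apply Submodule.smul_mem
      rw [mem_fix, map_add, apply_apply_of_sq ρ ht, add_comm]
    · apply Submodule.smul_mem
      rw [mem_fix_mul_neg ρ hz, map_sub, apply_apply_of_sq ρ ht]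
      abel
    · rw [← smul_add]
      have : v + ρ t v + (v - ρ t v) = (2 : ZMod q) • v := by
        rw [two_smul]; abel
      rw [this, smul_smul, inv_mul_cancel₀ h2ne, one_smul]

omit [Finite V] [Finite G] in
/-- Conjugate elements have fixed spaces of the same cardinality. -/
theorem card_fix_conj {t t' g : G} (hg : g * t * g⁻¹ = t') :
    Nat.card (fix ρ t) = Nat.card (fix ρ t') := by
  refine Nat.card_congr
    { toFun := fun v => ⟨ρ g v, ?_⟩
      invFun := fun w => ⟨ρ g⁻¹ w, ?_⟩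
      left_inv := ?_
      right_inv := ?_ }
  · have hv : ρ t (v : V) = v := v.2
    rw [mem_fix, ← hg, ← LinearEquiv.mul_apply, ← map_mul]
    have : g * t * g⁻¹ * g = g * t := by group
    rw [this, map_mul, LinearEquiv.mul_apply, hv]
  · have hw : ρ t' (w : V) = w := w.2
    have ht : t = g⁻¹ * t' * g := by rw [← hg]; group
    rw [mem_fix, ht, ← LinearEquiv.mul_apply, ← map_mul]
    have : g⁻¹ * t' * g * g⁻¹ = g⁻¹ * t' := by group
    rw [this, map_mul, LinearEquiv.mul_apply, hw]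
  · intro v
    apply Subtype.ext
    exact apply_inv_apply ρ g v
  · intro w
    apply Subtype.ext
    exact apply_apply_inv ρ g w

/-- PIECE HTCNT. Counting in the dihedral / semidihedral cases. -/
theorem count_index_two [Nontrivial V] (hρ : Function.Injective ρ) (hhalf : Half ρ)
    (hq2 : q ≠ 2) (R : Subgroup G) (hR2 : R.index = 2) {z : G} (hzc : z ∈ Subgroup.center G)
    (hzo : orderOf z = 2) (hRz : ∀ g ∈ R, g ≠ 1 → ∃ k : ℕ, g ^ k = z)
    (hconj : ∀ t : G, t ∉ R → t ^ 2 = 1 → ∃ g : G, g * t * g⁻¹ = t * z)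
    (hne : ∃ t : G, t ∉ R ∧ t ^ 2 = 1) :
    ∃ d : ℕ, 1 ≤ d ∧ Nat.card V = (q ^ d) ^ 2 ∧
      Nat.card {t : G | t ∉ R ∧ t ^ 2 = 1} = q ^ d + 1 := by
  classical
  have hq : q.Prime := Fact.out
  have hz := neg_of_central_involution ρ hρ hhalf hq2 hzc hzo
  -- `R` is semiregular
  have hRsemi : ∀ g ∈ R, ∀ v : V, v ≠ 0 → ρ g v = v → g = 1 := by
    intro g hgR v hv hgv
    by_contra hg1
    obtain ⟨k, hk⟩ := hRz g hgR hg1
    have h1 : ρ z v = v := by rw [← hk]; exact apply_pow_of_fixed ρ hgv k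
    rw [hz] at h1
    exact hv (eq_zero_of_eq_neg hq2 h1.symm)
  -- `|V| = |fix t| ^ 2` for `t ∈ T`
  have hsq : ∀ t : G, t ∉ R → t ^ 2 = 1 → Nat.card V = Nat.card (fix ρ t) ^ 2 := by
    intro t htR ht2
    obtain ⟨g, hg⟩ := hconj t htR ht2
    have e := Submodule.prodEquivOfIsCompl _ _ (isCompl_fix_of_sq ρ hq2 hz ht2)
    rw [← Nat.card_congr e.toEquiv, Nat.card_prod, ← card_fix_conj ρ hg, pow_two]
  obtain ⟨t₀, ht₀R, ht₀2⟩ := hne
  set Q := Nat.card (fix ρ t₀) with hQ
  have hVQ : Nat.card V = Q ^ 2 := hsq t₀ ht₀R ht₀2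
  have hQbig : 1 < Q := by
    by_contra hle
    have h1 : Q = 1 := by
      have : 0 < Q := Nat.card_pos
      omega
    rw [h1, one_pow] at hVQ
    have : 1 < Nat.card V := Finite.one_lt_card
    omega
  have hfixcard : ∀ t : G, t ∉ R → t ^ 2 = 1 → Nat.card (fix ρ t) = Q := by
    intro t htR ht2
    have h1 := hsq t htR ht2
    rw [hVQ] at h1
    exact (Nat.pow_left_injective (n := 2) (by norm_num) h1).symm
  -- a non-zero vector fixed by `t₀`
  obtain ⟨v₀, hv₀⟩ : ∃ v : fix ρ t₀, v ≠ 0 := by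
    haveI : Nontrivial (fix ρ t₀) := Finite.one_lt_card_iff_nontrivial.1 hQbig
    exact exists_ne 0
  have hv₀' : (v₀ : V) ≠ 0 := fun h => hv₀ (Subtype.ext h)
  have ht₀1 : t₀ ≠ 1 := fun h => ht₀R (h ▸ R.one_mem)
  -- every non-zero vector is fixed by exactly one element of `T`
  have hex : ∀ v : V, v ≠ 0 → ∃ t : G, (t ∉ R ∧ t ^ 2 = 1) ∧ ρ t v = v := by
    intro v hv
    have hcard : Nat.card (stab ρ v) = Nat.card (stab ρ (v₀ : V)) := card_stab_eq ρ hhalf hv hv₀'
    have hne' : stab ρ v ≠ ⊥ := by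
      intro hbot
      rw [hbot, Subgroup.card_bot] at hcard
      have h0 : stab ρ (v₀ : V) = ⊥ := Subgroup.card_eq_one.1 hcard.symm
      have : t₀ ∈ stab ρ (v₀ : V) := v₀.2
      rw [h0, Subgroup.mem_bot] at this
      exact ht₀1 this
    obtain ⟨x, hx⟩ := (Subgroup.ne_bot_iff_exists_ne_one).1 hne'
    have hx1 : (x : G) ≠ 1 := fun h => hx (Subtype.ext h)
    have hxv : ρ (x : G) v = v := x.2
    have hxR : (x : G) ∉ R := fun h => hx1 (hRsemi _ h v hv hxv)
    have hxx : (x : G) * x ∈ R := (Subgroup.mul_mem_iff_of_index_two hR2).2 Iff.rfl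
    have hxxv : ρ ((x : G) * x) v = v := by rw [map_mul, LinearEquiv.mul_apply, hxv, hxv]
    have hx2 : (x : G) ^ 2 = 1 := by
      rw [pow_two]; exact hRsemi _ hxx v hv hxxv
    exact ⟨x, ⟨hxR, hx2⟩, hxv⟩
  have huniq : ∀ v : V, v ≠ 0 → ∀ t t' : G, t ∉ R → t ^ 2 = 1 → t' ∉ R → t' ^ 2 = 1 →
      ρ t v = v → ρ t' v = v → t = t' := by
    intro v hv t t' htR ht2 ht'R ht'2 htv ht'v
    have hmem : t * t' ∈ R := (Subgroup.mul_mem_iff_of_index_two hR2).2 ⟨fun h => (htR h).elim, fun h => (ht'R h).elim⟩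
    have hfix : ρ (t * t') v = v := by rw [map_mul, LinearEquiv.mul_apply, ht'v, htv]
    have h1 : t * t' = 1 := hRsemi _ hmem v hv hfix
    have h2 : t' * t' = 1 := by rw [← pow_two]; exact ht'2
    calc t = t * (t' * t') := by rw [h2, mul_one]
      _ = t * t' * t' := by rw [mul_assoc]
      _ = t' := by rw [h1, one_mul]
  -- the counting
  let T := {t : G | t ∉ R ∧ t ^ 2 = 1}
  have hfiber : ∀ t : T, Nat.card {v : V // v ≠ 0 ∧ ρ (t : G) v = v} = Q - 1 := by
    intro t
    have hset : {v : V | v ≠ 0 ∧ ρ (t : G) v = v} = ((fix ρ (t : G) : Submodule (ZMod q) V) : Set V) \ {0} := by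
      ext v
      constructor
      · rintro ⟨h0, h1⟩
        exact ⟨h1, h0⟩
      · rintro ⟨h1, h0⟩
        exact ⟨h0, h1⟩
    change Nat.card ↥{v : V | v ≠ 0 ∧ ρ (t : G) v = v} = Q - 1
    rw [hset, Nat.card_coe_set_eq, Set.ncard_diff_singleton_of_mem (Submodule.zero_mem _),
      ← Nat.card_coe_set_eq]
    change Nat.card (fix ρ (t : G)) - 1 = Q - 1
    rw [hfixcard t t.2.1 t.2.2]
  have hsigma : Nat.card {v : V // v ≠ 0} = Nat.card T * (Q - 1) := by
    have e : {v : V // v ≠ 0} ≃ {p : T × V // p.2 ≠ 0 ∧ ρ (p.1 : G) p.2 = p.2} :=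
      { toFun := fun v => ⟨(⟨(hex v.1 v.2).choose, (hex v.1 v.2).choose_spec.1⟩, v.1),
          ⟨v.2, (hex v.1 v.2).choose_spec.2⟩⟩
        invFun := fun x => ⟨x.1.2, x.2.1⟩
        left_inv := fun v => rfl
        right_inv := by
          rintro ⟨⟨⟨t, ht⟩, v⟩, hv0, hvt⟩
          have hch := (hex v hv0).choose_spec
          have heq : (hex v hv0).choose = t :=
            huniq v hv0 _ _ hch.1.1 hch.1.2 ht.1 ht.2 hch.2 hvt
          apply Subtype.ext
          apply Prod.ext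
          · exact Subtype.ext heq
          · rfl }
    haveI : Fintype T := Fintype.ofFinite T
    rw [Nat.card_congr e,
      Nat.card_congr (Equiv.subtypeProdEquivSigmaSubtype
        (fun (t : T) (v : V) => v ≠ 0 ∧ ρ (t : G) v = v)),
      Nat.card_sigma]
    rw [Finset.sum_congr rfl fun t _ => hfiber t, Finset.sum_const, Finset.card_univ,
      Nat.card_eq_fintype_card, smul_eq_mul]
  have hVm1 : Nat.card {v : V // v ≠ 0} = Q ^ 2 - 1 := by
    have hset : {v : V | v ≠ 0} = (Set.univ : Set V) \ {0} := by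
      ext v
      simp
    change Nat.card ↥{v : V | v ≠ 0} = Q ^ 2 - 1
    rw [hset, Nat.card_coe_set_eq, Set.ncard_diff_singleton_of_mem (Set.mem_univ _),
      Set.ncard_univ, hVQ]
  have hT : Nat.card T = Q + 1 := by
    have h1 : Nat.card T * (Q - 1) = (Q + 1) * (Q - 1) := by
      rw [← hsigma, hVm1]
      have key : ∀ r : ℕ, (r + 1) ^ 2 - 1 = (r + 1 + 1) * (r + 1 - 1) := by
        intro r
        simp only [Nat.add_sub_cancel]
        have : (r + 1) ^ 2 = (r + 1 + 1) * r + 1 := by ring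
        omega
      obtain ⟨r, hr⟩ : ∃ r, Q = r + 1 := ⟨Q - 1, by omega⟩
      rw [hr]
      exact key r
    exact Nat.eq_of_mul_eq_mul_right (by omega) h1
  -- `Q` is a power of `q`
  haveI : Module.Finite (ZMod q) (fix ρ t₀) := Module.Finite.of_finite
  have hQq : Q = q ^ Module.finrank (ZMod q) (fix ρ t₀) := by
    rw [hQ, Module.natCard_eq_pow_finrank (K := ZMod q), Nat.card_zmod]
  refine ⟨Module.finrank (ZMod q) (fix ρ t₀), ?_, ?_, ?_⟩
  · by_contra h0
    have : Module.finrank (ZMod q) (fix ρ t₀) = 0 := by omega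
    rw [this, pow_zero] at hQq
    omega
  · rw [← hQq]; exact hVQ
  · rw [← hQq]; exact hT

end Cfsg.Agent.Helper8.HT
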