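import Mathlib
import Cfsg.Agent.Lib.Helper2.Psln25
import Cfsg.Agent.Lib.Helper2.OutCongr

/-!
# S2262 piece AO-GRP4 (helper8): the order of an inner-diagonal automorphism `Psi g` equals the order
of `g` modulo the centre of `GL`.
-/

set_option autoImplicit false

namespace Cfsg.Agent.Helper17.AO

open Polynomial Matrix Cfsg.Agent.Helper2.PN

section aut
variable {F : Type*} [Field F] {n : ℕ}

/-- AO-GRP4 -/
theorem orderOf_Psi [Fintype F] (hn : 2 ≤ n) (g : GL (Fin n) F) :
    orderOf (Psi g) =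
      orderOf (QuotientGroup.mk g : GL (Fin n) F ⧸ Subgroup.center (GL (Fin n) F)) := by
  obtain ⟨p, hp⟩ := CharP.exists F
  have hpp : Fact p.Prime := ⟨CharP.char_is_prime F p⟩
  have hnt : Nontrivial (Fin n) := Fin.nontrivial_iff_two_le.2 hn
  rw [orderOf_eq_orderOf_iff]
  intro k
  rw [← map_pow, Psi_eq_one_iff p, ← QuotientGroup.mk_pow, QuotientGroup.eq_one_iff]

end aut

end Cfsg.Agent.Helper17.AO
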