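import Mathlib
import Cfsg.Agent.Lib.Helper18.MargDefs

set_option autoImplicit false

/-!
Piece B of Marggraf's theorem (S3620): the inductive step `T(t) → T(t+1)`.
-/

namespace Cfsg.Agent.Helper8.MargB

open Cfsg.Agent.Helper18.Marg

section core
variable {G Ω : Type*} [Group G] [MulAction G Ω] [Fintype Ω] [DecidableEq Ω]

/-- no nontrivial block for the pointwise stabiliser of `X` on the remaining points -/
theorem no_block (Γ : Finset Ω) (hJ : IsJordan G Γ) {t : ℕ} (hT : T G Ω t)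
    (CA : ∀ (X : Finset Ω) (α : Ω) (W : Finset Ω), X.card = t - 1 → α ∉ X → α ∉ W →
      Disjoint W X → Γ.card - 1 ≤ W.card →
      ∃ ω ∈ W, ∃ g : G, g⁻¹ • α ∈ Γ ∧ g⁻¹ • ω ∈ Γ ∧ ∀ x ∈ X, g⁻¹ • x ∉ Γ)
    (CB : ∀ (X : Finset Ω) (α α' : Ω), X.card = t - 1 → α ∉ X → α' ∉ X → α ≠ α' →
      ∃ g : G, g⁻¹ • α ∈ Γ ∧ g⁻¹ • α' ∉ Γ ∧ ∀ x ∈ X, g⁻¹ • x ∉ Γ)
    (X : Finset Ω) (hX : X.card = t - 1) (ht : 1 ≤ t)
    (B : Finset Ω) (hBX : ∀ y ∈ B, y ∉ X) (hB2 : 2 ≤ B.card)
    (hBne : ∃ ω, ω ∉ X ∧ ω ∉ B)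
    (hblock : ∀ k : G, (∀ x ∈ X, k • x = x) →
      (∀ y ∈ B, k • y ∈ B) ∨ (∀ y ∈ B, k • y ∉ B)) : False := by
  -- P1
  have hP1 : ∀ g : G, (∀ x ∈ X, g⁻¹ • x ∉ Γ) → ∀ β ∈ B, g⁻¹ • β ∈ Γ →
      (∀ y ∈ B, g⁻¹ • y ∈ Γ) ∨ (∀ y, g⁻¹ • y ∈ Γ → y ∈ B) := by
    intro g hgX β hβB hβg
    by_cases hall : ∀ y ∈ B, g⁻¹ • y ∈ Γ
    · exact Or.inl hall
    · right
      push_neg at hall
      obtain ⟨δ, hδB, hδg⟩ := hall
      intro y hy
      obtain ⟨k, hkfix, hk⟩ := hJ.translate g hβg hy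
      have hkX : ∀ x ∈ X, k • x = x := fun x hx => hkfix x (hgX x hx)
      rcases hblock k hkX with h | h
      · rw [← hk]; exact h β hβB
      · have : k • δ ∉ B := h δ hδB
        rw [hkfix δ hδg] at this
        exact absurd hδB this
  by_cases hcase : ∃ g : G, (∀ x ∈ X, g⁻¹ • x ∉ Γ) ∧ ∃ β ∈ B, g⁻¹ • β ∈ Γ ∧
      ¬ (∀ y ∈ B, g⁻¹ • y ∈ Γ)
  · -- case (i)
    obtain ⟨g, hgX, β, hβB, hβg, hnot⟩ := hcase
    have hCB : ∀ y, g⁻¹ • y ∈ Γ → y ∈ B := by
      rcases hP1 g hgX β hβB hβg with h | h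
      · exact absurd h hnot
      · exact h
    push_neg at hnot
    obtain ⟨δ, hδB, hδg⟩ := hnot
    -- card B ≥ m + 1
    have hBcard : Γ.card + 1 ≤ B.card := by
      have hsub : Γ.image (fun z => g • z) ⊆ B.erase δ := by
        intro y hy
        obtain ⟨z, hz, rfl⟩ := Finset.mem_image.mp hy
        rw [Finset.mem_erase]
        refine ⟨?_, hCB _ (by rwa [inv_smul_smul])⟩
        intro e
        apply hδg
        rw [← e, inv_smul_smul]
        exact hz
      have h1 := Finset.card_le_card hsub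
      rw [Finset.card_image_of_injective _ (MulAction.injective g),
        Finset.card_erase_of_mem hδB] at h1
      have : 1 ≤ B.card := by omega
      omega
    -- W
    obtain ⟨ω, hωX, hωB⟩ := hBne
    have hβX : β ∉ X := hBX β hβB
    obtain ⟨k, hkX, hkβ⟩ := hT X (by omega) β ω hβX hωX
    have hkdis : ∀ y ∈ B, k • y ∉ B := by
      rcases hblock k hkX with h | h
      · exact absurd (hkβ ▸ h β hβB) hωB
      · exact h
    set W : Finset Ω := (Finset.univ \ X) \ B with hW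
    have hWmem : ∀ y, y ∈ W ↔ y ∉ X ∧ y ∉ B := by
      intro y
      rw [hW, Finset.mem_sdiff, Finset.mem_sdiff]
      simp
    have hWcard : Γ.card - 1 ≤ W.card := by
      have hsub : B.image (fun z => k • z) ⊆ W := by
        intro y hy
        obtain ⟨z, hz, rfl⟩ := Finset.mem_image.mp hy
        rw [hWmem]
        refine ⟨?_, hkdis z hz⟩
        intro hkz
        have h1 : k • (k • z) = k • z := hkX _ hkz
        have h2 : k • z = z := MulAction.injective k h1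
        exact hBX z hz (h2 ▸ hkz)
      have h1 := Finset.card_le_card hsub
      rw [Finset.card_image_of_injective _ (MulAction.injective k)] at h1
      omega
    have hβW : β ∉ W := by
      rw [hWmem]; push_neg; exact fun _ => hβB
    have hWX : Disjoint W X := by
      rw [Finset.disjoint_left]
      intro y hy
      exact ((hWmem y).mp hy).1
    obtain ⟨ω', hω'W, g', hg'β, hg'ω, hg'X⟩ := CA X β W hX hβX hβW hWX hWcard
    rcases hP1 g' hg'X β hβB hg'β with h | h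
    · -- B ⊆ translate: impossible by cardinality
      have hsub : B.image (fun z => g'⁻¹ • z) ⊆ Γ := by
        intro y hy
        obtain ⟨z, hz, rfl⟩ := Finset.mem_image.mp hy
        exact h z hz
      have h1 := Finset.card_le_card hsub
      rw [Finset.card_image_of_injective _ (MulAction.injective g'⁻¹)] at h1
      omega
    · exact ((hWmem ω').mp hω'W).2 (h ω' hg'ω)
  · -- case (ii)
    push_neg at hcase
    obtain ⟨α, hα, α', hα', hne⟩ := Finset.one_lt_card.mp (by omega : 1 < B.card)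
    obtain ⟨g, hgα, hgα', hgX⟩ := CB X α α' hX (hBX α hα) (hBX α' hα') hne
    exact hgα' (hcase g hgX α hα hgα α' hα')

end core

section glue
open MulAction SubMulAction
open scoped Pointwise

variable {G Ω : Type*} [Group G] [MulAction G Ω] [Fintype Ω] [DecidableEq Ω]

/-- the pointwise stabiliser of `X` is 2-transitive on the remaining points -/
theorem two_trans (Γ : Finset Ω) (hJ : IsJordan G Γ) {t : ℕ} (ht2 : 2 ≤ t)
    (htm : t + 1 ≤ Γ.card) (hT : T G Ω t)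
    (CA : ∀ (X : Finset Ω) (α : Ω) (W : Finset Ω), X.card = t - 1 → α ∉ X → α ∉ W →
      Disjoint W X → Γ.card - 1 ≤ W.card →
      ∃ ω ∈ W, ∃ g : G, g⁻¹ • α ∈ Γ ∧ g⁻¹ • ω ∈ Γ ∧ ∀ x ∈ X, g⁻¹ • x ∉ Γ)
    (CB : ∀ (X : Finset Ω) (α α' : Ω), X.card = t - 1 → α ∉ X → α' ∉ X → α ≠ α' →
      ∃ g : G, g⁻¹ • α ∈ Γ ∧ g⁻¹ • α' ∉ Γ ∧ ∀ x ∈ X, g⁻¹ • x ∉ Γ)
    (X : Finset Ω) (hX : X.card = t - 1) (a b c : Ω) (ha : a ∉ X) (hb : b ∉ X) (hc : c ∉ X)
    (hac : a ≠ c) (hbc : b ≠ c) :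
    ∃ k : G, (∀ x ∈ X, k • x = x) ∧ k • c = c ∧ k • a = b := by
  classical
  set s0 : Set Ω := (X : Set Ω) with hs0
  have hmemK : ∀ k : G, k ∈ fixingSubgroup G s0 ↔ ∀ x ∈ X, k • x = x := by
    intro k
    rw [mem_fixingSubgroup_iff]
    simp [hs0]
  have hmemA : ∀ y : Ω, y ∈ ofFixingSubgroup G s0 ↔ y ∉ X := by
    intro y
    rw [mem_ofFixingSubgroup_iff]
    simp [hs0]
  -- transitivity
  have htrans : IsPretransitive (fixingSubgroup G s0) (ofFixingSubgroup G s0) := by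
    constructor
    intro y z
    obtain ⟨k, hkX, hk⟩ := hT X (by omega) (y : Ω) (z : Ω)
      ((hmemA _).mp y.2) ((hmemA _).mp z.2)
    exact ⟨⟨k, (hmemK k).mpr hkX⟩, Subtype.ext hk⟩
  -- primitivity
  have hprim : IsPreprimitive (fixingSubgroup G s0) (ofFixingSubgroup G s0) := by
    refine { toIsPretransitive := htrans, isTrivialBlock_of_isBlock := ?_ }
    intro Bs hBs
    by_contra hnt
    unfold IsTrivialBlock at hnt
    rw [not_or] at hnt
    obtain ⟨hns, hnu⟩ := hnt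
    rw [Set.not_subsingleton_iff] at hns
    obtain ⟨x, hx, y, hy, hxy⟩ := hns
    obtain ⟨w, hw⟩ := (Set.ne_univ_iff_exists_notMem Bs).mp hnu
    set B : Finset Ω := (Set.toFinite (Subtype.val '' Bs)).toFinset with hBdef
    have hBmem : ∀ z : Ω, z ∈ B ↔ ∃ u : ofFixingSubgroup G s0, u ∈ Bs ∧ (u : Ω) = z := by
      intro z
      rw [hBdef, Set.Finite.mem_toFinset, Set.mem_image]
    apply no_block (G := G) Γ hJ hT CA CB X hX (by omega) B
    · intro z hz
      obtain ⟨u, _, hu⟩ := (hBmem z).mp hz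
      rw [← hu]
      exact (hmemA _).mp u.2
    · have : 1 < B.card := by
        rw [Finset.one_lt_card]
        refine ⟨x, (hBmem _).mpr ⟨x, hx, rfl⟩, y, (hBmem _).mpr ⟨y, hy, rfl⟩, ?_⟩
        exact fun e => hxy (Subtype.ext e)
      omega
    · refine ⟨w, (hmemA _).mp w.2, ?_⟩
      intro hwB
      obtain ⟨u, hu, huw⟩ := (hBmem _).mp hwB
      exact hw ((Subtype.ext huw) ▸ hu)
    · intro k hk
      have hkK : k ∈ fixingSubgroup G s0 := (hmemK k).mpr hk
      rcases hBs.smul_eq_or_disjoint (⟨k, hkK⟩ : fixingSubgroup G s0) with h | h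
      · left
        intro z hz
        obtain ⟨u, hu, rfl⟩ := (hBmem z).mp hz
        rw [hBmem]
        refine ⟨(⟨k, hkK⟩ : fixingSubgroup G s0) • u, ?_, rfl⟩
        rw [← h]
        exact Set.smul_mem_smul_set hu
      · right
        intro z hz hkz
        obtain ⟨u, hu, rfl⟩ := (hBmem z).mp hz
        obtain ⟨v, hv, hvz⟩ := (hBmem _).mp hkz
        have hveq : (⟨k, hkK⟩ : fixingSubgroup G s0) • u = v := Subtype.ext hvz.symm
        have hmem : v ∈ (⟨k, hkK⟩ : fixingSubgroup G s0) • Bs := by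
          rw [← hveq]; exact Set.smul_mem_smul_set hu
        exact Set.disjoint_left.mp h hmem hv
  -- a translate avoiding X
  obtain ⟨g, hga, hgc, hgX⟩ := CB X a c hX ha hc hac
  -- the set s
  set s : Set (ofFixingSubgroup G s0) := {y | g⁻¹ • (y : Ω) ∉ Γ} with hs
  have hsne : s.Nonempty := ⟨⟨c, (hmemA c).mpr hc⟩, hgc⟩
  have hcompl : 1 < sᶜ.ncard := by
    rw [Set.one_lt_ncard (Set.toFinite _)]
    obtain ⟨z1, hz1, z2, hz2, hz12⟩ := Finset.one_lt_card.mp (by omega : 1 < Γ.card)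
    have hmem : ∀ z ∈ Γ, g • z ∈ ofFixingSubgroup G s0 := by
      intro z hz
      rw [hmemA]
      intro hgz
      exact hgX _ hgz (by rwa [inv_smul_smul])
    refine ⟨⟨g • z1, hmem z1 hz1⟩, ?_, ⟨g • z2, hmem z2 hz2⟩, ?_, ?_⟩
    · simp only [hs, Set.mem_compl_iff, Set.mem_setOf_eq, not_not, inv_smul_smul]
      exact hz1
    · simp only [hs, Set.mem_compl_iff, Set.mem_setOf_eq, not_not, inv_smul_smul]
      exact hz2
    · intro e
      apply hz12
      have := congrArg Subtype.val e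
      exact MulAction.injective g this
  have hsum := Set.ncard_add_ncard_compl s
  have hspos : 0 < s.ncard := (Set.ncard_pos (Set.toFinite s)).mpr hsne
  obtain ⟨n0, hn0⟩ : ∃ n0, s.ncard = n0 + 1 := ⟨s.ncard - 1, by omega⟩
  have hsn' : n0 + 2 < Nat.card (ofFixingSubgroup G s0) := by omega
  have hs_trans : IsPretransitive (fixingSubgroup (fixingSubgroup G s0) s)
      (ofFixingSubgroup (fixingSubgroup G s0) s) := by
    constructor
    intro y z
    have hy : g⁻¹ • ((y : ofFixingSubgroup G s0) : Ω) ∈ Γ := by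
      have := (mem_ofFixingSubgroup_iff (M := fixingSubgroup G s0)).mp y.2
      by_contra h
      exact this h
    have hz : g⁻¹ • ((z : ofFixingSubgroup G s0) : Ω) ∈ Γ := by
      have := (mem_ofFixingSubgroup_iff (M := fixingSubgroup G s0)).mp z.2
      by_contra h
      exact this h
    obtain ⟨k, hkfix, hk⟩ := hJ.translate g hy hz
    have hkK : k ∈ fixingSubgroup G s0 :=
      (hmemK k).mpr (fun x hx => hkfix x (hgX x hx))
    have hkK' : (⟨k, hkK⟩ : fixingSubgroup G s0) ∈ fixingSubgroup (fixingSubgroup G s0) s := by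
      rw [mem_fixingSubgroup_iff]
      intro u hu
      exact Subtype.ext (hkfix _ hu)
    exact ⟨⟨⟨k, hkK⟩, hkK'⟩, Subtype.ext (Subtype.ext hk)⟩
  have h2 : IsMultiplyPretransitive (fixingSubgroup G s0) (ofFixingSubgroup G s0) 2 :=
    hprim.is_two_pretransitive hn0 hsn' hs_trans
  have hca : (⟨c, (hmemA c).mpr hc⟩ : ofFixingSubgroup G s0) ≠ ⟨a, (hmemA a).mpr ha⟩ := by
    intro e
    exact hac (congrArg Subtype.val e).symm
  have hcb : (⟨c, (hmemA c).mpr hc⟩ : ofFixingSubgroup G s0) ≠ ⟨b, (hmemA b).mpr hb⟩ := by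
    intro e
    exact hbc (congrArg Subtype.val e).symm
  obtain ⟨k, hk1, hk2⟩ := MulAction.is_two_pretransitive_iff.mp h2 hca hcb
  refine ⟨k.1, (hmemK k.1).mp k.2, ?_, ?_⟩
  · exact congrArg Subtype.val hk1
  · exact congrArg Subtype.val hk2

/-- Piece B: the inductive step `T(t) → T(t+1)` for Marggraf's theorem. -/
theorem T_succ (Γ : Finset Ω) (hJ : IsJordan G Γ) {t : ℕ} (ht2 : 2 ≤ t)
    (htm : t + 1 ≤ Γ.card) (hn : 2 * Γ.card < Fintype.card Ω) (hT : T G Ω t)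
    (CA : ∀ (X : Finset Ω) (α : Ω) (W : Finset Ω), X.card = t - 1 → α ∉ X → α ∉ W →
      Disjoint W X → Γ.card - 1 ≤ W.card →
      ∃ ω ∈ W, ∃ g : G, g⁻¹ • α ∈ Γ ∧ g⁻¹ • ω ∈ Γ ∧ ∀ x ∈ X, g⁻¹ • x ∉ Γ)
    (CB : ∀ (X : Finset Ω) (α α' : Ω), X.card = t - 1 → α ∉ X → α' ∉ X → α ≠ α' →
      ∃ g : G, g⁻¹ • α ∈ Γ ∧ g⁻¹ • α' ∉ Γ ∧ ∀ x ∈ X, g⁻¹ • x ∉ Γ) :
    T G Ω (t + 1) := by
  intro X' hX' a b ha hb
  rcases Nat.lt_or_ge X'.card t with hlt | hge
  · exact hT X' hlt a b ha hb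
  · have hcard : X'.card = t := by omega
    have hne : X'.Nonempty := Finset.card_pos.mp (by omega)
    obtain ⟨c, hc⟩ := hne
    set X := X'.erase c with hXdef
    have hXcard : X.card = t - 1 := by
      rw [hXdef, Finset.card_erase_of_mem hc, hcard]
    have haX : a ∉ X := fun h => ha (Finset.mem_of_mem_erase h)
    have hbX : b ∉ X := fun h => hb (Finset.mem_of_mem_erase h)
    have hcX : c ∉ X := Finset.notMem_erase c X'
    have hac : a ≠ c := fun e => ha (e ▸ hc)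
    have hbc : b ≠ c := fun e => hb (e ▸ hc)
    obtain ⟨k, hkX, hkc, hka⟩ :=
      two_trans Γ hJ ht2 htm hT CA CB X hXcard a b c haX hbX hcX hac hbc
    refine ⟨k, ?_, hka⟩
    intro x hx
    by_cases hxc : x = c
    · rw [hxc]; exact hkc
    · exact hkX x (Finset.mem_erase.mpr ⟨hxc, hx⟩)

end glue

end Cfsg.Agent.Helper8.MargB
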