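import Mathlib
import Cfsg.Agent.Lib.Helper8.SDDefs
/-!
# SD-WNF: normal form in an internal wreath product `dblG A τ`  (helper8 plan `plans/SD_plan.md`)
-/

set_option autoImplicit false

namespace Cfsg.Agent.Helper8.SD

variable {G : Type*} [Group G] {A : Subgroup G} {τ : G}

namespace WNF

theorem tau_inv (h : WrHyp A τ) : τ⁻¹ = τ := inv_eq_of_mul_eq_one_right h.sq

/-- `n(a,b) n(a',b') = n(aa', bb')` -/
theorem nn (h : WrHyp A τ) {a b a' b' : G} (ha : a ∈ A) (hb : b ∈ A) (ha' : a' ∈ A)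
    (hb' : b' ∈ A) :
    a * (τ * b * τ⁻¹) * (a' * (τ * b' * τ⁻¹)) = (a * a') * (τ * (b * b') * τ⁻¹) := by
  have h1 := h.comm a' ha' b hb
  calc a * (τ * b * τ⁻¹) * (a' * (τ * b' * τ⁻¹))
      = a * ((τ * b * τ⁻¹) * a') * (τ * b' * τ⁻¹) := by group
    _ = a * (a' * (τ * b * τ⁻¹)) * (τ * b' * τ⁻¹) := by rw [← h1]
    _ = (a * a') * (τ * (b * b') * τ⁻¹) := by group

/-- `τ n(a,b) = n(b,a) τ` -/
theorem tn (h : WrHyp A τ) {a b : G} (ha : a ∈ A) (hb : b ∈ A) :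
    τ * (a * (τ * b * τ⁻¹)) = b * (τ * a * τ⁻¹) * τ := by
  have h1 := h.comm b hb a ha
  have hs := h.sq
  have ht := tau_inv h
  calc τ * (a * (τ * b * τ⁻¹))
      = (τ * a * τ⁻¹) * ((τ * τ) * b * τ⁻¹) := by group
    _ = (τ * a * τ⁻¹) * (b * τ) := by rw [hs, one_mul, ht]
    _ = ((τ * a * τ⁻¹) * b) * τ := by group
    _ = (b * (τ * a * τ⁻¹)) * τ := by rw [← h1]

/-- the set of normal forms, as a subgroup -/
def K (h : WrHyp A τ) : Subgroup G where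
  carrier := {w | ∃ a ∈ A, ∃ b ∈ A, w = a * (τ * b * τ⁻¹) ∨ w = a * (τ * b * τ⁻¹) * τ}
  one_mem' := ⟨1, A.one_mem, 1, A.one_mem, Or.inl (by group)⟩
  mul_mem' := by
    rintro x y ⟨a, ha, b, hb, hx⟩ ⟨a', ha', b', hb', hy⟩
    rcases hx with rfl | rfl <;> rcases hy with rfl | rfl
    · exact ⟨a * a', A.mul_mem ha ha', b * b', A.mul_mem hb hb', Or.inl (nn h ha hb ha' hb')⟩
    · refine ⟨a * a', A.mul_mem ha ha', b * b', A.mul_mem hb hb', Or.inr ?_⟩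
      rw [← nn h ha hb ha' hb']; group
    · refine ⟨a * b', A.mul_mem ha hb', b * a', A.mul_mem hb ha', Or.inr ?_⟩
      rw [← nn h ha hb hb' ha']
      calc a * (τ * b * τ⁻¹) * τ * (a' * (τ * b' * τ⁻¹))
          = a * (τ * b * τ⁻¹) * (τ * (a' * (τ * b' * τ⁻¹))) := by group
        _ = a * (τ * b * τ⁻¹) * (b' * (τ * a' * τ⁻¹) * τ) := by rw [tn h ha' hb']
        _ = a * (τ * b * τ⁻¹) * (b' * (τ * a' * τ⁻¹)) * τ := by group
    · refine ⟨a * b', A.mul_mem ha hb', b * a', A.mul_mem hb ha', Or.inl ?_⟩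
      rw [← nn h ha hb hb' ha']
      calc a * (τ * b * τ⁻¹) * τ * (a' * (τ * b' * τ⁻¹) * τ)
          = a * (τ * b * τ⁻¹) * (τ * (a' * (τ * b' * τ⁻¹))) * τ := by group
        _ = a * (τ * b * τ⁻¹) * (b' * (τ * a' * τ⁻¹) * τ) * τ := by rw [tn h ha' hb']
        _ = a * (τ * b * τ⁻¹) * (b' * (τ * a' * τ⁻¹)) * (τ * τ) := by group
        _ = a * (τ * b * τ⁻¹) * (b' * (τ * a' * τ⁻¹)) := by rw [h.sq, mul_one]
  inv_mem' := by
    rintro x ⟨a, ha, b, hb, hx⟩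
    have hinv : (a * (τ * b * τ⁻¹))⁻¹ = a⁻¹ * (τ * b⁻¹ * τ⁻¹) := by
      have h1 := nn h ha hb (A.inv_mem ha) (A.inv_mem hb)
      rw [mul_inv_cancel, mul_inv_cancel] at h1
      have h2 : a * (τ * b * τ⁻¹) * (a⁻¹ * (τ * b⁻¹ * τ⁻¹)) = 1 := by rw [h1]; group
      exact inv_eq_of_mul_eq_one_right h2
    rcases hx with rfl | rfl
    · exact ⟨a⁻¹, A.inv_mem ha, b⁻¹, A.inv_mem hb, Or.inl hinv⟩
    · refine ⟨b⁻¹, A.inv_mem hb, a⁻¹, A.inv_mem ha, Or.inr ?_⟩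
      rw [mul_inv_rev, hinv]
      have := tn h (A.inv_mem ha) (A.inv_mem hb)
      rw [tau_inv h] at this ⊢
      exact this

theorem dblG_le_K (h : WrHyp A τ) : dblG A τ ≤ K h := by
  unfold dblG
  refine sup_le (sup_le ?_ ?_) ?_
  · intro a ha
    exact ⟨a, ha, 1, A.one_mem, Or.inl (by group)⟩
  · intro x hx
    obtain ⟨b, hb, rfl⟩ := hx
    refine ⟨1, A.one_mem, b, hb, Or.inl ?_⟩
    simp [MulAut.conj_apply]
  · rw [Subgroup.zpowers_le]
    exact ⟨1, A.one_mem, 1, A.one_mem, Or.inr (by group)⟩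

end WNF

theorem mem_dblG_iff (h : WrHyp A τ) (w : G) :
    w ∈ dblG A τ ↔ ∃ a ∈ A, ∃ b ∈ A, w = a * (τ * b * τ⁻¹) ∨ w = a * (τ * b * τ⁻¹) * τ := by
  constructor
  · intro hw
    exact WNF.dblG_le_K h hw
  · rintro ⟨a, ha, b, hb, hw⟩
    have hA : A ≤ dblG A τ := le_sup_of_le_left le_sup_left
    have hC : conjS τ A ≤ dblG A τ := le_sup_of_le_left le_sup_right
    have hτ : τ ∈ dblG A τ := (le_sup_right : Subgroup.zpowers τ ≤ dblG A τ)
      (Subgroup.mem_zpowers τ)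
    have hb' : τ * b * τ⁻¹ ∈ dblG A τ := by
      apply hC
      exact ⟨b, hb, by simp [MulAut.conj_apply]⟩
    rcases hw with rfl | rfl
    · exact (dblG A τ).mul_mem (hA ha) hb'
    · exact (dblG A τ).mul_mem ((dblG A τ).mul_mem (hA ha) hb') hτ

theorem nf_unique (h : WrHyp A τ) {a b a' b' : G} (ha : a ∈ A) (hb : b ∈ A) (ha' : a' ∈ A)
    (hb' : b' ∈ A) (e : a * (τ * b * τ⁻¹) = a' * (τ * b' * τ⁻¹)) : a = a' ∧ b = b' := by
  have h1 : τ * (b' * b⁻¹) * τ⁻¹ = a'⁻¹ * a := by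
    have : a'⁻¹ * a = (τ * b' * τ⁻¹) * (τ * b * τ⁻¹)⁻¹ := by
      rw [eq_mul_inv_iff_mul_eq, mul_assoc, e]; group
    rw [this]; group
  have h2 : b' * b⁻¹ = 1 := by
    apply h.disj _ (A.mul_mem hb' (A.inv_mem hb))
    rw [h1]
    exact A.mul_mem (A.inv_mem ha') ha
  have hbb : b = b' := by
    have := mul_inv_eq_one.1 h2
    exact this.symm
  refine ⟨?_, hbb⟩
  rw [h2] at h1
  have h3 : a'⁻¹ * a = 1 := by rw [← h1]; group
  have := inv_mul_eq_one.1 h3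
  exact this.symm

theorem nf_ne (h : WrHyp A τ) {a b a' b' : G} (ha : a ∈ A) (hb : b ∈ A) (ha' : a' ∈ A)
    (hb' : b' ∈ A) : a * (τ * b * τ⁻¹) ≠ a' * (τ * b' * τ⁻¹) * τ := by
  intro e
  have h1 : (a'⁻¹ * a) * (τ * (b'⁻¹ * b) * τ⁻¹) = τ := by
    rw [← WNF.nn h (A.inv_mem ha') (A.inv_mem hb') ha hb, e]
    have hinv : (a' * (τ * b' * τ⁻¹))⁻¹ = a'⁻¹ * (τ * b'⁻¹ * τ⁻¹) := by
      have h1 := WNF.nn h ha' hb' (A.inv_mem ha') (A.inv_mem hb')
      rw [mul_inv_cancel, mul_inv_cancel] at h1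
      have h2 : a' * (τ * b' * τ⁻¹) * (a'⁻¹ * (τ * b'⁻¹ * τ⁻¹)) = 1 := by rw [h1]; group
      exact inv_eq_of_mul_eq_one_right h2
    rw [← hinv]; group
  exact h.notin _ (A.mul_mem (A.inv_mem ha') ha) _ (A.mul_mem (A.inv_mem hb') hb) h1

theorem card_dblG (h : WrHyp A τ) [Finite A] : Nat.card (dblG A τ) = 2 * Nat.card A ^ 2 := by
  classical
  let f : A × A × Bool → dblG A τ := fun x =>
    ⟨if x.2.2 then (x.1 : G) * (τ * (x.2.1 : G) * τ⁻¹) * τ else (x.1 : G) * (τ * (x.2.1 : G) * τ⁻¹),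
      by
        rw [mem_dblG_iff h]
        refine ⟨x.1, x.1.2, x.2.1, x.2.1.2, ?_⟩
        by_cases hx : x.2.2
        · right; simp [hx]
        · left; simp [hx]⟩
  have hf : Function.Bijective f := by
    constructor
    · rintro ⟨a, b, e⟩ ⟨a', b', e'⟩ hxy
      have hxy' := congrArg Subtype.val hxy
      simp only [f] at hxy'
      cases e <;> cases e'
      · simp only [Bool.false_eq_true, if_false] at hxy'
        obtain ⟨h1, h2⟩ := nf_unique h a.2 b.2 a'.2 b'.2 hxy'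
        rw [Subtype.ext h1, Subtype.ext h2]
      · simp only [Bool.false_eq_true, if_false, if_true] at hxy'
        exact absurd hxy' (nf_ne h a.2 b.2 a'.2 b'.2)
      · simp only [Bool.false_eq_true, if_false, if_true] at hxy'
        exact absurd hxy'.symm (nf_ne h a'.2 b'.2 a.2 b.2)
      · simp only [if_true] at hxy'
        have := mul_right_cancel hxy'
        obtain ⟨h1, h2⟩ := nf_unique h a.2 b.2 a'.2 b'.2 this
        rw [Subtype.ext h1, Subtype.ext h2]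
    · rintro ⟨w, hw⟩
      obtain ⟨a, ha, b, hb, hw'⟩ := (mem_dblG_iff h w).1 hw
      rcases hw' with rfl | rfl
      · exact ⟨(⟨a, ha⟩, ⟨b, hb⟩, false), by simp [f]⟩
      · exact ⟨(⟨a, ha⟩, ⟨b, hb⟩, true), by simp [f]⟩
  rw [← Nat.card_congr (Equiv.ofBijective f hf), Nat.card_prod, Nat.card_prod]
  simp
  ring

end Cfsg.Agent.Helper8.SD
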