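import Mathlib
import Cfsg.Agent.Lib.Helper8.SDDefs
import Cfsg.Agent.Lib.Helper8.SDWnf
/-!
# SD-WCEN: the centre of an internal wreath product  (helper8 plan `plans/SD_plan.md`)
-/

set_option autoImplicit false

namespace Cfsg.Agent.Helper8.SD

variable {G : Type*} [Group G] {A : Subgroup G} {τ : G}

/-- `c (τ c τ⁻¹)` with `c` central in `A` is central in `dblG A τ` (no hypothesis on `A`). -/
theorem central_of_diag (h : WrHyp A τ) (c : G) (hc : c ∈ A) (hcA : ∀ a ∈ A, c * a = a * c) :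
    ∀ v ∈ dblG A τ, c * (τ * c * τ⁻¹) * v = v * (c * (τ * c * τ⁻¹)) := by
  have hti : τ⁻¹ = τ := inv_eq_of_mul_eq_one_left h.sq
  have hle : dblG A τ ≤ Subgroup.centralizer {c * (τ * c * τ⁻¹)} := by
    unfold dblG
    refine sup_le (sup_le ?_ ?_) ?_
    · intro a ha
      rw [Subgroup.mem_centralizer_iff]
      intro z hz
      rw [Set.mem_singleton_iff] at hz
      subst hz
      have h1 := h.comm a ha c hc
      have h2 := hcA a ha
      calc c * (τ * c * τ⁻¹) * a = c * ((τ * c * τ⁻¹) * a) := by simp only [mul_assoc]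
        _ = c * (a * (τ * c * τ⁻¹)) := by rw [h1]
        _ = (c * a) * (τ * c * τ⁻¹) := by simp only [mul_assoc]
        _ = (a * c) * (τ * c * τ⁻¹) := by rw [h2]
        _ = a * (c * (τ * c * τ⁻¹)) := by simp only [mul_assoc]
    · intro x hx
      obtain ⟨a, ha, rfl⟩ := hx
      rw [Subgroup.mem_centralizer_iff]
      intro z hz
      rw [Set.mem_singleton_iff] at hz
      subst hz
      have h1 := h.comm c hc a ha
      have h2 := hcA a ha
      show c * (τ * c * τ⁻¹) * (τ * a * τ⁻¹) = (τ * a * τ⁻¹) * (c * (τ * c * τ⁻¹))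
      have e1 : (τ * c * τ⁻¹) * (τ * a * τ⁻¹) = (τ * a * τ⁻¹) * (τ * c * τ⁻¹) := by
        have : (τ * c * τ⁻¹) * (τ * a * τ⁻¹) = τ * (c * a) * τ⁻¹ := by group
        rw [this, h2]; group
      calc c * (τ * c * τ⁻¹) * (τ * a * τ⁻¹) = c * ((τ * c * τ⁻¹) * (τ * a * τ⁻¹)) := by
            simp only [mul_assoc]
        _ = c * ((τ * a * τ⁻¹) * (τ * c * τ⁻¹)) := by rw [e1]
        _ = (c * (τ * a * τ⁻¹)) * (τ * c * τ⁻¹) := by simp only [mul_assoc]
        _ = ((τ * a * τ⁻¹) * c) * (τ * c * τ⁻¹) := by rw [h1]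
        _ = (τ * a * τ⁻¹) * (c * (τ * c * τ⁻¹)) := by simp only [mul_assoc]
    · rw [Subgroup.zpowers_le]
      rw [Subgroup.mem_centralizer_iff]
      intro z hz
      rw [Set.mem_singleton_iff] at hz
      subst hz
      have h1 := h.comm c hc c hc
      have e1 : c * (τ * c * τ⁻¹) * τ = c * (τ * c) := by group
      have e2 : τ * (c * (τ * c * τ⁻¹)) = c * (τ * c) := by
        rw [h1, hti]
        have h3 : τ * (τ * c * τ * c) = (τ * τ) * c * τ * c := by simp only [mul_assoc]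
        rw [h3, h.sq, one_mul]
        simp only [mul_assoc]
      rw [e1, e2]
  intro v hv
  have := hle hv
  rw [Subgroup.mem_centralizer_iff] at this
  exact this _ (Set.mem_singleton _)

/-- For `A ≠ ⊥` the centre of `dblG A τ` is `{c (τ c τ⁻¹) : c ∈ Z(A)}`. -/
theorem center_dblG (h : WrHyp A τ) (hne : A ≠ ⊥) (w : G) (hw : w ∈ dblG A τ) :
    (∀ v ∈ dblG A τ, w * v = v * w) ↔
      ∃ c ∈ A, (∀ a ∈ A, c * a = a * c) ∧ w = c * (τ * c * τ⁻¹) := by
  have hti : τ⁻¹ = τ := inv_eq_of_mul_eq_one_left h.sq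
  have hAle : A ≤ dblG A τ := le_sup_of_le_left le_sup_left
  have hτmem : τ ∈ dblG A τ := (le_sup_right : Subgroup.zpowers τ ≤ dblG A τ)
    (Subgroup.mem_zpowers τ)
  constructor
  · intro hcen
    obtain ⟨a, ha, b, hb, hwab | hwab⟩ := (mem_dblG_iff h w).1 hw
    · -- `w = a (τ b τ⁻¹)`
      have haZ : ∀ x ∈ A, a * x = x * a := by
        intro x hx
        have e := hcen x (hAle hx)
        rw [hwab] at e
        have h1 := h.comm x hx b hb
        -- a * (τ b τ⁻¹) * x = x * (a * (τ b τ⁻¹))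
        have e2 : (a * x) * (τ * b * τ⁻¹) = (x * a) * (τ * b * τ⁻¹) := by
          calc (a * x) * (τ * b * τ⁻¹) = a * (x * (τ * b * τ⁻¹)) := by simp only [mul_assoc]
            _ = a * ((τ * b * τ⁻¹) * x) := by rw [h1]
            _ = a * (τ * b * τ⁻¹) * x := by simp only [mul_assoc]
            _ = x * (a * (τ * b * τ⁻¹)) := e
            _ = (x * a) * (τ * b * τ⁻¹) := by simp only [mul_assoc]
        exact mul_right_cancel e2
      have hab : a = b := by
        have e := hcen τ hτmem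
        rw [hwab] at e
        -- a * (τ b τ⁻¹) * τ = τ * (a * (τ b τ⁻¹))
        have h1 := h.comm b hb a ha
        have e2 : a * (τ * b * τ⁻¹) = b * (τ * a * τ⁻¹) := by
          rw [h1]
          have e3 : a * (τ * b * τ⁻¹) = τ * (a * (τ * b * τ⁻¹)) * τ⁻¹ := by
            rw [← e]; group
          rw [e3]
          have : τ * (a * (τ * b * τ⁻¹)) * τ⁻¹ = τ * a * (τ * b * τ⁻¹ * τ⁻¹) := by
            simp only [mul_assoc]
          rw [this]
          have : τ * b * τ⁻¹ * τ⁻¹ = τ⁻¹ * b := by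
            rw [hti]
            have : τ * b * τ * τ = τ * b * (τ * τ) := by simp only [mul_assoc]
            rw [this, h.sq, mul_one]
          rw [this]
          simp only [mul_assoc]
        exact (nf_unique h ha hb hb ha e2).1
      exact ⟨a, ha, haZ, by rw [hwab, hab]⟩
    · -- `w = a (τ b τ⁻¹) τ` is impossible
      exfalso
      obtain ⟨a₀, ha₀, hne₀⟩ : ∃ x ∈ A, x ≠ 1 := by
        by_contra hcon
        push_neg at hcon
        exact hne ((Subgroup.eq_bot_iff_forall A).2 hcon)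
      have e := hcen a₀ (hAle ha₀)
      rw [hwab] at e
      -- a (τ b τ⁻¹) τ a₀ = a₀ a (τ b τ⁻¹) τ
      have e2 : a * (τ * (b * a₀) * τ⁻¹) = (a₀ * a) * (τ * b * τ⁻¹) := by
        have : a * (τ * (b * a₀) * τ⁻¹) = a * (τ * b * τ⁻¹) * τ * a₀ * τ⁻¹ := by group
        rw [this, e]; group
      have := (nf_unique h ha (A.mul_mem hb ha₀) (A.mul_mem ha₀ ha) hb e2).2
      exact hne₀ (mul_left_cancel (this.trans (mul_one b).symm))
  · rintro ⟨c, hc, hcA, rfl⟩ v hv
    exact central_of_diag h c hc hcA v hv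

end Cfsg.Agent.Helper8.SD
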