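import Mathlib
import Cfsg.Agent.Lib.Helper8.SDDefs
import Cfsg.Agent.Lib.Helper8.SDWnf
import Cfsg.Agent.Lib.Helper8.SDWcen
/-!
# SD-WALT: the centre of the even part of an internal wreath product  (helper8 plan `plans/SD_plan.md`)
-/

set_option autoImplicit false
set_option linter.unusedVariables false

namespace Cfsg.Agent.Helper8.SD

variable {G : Type*} [Group G] {A : Subgroup G} {τ : G}

namespace WALT

/-- `τ ∈ dblG A τ` -/
theorem tau_mem (h : WrHyp A τ) : τ ∈ dblG A τ := by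
  rw [mem_dblG_iff h]
  refine ⟨1, A.one_mem, 1, A.one_mem, Or.inr ?_⟩
  group

/-- `a (τ b τ⁻¹) ∈ dblG A τ` -/
theorem nf_mem (h : WrHyp A τ) {a b : G} (ha : a ∈ A) (hb : b ∈ A) :
    a * (τ * b * τ⁻¹) ∈ dblG A τ := by
  rw [mem_dblG_iff h]
  exact ⟨a, ha, b, hb, Or.inl rfl⟩

/-- `A ≤ dblG A τ` -/
theorem mem_of_mem (h : WrHyp A τ) {a : G} (ha : a ∈ A) : a ∈ dblG A τ := by
  rw [mem_dblG_iff h]
  refine ⟨a, ha, 1, A.one_mem, Or.inl ?_⟩
  group

theorem eps_nf (ε : G →* ℤˣ) (hτ : ε τ = 1) (a b : G) :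
    ε (a * (τ * b * τ⁻¹)) = ε a * ε b := by
  rw [map_mul, map_mul, map_mul, map_inv, hτ]
  simp

end WALT

theorem center_alt_dblG (h : WrHyp A τ) (ε : G →* ℤˣ) (hτ : ε τ = 1) (hodd : ∃ t ∈ A, ε t = -1)
    (hev : ∃ g ∈ A, g ≠ 1 ∧ ε g = 1) (w : G) (hw : w ∈ dblG A τ) (hwε : ε w = 1)
    (hcen : ∀ v ∈ dblG A τ, ε v = 1 → w * v = v * w) : ∀ v ∈ dblG A τ, w * v = v * w := by
  obtain ⟨t, htA, htε⟩ := hodd
  obtain ⟨g, hgA, hg1, hgε⟩ := hev
  obtain ⟨c, hc, d, hd, hcd | hcd⟩ := (mem_dblG_iff h w).mp hw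
  · -- `w = c (τ d τ⁻¹)`
    -- commuting with `g' (τ h' τ⁻¹)` for `ε g' = ε h'`
    have key : ∀ g' ∈ A, ∀ h' ∈ A, ε g' = ε h' → c * g' = g' * c ∧ d * h' = h' * d := by
      intro g' hg' h' hh' hε
      have hv : g' * (τ * h' * τ⁻¹) ∈ dblG A τ := WALT.nf_mem h hg' hh'
      have hvε : ε (g' * (τ * h' * τ⁻¹)) = 1 := by
        rw [WALT.eps_nf ε hτ, hε]
        exact Int.units_mul_self _
      have e := hcen _ hv hvε
      rw [hcd] at e
      have h1 := h.comm g' hg' d hd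
      have h2 := h.comm c hc h' hh'
      have L : c * (τ * d * τ⁻¹) * (g' * (τ * h' * τ⁻¹)) =
          (c * g') * (τ * (d * h') * τ⁻¹) := by
        calc c * (τ * d * τ⁻¹) * (g' * (τ * h' * τ⁻¹))
            = c * ((τ * d * τ⁻¹) * g') * (τ * h' * τ⁻¹) := by group
          _ = c * (g' * (τ * d * τ⁻¹)) * (τ * h' * τ⁻¹) := by rw [h1]
          _ = (c * g') * (τ * (d * h') * τ⁻¹) := by group
      have R : g' * (τ * h' * τ⁻¹) * (c * (τ * d * τ⁻¹)) =
          (g' * c) * (τ * (h' * d) * τ⁻¹) := by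
        calc g' * (τ * h' * τ⁻¹) * (c * (τ * d * τ⁻¹))
            = g' * ((τ * h' * τ⁻¹) * c) * (τ * d * τ⁻¹) := by group
          _ = g' * (c * (τ * h' * τ⁻¹)) * (τ * d * τ⁻¹) := by rw [h2]
          _ = (g' * c) * (τ * (h' * d) * τ⁻¹) := by group
      rw [L, R] at e
      exact nf_unique h (A.mul_mem hc hg') (A.mul_mem hd hh') (A.mul_mem hg' hc)
        (A.mul_mem hh' hd) e
    -- `c` and `d` are central in `A`
    have hcA : ∀ a ∈ A, c * a = a * c := by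
      intro a ha
      rcases Int.units_eq_one_or (ε a) with h1 | h1
      · exact (key a ha 1 A.one_mem (by rw [h1, map_one])).1
      · exact (key a ha t htA (by rw [h1, htε])).1
    -- `c = d`
    have hτm : τ ∈ dblG A τ := WALT.tau_mem h
    have e := hcen τ hτm hτ
    rw [hcd] at e
    have e2 : c * (τ * d * τ⁻¹) = d * (τ * c * τ⁻¹) := by
      have h1 : c * (τ * d * τ⁻¹) = (c * (τ * d * τ⁻¹) * τ) * τ⁻¹ := by group
      rw [h1, e]
      have h2 : τ * (c * (τ * d * τ⁻¹)) * τ⁻¹ = (τ * c * τ⁻¹) * ((τ * τ) * d * (τ * τ)⁻¹) := by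
        group
      rw [h2, h.sq, one_mul, inv_one, mul_one]
      exact (h.comm d hd c hc).symm
    have hcd' : c = d := (nf_unique h hc hd hd hc e2).1
    intro v hv
    have := central_of_diag h c hc hcA v hv
    rw [hcd, ← hcd']
    exact this
  · -- `w = c (τ d τ⁻¹) τ` is impossible
    exfalso
    have hgm : g ∈ dblG A τ := WALT.mem_of_mem h hgA
    have e := hcen g hgm hgε
    rw [hcd] at e
    have e' : c * (τ * (d * g) * τ⁻¹) = g * c * (τ * d * τ⁻¹) := by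
      have h1 : c * (τ * (d * g) * τ⁻¹) = (c * (τ * d * τ⁻¹) * τ * g) * τ⁻¹ := by group
      rw [h1, e]
      group
    have h3 := (nf_unique h hc (A.mul_mem hd hgA) (A.mul_mem hgA hc) hd e').2
    exact hg1 (mul_eq_left.mp h3)

end Cfsg.Agent.Helper8.SD
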