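import Mathlib
import Cfsg.Agent.Lib.Helper8.SDDefs
/-!
# SD-WPERM: the permutation set-up gives an internal wreath product  (helper8 plan `plans/SD_plan.md`)

`A` is supported on `B₁`, the involution `τ` maps `B₁` off itself (and fixes everything outside
`B₁ ∪ τ B₁`).
-/

set_option autoImplicit false
set_option linter.unusedSectionVars false

namespace Cfsg.Agent.Helper8.SD

open Equiv

variable {Ω : Type*} [DecidableEq Ω] [Fintype Ω]

namespace WPERM

omit [Fintype Ω] in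
theorem inv_eq_self {τ : Perm Ω} (hτ2 : τ * τ = 1) : τ⁻¹ = τ := inv_eq_of_mul_eq_one_right hτ2

omit [Fintype Ω] in
theorem tau_tau {τ : Perm Ω} (hτ2 : τ * τ = 1) (x : Ω) : τ (τ x) = x := by
  have := congrArg (fun σ : Perm Ω => σ x) hτ2
  simpa using this

omit [Fintype Ω] in
/-- a permutation fixing all points outside `B₁` preserves `B₁` -/
theorem mem_of_mem {B₁ : Finset Ω} {σ : Perm Ω} (hσ : ∀ x, x ∉ B₁ → σ x = x) {x : Ω}
    (hx : x ∈ B₁) : σ x ∈ B₁ := by
  by_contra h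
  have h1 : σ (σ x) = σ x := hσ _ h
  have h2 : σ x = x := σ.injective h1
  rw [h2] at h
  exact h hx

omit [Fintype Ω] in
/-- the conjugate `τ b τ⁻¹` fixes `B₁` pointwise -/
theorem conj_fix {B₁ : Finset Ω} {τ b : Perm Ω} (hτ2 : τ * τ = 1) (hτB : ∀ x ∈ B₁, τ x ∉ B₁)
    (hb : ∀ x, x ∉ B₁ → b x = x) {y : Ω} (hy : y ∈ B₁) : (τ * b * τ⁻¹) y = y := by
  rw [inv_eq_self hτ2]
  simp only [Perm.mul_apply]
  rw [hb _ (hτB y hy), tau_tau hτ2]

/-- the subgroup of the permutations fixing every point outside `B` -/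
def fixOff (B : Finset Ω) : Subgroup (Perm Ω) where
  carrier := {σ | ∀ x, x ∉ B → σ x = x}
  one_mem' := fun x _ => rfl
  mul_mem' := by
    intro a b ha hb x hx
    rw [Perm.mul_apply, hb x hx, ha x hx]
  inv_mem' := by
    intro a ha x hx
    rw [Perm.inv_eq_iff_eq, ha x hx]

omit [Fintype Ω] in
theorem mem_fixOff {B : Finset Ω} {σ : Perm Ω} : σ ∈ fixOff B ↔ ∀ x, x ∉ B → σ x = x := Iff.rfl

end WPERM

open WPERM

omit [Fintype Ω] in
theorem wrHyp_of_perm (A : Subgroup (Perm Ω)) (B₁ : Finset Ω) (τ : Perm Ω)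
    (hA : ∀ σ ∈ A, ∀ x, x ∉ B₁ → σ x = x) (hne : B₁.Nonempty) (hτ2 : τ * τ = 1)
    (hτB : ∀ x ∈ B₁, τ x ∉ B₁) : WrHyp A τ := by
  refine ⟨hτ2, ?_, ?_, ?_⟩
  · intro a ha b hb
    have key : ∀ c : Perm Ω, (∀ y ∈ B₁, c y = y) → a * c = c * a := by
      intro c hc
      ext y
      by_cases hy : y ∈ B₁
      · rw [Perm.mul_apply, Perm.mul_apply, hc y hy, hc _ (mem_of_mem (hA a ha) hy)]
      · have hcy : c y ∉ B₁ := by
          intro h
          have h1 := hc _ h
          have h2 := c.injective h1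
          rw [h2] at h
          exact hy h
        rw [Perm.mul_apply, Perm.mul_apply, hA a ha y hy, hA a ha _ hcy]
    exact key _ (fun y hy => conj_fix hτ2 hτB (hA b hb) hy)
  · intro a ha hca
    have h1 : τ * a * τ⁻¹ = 1 := by
      ext y
      by_cases hy : y ∈ B₁
      · rw [conj_fix hτ2 hτB (hA a ha) hy, Perm.one_apply]
      · rw [hA _ hca y hy, Perm.one_apply]
    have h2 : a = τ⁻¹ * (τ * a * τ⁻¹) * τ := by group
    rw [h2, h1]
    group
  · intro a ha b hb h
    obtain ⟨x, hx⟩ := hne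
    have h0 : (τ * b * τ⁻¹) x = x := conj_fix hτ2 hτB (hA b hb) hx
    have h1 : (a * (τ * b * τ⁻¹)) x = a x := by
      rw [Perm.mul_apply, h0]
    rw [h] at h1
    have h3 : a x ∈ B₁ := mem_of_mem (hA a ha) hx
    rw [← h1] at h3
    exact hτB x hx h3

omit [Fintype Ω] in
theorem card_union_image (B₁ : Finset Ω) (τ : Perm Ω) (hτB : ∀ x ∈ B₁, τ x ∉ B₁) :
    (B₁ ∪ B₁.image τ).card = 2 * B₁.card := by
  have hd : Disjoint B₁ (B₁.image τ) := by
    rw [Finset.disjoint_left]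
    intro x hx hx'
    obtain ⟨y, hy, rfl⟩ := Finset.mem_image.mp hx'
    exact hτB y hy hx
  rw [Finset.card_union_of_disjoint hd, Finset.card_image_of_injective _ τ.injective]
  ring

theorem support_tau (B₁ : Finset Ω) (τ : Perm Ω) (hτ2 : τ * τ = 1) (hτB : ∀ x ∈ B₁, τ x ∉ B₁)
    (hτfix : ∀ x, x ∉ B₁ → τ x ∉ B₁ → τ x = x) : τ.support = B₁ ∪ B₁.image τ := by
  ext x
  rw [Perm.mem_support, Finset.mem_union, Finset.mem_image]
  constructor
  · intro hx
    by_contra hcon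
    push Not at hcon
    apply hx
    apply hτfix x hcon.1
    intro h
    exact hcon.2 (τ x) h (tau_tau hτ2 x)
  · rintro (hx | ⟨b, hb, rfl⟩)
    · intro h
      exact hτB x hx (h.symm ▸ hx)
    · rw [tau_tau hτ2]
      intro h
      exact hτB b hb (h ▸ hb)

/-- `τ` is a product of `B₁.card` disjoint transpositions -/
theorem sign_tau (B₁ : Finset Ω) (τ : Perm Ω) (hτ2 : τ * τ = 1) (hτB : ∀ x ∈ B₁, τ x ∉ B₁)
    (hτfix : ∀ x, x ∉ B₁ → τ x ∉ B₁ → τ x = x) : Perm.sign τ = (-1) ^ B₁.card := by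
  have hsupp := support_tau B₁ τ hτ2 hτB hτfix
  by_cases h1 : τ = 1
  · have : B₁.card = 0 := by
      have h2 : τ.support.card = 0 := by rw [h1]; simp
      rw [hsupp, card_union_image B₁ τ hτB] at h2
      omega
    rw [h1, this]
    simp
  · have hord : orderOf τ = 2 := orderOf_eq_prime (by rw [pow_two]; exact hτ2) h1
    have hp : (orderOf τ).Prime := by rw [hord]; exact Nat.prime_two
    obtain ⟨k, hk⟩ := Perm.cycleType_prime_order hp
    rw [hord] at hk
    have hsum : τ.cycleType.sum = 2 * B₁.card := by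
      rw [Perm.sum_cycleType, hsupp, card_union_image B₁ τ hτB]
    rw [hk, Multiset.sum_replicate, smul_eq_mul] at hsum
    have hkB : k + 1 = B₁.card := by omega
    rw [Perm.sign_of_cycleType, hk, Multiset.sum_replicate, Multiset.card_replicate, smul_eq_mul,
      hkB]
    have : B₁.card * 2 + B₁.card = 2 * B₁.card + B₁.card := by ring
    rw [this, pow_add, pow_mul]
    simp

omit [Fintype Ω] in
/-- the doubled group is supported on `B₁ ∪ τ B₁` -/
theorem supp_dblG (A : Subgroup (Perm Ω)) (B₁ : Finset Ω) (τ : Perm Ω)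
    (hA : ∀ σ ∈ A, ∀ x, x ∉ B₁ → σ x = x) (hτ2 : τ * τ = 1)
    (hτfix : ∀ x, x ∉ B₁ → τ x ∉ B₁ → τ x = x) :
    ∀ σ ∈ dblG A τ, ∀ x, x ∉ B₁ ∪ B₁.image τ → σ x = x := by
  have hτmem : τ ∈ fixOff (B₁ ∪ B₁.image τ) := by
    intro x hx
    rw [Finset.mem_union, Finset.mem_image] at hx
    push Not at hx
    apply hτfix x hx.1
    intro h
    exact hx.2 (τ x) h (tau_tau hτ2 x)
  have hle : dblG A τ ≤ fixOff (B₁ ∪ B₁.image τ) := by
    unfold dblG conjS
    refine sup_le (sup_le ?_ ?_) ?_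
    · intro σ hσ x hx
      exact hA σ hσ x (fun h => hx (Finset.mem_union_left _ h))
    · rintro _ ⟨b, hb, rfl⟩
      have hbm : b ∈ fixOff (B₁ ∪ B₁.image τ) := by
        intro x hx
        exact hA b hb x (fun h => hx (Finset.mem_union_left _ h))
      simp only [MulEquiv.coe_toMonoidHom, MulAut.conj_apply]
      exact mul_mem (mul_mem hτmem hbm) (inv_mem hτmem)
    · rw [Subgroup.zpowers_le]
      exact hτmem
  intro σ hσ
  exact hle hσ

end Cfsg.Agent.Helper8.SD
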