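import Mathlib

set_option autoImplicit false

namespace Cfsg.Agent.Helper8.RegOrb

variable {N : Type*} [CommGroup N]

/-- common fixed points (in the abelian group `N`, written multiplicatively) of a subgroup of
automorphisms -/
def fixOf (K : Subgroup (MulAut N)) : Subgroup N where
  carrier := {v | ∀ k ∈ K, k v = v}
  one_mem' := by intro k _; simp
  mul_mem' := by
    intro a b ha hb k hk
    have h1 : k a = a := ha k hk
    have h2 : k b = b := hb k hk
    simp [h1, h2]
  inv_mem' := by
    intro a ha k hk
    have h1 : k a = a := ha k hk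
    simp [h1]

theorem mem_fixOf {K : Subgroup (MulAut N)} {v : N} : v ∈ fixOf K ↔ ∀ k ∈ K, k v = v := Iff.rfl

/-- `K` is a subgroup of index `p` of `E` -/
def IsHyp (p : ℕ) (K E : Subgroup (MulAut N)) : Prop := K ≤ E ∧ Nat.card K * p = Nat.card E

end Cfsg.Agent.Helper8.RegOrb
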