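import Mathlib
import Cfsg.Prelude.Def_Transfer
import Cfsg.Agent.Lib.Helper20.SchDefs

/-!
Piece SCH-MODSUB of S4395 (core: the statement of SCH-MODABS is a hypothesis): transfer of the abstract module
isomorphism to an abelian subgroup `A ≤ W` normalized by `w`.
-/

set_option autoImplicit false

namespace Cfsg.Agent.Helper20.Sch

universe v

variable {p q : ℕ} [Fact p.Prime] [Fact q.Prime]

section moduleiso

/-- conjugation by `w` as an endomorphism of the invariant subgroup `A` -/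
def sch_modsub_conjHom {W : Type v} [Group W] (A : Subgroup W) (w : W)
    (hwA : ∀ x ∈ A, w * x * w⁻¹ ∈ A) : ↥A →* ↥A where
  toFun x := ⟨w * x * w⁻¹, hwA x x.2⟩
  map_one' := by
    apply Subtype.ext
    simp
  map_mul' x y := by
    apply Subtype.ext
    show w * (x * y : W) * w⁻¹ = (w * x * w⁻¹) * (w * y * w⁻¹)
    group

theorem sch_modsub_conjHom_injective {W : Type v} [Group W] (A : Subgroup W) (w : W)
    (hwA : ∀ x ∈ A, w * x * w⁻¹ ∈ A) : Function.Injective (sch_modsub_conjHom A w hwA) := by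
  intro x y hxy
  have h : w * (x : W) * w⁻¹ = w * (y : W) * w⁻¹ := congrArg Subtype.val hxy
  apply Subtype.ext
  have h2 : (x : W) = w⁻¹ * (w * (x : W) * w⁻¹) * w := by group
  rw [h2, h]
  group

/-- conjugation by `w` as an automorphism of the finite invariant subgroup `A` -/
noncomputable def sch_modsub_conj {W : Type v} [Group W] [Finite W] (A : Subgroup W) (w : W)
    (hwA : ∀ x ∈ A, w * x * w⁻¹ ∈ A) : MulAut ↥A :=
  MulEquiv.ofBijective (sch_modsub_conjHom A w hwA)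
    ⟨sch_modsub_conjHom_injective A w hwA,
      Finite.surjective_of_injective (sch_modsub_conjHom_injective A w hwA)⟩

theorem sch_modsub_conj_apply {W : Type v} [Group W] [Finite W] (A : Subgroup W) (w : W)
    (hwA : ∀ x ∈ A, w * x * w⁻¹ ∈ A) (x : ↥A) :
    ((sch_modsub_conj A w hwA x : ↥A) : W) = w * x * w⁻¹ := rfl

theorem sch_modsub_conj_pow_apply {W : Type v} [Group W] [Finite W] (A : Subgroup W) (w : W)
    (hwA : ∀ x ∈ A, w * x * w⁻¹ ∈ A) (k : ℕ) (x : ↥A) :
    (((sch_modsub_conj A w hwA ^ k) x : ↥A) : W) = w ^ k * x * (w ^ k)⁻¹ := by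
  induction k generalizing x with
  | zero => simp
  | succ k ih =>
    rw [pow_succ, MulAut.mul_apply, ih, sch_modsub_conj_apply, pow_succ]
    group

/-- SCH-MODSUB with the statement of SCH-MODABS as a hypothesis. -/
theorem sch_modsub_core
    {W : Type v} [Group W] [Finite W] (A : Subgroup W) (w : W)
    (hAcomm : ∀ x ∈ A, ∀ y ∈ A, x * y = y * x) (hAexp : ∀ x ∈ A, x ^ p = 1)
    (hwA : ∀ x ∈ A, w * x * w⁻¹ ∈ A) (hwq : ∀ x ∈ A, w ^ q * x * (w ^ q)⁻¹ = x)
    (hne : ∃ x ∈ A, w * x * w⁻¹ ≠ x)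
    (hirr : ∀ H : Subgroup W, H ≤ A → (∀ x ∈ H, w * x * w⁻¹ ∈ H) → H = ⊥ ∨ H = A)
    (F : Type*) [Field F] [Finite F] (μ : F)
    (hAbs : ∀ (A' : Type v) [CommGroup A'] [Finite A'] [Nontrivial A'],
      (∀ x : A', x ^ p = 1) → ∀ T : MulAut A', T ^ q = 1 → T ≠ 1 →
      (∀ H : Subgroup A', (∀ x ∈ H, T x ∈ H) → H = ⊥ ∨ H = ⊤) →
      ∃ j : ℕ, j.Coprime q ∧ ∃ θ : Multiplicative F ≃* A',
        ∀ x : F, θ (Multiplicative.ofAdd (μ * x)) = (T ^ j) (θ (Multiplicative.ofAdd x))) :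
    ∃ j : ℕ, j.Coprime q ∧ ∃ θ : Multiplicative F →* W, Function.Injective θ ∧ θ.range = A ∧
      ∀ x : F, θ (Multiplicative.ofAdd (μ * x)) =
        w ^ j * θ (Multiplicative.ofAdd x) * (w ^ j)⁻¹ := by
  letI instA : CommGroup ↥A :=
    { (inferInstance : Group ↥A) with
      mul_comm := fun x y => Subtype.ext (hAcomm x x.2 y y.2) }
  haveI : Nontrivial ↥A := by
    obtain ⟨x, hx, hxne⟩ := hne
    refine ⟨⟨⟨x, hx⟩, 1, ?_⟩⟩
    intro h
    have hx1 : x = 1 := congrArg Subtype.val h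
    apply hxne
    rw [hx1]
    group
  let T : MulAut ↥A := sch_modsub_conj A w hwA
  have hexp : ∀ x : ↥A, x ^ p = 1 := fun x => Subtype.ext (by
    show ((x : W)) ^ p = 1
    exact hAexp x x.2)
  have hTq : T ^ q = 1 := by
    ext x
    rw [sch_modsub_conj_pow_apply, hwq x x.2]
    rfl
  have hT1 : T ≠ 1 := by
    obtain ⟨x, hx, hxne⟩ := hne
    intro h
    apply hxne
    have h2 : T ⟨x, hx⟩ = ⟨x, hx⟩ := by rw [h]; rfl
    exact congrArg Subtype.val h2
  have hirr' : ∀ H : Subgroup ↥A, (∀ x ∈ H, T x ∈ H) → H = ⊥ ∨ H = ⊤ := by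
    intro H hH
    have hle : H.map A.subtype ≤ A := by
      intro z hz
      obtain ⟨y, _, rfl⟩ := hz
      exact y.2
    have hinv : ∀ x ∈ H.map A.subtype, w * x * w⁻¹ ∈ H.map A.subtype := by
      intro z hz
      obtain ⟨y, hy, rfl⟩ := hz
      exact ⟨T y, hH y hy, rfl⟩
    rcases hirr _ hle hinv with h | h
    · left
      exact (Subgroup.map_eq_bot_iff_of_injective H A.subtype_injective).mp h
    · right
      rw [eq_top_iff]
      intro y _
      have hy : (y : W) ∈ H.map A.subtype := by rw [h]; exact y.2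
      obtain ⟨y', hy', hyy⟩ := hy
      have : y' = y := Subtype.ext hyy
      rw [← this]
      exact hy'
  obtain ⟨j, hj, θ', hθ'⟩ := hAbs ↥A hexp T hTq hT1 hirr'
  refine ⟨j, hj, A.subtype.comp θ'.toMonoidHom, ?_, ?_, ?_⟩
  · intro x y hxy
    exact θ'.injective (A.subtype_injective hxy)
  · ext z
    constructor
    · rintro ⟨x, rfl⟩
      exact (θ' x).2
    · intro hz
      obtain ⟨x, hx⟩ := θ'.surjective ⟨z, hz⟩
      exact ⟨x, by
        show ((θ' x : ↥A) : W) = z
        rw [hx]⟩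
  · intro x
    show ((θ' (Multiplicative.ofAdd (μ * x)) : ↥A) : W) = _
    rw [hθ', sch_modsub_conj_pow_apply]
    rfl

end moduleiso

end Cfsg.Agent.Helper20.Sch
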