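import Mathlib
import Cfsg.Prelude.Def_Transfer
import Cfsg.Agent.Lib.Helper20.SchDefs
import Cfsg.Agent.Lib.Helper8.SchMODSUBCore
import Cfsg.Agent.Lib.Helper11.SchMODABS

/-!
Piece SCH-MODSUB of S4395: assembly of the core with SCH-MODABS.
-/

set_option autoImplicit false

namespace Cfsg.Agent.Helper20.Sch

variable {p q : ℕ} [Fact p.Prime] [Fact q.Prime]

section moduleiso

/-- SCH-MODSUB (transfer of MODABS to an abelian subgroup `A ≤ W` normalized by `w`). -/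
theorem exists_module_iso (hpq : p ≠ q) {a : ℕ} (ha : a = orderOf (p : ZMod q))
    {W : Type*} [Group W] [Finite W] (A : Subgroup W) (w : W)
    (hAcomm : ∀ x ∈ A, ∀ y ∈ A, x * y = y * x) (hAexp : ∀ x ∈ A, x ^ p = 1)
    (hwA : ∀ x ∈ A, w * x * w⁻¹ ∈ A) (hwq : ∀ x ∈ A, w ^ q * x * (w ^ q)⁻¹ = x)
    (hne : ∃ x ∈ A, w * x * w⁻¹ ≠ x)
    (hirr : ∀ H : Subgroup W, H ≤ A → (∀ x ∈ H, w * x * w⁻¹ ∈ H) → H = ⊥ ∨ H = A)
    (F : Type*) [Field F] [Finite F] (hF : Nat.card F = p ^ a) (μ : F) (hμ : orderOf μ = q) :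
    ∃ j : ℕ, j.Coprime q ∧ ∃ θ : Multiplicative F →* W, Function.Injective θ ∧ θ.range = A ∧
      ∀ x : F, θ (Multiplicative.ofAdd (μ * x)) =
        w ^ j * θ (Multiplicative.ofAdd x) * (w ^ j)⁻¹ :=
  sch_modsub_core (p := p) (q := q) A w hAcomm hAexp hwA hwq hne hirr F μ
    (fun A' _ _ _ hexp T hTq hT1 hirr' =>
      exists_module_iso_abstract hpq ha A' hexp T hTq hT1 hirr' F hF μ hμ)

end moduleiso

end Cfsg.Agent.Helper20.Sch
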