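import Mathlib
import Cfsg.Agent.Lib.Helper8.HallSnDefs

/-!
# Hall subgroups of alternating groups: definitions (helper8)
-/

set_option autoImplicit false

namespace Cfsg.Agent.Helper8.HS

open Equiv

universe u

variable {Ω : Type u} [Fintype Ω] [DecidableEq Ω]

/-- `M` (a subgroup of `Sym(Ω)`) is a Hall `π`-subgroup of `Alt(Ω)`. -/
def IsAltHall (π : Set ℕ) (M : Subgroup (Perm Ω)) : Prop :=
  M ≤ alternatingGroup Ω ∧ (∀ p : ℕ, p.Prime → p ∣ Nat.card M → p ∈ π) ∧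
    ∀ p : ℕ, p.Prime → p ∈ π → ¬ p ∣ M.relIndex (alternatingGroup Ω)

/-- `M` lies in a `π`-subgroup of `Sym(Ω)` that is not contained in `Alt(Ω)`. -/
def AltExt (π : Set ℕ) (M : Subgroup (Perm Ω)) : Prop :=
  ∃ M₀ : Subgroup (Perm Ω), M ≤ M₀ ∧ (∀ p : ℕ, p.Prime → p ∣ Nat.card M₀ → p ∈ π) ∧
    ¬ M₀ ≤ alternatingGroup Ω

end Cfsg.Agent.Helper8.HS
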