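import Mathlib
import Cfsg.Prelude.Def_Solvable
import Cfsg.Agent.Lib.Helper8.ABDefs
import Cfsg.Agent.Lib.Helper17.ABBLKPAIR
import Cfsg.Agent.Lib.Helper17.ABCHI
import Cfsg.Agent.Lib.Helper19.ABEXCIN
import Cfsg.Agent.Lib.Helper19.ABMINTR
import Cfsg.Agent.Lib.Helper2.ABLEMD
import Cfsg.Agent.Lib.Helper2.ABNIL
import Cfsg.Agent.Lib.Helper2.ABLEMT
import Cfsg.Agent.Lib.Helper24.ABCONJLOC
import Cfsg.Agent.Lib.Helper24.ABTRANSL
import Cfsg.Agent.Lib.Helper9.ABHRES
import Cfsg.Agent.Lib.Helper9.ABINVPROD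
import Cfsg.Agent.Lib.Helper9.ABORBPROD
import Cfsg.Agent.Lib.Lead.ABMINY
import Cfsg.Agent.Lib.Helper22.ABABEL
import Cfsg.Agent.Lib.Helper8.ABBLKA8
import Cfsg.Agent.Lib.Helper6.ABSETUP
import Cfsg.Agent.Lib.Helper6.ABEXCFIN

/-!
# S3301 assembly (helper8)

The 2-part of the abelianization of `H = C(z)` is elementary abelian when `G = O^2(G)`, `E = O_2(H)` is
extraspecial and `C_G(E) ≤ E`.  Pieces by helper2, helper6, helper9, helper17, helper19, helper22, helper24,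
lead; plan in `plans/S3301_plan.md`.
-/

set_option autoImplicit false

namespace Cfsg.Agent.Helper8.AB

open Cfsg.Agent.Helper8.XS

section block

variable {G : Type*} [Group G] [Finite G] {A : Type*} [CommGroup A] {z : G} {H : Subgroup G}
  [Fintype (G ⧸ H)] {φ : ↥H →* A} {n : ℕ}

/-- ASSEMBLY (helper8): the exceptional configuration with `z ∉ Q` is impossible. -/
theorem exc_out (gl : Glob z H φ n) (u : G) (Q : Subgroup G) (l : Loc u Q)
    (v : G) (hvQ : ∀ x ∈ Q, v⁻¹ * x * v ∈ Q) (hvH : v ∈ H) (huH : u ∈ H)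
    (k : ℕ) (hk : 1 ≤ k) (hvo : orderOf v = 2 ^ k) (hn : n = 2 ^ k)
    (hzQ : z ∉ Q)
    (hexc : ∀ e ∈ Q, e ∉ H → v⁻¹ * e⁻¹ * v * e ∈ H → valH (psi φ) (v⁻¹ * e⁻¹ * v * e) ≠ 1) :
    False := by
  have huz : u * z = z * u := (gl.hH u).1 huH
  have hT := cent_index_ge_four l z gl.hzz huz.symm hzQ
  have hnotH : ∀ e : G, e * z ≠ z * e → e ∉ H := fun e he heH => he ((gl.hH e).1 heH)
  -- some `e₀ ∈ Q` with `κ_{e₀} ∉ H`
  have hex0 : ∃ e₀ ∈ Q, v⁻¹ * e₀⁻¹ * v * e₀ ∉ H := by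
    by_contra hcon
    push Not at hcon
    obtain ⟨e', he', he'z, -⟩ := hT 1 Q.one_mem
    obtain ⟨e, he, hez, hee'⟩ := hT e' he'
    exact hnotH _ hee' (exc_coset gl u Q l.xs v hvQ hvH huH hexc e e' he he' (hnotH _ hez)
      (hnotH _ he'z) (hcon e he) (hcon e' he'))
  obtain ⟨e₀, he₀, h0⟩ := hex0
  have hsqF : ∀ x ∈ Q, x * x ∈ Q ⊓ H := by
    intro x hx
    refine ⟨Q.mul_mem hx hx, ?_⟩
    rcases l.xs.hsq x hx with h | h
    · rw [h]; exact H.one_mem
    · rw [h]; exact huH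
  have hcommF : ∀ x ∈ Q, ∀ w ∈ Q, x * w * x⁻¹ * w⁻¹ ∈ Q ⊓ H := by
    intro x hx w hw
    refine ⟨Q.mul_mem (Q.mul_mem (Q.mul_mem hx hw) (Q.inv_mem hx)) (Q.inv_mem hw), ?_⟩
    rcases l.xs.hcomm x hx w hw with h | h
    · have : x * w * x⁻¹ * w⁻¹ = 1 := by
        rw [h]; group
      rw [this]; exact H.one_mem
    · have : x * w * x⁻¹ * w⁻¹ = u := by
        rw [h]; group
      rw [this]; exact huH
  have hvF : ∀ x ∈ Q ⊓ H, v⁻¹ * x * v ∈ Q ⊓ H := by
    intro x hx
    exact ⟨hvQ x hx.1, H.mul_mem (H.mul_mem (H.inv_mem hvH) hx.2) hvH⟩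
  have hvpow : v ^ 2 ^ k = 1 := by
    rw [← hvo]; exact pow_orderOf_eq_one v
  have hkQ : ∀ e ∈ Q, v⁻¹ * e⁻¹ * v * e ∈ Q := by
    intro e he
    have := Q.mul_mem (hvQ e⁻¹ (Q.inv_mem he)) he
    simpa [mul_assoc] using this
  obtain ⟨e, he, h1, h2⟩ := exists_two_cycle Q (Q ⊓ H) inf_le_left hsqF hcommF v k hvpow hvQ hvF
    e₀ he₀ (fun h => h0 h.2)
  exact exc_final gl u Q l.xs v hvQ hvH huH k hk hvo hn hexc e he
    (fun h => h1 ⟨hkQ e he, h⟩) h2.2

/-- ASSEMBLY (helper8): every block away from the base coset has product one. -/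
theorem block_prod (gl : Glob z H φ n) (u : G) (Q : Subgroup G) (l : Loc u Q) (huz : u ≠ z)
    (v : G) (hvH : v ∈ H) (hvu : v * u = u * v)
    (k : ℕ) (hk : 1 ≤ k) (hvo : orderOf v = 2 ^ k) (hn : n = 2 ^ k) :
    ∏ x ∈ blk Q H ((1 : G) : G ⧸ H), valH (psi φ) (x.out⁻¹ * v * x.out) = 1 := by
  have hvQ : ∀ x ∈ Q, v⁻¹ * x * v ∈ Q := by
    intro x hx
    have h1 : v⁻¹ * u = u * v⁻¹ := by
      calc v⁻¹ * u = v⁻¹ * (u * v) * v⁻¹ := by group
        _ = v⁻¹ * (v * u) * v⁻¹ := by rw [hvu]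
        _ = u * v⁻¹ := by group
    have := l.hn v⁻¹ h1 x hx
    simpa using this
  by_cases huH : u ∈ H
  · by_cases hex : ∃ e ∈ Q, e ∉ H ∧ v⁻¹ * e⁻¹ * v * e ∈ H ∧ valH (psi φ) (v⁻¹ * e⁻¹ * v * e) = 1
    · obtain ⟨e, he, heH, hk', hk1⟩ := hex
      exact block_pair gl u Q l.xs v hvQ hvH huH e he heH hk' hk1
    · exfalso
      have hexc : ∀ e ∈ Q, e ∉ H → v⁻¹ * e⁻¹ * v * e ∈ H →
          valH (psi φ) (v⁻¹ * e⁻¹ * v * e) ≠ 1 := by
        intro e he heH hk' h1
        exact hex ⟨e, he, heH, hk', h1⟩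
      by_cases hzQ : z ∈ Q
      · exact exc_in gl u Q l.xs v hvQ hvH huH huz hzQ hexc
      · exact exc_out gl u Q l v hvQ hvH huH k hk hvo hn hzQ hexc
  · exact h8_block_A gl u Q l.xs v hvu huH

end block

/-- ASSEMBLY (helper8): the main theorem. -/
theorem main {G : Type*} [Group G] [Finite G] (hres : Cfsg.pResidual 2 G = ⊤) (z : G)
    (hz : orderOf z = 2) (E : Subgroup G)
    (hE : E = (Cfsg.pCore 2 ↥(Subgroup.centralizer ({z} : Set G))).map
      (Subgroup.centralizer ({z} : Set G)).subtype)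
    (hext : Cfsg.IsExtraspecial 2 ↥E) (hcent : Subgroup.centralizer (E : Set G) ≤ E) :
    ∀ q : Abelianization ↥(Subgroup.centralizer ({z} : Set G)),
      (∃ k : ℕ, orderOf q = 2 ^ k) → q ^ 2 = 1 := by
  classical
  apply abel_reduce
  intro φ h
  by_contra hne
  have h4 := abel_exp4 (H := ↥(Subgroup.centralizer ({z} : Set G)))
  obtain ⟨y, hy2, ⟨k, hk1, hko⟩, hmin⟩ :=
    exists_min (Subgroup.centralizer ({z} : Set G)) φ h4 ⟨h, hne⟩
  obtain ⟨loc, hEH⟩ := loc_of_hyp z hz E hE hext hcent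
  let _ : Fintype (G ⧸ Subgroup.centralizer ({z} : Set G)) := Fintype.ofFinite _
  have hzz : z * z = 1 := by
    have := pow_orderOf_eq_one z
    rwa [hz, pow_two] at this
  have hz1 : z ≠ 1 := by
    intro h1
    rw [h1, orderOf_one] at hz
    norm_num at hz
  have hHmem : ∀ g : G, g ∈ Subgroup.centralizer ({z} : Set G) ↔ g * z = z * g := by
    intro g
    rw [Subgroup.mem_centralizer_iff]
    constructor
    · intro hg
      exact (hg z rfl).symm
    · intro hg w hw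
      rw [Set.mem_singleton_iff] at hw
      subst hw
      exact hg.symm
  have gl : Glob z (Subgroup.centralizer ({z} : Set G)) φ (2 ^ k) :=
    { hzz := hzz
      hz1 := hz1
      hH := hHmem
      h4 := h4
      hmin := by
        intro w hw
        rw [← hko] at hw
        exact hmin w hw }
  have htr := hom_trivial hres h4 (MonoidHom.transfer (psi φ)) (y : G)
  rw [transfer_eq_prod (Subgroup.centralizer ({z} : Set G)) (psi φ) (y : G)
    (by intro w hw; exact hmin w hw)] at htr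
  have hfix : ∀ e ∈ E, e • (((1 : G) : G ⧸ Subgroup.centralizer ({z} : Set G))) =
      ((1 : G) : G ⧸ Subgroup.centralizer ({z} : Set G)) := by
    intro e he
    rw [MulAction.Quotient.smul_mk, QuotientGroup.eq]
    simpa using (Subgroup.centralizer ({z} : Set G)).inv_mem (hEH he)
  have hblk : ∀ c : G ⧸ Subgroup.centralizer ({z} : Set G),
      c ≠ ((1 : G) : G ⧸ Subgroup.centralizer ({z} : Set G)) →
      ∏ x ∈ blk E (Subgroup.centralizer ({z} : Set G)) c,
        valH (psi φ) (x.out⁻¹ * (y : G) * x.out) = 1 := by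
    intro c hc
    by_cases hall : ∀ x ∈ blk E (Subgroup.centralizer ({z} : Set G)) c,
        valH (psi φ) (x.out⁻¹ * (y : G) * x.out) = 1
    · exact Finset.prod_eq_one hall
    · push Not at hall
      obtain ⟨x, hx, hx1⟩ := hall
      rw [← blk_eq_of_mem hx]
      set r : G := x.out with hr
      have hxr : x = (r : G ⧸ Subgroup.centralizer ({z} : Set G)) := (QuotientGroup.out_eq' x).symm
      have hrH : r ∉ Subgroup.centralizer ({z} : Set G) := by
        intro hrH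
        apply hc
        have hx0 : x = ((1 : G) : G ⧸ Subgroup.centralizer ({z} : Set G)) := by
          rw [hxr, QuotientGroup.eq]
          simpa using hrH
        obtain ⟨e, he, hxe⟩ := mem_blk.1 hx
        -- `x = e • c`, so `c = e⁻¹ • x = e⁻¹ • 1 = 1`
        have : c = e⁻¹ • x := by rw [hxe, ← mul_smul, inv_mul_cancel, one_smul]
        rw [this, hx0]
        exact hfix e⁻¹ (E.inv_mem he)
      have hvH : r⁻¹ * (y : G) * r ∈ Subgroup.centralizer ({z} : Set G) := by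
        by_contra hcon
        exact hx1 (valH_of_not_mem _ hcon)
      rw [hxr, blk_translate]
      have hyz : (y : G) * z = z * (y : G) := (hHmem _).1 y.2
      apply block_prod gl (r⁻¹ * z * r) _ (loc_conj loc r) _ (r⁻¹ * (y : G) * r) hvH _ k hk1 _ rfl
      · intro h1
        apply hrH
        rw [hHmem]
        calc r * z = r * (r⁻¹ * z * r) := by rw [h1]
          _ = z * r := by group
      · calc r⁻¹ * (y : G) * r * (r⁻¹ * z * r) = r⁻¹ * ((y : G) * z) * r := by group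
          _ = r⁻¹ * (z * (y : G)) * r := by rw [hyz]
          _ = r⁻¹ * z * r * (r⁻¹ * (y : G) * r) := by group
      · rw [← hko]
        have : r⁻¹ * (y : G) * r = MulAut.conj r⁻¹ (y : G) := by simp
        rw [this, MulEquiv.orderOf_eq]
  rw [prod_eq_of_blocks E (Subgroup.centralizer ({z} : Set G)) _ ((1 : G) : G ⧸ _) hfix hblk] at htr
  rw [valH_out, inv_one, one_mul, mul_one, valH_of_mem _ y.2] at htr
  exact hy2 htr

end Cfsg.Agent.Helper8.AB
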