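import Mathlib
import Cfsg.Prelude.Def_Transfer
import Cfsg.Agent.Lib.Helper20.SchDefs

/-!
Piece SCH-BETA of S4395 (core: the even case is a hypothesis).
-/

set_option autoImplicit false

namespace Cfsg.Agent.Helper20.Sch

universe u

variable {p q : ℕ} [Fact p.Prime] [Fact q.Prime]

section field

variable {a : ℕ}

/-- SCH-BETA, with the statement of SCH-BETAEVEN as a hypothesis. -/
theorem sch_beta_core {F : Type u} [Field F] [Finite F]
    (μ : F)
    (heven : a % 2 = 0 → ∃ (C : AddSubgroup F) (β : F →+ F →+ C), Nat.card C = p ^ (a / 2) ∧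
      (∀ x x', β (μ * x) (μ * x') = β x x') ∧ (∀ c : C, ∃ x x', c = β x x' - β x' x))
    (a₀ : ℕ) (ha₀ : a₀ = if a % 2 = 1 then a else 3 * a / 2) :
    ∃ (C : Type u) (_ : AddCommGroup C) (_ : Finite C) (β : F →+ F →+ C),
      Nat.card C = p ^ (a₀ - a) ∧
      (∀ x x', β (μ * x) (μ * x') = β x x') ∧ (∀ c : C, ∃ x x', c = β x x' - β x' x) := by
  by_cases hodd : a % 2 = 1
  · -- odd case: trivial group
    rw [if_pos hodd] at ha₀
    subst ha₀
    refine ⟨PUnit.{u + 1}, inferInstance, inferInstance, 0, ?_, ?_, ?_⟩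
    · simp
    · intro x x'
      rfl
    · intro c
      exact ⟨0, 0, Subsingleton.elim _ _⟩
  · have hae : a % 2 = 0 := by omega
    rw [if_neg hodd] at ha₀
    obtain ⟨C, β, hcard, hinv, hfill⟩ := heven hae
    refine ⟨↥C, inferInstance, inferInstance, β, ?_, hinv, hfill⟩
    rw [hcard]
    congr 1
    omega

end field

end Cfsg.Agent.Helper20.Sch
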