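import Mathlib
import Cfsg.Prelude.Def_Transfer
import Cfsg.Agent.Lib.Helper20.SchDefs
import Cfsg.Agent.Lib.Helper8.SchBETACore
import Cfsg.Agent.Lib.Helper25.SchBETAEVEN

/-!
Piece SCH-BETA of S4395: assembly of the even case (SCH-BETAEVEN) and the odd case.
-/

set_option autoImplicit false

namespace Cfsg.Agent.Helper20.Sch

universe u

variable {p q : ℕ} [Fact p.Prime] [Fact q.Prime]

section field

variable {a : ℕ}

/-- SCH-BETA (assembly: even case from BETAEVEN, odd case `C = PUnit`). -/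
theorem exists_beta {F : Type u} [Field F] [Finite F] (hpq : p ≠ q)
    (ha : a = orderOf (p : ZMod q))
    (hF : Nat.card F = p ^ a) (μ : F) (hμ : orderOf μ = q)
    (a₀ : ℕ) (ha₀ : a₀ = if a % 2 = 1 then a else 3 * a / 2) :
    ∃ (C : Type u) (_ : AddCommGroup C) (_ : Finite C) (β : F →+ F →+ C),
      Nat.card C = p ^ (a₀ - a) ∧
      (∀ x x', β (μ * x) (μ * x') = β x x') ∧ (∀ c : C, ∃ x x', c = β x x' - β x' x) :=
  sch_beta_core μ (fun hae => exists_beta_even hpq ha hF μ hμ hae) a₀ ha₀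

end field

end Cfsg.Agent.Helper20.Sch
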