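import Mathlib
import Cfsg.Prelude.Def_Transfer
import Cfsg.Agent.Lib.Helper20.SchDefs

/-!
Piece SCH-FIBER of S4395 (core: the statement of SCH-Q is a hypothesis): the fibre product argument.
-/

set_option autoImplicit false

namespace Cfsg.Agent.Helper20.Sch

universe u

variable {p q : ℕ} [Fact p.Prime] [Fact q.Prime]

section universal

/-- the fibre product of `π₀ : G₀ → X/N` and `X → X/N` -/
def sch_fiber_Y {G₀ X : Type u} [Group G₀] [Group X] (N : Subgroup X) [N.Normal]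
    (π₀ : G₀ →* X ⧸ N) : Subgroup (G₀ × X) :=
  MonoidHom.eqLocus (π₀.comp (MonoidHom.fst G₀ X)) ((QuotientGroup.mk' N).comp (MonoidHom.snd G₀ X))

theorem sch_fiber_mem_Y {G₀ X : Type u} [Group G₀] [Group X] (N : Subgroup X) [N.Normal]
    (π₀ : G₀ →* X ⧸ N) (z : G₀ × X) :
    z ∈ sch_fiber_Y N π₀ ↔ π₀ z.1 = QuotientGroup.mk z.2 := Iff.rfl

/-- SCH-FIBER with SCH-Q as a hypothesis. -/
theorem sch_fiber_core {G₀ X : Type u} [Group G₀] [Group X] [Finite G₀] [Finite X]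
    {r a₀ : ℕ}
    (hcard : Nat.card G₀ = p ^ a₀ * q ^ r)
    (N : Subgroup X) [N.Normal] (hNc : N ≤ Subgroup.center X) (hNp : IsPGroup p N)
    (π₀ : G₀ →* X ⧸ N) (hπ₀ : Function.Surjective π₀) (hker : π₀.ker ≤ Subgroup.center G₀)
    (hfrat : ∀ H : Subgroup X, H ⊔ N = ⊤ → H = ⊤)
    (hbound : ∀ (Y : Type u) [Group Y] [Finite Y], MinNonPNilp p Y →
      ∀ t, Nat.card Y = p ^ t * q ^ r → t ≤ a₀)
    (hQ : ∀ (Y : Type u) [Group Y] [Finite Y] (f : Y →* G₀), Function.Surjective f →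
      f.ker ≤ Subgroup.center Y → (∀ K : Subgroup Y, K.map f = ⊤ → K = ⊤) → MinNonPNilp p Y) :
    ∃ φ : G₀ →* X, Function.Surjective φ ∧ φ.ker ≤ Subgroup.center G₀ := by
  classical
  set Y := sch_fiber_Y N π₀ with hY
  -- the family of subgroups of `Y` projecting onto `G₀`
  let 𝒮 : Set (Subgroup (G₀ × X)) := {K | K ≤ Y ∧ K.map (MonoidHom.fst G₀ X) = ⊤}
  have hYmem : Y ∈ 𝒮 := by
    refine ⟨le_rfl, ?_⟩
    rw [eq_top_iff]
    intro g _
    obtain ⟨x, hx⟩ := QuotientGroup.mk_surjective (π₀ g)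
    exact ⟨(g, x), (sch_fiber_mem_Y N π₀ (g, x)).mpr hx.symm, rfl⟩
  obtain ⟨Y₁, hY₁mem, hY₁min⟩ := (wellFounded_lt (α := Subgroup (G₀ × X))).has_min 𝒮 ⟨Y, hYmem⟩
  obtain ⟨hY₁le, hY₁top⟩ := hY₁mem
  -- the projection `f : Y₁ → G₀`
  let f : ↥Y₁ →* G₀ := (MonoidHom.fst G₀ X).comp Y₁.subtype
  have hfsurj : Function.Surjective f := by
    intro g
    have hg : g ∈ Y₁.map (MonoidHom.fst G₀ X) := by rw [hY₁top]; trivial
    obtain ⟨z, hz, rfl⟩ := hg
    exact ⟨⟨z, hz⟩, rfl⟩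
  -- elements of the kernel
  have hkerN : ∀ z : ↥Y₁, z ∈ f.ker → (z : G₀ × X).1 = 1 ∧ (z : G₀ × X).2 ∈ N := by
    intro z hz
    have h1 : (z : G₀ × X).1 = 1 := hz
    refine ⟨h1, ?_⟩
    have h2 := (sch_fiber_mem_Y N π₀ z).mp (hY₁le z.2)
    rw [h1, map_one] at h2
    exact (QuotientGroup.eq_one_iff _).mp h2.symm
  have hfker : f.ker ≤ Subgroup.center ↥Y₁ := by
    intro z hz
    obtain ⟨h1, h2⟩ := hkerN z hz
    rw [Subgroup.mem_center_iff]
    intro w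
    apply Subtype.ext
    apply Prod.ext
    · show (w : G₀ × X).1 * (z : G₀ × X).1 = (z : G₀ × X).1 * (w : G₀ × X).1
      rw [h1, mul_one, one_mul]
    · show (w : G₀ × X).2 * (z : G₀ × X).2 = (z : G₀ × X).2 * (w : G₀ × X).2
      exact Subgroup.mem_center_iff.mp (hNc h2) _
  have hfmin : ∀ K : Subgroup ↥Y₁, K.map f = ⊤ → K = ⊤ := by
    intro K hK
    have hK' : K.map Y₁.subtype ∈ 𝒮 := by
      refine ⟨?_, ?_⟩
      · intro z hz
        obtain ⟨w, _, rfl⟩ := hz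
        exact hY₁le w.2
      · rw [Subgroup.map_map]
        exact hK
    have hle : K.map Y₁.subtype ≤ Y₁ := by
      intro z hz
      obtain ⟨w, _, rfl⟩ := hz
      exact w.2
    have heq : K.map Y₁.subtype = Y₁ := by
      by_contra hne
      exact hY₁min _ hK' (lt_of_le_of_ne hle hne)
    rw [eq_top_iff]
    intro w _
    have hw : (w : G₀ × X) ∈ K.map Y₁.subtype := by rw [heq]; exact w.2
    obtain ⟨w', hw', hww⟩ := hw
    have : w' = w := Subtype.ext hww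
    rw [← this]
    exact hw'
  have hMin : MinNonPNilp p ↥Y₁ := hQ ↥Y₁ f hfsurj hfker hfmin
  -- the kernel is a `p`-group
  have hkerp : IsPGroup p f.ker := by
    intro z
    obtain ⟨h1, h2⟩ := hkerN z.1 z.2
    obtain ⟨k, hk⟩ := hNp ⟨_, h2⟩
    refine ⟨k, ?_⟩
    apply Subtype.ext
    apply Subtype.ext
    apply Prod.ext
    · show ((z : ↥Y₁) : G₀ × X).1 ^ p ^ k = 1
      rw [h1, one_pow]
    · show ((z : ↥Y₁) : G₀ × X).2 ^ p ^ k = 1
      exact congrArg Subtype.val hk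
  obtain ⟨s, hs⟩ := IsPGroup.iff_card.mp hkerp
  have hcardY : Nat.card ↥Y₁ = p ^ (s + a₀) * q ^ r := by
    have h1 : Nat.card ↥Y₁ = Nat.card (↥Y₁ ⧸ f.ker) * Nat.card f.ker :=
      Subgroup.card_eq_card_quotient_mul_card_subgroup f.ker
    have h2 : Nat.card (↥Y₁ ⧸ f.ker) = Nat.card G₀ :=
      Nat.card_congr (QuotientGroup.quotientKerEquivOfSurjective f hfsurj).toEquiv
    rw [h1, h2, hs, hcard, pow_add]
    ring
  have hs0 : s = 0 := by
    have := hbound ↥Y₁ hMin (s + a₀) hcardY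
    omega
  have hkerbot : f.ker = ⊥ := by
    rw [hs0, pow_zero] at hs
    exact Subgroup.card_eq_one.mp hs
  have hfinj : Function.Injective f := (MonoidHom.ker_eq_bot_iff f).mp hkerbot
  let e : ↥Y₁ ≃* G₀ := MulEquiv.ofBijective f ⟨hfinj, hfsurj⟩
  have he : ∀ z : ↥Y₁, e z = (z : G₀ × X).1 := fun z => rfl
  let φ : G₀ →* X := (MonoidHom.snd G₀ X).comp (Y₁.subtype.comp e.symm.toMonoidHom)
  have hφ : ∀ z : ↥Y₁, φ ((z : G₀ × X).1) = (z : G₀ × X).2 := by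
    intro z
    show ((e.symm ((z : G₀ × X).1) : ↥Y₁) : G₀ × X).2 = (z : G₀ × X).2
    rw [← he z, MulEquiv.symm_apply_apply]
  refine ⟨φ, ?_, ?_⟩
  · -- surjectivity
    have hH : Y₁.map (MonoidHom.snd G₀ X) ⊔ N = ⊤ := by
      rw [eq_top_iff]
      intro x _
      obtain ⟨g, hg⟩ := hπ₀ (QuotientGroup.mk x)
      obtain ⟨z, rfl⟩ := hfsurj g
      have h2 := (sch_fiber_mem_Y N π₀ z).mp (hY₁le z.2)
      have h3 : (QuotientGroup.mk ((z : G₀ × X).2) : X ⧸ N) = QuotientGroup.mk x := by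
        rw [← h2]; exact hg
      have h4 : ((z : G₀ × X).2)⁻¹ * x ∈ N := QuotientGroup.eq.mp h3
      have h5 : x = (z : G₀ × X).2 * (((z : G₀ × X).2)⁻¹ * x) := by group
      rw [h5]
      exact Subgroup.mul_mem _ (Subgroup.mem_sup_left ⟨z, z.2, rfl⟩) (Subgroup.mem_sup_right h4)
    have hH' := hfrat _ hH
    intro x
    have hx : x ∈ Y₁.map (MonoidHom.snd G₀ X) := by rw [hH']; trivial
    obtain ⟨z, hz, rfl⟩ := hx
    exact ⟨z.1, hφ ⟨z, hz⟩⟩
  · intro g hg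
    apply hker
    obtain ⟨z, rfl⟩ := hfsurj g
    have h1 : φ ((z : G₀ × X).1) = 1 := hg
    rw [hφ z] at h1
    have h2 := (sch_fiber_mem_Y N π₀ z).mp (hY₁le z.2)
    rw [h1] at h2
    show π₀ ((z : G₀ × X).1) = 1
    rw [h2]
    rfl

end universal

end Cfsg.Agent.Helper20.Sch
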