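import Mathlib
import Cfsg.Prelude.Def_Transfer
import Cfsg.Agent.Lib.Helper20.SchDefs
import Cfsg.Agent.Lib.Helper8.SchFIBERCore
import Cfsg.Agent.Lib.Helper28.SchQ

/-!
Piece SCH-FIBER of S4395: the fibre product argument (assembly of the core with SCH-Q).
-/

set_option autoImplicit false

namespace Cfsg.Agent.Helper20.Sch

universe u

variable {p q : ℕ} [Fact p.Prime] [Fact q.Prime]

section universal

/-- SCH-FIBER : the fibre product argument. -/
theorem exists_hom_of_cover {G₀ X : Type u} [Group G₀] [Group X] [Finite G₀] [Finite X]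
    (hpq : p ≠ q) {r a₀ : ℕ}
    (hG₀ : MinNonPNilp p G₀) (hcard : Nat.card G₀ = p ^ a₀ * q ^ r)
    (N : Subgroup X) [N.Normal] (hNc : N ≤ Subgroup.center X) (hNp : IsPGroup p N)
    (π₀ : G₀ →* X ⧸ N) (hπ₀ : Function.Surjective π₀) (hker : π₀.ker ≤ Subgroup.center G₀)
    (hfrat : ∀ H : Subgroup X, H ⊔ N = ⊤ → H = ⊤)
    (hbound : ∀ (Y : Type u) [Group Y] [Finite Y], MinNonPNilp p Y →
      ∀ t, Nat.card Y = p ^ t * q ^ r → t ≤ a₀) :
    ∃ φ : G₀ →* X, Function.Surjective φ ∧ φ.ker ≤ Subgroup.center G₀ :=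
  sch_fiber_core (q := q) hcard N hNc hNp π₀ hπ₀ hker hfrat hbound
    (fun Y _ _ f hf hk hm => minNonPNilp_of_cover f hf hk hG₀ hm)

end universal

end Cfsg.Agent.Helper20.Sch
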