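import Mathlib
import Cfsg.Agent.Lib.Helper8.TIG5Defs
import Cfsg.Agent.Lib.Helper11.TIG52A
import Cfsg.Agent.Lib.Helper23.TIG52B
import Cfsg.Agent.Lib.Helper13.TIG53A
import Cfsg.Agent.Lib.Helper25.TIG53B
import Cfsg.Agent.Lib.Helper19.TIG5P4
import Cfsg.Agent.Lib.Helper22.TIG55
import Cfsg.Agent.Lib.Helper7.TIG56A
import Cfsg.Agent.Lib.Helper1.TIG56B
import Cfsg.Agent.Lib.Helper2.TIG57

/-!
# S1786 Part G, step G5 (GOAL B): `G5Data V A P PA U → V ≤ PA` (assembly of the pieces `TI-G5-*`)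
-/

set_option autoImplicit false

namespace Cfsg.Agent.Helper26.TI

variable {G : Type*} [Group G] {V A P PA U : Subgroup G}

/-- G5 (assembly). -/
theorem g5_main (h : G5Data V A P PA U) : V ≤ PA := by
  by_contra hn
  have hnt : NoTwist V A PA := by
    intro y hy v hv hA
    by_contra h1
    exact hn (h.twist y hy v hv hA h1)
  have h2 := g5_comm_mem_E h hnt
  have hVPA := g5_V_inf_PA h hnt
  have hcD := g5_centerD h
  have hI := g5_P_inf_PA h hVPA hcD
  have h4 := g5_comm_D_E h hI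
  have h5 := g5_comm_PA_D h hnt h2 h4
  have hDsq := g5_D_sq h hnt h4 h5
  have hDW := g5_D_le_W h hcD hDsq
  have hEA := g5_E_le_A h hVPA hDW hDsq
  obtain ⟨v, hv, hv1⟩ := h.V_ne
  apply hv1
  have hvA : v ∈ A := by
    apply h.cent_PA v
    · intro a ha
      exact h.VA_comm v hv a ha
    · intro y hy
      have h1 : cm y v = 1 := hnt y hy v hv (hEA _ (h2 y hy v hv))
      have h3 : y * v * y⁻¹ * v⁻¹ = 1 := h1
      calc v * y = (y * v * y⁻¹ * v⁻¹)⁻¹ * (y * v) := by group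
        _ = y * v := by rw [h3]; simp
  exact h.VA_inf v hv hvA

end Cfsg.Agent.Helper26.TI
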