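import Mathlib
import Cfsg.Agent.Lib.Helper8.TIG5Defs
import Cfsg.Agent.Lib.Helper24.TIG01

/-!
# S1786 Part G, G5 step (1): the field `twist` of `G5Data` from TI + partition + `P(B)` well defined
-/

set_option autoImplicit false

namespace Cfsg.Agent.Helper26.TI

open Cfsg.Agent.Helper24.TI

variable {G : Type*} [Group G]

/-- conjugation of a subgroup, elementwise -/
theorem g5_twist_mem_map (K : Subgroup G) (x k : G) (hk : k ∈ K) :
    x * k * x⁻¹ ∈ K.map (MulAut.conj x).toMonoidHom :=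
  Subgroup.mem_map.mpr ⟨k, hk, rfl⟩

/-- Step (1) of G5: if `y ∈ PA = ^gP` twists `v ∈ V` by a nontrivial element of `A = ^gV`, then `V ≤ PA`. -/
theorem g5_twist_of (V P U : Subgroup G) (g : G)
    (hti : ∀ x : G, V.map (MulAut.conj x).toMonoidHom = V ∨ V.map (MulAut.conj x).toMonoidHom ⊓ V = ⊥)
    (hnormP : ∀ m : G, V.map (MulAut.conj m).toMonoidHom = V → P.map (MulAut.conj m).toMonoidHom = P)
    (hVP : V ≤ P)
    (hAP : V.map (MulAut.conj g).toMonoidHom ≤ P)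
    (hVA : ∀ x, x ∈ V → x ∈ V.map (MulAut.conj g).toMonoidHom → x = 1)
    (hAc : ∀ a ∈ V.map (MulAut.conj g).toMonoidHom, ∀ y ∈ P.map (MulAut.conj g).toMonoidHom, a * y = y * a)
    (hpart : ∀ v ∈ V, ∀ a ∈ V.map (MulAut.conj g).toMonoidHom, a ≠ 1 →
      ∃ u ∈ U, a * v ∈ (V.map (MulAut.conj g).toMonoidHom).map (MulAut.conj u).toMonoidHom)
    (hsurj : ∀ u ∈ U, u ≠ 1 → ∀ v ∈ V, ∃ a ∈ V.map (MulAut.conj g).toMonoidHom, cm a u = v) :
    ∀ y ∈ P.map (MulAut.conj g).toMonoidHom, ∀ v ∈ V,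
      cm y v ∈ V.map (MulAut.conj g).toMonoidHom → cm y v ≠ 1 →
      V ≤ P.map (MulAut.conj g).toMonoidHom := by
  intro y hy v hv hcA hc1
  set A := V.map (MulAut.conj g).toMonoidHom with hA
  set PA := P.map (MulAut.conj g).toMonoidHom with hPA
  have hAPA : A ≤ PA := Subgroup.map_mono hVP
  have hyv : y * v * y⁻¹ = cm y v * v := by unfold cm; group
  obtain ⟨u, hu, hmem⟩ := hpart v hv (cm y v) hcA hc1
  -- `u ≠ 1`
  have hu1 : u ≠ 1 := by
    intro h
    rw [h] at hmem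
    have h1 : cm y v * v ∈ A := by
      have := (ti_mem_conj_iff A 1 (cm y v * v)).mp hmem
      simpa using this
    have h2 : v ∈ A := by
      have : v = (cm y v)⁻¹ * (cm y v * v) := by group
      rw [this]
      exact A.mul_mem (A.inv_mem hcA) h1
    have h3 : v = 1 := hVA v hv h2
    apply hc1
    rw [h3]
    unfold cm
    group
  -- the element `cm y v * v` is nontrivial
  have hne : cm y v * v ≠ 1 := by
    intro h
    have h1 : cm y v = v⁻¹ := eq_inv_of_mul_eq_one_left h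
    have h2 : cm y v ∈ V := by rw [h1]; exact V.inv_mem hv
    exact hc1 (hVA _ h2 hcA)
  -- `^yV = ^(ug)V`
  have hconj : V.map (MulAut.conj y).toMonoidHom = V.map (MulAut.conj (u * g)).toMonoidHom := by
    by_contra hne'
    have hbot := ti_inf_eq_bot V hti y (u * g) hne'
    have h1 : cm y v * v ∈ V.map (MulAut.conj y).toMonoidHom := by
      rw [← hyv]
      exact g5_twist_mem_map V y v hv
    have h2 : cm y v * v ∈ V.map (MulAut.conj (u * g)).toMonoidHom := by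
      rw [← ti_conj_conj]
      exact hmem
    have h3 : cm y v * v ∈ V.map (MulAut.conj y).toMonoidHom ⊓ V.map (MulAut.conj (u * g)).toMonoidHom :=
      ⟨h1, h2⟩
    rw [hbot, Subgroup.mem_bot] at h3
    exact hne h3
  -- `n = u⁻¹ y` carries `V` to `A`, hence `P` to `PA`
  have hnV : V.map (MulAut.conj (g⁻¹ * (u⁻¹ * y))).toMonoidHom = V := by
    have e1 : g⁻¹ * (u⁻¹ * y) = (g⁻¹ * u⁻¹) * y := by group
    rw [e1, ← ti_conj_conj, hconj, ti_conj_conj]
    have e2 : g⁻¹ * u⁻¹ * (u * g) = 1 := by group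
    rw [e2]
    ext z
    simp
  have hnP := hnormP _ hnV
  have hnPA : P.map (MulAut.conj (u⁻¹ * y)).toMonoidHom = PA := by
    have e1 : u⁻¹ * y = g * (g⁻¹ * (u⁻¹ * y)) := by group
    rw [e1, ← ti_conj_conj, hnP]
  -- `u⁻¹ a u ∈ PA` for `a ∈ A`
  have hconjA : ∀ a ∈ A, u⁻¹ * a * u ∈ PA := by
    intro a ha
    have h1 : (u⁻¹ * y) * a * (u⁻¹ * y)⁻¹ ∈ P.map (MulAut.conj (u⁻¹ * y)).toMonoidHom :=
      g5_twist_mem_map P (u⁻¹ * y) a (hAP ha)
    rw [hnPA] at h1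
    have h2 : (u⁻¹ * y) * a * (u⁻¹ * y)⁻¹ = u⁻¹ * (y * a * y⁻¹) * u := by group
    have h3 : y * a * y⁻¹ = a := by
      rw [← hAc a ha y hy]
      group
    rw [h2, h3] at h1
    exact h1
  -- conclusion
  intro v' hv'
  obtain ⟨a, ha, hav⟩ := hsurj u⁻¹ (U.inv_mem hu) (by simpa using hu1) v'⁻¹ (V.inv_mem hv')
  have h1 : v' = (u⁻¹ * a * u) * a⁻¹ := by
    have h2 : v'⁻¹ = a * u⁻¹ * a⁻¹ * u⁻¹⁻¹ := by rw [← hav]; rfl
    have h3 : v' = (a * u⁻¹ * a⁻¹ * u⁻¹⁻¹)⁻¹ := by rw [← h2]; simp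
    rw [h3]
    group
  rw [h1]
  exact PA.mul_mem (hconjA a ha) (PA.inv_mem (hAPA ha))

end Cfsg.Agent.Helper26.TI
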