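import Mathlib
import Cfsg.Agent.Lib.Helper26.TIDefs2
import Cfsg.Agent.Lib.Helper8.TIG5Defs
import Cfsg.Agent.Lib.Helper8.TIG5Main
import Cfsg.Agent.Lib.Helper8.TIG5Twist
import Cfsg.Agent.Lib.Helper19.TILEMA
import Cfsg.Agent.Lib.Helper22.TIPHI1
import Cfsg.Agent.Lib.Helper27.TIPHI2
import Cfsg.Agent.Lib.Helper13.TIUNIF

/-!
# S1786 Part G, GOAL B: `Cfg1 V P A PA U → V ≤ PA`  (bridge `Cfg1 → G5Data`, then `g5_main`)
-/

set_option autoImplicit false

namespace Cfsg.Agent.Helper26.TI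

variable {G : Type*} [Group G]

section GoalB
variable {V P A PA U : Subgroup G}

/-- a subgroup centralized elementwise by `t` is fixed by conjugation with `t` -/
theorem g5br_cj_eq_of_comm (K : Subgroup G) (t : G) (h : ∀ k ∈ K, t * k = k * t) : cj t K = K := by
  ext z
  rw [mem_cj']
  constructor
  · intro hz
    have h1 := h _ hz
    have h2 : z = t⁻¹ * z * t := by
      have : t * (t⁻¹ * z * t) = z * t := by group
      rw [this] at h1
      have h3 : z * t = t⁻¹ * z * t * t := h1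
      exact mul_right_cancel h3
    rw [h2]; exact hz
  · intro hz
    have h1 := h z hz
    have : t⁻¹ * z * t = z := by
      calc t⁻¹ * z * t = t⁻¹ * (z * t) := by group
        _ = t⁻¹ * (t * z) := by rw [h1]
        _ = z := by group
    rw [this]; exact hz

/-- `C(V)` normalizes `P` -/
theorem g5br_norm (h : Loc V P) (t : G) (ht : ∀ v ∈ V, t * v = v * t) :
    ∀ x ∈ P, t * x * t⁻¹ ∈ P := by
  intro x hx
  have h1 : cj t V = V := g5br_cj_eq_of_comm V t ht
  have h2 : cj t P = P := h.norm t h1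
  have h3 : t * x * t⁻¹ ∈ cj t P := conj_mem_cj hx
  rwa [h2] at h3

theorem g5br_V_ne (h : Cfg V P A PA) : ∃ v ∈ V, v ≠ 1 := by
  by_contra hcon
  push Not at hcon
  have hV : V = ⊥ := by
    rw [eq_bot_iff]
    intro v hv
    exact Subgroup.mem_bot.mpr (hcon v hv)
  obtain ⟨g, hA, -⟩ := h.conj
  apply h.ne
  rw [hA, hV, cj_bot]

/-- the bridge: the configuration `Cfg1` gives the data of G5 -/
theorem g5br_data [Finite G] (h : Cfg1 V P A PA U) : G5Data V A P PA U := by
  obtain ⟨g, hAg, hPAg⟩ := h.conj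
  obtain ⟨k, hUk⟩ := h.conjU
  have hVne := g5br_V_ne h.toCfg
  have hVsq : ∀ v ∈ V, v * v = 1 := h.loc.base.sq
  have hVinv : ∀ v ∈ V, v⁻¹ = v := fun v hv => inv_eq_of_mul_eq_one_left (hVsq v hv)
  have hVAc : ∀ v ∈ V, ∀ a ∈ A, v * a = a * v := fun v hv a ha => (h.loc.cent a (h.le ha) v hv).symm
  have hVAinf : ∀ x, x ∈ V → x ∈ A → x = 1 := by
    intro x hxV hxA
    have h1 : x ∈ A ⊓ V := ⟨hxA, hxV⟩
    rw [h.toCfg.inf_eq_bot] at h1
    exact Subgroup.mem_bot.mp h1
  have hsurj : ∀ u ∈ U, u ≠ 1 → ∀ v ∈ V, ∃ a ∈ A, cm a u = v := by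
    intro u hu hu1 v hv
    obtain ⟨a, ha, hua⟩ := h.surjA hu hu1 hv
    refine ⟨a, ha, ?_⟩
    have h1 : cm a u = (u * a * u⁻¹ * a⁻¹)⁻¹ := by unfold cm; group
    rw [h1, hua, hVinv v hv]
  refine
    { V_ne := hVne
      U_ne := ?_
      V_sq := hVsq
      A_sq := h.locA.base.sq
      U_sq := ?_
      VA_comm := hVAc
      VA_inf := hVAinf
      UV_inf := ?_
      V_le_P := h.loc.V_le
      A_le_P := h.le
      U_le_P := h.U_le
      V_central := fun v hv x hx => (h.loc.cent x hx v hv).symm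
      comm_P := fun x hx y hy => h.loc.comm x hx y hy
      sq_P := h.loc.sq
      center_P := h.loc.center
      cent_P := h.loc.self
      norm_P := g5br_norm h.loc
      A_le_PA := h.locA.V_le
      A_central := fun a ha y hy => (h.locA.cent y hy a ha).symm
      comm_PA := fun x hx y hy => h.locA.comm x hx y hy
      sq_PA := h.locA.sq
      cent_PA := h.locA.self
      norm_PA := g5br_norm h.locA
      g0_U := ?_
      phi_surj := hsurj
      phi_inj := ?_
      P_eq := ?_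
      g4 := h.unif
      twist := ?_ }
  · -- U_ne
    obtain ⟨v, hv, hv1⟩ := hVne
    refine ⟨k * v * k⁻¹, ?_, ?_⟩
    · rw [hUk]; exact conj_mem_cj hv
    · intro hcon
      apply hv1
      have : v = k⁻¹ * (k * v * k⁻¹) * k := by group
      rw [this, hcon]; group
  · -- U_sq
    intro u hu
    rw [hUk] at hu
    exact (h.loc.base.conj k).sq u hu
  · -- UV_inf
    intro x hxU hxV
    have hne : cj k V ≠ cj 1 V := by
      rw [cj_one, ← hUk]; exact h.U_ne
    have h1 := h.loc.base.inf_eq_bot hne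
    rw [cj_one, ← hUk] at h1
    have h2 : x ∈ U ⊓ V := ⟨hxU, hxV⟩
    rw [h1] at h2
    exact Subgroup.mem_bot.mp h2
  · -- g0_U
    intro u hu hu1 c hc u' hu'
    have h1 : cj c (cj k V) = cj k V :=
      h.loc.base.cent_le_norm (x := k) (b := u) (c := c) (hUk ▸ hu) hu1 hc
    rw [← hUk] at h1
    have h2 : c * u' * c⁻¹ ∈ cj c U := conj_mem_cj hu'
    rwa [h1] at h2
  · -- phi_inj
    intro x hx a ha ha1 hax a' ha'
    exact (h.toCfg.dich hx ha ha1 hax.symm a' ha').symm
  · -- P_eq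
    intro x hx
    obtain ⟨u, hu, hd⟩ := h.decomp hx
    refine ⟨u, hu, u⁻¹ * x, P.mul_mem (P.inv_mem (h.U_le hu)) hx, hd, ?_⟩
    group
  · -- twist
    subst hAg
    subst hPAg
    refine g5_twist_of V P U g h.loc.base.ti h.loc.norm h.loc.V_le h.le
      (fun x hxV hxA => hVAinf x hxV hxA)
      (fun a ha y hy => (h.locA.cent y hy a ha).symm) ?_ hsurj
    intro v hv a ha ha1
    obtain ⟨u, hu, hmem⟩ := h.partition hv ha ha1
    refine ⟨u, hu, ?_⟩
    rw [← hVAc v hv a ha]
    exact hmem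

/-- GOAL B. -/
theorem Cfg1.goalB [Finite G] (h : Cfg1 V P A PA U) : V ≤ PA :=
  g5_main (g5br_data h)

end GoalB

end Cfsg.Agent.Helper26.TI
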