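import Mathlib
import Cfsg.Agent.Lib.Helper23.SlhDefs

/-!
Piece SLH-B2 of S3050 (Higman): the relations coming from the fixed-point-free elements of order 3.
-/

set_option autoImplicit false
set_option linter.unusedSectionVars false
set_option linter.unusedVariables false

namespace Cfsg.Agent.Helper23.Slh

open Cfsg.Agent.Helper12.NatMod

local notation "SL2" => Matrix.SpecialLinearGroup (Fin 2)

section Blocks

variable {F : Type*} [Field F] [CharP F 2] {R : Type*} [Ring R]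

/-- in characteristic 2, `g = uu c * ll c⁻¹` satisfies `g * g = ll c⁻¹ * uu c` -/
theorem slh_b2_sq (c : Fˣ) :
    uu (c : F) * ll ((c⁻¹ : Fˣ) : F) * (uu (c : F) * ll ((c⁻¹ : Fˣ) : F)) =
      ll ((c⁻¹ : Fˣ) : F) * uu (c : F) := by
  apply sl2_ext
  have h11 : (1 : F) + 1 = 0 := CharTwo.add_self_eq_zero 1
  simp only [Matrix.SpecialLinearGroup.coe_mul, uu_coe, ll_coe, Matrix.mul_fin_two]
  ext i j
  fin_cases i <;> fin_cases j <;> simp [h11]

theorem slh_b2_add_self (h2 : (2 : R) = 0) (x : R) : x + x = 0 := by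
  rw [← two_mul, h2, zero_mul]

theorem slh_b2_eq_of_add_eq_zero (h2 : (2 : R) = 0) {x y : R} (h : x + y = 0) : x = y := by
  have h1 : x = -y := eq_neg_of_add_eq_zero_left h
  have h3 : -y = y := neg_eq_of_add_eq_zero_left (slh_b2_add_self h2 y)
  rw [h1, h3]

theorem blockRel2 (h2 : (2 : R) = 0) (P : SL2 F →* Matrix (Fin 2) (Fin 2) R)
    (α β : F → R) (hD : BlockData P α β) (h1 : BlockRel1 α β)
    (hfpf : ∀ c : Fˣ, 1 + P (uu (c : F) * ll ((c⁻¹ : Fˣ) : F)) +
      P (uu (c : F) * ll ((c⁻¹ : Fˣ) : F)) * P (uu (c : F) * ll ((c⁻¹ : Fˣ) : F)) = 0) :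
    BlockRel2 α β := by
  have key : ∀ c : Fˣ,
      (1 : Matrix (Fin 2) (Fin 2) R) +
        !![α (c : F), β (c : F); 0, α (c : F)] *
          !![α ((c⁻¹ : Fˣ) : F), 0; β ((c⁻¹ : Fˣ) : F), α ((c⁻¹ : Fˣ) : F)] +
        !![α ((c⁻¹ : Fˣ) : F), 0; β ((c⁻¹ : Fˣ) : F), α ((c⁻¹ : Fˣ) : F)] *
          !![α (c : F), β (c : F); 0, α (c : F)] = 0 := by
    intro c
    have h := hfpf c
    rw [← map_mul, slh_b2_sq c, map_mul, map_mul, hD.uu_eq, hD.ll_eq] at h
    exact h
  constructor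
  · intro c
    have h := congrFun (congrFun (key c) 0) 0
    simp only [Matrix.mul_fin_two, Matrix.add_apply, Matrix.one_apply_eq, Matrix.of_apply,
      Matrix.cons_val_zero, Matrix.zero_apply, mul_zero, zero_mul, add_zero] at h
    -- h : 1 + (α c * α d + β c * β d) + α d * α c = 0
    have hcomm := h1.α_comm (c : F) ((c⁻¹ : Fˣ) : F)
    have h3 : (1 : R) + β (c : F) * β ((c⁻¹ : Fˣ) : F) = 0 := by
      have h4 := slh_b2_add_self h2 (α ((c⁻¹ : Fˣ) : F) * α (c : F))
      rw [hcomm] at h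
      calc (1 : R) + β (c : F) * β ((c⁻¹ : Fˣ) : F)
          = (1 + (α ((c⁻¹ : Fˣ) : F) * α (c : F) + β (c : F) * β ((c⁻¹ : Fˣ) : F)) +
              α ((c⁻¹ : Fˣ) : F) * α (c : F)) -
              (α ((c⁻¹ : Fˣ) : F) * α (c : F) + α ((c⁻¹ : Fˣ) : F) * α (c : F)) := by abel
        _ = 0 := by rw [h, h4, sub_zero]
    exact (slh_b2_eq_of_add_eq_zero h2 h3).symm
  · intro c
    have h := congrFun (congrFun (key c) 0) 1
    simp only [Matrix.mul_fin_two, Matrix.add_apply, Matrix.of_apply,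
      Matrix.cons_val_zero, Matrix.cons_val_one, Matrix.zero_apply, mul_zero, zero_mul, add_zero,
      zero_add] at h
    have h01 : (1 : Matrix (Fin 2) (Fin 2) R) 0 1 = 0 := Matrix.one_apply_ne (by decide)
    rw [h01, zero_add] at h
    exact (slh_b2_eq_of_add_eq_zero h2 h).symm

end Blocks

end Cfsg.Agent.Helper23.Slh
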