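import Mathlib
import Cfsg.Agent.Lib.Helper23.SlhDefs
import Cfsg.Agent.Lib.Helper13.SlhBIL

/-!
Piece SLH-GCOMM of S3050 (Higman): if `Z(Q)` and `Q/Z(Q)` are in normal form then `Q` is abelian.
-/

set_option autoImplicit false
set_option linter.unusedSectionVars false
set_option linter.unusedVariables false

namespace Cfsg.Agent.Helper23.Slh

open Cfsg.Agent.Helper12.NatMod

local notation "SL2" => Matrix.SpecialLinearGroup (Fin 2)

section PartG

/-- the commutator as an element of the centre, when `Q / Z(Q)` is abelian -/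
def slh_gcomm_cm {Q : Type*} [Group Q]
    (hab : ∀ a b : Q, a * b * a⁻¹ * b⁻¹ ∈ Subgroup.center Q) (a b : Q) : ↥(Subgroup.center Q) :=
  ⟨a * b * a⁻¹ * b⁻¹, hab a b⟩

theorem slh_gcomm_cm_mul_left {Q : Type*} [Group Q]
    (hab : ∀ a b : Q, a * b * a⁻¹ * b⁻¹ ∈ Subgroup.center Q) (a a' b : Q) :
    slh_gcomm_cm hab (a * a') b = slh_gcomm_cm hab a b * slh_gcomm_cm hab a' b := by
  apply Subtype.ext
  have hc : ∀ y : Q, y * (a' * b * a'⁻¹ * b⁻¹) = (a' * b * a'⁻¹ * b⁻¹) * y := fun y =>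
    (Subgroup.mem_center_iff.mp (hab a' b) y)
  show a * a' * b * (a * a')⁻¹ * b⁻¹ = (a * b * a⁻¹ * b⁻¹) * (a' * b * a'⁻¹ * b⁻¹)
  have h1 : a * a' * b * (a * a')⁻¹ * b⁻¹ =
      a * (a' * b * a'⁻¹ * b⁻¹) * a⁻¹ * (a * b * a⁻¹ * b⁻¹) := by group
  rw [h1, hc a, hc (a * b * a⁻¹ * b⁻¹)]
  group

theorem slh_gcomm_cm_mul_right {Q : Type*} [Group Q]
    (hab : ∀ a b : Q, a * b * a⁻¹ * b⁻¹ ∈ Subgroup.center Q) (a b b' : Q) :
    slh_gcomm_cm hab a (b * b') = slh_gcomm_cm hab a b * slh_gcomm_cm hab a b' := by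
  apply Subtype.ext
  have hc : ∀ y : Q, y * (a * b' * a⁻¹ * b'⁻¹) = (a * b' * a⁻¹ * b'⁻¹) * y := fun y =>
    (Subgroup.mem_center_iff.mp (hab a b') y)
  show a * (b * b') * a⁻¹ * (b * b')⁻¹ = (a * b * a⁻¹ * b⁻¹) * (a * b' * a⁻¹ * b'⁻¹)
  have h1 : a * (b * b') * a⁻¹ * (b * b')⁻¹ = (a * b * a⁻¹ * b⁻¹) * (b * (a * b' * a⁻¹ * b'⁻¹)) * b⁻¹ := by
    group
  rw [h1, hc b]
  group

theorem slh_gcomm_cm_central_left {Q : Type*} [Group Q]
    (hab : ∀ a b : Q, a * b * a⁻¹ * b⁻¹ ∈ Subgroup.center Q) (z b : Q) (hz : z ∈ Subgroup.center Q) :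
    slh_gcomm_cm hab z b = 1 := by
  apply Subtype.ext
  show z * b * z⁻¹ * b⁻¹ = 1
  have h := Subgroup.mem_center_iff.mp hz b
  -- h : b * z = z * b
  rw [← h]
  group

theorem slh_gcomm_cm_central_right {Q : Type*} [Group Q]
    (hab : ∀ a b : Q, a * b * a⁻¹ * b⁻¹ ∈ Subgroup.center Q) (a z : Q) (hz : z ∈ Subgroup.center Q) :
    slh_gcomm_cm hab a z = 1 := by
  apply Subtype.ext
  show a * z * a⁻¹ * z⁻¹ = 1
  have h := Subgroup.mem_center_iff.mp hz a
  -- h : a * z = z * a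
  rw [h]
  group

theorem slh_gcomm_cm_congr {Q : Type*} [Group Q]
    (hab : ∀ a b : Q, a * b * a⁻¹ * b⁻¹ ∈ Subgroup.center Q) {a a' b b' : Q}
    (ha : (QuotientGroup.mk a : Q ⧸ Subgroup.center Q) = QuotientGroup.mk a')
    (hb : (QuotientGroup.mk b : Q ⧸ Subgroup.center Q) = QuotientGroup.mk b') :
    slh_gcomm_cm hab a b = slh_gcomm_cm hab a' b' := by
  have ha' : a⁻¹ * a' ∈ Subgroup.center Q := QuotientGroup.eq.mp ha
  have hb' : b⁻¹ * b' ∈ Subgroup.center Q := QuotientGroup.eq.mp hb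
  have e1 : a' = a * (a⁻¹ * a') := by group
  have e2 : b' = b * (b⁻¹ * b') := by group
  have h1 : slh_gcomm_cm hab (a * (a⁻¹ * a')) (b * (b⁻¹ * b')) = slh_gcomm_cm hab a b := by
    rw [slh_gcomm_cm_mul_left hab a (a⁻¹ * a') (b * (b⁻¹ * b')),
      slh_gcomm_cm_central_left hab (a⁻¹ * a') (b * (b⁻¹ * b')) ha', mul_one,
      slh_gcomm_cm_mul_right hab a b (b⁻¹ * b'),
      slh_gcomm_cm_central_right hab a (b⁻¹ * b') hb', mul_one]
  rw [← h1, ← e1, ← e2]

variable {Γ : Type*} [Group Γ] {F : Type*} [Field F] {S : Sys Γ F}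

theorem comm_of_nf [CharP F 2] (hF : ∃ s : F, s ≠ 0 ∧ s ≠ 1) {Q : Type*} [Group Q] [Finite Q] (A : GGrp S Q)
    (AZ : GGrp S ↥(Subgroup.center Q))
    (hAZ : ∀ (g : Γ) (z : ↥(Subgroup.center Q)), ((AZ.φ g z : ↥(Subgroup.center Q)) : Q) = A.φ g (z : Q))
    (AQ : GGrp S (Q ⧸ Subgroup.center Q))
    (hAQ : ∀ (g : Γ) (y : Q), AQ.φ g (QuotientGroup.mk y) = QuotientGroup.mk (A.φ g y))
    (hZ : AZ.NF) (hQ : AQ.NF) : ∀ a b : Q, a * b = b * a := by
  obtain ⟨kz, ψZ, hψZ⟩ := hZ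
  obtain ⟨kq, ψQ, hψQ⟩ := hQ
  -- the quotient is abelian
  have hqab : ∀ x y : Q ⧸ Subgroup.center Q, x * y = y * x := by
    intro x y
    apply ψQ.injective
    rw [map_mul, map_mul, mul_comm]
  have hab : ∀ a b : Q, a * b * a⁻¹ * b⁻¹ ∈ Subgroup.center Q := by
    intro a b
    rw [← QuotientGroup.eq_one_iff]
    have h := hqab (QuotientGroup.mk a) (QuotientGroup.mk b)
    simp only [QuotientGroup.mk_mul, QuotientGroup.mk_inv]
    rw [h]
    group
  -- a section of the coordinates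
  have hsurj : ∀ v : Fin kq → Fin 2 → F, ∃ a : Q,
      ψQ (QuotientGroup.mk a) = Multiplicative.ofAdd v := by
    intro v
    obtain ⟨x, hx⟩ := ψQ.surjective (Multiplicative.ofAdd v)
    obtain ⟨a, rfl⟩ := QuotientGroup.mk_surjective x
    exact ⟨a, hx⟩
  choose sec hsec using hsurj
  let B : (Fin kq → Fin 2 → F) → (Fin kq → Fin 2 → F) → (Fin kz → Fin 2 → F) :=
    fun v w => Multiplicative.toAdd (ψZ (slh_gcomm_cm hab (sec v) (sec w)))
  -- independence of the choice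
  have key : ∀ a b : Q, Multiplicative.toAdd (ψZ (slh_gcomm_cm hab a b)) =
      B (Multiplicative.toAdd (ψQ (QuotientGroup.mk a))) (Multiplicative.toAdd (ψQ (QuotientGroup.mk b))) := by
    intro a b
    show _ = Multiplicative.toAdd (ψZ (slh_gcomm_cm hab _ _))
    have h1 : (QuotientGroup.mk a : Q ⧸ Subgroup.center Q) =
        QuotientGroup.mk (sec (Multiplicative.toAdd (ψQ (QuotientGroup.mk a)))) := by
      apply ψQ.injective
      rw [hsec]
      rfl
    have h2 : (QuotientGroup.mk b : Q ⧸ Subgroup.center Q) =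
        QuotientGroup.mk (sec (Multiplicative.toAdd (ψQ (QuotientGroup.mk b)))) := by
      apply ψQ.injective
      rw [hsec]
      rfl
    rw [slh_gcomm_cm_congr hab h1 h2]
  have hadd1 : ∀ v v' w, B (v + v') w = B v w + B v' w := by
    intro v v' w
    have h1 : (QuotientGroup.mk (sec (v + v')) : Q ⧸ Subgroup.center Q) =
        QuotientGroup.mk (sec v * sec v') := by
      apply ψQ.injective
      rw [hsec, QuotientGroup.mk_mul, map_mul, hsec, hsec]
      rfl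
    show Multiplicative.toAdd (ψZ (slh_gcomm_cm hab (sec (v + v')) (sec w))) = _
    rw [slh_gcomm_cm_congr hab h1 rfl, slh_gcomm_cm_mul_left, map_mul]
    rfl
  have hadd2 : ∀ v w w', B v (w + w') = B v w + B v w' := by
    intro v w w'
    have h1 : (QuotientGroup.mk (sec (w + w')) : Q ⧸ Subgroup.center Q) =
        QuotientGroup.mk (sec w * sec w') := by
      apply ψQ.injective
      rw [hsec, QuotientGroup.mk_mul, map_mul, hsec, hsec]
      rfl
    show Multiplicative.toAdd (ψZ (slh_gcomm_cm hab (sec v) (sec (w + w')))) = _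
    rw [slh_gcomm_cm_congr hab rfl h1, slh_gcomm_cm_mul_right, map_mul]
    rfl
  have heq : ∀ (g : SL2 F) v w,
      B (fun i => (g : Matrix (Fin 2) (Fin 2) F).mulVec (v i))
        (fun i => (g : Matrix (Fin 2) (Fin 2) F).mulVec (w i)) =
        fun i => (g : Matrix (Fin 2) (Fin 2) F).mulVec (B v w i) := by
    intro g0 v w
    obtain ⟨g, rfl⟩ := S.surj g0
    -- the coordinates of the images
    have hv : Multiplicative.toAdd (ψQ (QuotientGroup.mk (A.φ g (sec v)))) =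
        fun i => ((S.π g : SL2 F) : Matrix (Fin 2) (Fin 2) F).mulVec (v i) := by
      funext i
      rw [← hAQ, hψQ, hsec]
      rfl
    have hw : Multiplicative.toAdd (ψQ (QuotientGroup.mk (A.φ g (sec w)))) =
        fun i => ((S.π g : SL2 F) : Matrix (Fin 2) (Fin 2) F).mulVec (w i) := by
      funext i
      rw [← hAQ, hψQ, hsec]
      rfl
    rw [← hv, ← hw, ← key]
    have hcm : slh_gcomm_cm hab (A.φ g (sec v)) (A.φ g (sec w)) =
        AZ.φ g (slh_gcomm_cm hab (sec v) (sec w)) := by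
      apply Subtype.ext
      rw [hAZ]
      show A.φ g (sec v) * A.φ g (sec w) * (A.φ g (sec v))⁻¹ * (A.φ g (sec w))⁻¹ =
        A.φ g (sec v * sec w * (sec v)⁻¹ * (sec w)⁻¹)
      simp only [map_mul, map_inv]
    rw [hcm]
    funext i
    rw [hψZ]
  have hB := bil_zero hF B hadd1 hadd2 heq
  intro a b
  have h1 : Multiplicative.toAdd (ψZ (slh_gcomm_cm hab a b)) = 0 := by
    rw [key]
    exact hB _ _
  have h2 : ψZ (slh_gcomm_cm hab a b) = 1 := by
    have : Multiplicative.ofAdd (Multiplicative.toAdd (ψZ (slh_gcomm_cm hab a b))) =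
        Multiplicative.ofAdd 0 := by rw [h1]
    simpa using this
  have h3 : slh_gcomm_cm hab a b = 1 := by
    apply ψZ.injective
    rw [h2, map_one]
  have h4 : a * b * a⁻¹ * b⁻¹ = 1 := congrArg Subtype.val h3
  calc a * b = (a * b * a⁻¹ * b⁻¹) * (b * a) := by group
    _ = b * a := by rw [h4, one_mul]

end PartG

end Cfsg.Agent.Helper23.Slh
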