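import Mathlib
import Cfsg.Prelude.Def_Local
import Cfsg.Prelude.Def_Transfer
import Cfsg.Agent.Lib.Helper26.TIDefs
import Cfsg.Agent.Lib.Helper26.TIDefs2

/-!
# S1786 piece TI-LOCZ (core: the conclusion of TI-LOCA is a hypothesis): `Z(P) = V`
-/

set_option autoImplicit false

namespace Cfsg.Agent.Helper26.TI

variable {G : Type*} [Group G]

/-- `Q = O_2(N_G(V))` as a subgroup of `G` (same expression as `Qs` of the skeleton). -/
abbrev tilocz_Qs (V : Subgroup G) : Subgroup G :=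
  (Cfsg.pCore 2 ↥(Subgroup.normalizer (V : Set G))).map (Subgroup.normalizer (V : Set G)).subtype

/-- `P = C_Q(V)` (same expression as `Ps` of the skeleton). -/
abbrev tilocz_Ps (V : Subgroup G) : Subgroup G := tilocz_Qs V ⊓ Subgroup.centralizer (V : Set G)

theorem tilocz_cj_eq_of_mem_normalizer (V : Subgroup G) (m : G)
    (hm : m ∈ Subgroup.normalizer (V : Set G)) : cj m V = V := by
  ext z
  rw [mem_cj']
  have h := (Subgroup.mem_normalizer_iff.mp hm) (m⁻¹ * z * m)
  rw [h]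
  have : m * (m⁻¹ * z * m) * m⁻¹ = z := by group
  rw [this]

/-- TI-LOCZ with the conclusion of TI-LOCA as a hypothesis. -/
theorem tilocz_core (V : Subgroup G)
    (h2 : ∀ A : Subgroup G, V ≤ A → A ≤ Subgroup.normalizer (V : Set G) → IsMulCommutative ↥A →
      (∀ m ∈ Subgroup.normalizer (V : Set G), ∀ a ∈ A, m * a * m⁻¹ ∈ A) → A = V)
    (hA : V ≤ tilocz_Ps V ∧ IsPGroup 2 (tilocz_Ps V) ∧ (∀ x ∈ tilocz_Ps V, ∀ v ∈ V, x * v = v * x) ∧
      (∀ m : G, cj m V = V → cj m (tilocz_Qs V) = tilocz_Qs V) ∧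
      (∀ m : G, cj m V = V → cj m (tilocz_Ps V) = tilocz_Ps V)) :
    ∀ x ∈ tilocz_Ps V, (∀ y ∈ tilocz_Ps V, x * y = y * x) → x ∈ V := by
  obtain ⟨hVP, -, hcent, -, hnorm⟩ := hA
  set P := tilocz_Ps V with hP
  let Z : Subgroup G := P ⊓ Subgroup.centralizer (P : Set G)
  have hZmem : ∀ z, z ∈ Z ↔ z ∈ P ∧ ∀ y ∈ P, y * z = z * y := by
    intro z
    show z ∈ P ⊓ Subgroup.centralizer (P : Set G) ↔ _
    rw [Subgroup.mem_inf, Subgroup.mem_centralizer_iff]
    rfl
  have hVZ : V ≤ Z := by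
    intro v hv
    rw [hZmem]
    exact ⟨hVP hv, fun y hy => hcent y hy v hv⟩
  have hZN : Z ≤ Subgroup.normalizer (V : Set G) := by
    intro z hz
    have h1 : z ∈ P := ((hZmem z).mp hz).1
    have h2' : z ∈ Subgroup.centralizer (V : Set G) := h1.2
    exact Subgroup.centralizer_le_normalizer (V : Set G) h2'
  have hZc : IsMulCommutative ↥Z := by
    refine ⟨⟨?_⟩⟩
    intro a b
    apply Subtype.ext
    have ha := (hZmem a).mp a.2
    have hb := (hZmem b).mp b.2
    show (a : G) * (b : G) = (b : G) * (a : G)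
    exact hb.2 a ha.1
  have hZinv : ∀ m ∈ Subgroup.normalizer (V : Set G), ∀ a ∈ Z, m * a * m⁻¹ ∈ Z := by
    intro m hm a ha
    have hmV : cj m V = V := tilocz_cj_eq_of_mem_normalizer V m hm
    have hmP : cj m P = P := hnorm m hmV
    have hmP' : cj m⁻¹ P = P := by
      have h := congrArg (cj m⁻¹) hmP
      rw [cj_inv_cj] at h
      exact h.symm
    obtain ⟨haP, hac⟩ := (hZmem a).mp ha
    rw [hZmem]
    refine ⟨?_, ?_⟩
    · have := conj_mem_cj (x := m) haP
      rw [hmP] at this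
      exact this
    · intro y hy
      have hy' : m⁻¹ * y * m ∈ P := by
        have h := conj_mem_cj (x := m⁻¹) hy
        rw [hmP'] at h
        simpa using h
      have hc := hac _ hy'
      calc y * (m * a * m⁻¹) = m * ((m⁻¹ * y * m) * a) * m⁻¹ := by group
        _ = m * (a * (m⁻¹ * y * m)) * m⁻¹ := by rw [hc]
        _ = m * a * m⁻¹ * y := by group
  have hZV : Z = V := h2 Z hVZ hZN hZc hZinv
  intro x hx hxc
  rw [← hZV, hZmem]
  exact ⟨hx, fun y hy => (hxc y hy).symm⟩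

end Cfsg.Agent.Helper26.TI
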