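import Mathlib
import Cfsg.Prelude.Def_Local
import Cfsg.Prelude.Def_Transfer
import Cfsg.Agent.Lib.Helper26.TIDefs
import Cfsg.Agent.Lib.Helper26.TIDefs2
import Cfsg.Agent.Lib.Helper26.TIDefs3
import Cfsg.Agent.Lib.Helper8.TILOCZCore
import Cfsg.Agent.Lib.Helper25.TILOCA

/-!
# S1786 piece TI-LOCZ: `Z(P) = V` from maximality (h2)
-/

set_option autoImplicit false

namespace Cfsg.Agent.Helper26.TI

variable {G : Type*} [Group G]

/-- TI-LOCZ: `Z(P) = V` from maximality (h2). -/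
theorem locZ_center [Finite G] (V : Subgroup G) (hV : Cfsg.IsElementaryAbelian 2 V)
    (h2 : ∀ A : Subgroup G, V ≤ A → A ≤ Subgroup.normalizer (V : Set G) → IsMulCommutative ↥A →
      (∀ m ∈ Subgroup.normalizer (V : Set G), ∀ a ∈ A, m * a * m⁻¹ ∈ A) → A = V) :
    ∀ x ∈ Ps V, (∀ y ∈ Ps V, x * y = y * x) → x ∈ V :=
  tilocz_core V h2 (locA_easy V hV)

end Cfsg.Agent.Helper26.TI
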