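import Mathlib
import Cfsg.Prelude.Def_Characters

/-!
# Knörr's abelian-stabilizer criterion for `k(GV)`: the basic definition (helper8)
-/

set_option autoImplicit false

namespace Cfsg.Agent.Helper8.KGV

universe u

/-- `F k c = ∑ₜ ωₜ ^ k * θₜ c` with the `ωₜ` being `p`-th roots of unity and the `θₜ` linear
characters of `C`. -/
def IsPComb (p : ℕ) (C : Type u) [Group C] (F : ℕ → C → ℂ) : Prop :=
  ∃ (n : ℕ) (ω : Fin n → ℂ) (θ : Fin n → (C →* ℂˣ)),
    (∀ t, ω t ^ p = 1) ∧ ∀ k c, F k c = ∑ t, ω t ^ k * ((θ t c : ℂˣ) : ℂ)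

end Cfsg.Agent.Helper8.KGV
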