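import Mathlib
import Cfsg.Agent.Lib.Helper8.RegOrbDefs

set_option autoImplicit false

namespace Cfsg.Agent.Helper8.RegOrb

universe u

section
variable {N : Type*} [CommGroup N]

/-- setwise stabilizer in `MulAut N` of a subgroup `N'` of `N` -/
def stab (N' : Subgroup N) : Subgroup (MulAut N) where
  carrier := {σ | ∀ v, σ v ∈ N' ↔ v ∈ N'}
  one_mem' := by intro v; simp
  mul_mem' := by
    intro σ τ hσ hτ v
    have h1 := hσ (τ v)
    have h2 := hτ v
    simp only [MulAut.mul_apply]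
    exact h1.trans h2
  inv_mem' := by
    intro σ hσ v
    have h1 := hσ (σ⁻¹ v)
    simp only [MulAut.apply_inv_self] at h1
    exact h1.symm

theorem mem_stab {N' : Subgroup N} {σ : MulAut N} : σ ∈ stab N' ↔ ∀ v, σ v ∈ N' ↔ v ∈ N' := Iff.rfl

/-- restriction of an element of the stabilizer to `N'` -/
def resEquiv (N' : Subgroup N) (σ : stab N') : MulAut N' where
  toFun v := ⟨σ.1 v.1, (σ.2 v.1).2 v.2⟩
  invFun v := ⟨σ.1⁻¹ v.1, ((stab N').inv_mem σ.2 v.1).2 v.2⟩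
  left_inv v := by ext; simp
  right_inv v := by ext; simp
  map_mul' v w := by ext; simp

@[simp] theorem resEquiv_apply (N' : Subgroup N) (σ : stab N') (v : N') :
    ((resEquiv N' σ v : N') : N) = σ.1 v.1 := rfl

/-- restriction homomorphism -/
def res (N' : Subgroup N) : stab N' →* MulAut N' where
  toFun := resEquiv N'
  map_one' := by ext v; simp
  map_mul' σ τ := by ext v; simp [MulAut.mul_apply]

@[simp] theorem res_apply (N' : Subgroup N) (σ : stab N') (v : N') :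
    ((res N' σ v : N') : N) = σ.1 v.1 := rfl

/-- the restriction of a subgroup `X` of `MulAut N` (its part stabilizing `N'`) to `N'` -/
def resGroup (N' : Subgroup N) (X : Subgroup (MulAut N)) : Subgroup (MulAut N') :=
  (X.subgroupOf (stab N')).map (res N')

theorem mem_resGroup {N' : Subgroup N} {X : Subgroup (MulAut N)} {τ : MulAut N'} :
    τ ∈ resGroup N' X ↔ ∃ σ : stab N', σ.1 ∈ X ∧ res N' σ = τ := by
  unfold resGroup
  rw [Subgroup.mem_map]
  constructor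
  · rintro ⟨σ, hσ, rfl⟩
    exact ⟨σ, Subgroup.mem_subgroupOf.mp hσ, rfl⟩
  · rintro ⟨σ, hσ, rfl⟩
    exact ⟨σ, Subgroup.mem_subgroupOf.mpr hσ, rfl⟩

theorem res_mem_resGroup {N' : Subgroup N} {X : Subgroup (MulAut N)} (σ : MulAut N)
    (hσ : σ ∈ stab N') (hX : σ ∈ X) : res N' ⟨σ, hσ⟩ ∈ resGroup N' X :=
  mem_resGroup.mpr ⟨⟨σ, hσ⟩, hX, rfl⟩

theorem isPGroup_resGroup {p : ℕ} {N' : Subgroup N} {X : Subgroup (MulAut N)}
    (hX : IsPGroup p X) : IsPGroup p (resGroup N' X) := by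
  unfold resGroup
  apply IsPGroup.map
  exact hX.comap_of_injective _ (Subgroup.subtype_injective _)

end

/-- The inductive step through restriction to a proper invariant subgroup. -/
theorem restrict_step {N : Type u} [CommGroup N] [Finite N] {p : ℕ} [Fact p.Prime]
    (IH : ∀ (N₁ : Type u) [CommGroup N₁] [Finite N₁], Nat.card N₁ < Nat.card N →
      (Nat.card N₁).Coprime p →
      ∀ (H M : Subgroup (MulAut N₁)), M ≤ H → (∀ h ∈ H, ∀ m ∈ M, h * m * h⁻¹ ∈ M) →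
      IsPGroup p M → ∀ a ∈ M, a ≠ 1 → ∃ v : N₁, ∀ h ∈ H, (h * a * h⁻¹) v ≠ v)
    (hcop : (Nat.card N).Coprime p)
    (N' : Subgroup N) (hlt : N' ≠ ⊤) (H' M' : Subgroup (MulAut N)) (hH' : H' ≤ stab N')
    (hM' : M' ≤ H') (hnorm : ∀ h ∈ H', ∀ m ∈ M', h * m * h⁻¹ ∈ M') (hp : IsPGroup p M')
    (a : MulAut N) (ha : a ∈ M') (w₀ : N) (hw₀ : w₀ ∈ N') (haw : a w₀ ≠ w₀) :
    ∃ w ∈ N', ∀ h ∈ H', (h * a * h⁻¹) w ≠ w := by
  have hcard : Nat.card N' < Nat.card N := by
    have hle : Nat.card N' ≤ Nat.card N := Subgroup.card_le_card_group N'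
    rcases lt_or_eq_of_le hle with h | h
    · exact h
    · exact absurd ((Subgroup.card_eq_iff_eq_top N').mp h) hlt
  have hcop' : (Nat.card N').Coprime p :=
    Nat.Coprime.coprime_dvd_left (Subgroup.card_subgroup_dvd_card N') hcop
  have haS : a ∈ stab N' := hH' (hM' ha)
  have ha1 : res N' ⟨a, haS⟩ ≠ 1 := by
    intro h1
    apply haw
    have h2 : (res N' ⟨a, haS⟩ ⟨w₀, hw₀⟩ : N') = ⟨w₀, hw₀⟩ := by rw [h1]; rfl
    have h3 := congrArg Subtype.val h2
    simpa using h3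
  obtain ⟨v, hv⟩ := IH N' hcard hcop' (resGroup N' H') (resGroup N' M')
    (by unfold resGroup; exact Subgroup.map_mono (by
          intro x hx; exact Subgroup.mem_subgroupOf.mpr (hM' (Subgroup.mem_subgroupOf.mp hx))))
    (by
      intro h hh m hm
      obtain ⟨σ, hσ, rfl⟩ := mem_resGroup.mp hh
      obtain ⟨τ, hτ, rfl⟩ := mem_resGroup.mp hm
      rw [← map_inv, ← map_mul, ← map_mul]
      exact mem_resGroup.mpr ⟨σ * τ * σ⁻¹, hnorm _ hσ _ hτ, rfl⟩)
    (isPGroup_resGroup hp) (res N' ⟨a, haS⟩) (res_mem_resGroup a haS ha) ha1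
  refine ⟨v.1, v.2, ?_⟩
  intro h hh hfix
  have hhS : h ∈ stab N' := hH' hh
  apply hv (res N' ⟨h, hhS⟩) (res_mem_resGroup h hhS hh)
  have key : res N' ⟨h, hhS⟩ * res N' ⟨a, haS⟩ * (res N' ⟨h, hhS⟩)⁻¹
      = res N' (⟨h, hhS⟩ * ⟨a, haS⟩ * ⟨h, hhS⟩⁻¹) := by
    rw [map_mul, map_mul, map_inv]
  rw [key]
  apply Subtype.ext
  exact hfix

end Cfsg.Agent.Helper8.RegOrb
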