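import Mathlib
import Cfsg.Agent.Lib.Helper26.CG3Defs

/-! S3412 piece SY (helper8): generic Sylow 2 facts in elementary form. -/

set_option autoImplicit false

namespace Cfsg.Agent.Helper26.CG3

universe u

section G

variable {H : Type u} [Group H] [Finite H] {t : H}

theorem sy_fact (m : ℕ) (hm : ¬ 2 ∣ m) (hm0 : m ≠ 0) : (2 ^ 4 * m).factorization 2 = 4 := by
  rw [Nat.factorization_mul (by positivity) hm0, Nat.Prime.factorization_pow Nat.prime_two]
  simp [Nat.factorization_eq_zero_of_not_dvd hm]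

theorem sy_fact48 : (48 : ℕ).factorization 2 = 4 := by
  have h : (48 : ℕ) = 2 ^ 4 * 3 := by norm_num
  rw [h]
  exact sy_fact 3 (by norm_num) (by norm_num)

theorem sy_fact5616 : (5616 : ℕ).factorization 2 = 4 := by
  have h : (5616 : ℕ) = 2 ^ 4 * 351 := by norm_num
  rw [h]
  exact sy_fact 351 (by norm_num) (by norm_num)

/-- SY1 (generic Sylow) -/
theorem exists_sylow_between (K A : Subgroup H) (hK : Nat.card K = 48 ∨ Nat.card K = 5616) (hA : IsPGroup 2 A)
    (hAK : A ≤ K) : ∃ T : Subgroup H, Nat.card T = 16 ∧ A ≤ T ∧ T ≤ K := by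
  classical
  haveI : Fact (Nat.Prime 2) := ⟨Nat.prime_two⟩
  have hA' : IsPGroup 2 (A.subgroupOf K) := by
    have : IsPGroup 2 (A.comap K.subtype) :=
      hA.comap_of_injective K.subtype (Subgroup.subtype_injective K)
    exact this
  obtain ⟨P, hP⟩ := hA'.exists_le_sylow
  have hcardP : Nat.card (P : Subgroup K) = 16 := by
    rw [Sylow.card_eq_multiplicity]
    rcases hK with h | h
    · rw [h, sy_fact48]; norm_num
    · rw [h, sy_fact5616]; norm_num
  refine ⟨(P : Subgroup K).map K.subtype, ?_, ?_, ?_⟩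
  · rw [Subgroup.card_map_of_injective (Subgroup.subtype_injective K)]
    exact hcardP
  · intro a ha
    exact ⟨⟨a, hAK ha⟩, hP (by simpa [Subgroup.mem_subgroupOf] using ha), rfl⟩
  · rintro _ ⟨k, -, rfl⟩
    exact k.2

/-- SY2 (generic Sylow) -/
theorem conj_sylow (hcard : Nat.card H = 5616) (T₁ T₂ : Subgroup H) (h1 : Nat.card T₁ = 16)
    (h2 : Nat.card T₂ = 16) : ∃ c : H, ∀ x : H, x ∈ T₁ ↔ c * x * c⁻¹ ∈ T₂ := by
  classical
  haveI : Fact (Nat.Prime 2) := ⟨Nat.prime_two⟩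
  have e1 : Nat.card T₁ = 2 ^ (Nat.card H).factorization 2 := by
    rw [hcard, sy_fact5616, h1]; norm_num
  have e2 : Nat.card T₂ = 2 ^ (Nat.card H).factorization 2 := by
    rw [hcard, sy_fact5616, h2]; norm_num
  let P₁ : Sylow 2 H := Sylow.ofCard T₁ e1
  let P₂ : Sylow 2 H := Sylow.ofCard T₂ e2
  obtain ⟨g, hg⟩ := MulAction.exists_smul_eq H P₁ P₂
  refine ⟨g, fun x => ?_⟩
  have hT2 : (P₂ : Subgroup H) = T₂ := rfl
  have hT1 : (P₁ : Subgroup H) = T₁ := rfl
  have hmem : ∀ y : H, y ∈ (g • P₁ : Sylow 2 H) ↔ g⁻¹ * y * g ∈ T₁ := by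
    intro y
    show y ∈ ((g • P₁ : Sylow 2 H) : Subgroup H) ↔ _
    rw [Sylow.coe_subgroup_smul, Subgroup.mem_pointwise_smul_iff_inv_smul_mem]
    simp [MulAut.smul_def, hT1, mul_assoc]
  constructor
  · intro hx
    have : g * x * g⁻¹ ∈ (g • P₁ : Sylow 2 H) := by
      rw [hmem]
      simpa [mul_assoc] using hx
    rw [hg] at this
    exact this
  · intro hx
    have : g * x * g⁻¹ ∈ (g • P₁ : Sylow 2 H) := by rw [hg]; exact hx
    rw [hmem] at this
    simpa [mul_assoc] using this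

end G

end Cfsg.Agent.Helper26.CG3
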