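import Mathlib
import Cfsg.Agent.Lib.Helper26.CG3Defs

/-! S3412 piece G8C (helper8): a group of order 5616 with a self-centralizing element of order 13 has
exactly 144 Sylow 13-subgroups. -/

set_option autoImplicit false

namespace Cfsg.Agent.Helper26.CG3

universe u

section G

variable {H : Type u} [Group H] [Finite H] {t : H}

/-- a 13-subgroup of a group of order 5616 has order 1 or 13 -/
theorem g8c_card_le (hcard : Nat.card H = 5616) (P : Subgroup H) (hP : IsPGroup 13 P) :
    Nat.card P = 1 ∨ Nat.card P = 13 := by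
  haveI : Fact (Nat.Prime 13) := ⟨by norm_num⟩
  obtain ⟨k, hk⟩ := hP.exists_card_eq
  have hdvd : Nat.card P ∣ 5616 := hcard ▸ Subgroup.card_subgroup_dvd_card P
  rw [hk] at hdvd ⊢
  rcases k with _ | _ | k
  · left; norm_num
  · right; norm_num
  · exfalso
    have h169 : (13 : ℕ) ^ 2 ∣ 5616 := (pow_dvd_pow 13 (by omega)).trans hdvd
    norm_num at h169

/-- the normalizer of a self-centralizing subgroup of order 13 has order `13 * d` with `d ∣ 12` -/
theorem g8c_normalizer (P : Subgroup H) (hP : Nat.card P = 13)
    (hC : Nat.card (Subgroup.centralizer (P : Set H)) = 13) :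
    ∃ d : ℕ, d ∣ 12 ∧ Nat.card (Subgroup.normalizer (P : Set H)) = 13 * d := by
  classical
  haveI : Fact (Nat.Prime 13) := ⟨by norm_num⟩
  haveI : IsCyclic P := isCyclic_of_prime_card hP
  have key := Subgroup.card_dvd_of_injective _ (QuotientGroup.kerLift_injective P.normalizerMonoidHom)
  rw [Subgroup.normalizerMonoidHom_ker, ← Subgroup.index, ← Subgroup.relIndex] at key
  rw [IsCyclic.card_mulAut, hP] at key
  have h12 : Nat.totient 13 = 12 := by
    rw [Nat.totient_prime (by norm_num)]
  rw [h12] at key
  refine ⟨_, key, ?_⟩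
  have hle : Subgroup.centralizer (P : Set H) ≤ Subgroup.normalizer (P : Set H) :=
    Subgroup.centralizer_le_normalizer _
  have h := Subgroup.relIndex_mul_index hle
  have h1 := Subgroup.card_mul_index (Subgroup.centralizer (P : Set H))
  have h2 := Subgroup.card_mul_index (Subgroup.normalizer (P : Set H))
  have hpos : 0 < (Subgroup.normalizer (P : Set H)).index := Nat.pos_of_ne_zero Subgroup.index_ne_zero_of_finite
  rw [hC, ← h, ← h2] at h1
  have : 13 * (Subgroup.centralizer (P : Set H)).relIndex (Subgroup.normalizer (P : Set H)) *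
      (Subgroup.normalizer (P : Set H)).index =
      Nat.card (Subgroup.normalizer (P : Set H)) * (Subgroup.normalizer (P : Set H)).index := by
    rw [← h1]; ring
  exact (Nat.eq_of_mul_eq_mul_right hpos this).symm

/-- G8c -/
theorem card_sylow13 (hcard : Nat.card H = 5616) (x : H) (hx : orderOf x = 13) (hc : cc x = 13) :
    Nat.card (Sylow 13 H) = 144 := by
  classical
  haveI : Fact (Nat.Prime 13) := ⟨by norm_num⟩
  have hZ13 : Nat.card (Subgroup.zpowers x) = 13 := by rw [Nat.card_zpowers, hx]
  have hZp : IsPGroup 13 (Subgroup.zpowers x) := IsPGroup.of_card (n := 1) (by rw [hZ13]; norm_num)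
  obtain ⟨P, hP⟩ := hZp.exists_le_sylow
  have hPc : Nat.card (P : Subgroup H) = 13 := by
    rcases g8c_card_le hcard P P.2 with h | h
    · exfalso
      have := Subgroup.card_le_of_le hP
      omega
    · exact h
  have hPeq : Subgroup.zpowers x = (P : Subgroup H) :=
    Subgroup.eq_of_le_of_card_ge hP (by rw [hPc, hZ13])
  have hC : Nat.card (Subgroup.centralizer ((P : Subgroup H) : Set H)) = 13 := by
    rw [← hPeq, Subgroup.zpowers_eq_closure, Subgroup.centralizer_closure]
    exact hc
  obtain ⟨d, hd, hN⟩ := g8c_normalizer (P : Subgroup H) hPc hC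
  have hidx : Nat.card (Sylow 13 H) = (Subgroup.normalizer ((P : Subgroup H) : Set H)).index :=
    P.card_eq_index_normalizer
  have hmod := card_sylow_modEq_one 13 H
  have hmul := Subgroup.index_mul_card (Subgroup.normalizer ((P : Subgroup H) : Set H))
  rw [hN, hcard, ← hidx] at hmul
  have hd12 : d ≤ 12 := Nat.le_of_dvd (by norm_num) hd
  have hmod' : Nat.card (Sylow 13 H) % 13 = 1 := by
    have := hmod
    unfold Nat.ModEq at this
    simpa using this
  set n := Nat.card (Sylow 13 H) with hn
  have hd0 : 0 < d := Nat.pos_of_dvd_of_pos hd (by norm_num)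
  interval_cases d <;> first | omega | (exfalso; revert hd; norm_num)

end G

end Cfsg.Agent.Helper26.CG3
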