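import Mathlib
import Cfsg.Agent.Lib.Helper26.CG3Defs
import Cfsg.Agent.Lib.Helper8.CG3G8C

/-! S3412 piece G8D (helper8): a normal subgroup of order divisible by 13 has order 1872 or 5616 (Frattini). -/

set_option autoImplicit false

namespace Cfsg.Agent.Helper26.CG3

universe u

section G

variable {H : Type u} [Group H] [Finite H] {t : H}

/-- G8d (from G8c) -/
theorem normal_of_13_dvd (hcard : Nat.card H = 5616) (x : H) (hx : orderOf x = 13) (hc : cc x = 13)
    (N : Subgroup H) (hN : N.Normal) (h13 : 13 ∣ Nat.card N) : Nat.card N = 1872 ∨ Nat.card N = 5616 := by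
  classical
  haveI : Fact (Nat.Prime 13) := ⟨by norm_num⟩
  haveI := hN
  obtain ⟨y, hy⟩ := exists_prime_orderOf_dvd_card' (G := N) 13 h13
  have hyH : orderOf (y : H) = 13 := by rw [Subgroup.orderOf_coe, hy]
  have hZ13 : Nat.card (Subgroup.zpowers (y : H)) = 13 := by rw [Nat.card_zpowers, hyH]
  have hZp : IsPGroup 13 (Subgroup.zpowers (y : H)) :=
    IsPGroup.of_card (n := 1) (by rw [hZ13]; norm_num)
  obtain ⟨P, hP⟩ := hZp.exists_le_sylow
  have hPc : Nat.card (P : Subgroup H) = 13 := by
    rcases g8c_card_le hcard P P.2 with h | h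
    · exfalso
      have := Subgroup.card_le_of_le hP
      omega
    · exact h
  have hPeq : Subgroup.zpowers (y : H) = (P : Subgroup H) :=
    Subgroup.eq_of_le_of_card_ge hP (by rw [hPc, hZ13])
  have hPN : (P : Subgroup H) ≤ N := by
    rw [← hPeq, Subgroup.zpowers_le]
    exact y.2
  have htop := Sylow.normalizer_sup_eq_top' P hPN
  have hidx : Nat.card (Sylow 13 H) = (Subgroup.normalizer ((P : Subgroup H) : Set H)).index :=
    P.card_eq_index_normalizer
  rw [card_sylow13 hcard x hx hc] at hidx
  have hmul := Subgroup.index_mul_card (Subgroup.normalizer ((P : Subgroup H) : Set H))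
  rw [← hidx, hcard] at hmul
  have hNc : Nat.card (Subgroup.normalizer ((P : Subgroup H) : Set H)) = 39 := by omega
  have hrel : N.index ∣ 39 := by
    rw [← Subgroup.relIndex_top_right, ← htop, Subgroup.relIndex_sup_right, ← hNc]
    exact Subgroup.relIndex_dvd_card _ _
  have hNmul := Subgroup.index_mul_card N
  rw [hcard] at hNmul
  have hle : N.index ≤ 39 := Nat.le_of_dvd (by norm_num) hrel
  obtain ⟨m, hm⟩ := h13
  rw [hm] at hNmul ⊢
  have hpos : 0 < N.index := Nat.pos_of_ne_zero Subgroup.index_ne_zero_of_finite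
  generalize N.index = i at *
  interval_cases i <;> first | omega | (exfalso; revert hrel; norm_num)

end G

end Cfsg.Agent.Helper26.CG3
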