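import Mathlib
import Cfsg.Agent.Lib.Helper26.CG3Defs
import Cfsg.Agent.Lib.Helper8.CG3G8C

/-! S3412 piece G8E (helper8): at least `144 * 12 = 1728` elements of order 13. -/

set_option autoImplicit false

namespace Cfsg.Agent.Helper26.CG3

universe u

section G

variable {H : Type u} [Group H] [Finite H] {t : H}

theorem g8e_fact : (5616 : ℕ).factorization 13 = 1 := by
  have h : (5616 : ℕ) = 13 ^ 1 * 432 := by norm_num
  rw [h, Nat.factorization_mul (by norm_num) (by norm_num),
    Nat.Prime.factorization_pow (by norm_num : Nat.Prime 13)]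
  have : ¬ 13 ∣ 432 := by norm_num
  simp [Nat.factorization_eq_zero_of_not_dvd this]

theorem g8e_card_sylow (hcard : Nat.card H = 5616) (P : Sylow 13 H) : Nat.card (P : Subgroup H) = 13 := by
  haveI : Fact (Nat.Prime 13) := ⟨by norm_num⟩
  rw [Sylow.card_eq_multiplicity, hcard, g8e_fact]
  norm_num

theorem g8e_exists_gen (hcard : Nat.card H = 5616) (P : Sylow 13 H) :
    ∃ g : H, g ∈ (P : Subgroup H) ∧ orderOf g = 13 := by
  haveI : Fact (Nat.Prime 13) := ⟨by norm_num⟩
  have hc := g8e_card_sylow hcard P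
  obtain ⟨y, hy⟩ := exists_prime_orderOf_dvd_card' (G := (P : Subgroup H)) 13 (by rw [hc])
  exact ⟨(y : H), y.2, by rw [Subgroup.orderOf_coe, hy]⟩

theorem g8e_zpowers_eq (hcard : Nat.card H = 5616) (P : Sylow 13 H) (h : H) (hP : h ∈ (P : Subgroup H))
    (ho : orderOf h = 13) : Subgroup.zpowers h = (P : Subgroup H) := by
  apply Subgroup.eq_of_le_of_card_ge
  · rw [Subgroup.zpowers_le]; exact hP
  · rw [g8e_card_sylow hcard P, Nat.card_zpowers, ho]

/-- G8e (from G8c) -/
theorem card_order13 (hcard : Nat.card H = 5616) (x : H) (hx : orderOf x = 13) (hc : cc x = 13) :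
    1728 ≤ Nat.card {g : H // orderOf g = 13} := by
  classical
  haveI : Fact (Nat.Prime 13) := ⟨by norm_num⟩
  have h144 := card_sylow13 hcard x hx hc
  choose gen hgenP hgeno using g8e_exists_gen (H := H) hcard
  have hpow : ∀ (P : Sylow 13 H) (i : Fin 12), orderOf (gen P ^ (i.val + 1)) = 13 := by
    intro P i
    have hcop : Nat.Coprime (orderOf (gen P)) (i.val + 1) := by
      rw [hgeno P]
      apply (Nat.Prime.coprime_iff_not_dvd (by norm_num)).2
      intro hd
      have := Nat.le_of_dvd (by omega) hd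
      have := i.2
      omega
    rw [hcop.orderOf_pow, hgeno P]
  let f : Sylow 13 H × Fin 12 → {g : H // orderOf g = 13} :=
    fun p => ⟨gen p.1 ^ (p.2.val + 1), hpow p.1 p.2⟩
  have hf : Function.Injective f := by
    rintro ⟨P, i⟩ ⟨Q, j⟩ hpq
    have hval : gen P ^ (i.val + 1) = gen Q ^ (j.val + 1) := congrArg Subtype.val hpq
    have hmemP : gen P ^ (i.val + 1) ∈ (P : Subgroup H) := Subgroup.pow_mem _ (hgenP P) _
    have hmemQ : gen P ^ (i.val + 1) ∈ (Q : Subgroup H) := by
      rw [hval]; exact Subgroup.pow_mem _ (hgenP Q) _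
    have e1 := g8e_zpowers_eq hcard P _ hmemP (hpow P i)
    have e2 := g8e_zpowers_eq hcard Q _ hmemQ (hpow P i)
    have hPQ : P = Q := Sylow.ext (e1.symm.trans e2)
    subst hPQ
    have hij : i.val + 1 = j.val + 1 := by
      apply pow_injOn_Iio_orderOf (x := gen P)
      · simp only [Set.mem_Iio, hgeno P]; have := i.2; omega
      · simp only [Set.mem_Iio, hgeno P]; have := j.2; omega
      · exact hval
    have : i = j := Fin.ext (by omega)
    rw [this]
  have hle := Nat.card_le_card_of_injective f hf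
  rw [Nat.card_prod, h144, Nat.card_eq_fintype_card, Fintype.card_fin] at hle
  omega

end G

end Cfsg.Agent.Helper26.CG3
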