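import Mathlib
import Cfsg.Agent.Lib.Helper3.BSWDefs
import Cfsg.Agent.Lib.Helper14.BSWTICOUNT
import Cfsg.Agent.Lib.Helper25.BSWHYPCONJ
import Cfsg.Agent.Lib.Helper25.BSWVALSA

/-!
# S3282 piece NQA1: lower bound for `|N(Q)|` in case A
-/

set_option autoImplicit false
set_option linter.unusedSectionVars false

namespace Cfsg.Agent.Helper3.BSW

universe u

variable {G : Type u} [Group G] [Fintype G] {t s : G} {K : Subgroup G} {St : G → ℤ}

/-- PIECE NQA1 (IIA4, lower bound). -/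
theorem card_normalizer_QA (h : Hyp t s K) (hA : StA K St) {Q : Subgroup G}
    (hQc : Nat.card Q = 2 * Nat.card K + 1) (hQ : SelfCent Q)
    (hQR : ∀ x ∈ Q, x ≠ 1 → InR K x ∧ St x = 0) :
    (2 * Nat.card K + 1) * Nat.card K ≤ Nat.card (Subgroup.normalizer (Q : Set G)) := by
  have hti := ti_count hQ (fun y => InR K y ∧ St y = 0)
    (fun g x hx => ⟨(inR_conj K g x).2 hx.1, by rw [hA.conj]; exact hx.2⟩) hQR
  rw [card_R0A h hA, hQc] at hti
  have hcard : Nat.card G = 2 * Nat.card K * (2 * Nat.card K + 1) * (Nat.card K + 1) := by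
    have := hA.card
    exact_mod_cast this
  rw [hcard] at hti
  set k := Nat.card K with hk
  set n := Nat.card (Subgroup.normalizer (Q : Set G)) with hn
  have hkpos : 0 < k := Nat.card_pos
  have e1 : 2 * k + 1 - 1 = 2 * k := by omega
  have e2 : (2 * k + 1) ^ 2 - 1 = 4 * k * (k + 1) := by
    have : (2 * k + 1) ^ 2 = 4 * k * (k + 1) + 1 := by ring
    omega
  rw [e1, e2] at hti
  -- 2k(2k+1)(k+1) * 2k ≤ n * (4k(k+1))
  have hpos : 0 < 4 * k * (k + 1) := by positivity
  have : (2 * k + 1) * k * (4 * k * (k + 1)) ≤ n * (4 * k * (k + 1)) := by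
    calc (2 * k + 1) * k * (4 * k * (k + 1)) = 2 * k * (2 * k + 1) * (k + 1) * (2 * k) := by ring
      _ ≤ n * (4 * k * (k + 1)) := hti
  exact Nat.le_of_mul_le_mul_right this hpos

end Cfsg.Agent.Helper3.BSW
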