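import Mathlib
import Cfsg.Agent.Lib.Helper3.BSWDefs
import Cfsg.Agent.Lib.Helper4.BSWHSTRUCT
import Cfsg.Agent.Lib.Helper14.BSWNINV
import Cfsg.Agent.Lib.Helper25.BSWHYPCONJ

/-!
# S3282 piece NQA2: `N(Q) = Q (K^g)` in case A
-/

set_option autoImplicit false
set_option linter.unusedSectionVars false

namespace Cfsg.Agent.Helper3.BSW

universe u

variable {G : Type u} [Group G] [Fintype G] {t s : G} {K : Subgroup G} {St : G → ℤ}

namespace NQA2

/-- If `N(A) = A ⊔ C` with `C ≤ N(A)` then `|N(A)| ≤ |A| |C|`. -/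
theorem card_normalizer_le {A C : Subgroup G} (hC : C ≤ Subgroup.normalizer (A : Set G))
    (hsup : Subgroup.normalizer (A : Set G) = A ⊔ C) :
    Nat.card (Subgroup.normalizer (A : Set G)) ≤ Nat.card A * Nat.card C := by
  set N := Subgroup.normalizer (A : Set G) with hN
  have hA : A ≤ N := Subgroup.le_normalizer
  have : (A.subgroupOf N).Normal := Subgroup.normal_in_normalizer
  have htop : A.subgroupOf N ⊔ C.subgroupOf N = ⊤ := by
    rw [← Subgroup.subgroupOf_sup hA hC, ← hsup]
    exact Subgroup.subgroupOf_self N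
  have hrel : (A.subgroupOf N).relIndex (A.subgroupOf N ⊔ C.subgroupOf N)
      = (A.subgroupOf N).relIndex (C.subgroupOf N) := Subgroup.relIndex_sup_left _ _
  rw [htop, Subgroup.relIndex_top_right] at hrel
  have hdvd : (A.subgroupOf N).relIndex (C.subgroupOf N) ∣ Nat.card (C.subgroupOf N) :=
    Subgroup.relIndex_dvd_card _ _
  have hle : (A.subgroupOf N).index ≤ Nat.card (C.subgroupOf N) := by
    rw [hrel]
    exact Nat.le_of_dvd Nat.card_pos hdvd
  have hcardA : Nat.card (A.subgroupOf N) = Nat.card A :=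
    Nat.card_congr (Subgroup.subgroupOfEquivOfLe hA).toEquiv
  have hcardC : Nat.card (C.subgroupOf N) = Nat.card C :=
    Nat.card_congr (Subgroup.subgroupOfEquivOfLe hC).toEquiv
  calc Nat.card N = Nat.card (A.subgroupOf N) * (A.subgroupOf N).index :=
        (Subgroup.card_mul_index _).symm
    _ ≤ Nat.card (A.subgroupOf N) * Nat.card (C.subgroupOf N) := Nat.mul_le_mul_left _ hle
    _ = Nat.card A * Nat.card C := by rw [hcardA, hcardC]

theorem card_Kc (K : Subgroup G) (g : G) : Nat.card (Kc K g) = Nat.card K := by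
  unfold Kc
  exact Subgroup.card_map_of_injective (MulAut.conj g).injective

end NQA2

/-- PIECE NQA2 (IIA4). -/
theorem normalizer_QA (h : Hyp t s K) {Q : Subgroup G} {v : G}
    (hQc : Nat.card Q = 2 * Nat.card K + 1) (hQ : SelfCent Q)
    (hv : orderOf v = 2) (hvN : v ∈ Subgroup.normalizer (Q : Set G))
    (hge : (2 * Nat.card K + 1) * Nat.card K ≤ Nat.card (Subgroup.normalizer (Q : Set G))) :
    ∃ g : G, Subgroup.normalizer (Q : Set G) = Q ⊔ Kc K g ∧ Q ⊓ Kc K g = ⊥ := by
  have hkpos : 0 < Nat.card K := Nat.card_pos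
  have hne : Q ≠ ⊥ := by
    intro h0
    rw [h0, Subgroup.card_bot] at hQc
    omega
  have hodd : Odd (Nat.card Q) := ⟨Nat.card K, hQc⟩
  obtain ⟨_, _, hN, hQC, huniq⟩ := normalizer_invol hQ hne hodd hv hvN
  obtain ⟨g, hg⟩ := isConj_iff.1 (h.hconj t v h.ht hv)
  have h' : Hyp (g * t * g⁻¹) (g * s * g⁻¹) (Kc K g) := hyp_conj h g
  rw [hg] at h'
  set C := Subgroup.normalizer (Q : Set G) ⊓ Subgroup.centralizer ({v} : Set G) with hC
  have hCK : C ≤ Kc K g := by
    intro c hc
    have hcv : c ∈ Subgroup.centralizer ({v} : Set G) := hc.2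
    rcases (mem_H_iff h' c).1 hcv with hK | ⟨x, hx, hxe⟩
    · exact hK
    · have h2 : orderOf c = 2 := by rw [hxe]; exact (coset_props h' hx).1
      rw [huniq c hc h2]
      exact h'.htK
  have hcardle : Nat.card (Subgroup.normalizer (Q : Set G)) ≤ Nat.card Q * Nat.card C :=
    NQA2.card_normalizer_le inf_le_left hN
  have hCge : Nat.card K ≤ Nat.card C := by
    rw [hQc] at hcardle
    have : (2 * Nat.card K + 1) * Nat.card K ≤ (2 * Nat.card K + 1) * Nat.card C :=
      le_trans hge hcardle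
    exact Nat.le_of_mul_le_mul_left this (by omega)
  have hCeq : C = Kc K g := by
    apply Subgroup.eq_of_le_of_card_ge hCK
    rw [NQA2.card_Kc]
    exact hCge
  refine ⟨g, ?_, ?_⟩
  · rw [← hCeq]; exact hN
  · rw [← hCeq, eq_bot_iff, ← hQC]
    exact inf_le_inf_left Q inf_le_right

end Cfsg.Agent.Helper3.BSW
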