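import Mathlib
import Cfsg.Agent.Lib.Helper3.BSWArithDefs

/-!
# S3282 piece EQS: evaluation of the equations `EQ` on a shape
-/

set_option autoImplicit false
set_option linter.unusedSectionVars false
set_option linter.unusedVariables false

namespace Cfsg.Agent.Helper3.BSW

variable {ι J : Type*} [Fintype ι] [Fintype J] [DecidableEq ι] [DecidableEq J]

namespace EQS

theorem ind_self (X : ι) : ind X X = 1 := by simp [ind]

theorem ind_ne {X i : ι} (h : i ≠ X) : ind X i = 0 := by simp [ind, h]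

theorem sum_ind_mul (X : ι) (f : ι → ℚ) : ∑ i, ((ind X i : ℤ) : ℚ) * f i = f X := by
  rw [Finset.sum_eq_single X]
  · simp [ind_self]
  · intro i _ hi
    simp [ind_ne hi]
  · intro h
    exact absurd (Finset.mem_univ X) h

theorem sum_ite_mul (j : J) (f : J → ℤ) : ∑ j', (if j' = j then (1 : ℤ) else 0) * f j' = f j := by
  rw [Finset.sum_eq_single j]
  · simp
  · intro i _ hi
    simp [hi]
  · intro h
    exact absurd (Finset.mem_univ j) h

end EQS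

variable {k g : ℕ} {o : ι} {inv : J → J} {j0 : J} {sgn : J → ℤ} {b : J → ι → ℤ} {deg a1 : ι → ℤ}

namespace EQS

theorem inv_ne (H : ArithHyp k g o inv j0 sgn b deg a1) {j : J} (hj : j ≠ j0) : inv j ≠ j :=
  fun h => hj ((H.inv_fix j).1 h)

theorem inv_ne_j0 (H : ArithHyp k g o inv j0 sgn b deg a1) {j : J} (hj : j ≠ j0) : inv j ≠ j0 := by
  intro h
  apply hj
  have h0 : inv j0 = j0 := (H.inv_fix j0).2 rfl
  have : inv (inv j) = inv j0 := by rw [h]
  rw [H.inv_inv, h0] at this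
  exact this

theorem tau_o (H : ArithHyp k g o inv j0 sgn b deg a1) : tau sgn b o = 1 := by
  unfold tau
  have : ∑ j, b j o * sgn j = ∑ j, sgn j := by
    apply Finset.sum_congr rfl
    intro j _
    rw [H.b_o, one_mul]
  rw [this, H.sgn_sum]
  norm_num

theorem b_P (H : ArithHyp k g o inv j0 sgn b deg a1) {P : ι} {S : J → ι} {Z1 Z2 : ι} {ε ζ : ℤ}
    (hS : Shape o inv j0 b deg P S Z1 Z2 ε ζ) (j : J) : b j P = ε := by
  by_cases hj : j = j0
  · rw [hj, hS.bj0, ind_ne hS.Po, ind_self, ind_ne (Ne.symm hS.Z1P), ind_ne (Ne.symm hS.Z2P)]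
    ring
  · rw [hS.bj j hj, ind_ne hS.Po, ind_self, ind_ne (Ne.symm (hS.SP j hj))]
    ring

theorem tau_P (H : ArithHyp k g o inv j0 sgn b deg a1) {P : ι} {S : J → ι} {Z1 Z2 : ι} {ε ζ : ℤ}
    (hS : Shape o inv j0 b deg P S Z1 Z2 ε ζ) : tau sgn b P = ε := by
  unfold tau
  have : ∑ j, b j P * sgn j = ε * ∑ j, sgn j := by
    rw [Finset.mul_sum]
    apply Finset.sum_congr rfl
    intro j _
    rw [b_P H hS]
  rw [this, H.sgn_sum]
  ring

theorem b_S (H : ArithHyp k g o inv j0 sgn b deg a1) {P : ι} {S : J → ι} {Z1 Z2 : ι} {ε ζ : ℤ}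
    (hS : Shape o inv j0 b deg P S Z1 Z2 ε ζ) {j : J} (hj : j ≠ j0) (j' : J) :
    b j' (S j) = -ε * ((if j' = j then 1 else 0) + (if j' = inv j then 1 else 0)) := by
  by_cases hj' : j' = j0
  · have h1 : ¬ j' = j := by rw [hj']; exact Ne.symm hj
    have h2 : ¬ j' = inv j := by rw [hj']; exact Ne.symm (inv_ne_j0 H hj)
    rw [if_neg h1, if_neg h2, hj', hS.bj0, ind_ne (hS.So j hj), ind_ne (hS.SP j hj),
      ind_ne (hS.SZ1 j hj), ind_ne (hS.SZ2 j hj)]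
    ring
  · rw [hS.bj j' hj', ind_ne (hS.So j hj), ind_ne (hS.SP j hj)]
    by_cases hSS : S j = S j'
    · rw [hSS, ind_self]
      rcases hS.Sinj j j' hj hj' hSS with h | h
      · have h2 : ¬ j' = inv j := by rw [h]; exact Ne.symm (inv_ne H hj)
        rw [if_pos h, if_neg h2]; ring
      · have h1 : ¬ j' = j := by rw [h]; exact inv_ne H hj
        rw [if_neg h1, if_pos h]; ring
    · have h1 : ¬ j' = j := by
        intro h; apply hSS; rw [h]
      have h2 : ¬ j' = inv j := by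
        intro h; apply hSS; rw [h, hS.Sinv j hj]
      rw [ind_ne hSS, if_neg h1, if_neg h2]; ring

theorem tau_S (H : ArithHyp k g o inv j0 sgn b deg a1) {P : ι} {S : J → ι} {Z1 Z2 : ι} {ε ζ : ℤ}
    (hS : Shape o inv j0 b deg P S Z1 Z2 ε ζ) {j : J} (hj : j ≠ j0) :
    tau sgn b (S j) = 2 * ε * sgn j := by
  unfold tau
  have : ∑ j', b j' (S j) * sgn j' =
      -ε * (∑ j', (if j' = j then (1 : ℤ) else 0) * sgn j' +
        ∑ j', (if j' = inv j then (1 : ℤ) else 0) * sgn j') := by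
    rw [← Finset.sum_add_distrib, Finset.mul_sum]
    apply Finset.sum_congr rfl
    intro j' _
    rw [b_S H hS hj]
    ring
  rw [this, sum_ite_mul, sum_ite_mul, H.sgn_inv]
  ring

theorem b_Z1 (H : ArithHyp k g o inv j0 sgn b deg a1) {P : ι} {S : J → ι} {Z1 Z2 : ι} {ε ζ : ℤ}
    (hS : Shape o inv j0 b deg P S Z1 Z2 ε ζ) (j' : J) :
    b j' Z1 = -ε * (if j' = j0 then 1 else 0) := by
  by_cases hj' : j' = j0
  · rw [if_pos hj', hj', hS.bj0, ind_ne hS.Z1o, ind_ne hS.Z1P, ind_self, ind_ne hS.Z12]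
    ring
  · rw [if_neg hj', hS.bj j' hj', ind_ne hS.Z1o, ind_ne hS.Z1P, ind_ne (Ne.symm (hS.SZ1 j' hj'))]
    ring

theorem b_Z2 (H : ArithHyp k g o inv j0 sgn b deg a1) {P : ι} {S : J → ι} {Z1 Z2 : ι} {ε ζ : ℤ}
    (hS : Shape o inv j0 b deg P S Z1 Z2 ε ζ) (j' : J) :
    b j' Z2 = -ζ * (if j' = j0 then 1 else 0) := by
  by_cases hj' : j' = j0
  · rw [if_pos hj', hj', hS.bj0, ind_ne hS.Z2o, ind_ne hS.Z2P, ind_ne (Ne.symm hS.Z12), ind_self]
    ring
  · rw [if_neg hj', hS.bj j' hj', ind_ne hS.Z2o, ind_ne hS.Z2P, ind_ne (Ne.symm (hS.SZ2 j' hj'))]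
    ring

theorem tau_Z1 (H : ArithHyp k g o inv j0 sgn b deg a1) {P : ι} {S : J → ι} {Z1 Z2 : ι} {ε ζ : ℤ}
    (hS : Shape o inv j0 b deg P S Z1 Z2 ε ζ) : tau sgn b Z1 = ε * sgn j0 := by
  unfold tau
  have : ∑ j', b j' Z1 * sgn j' = -ε * ∑ j', (if j' = j0 then (1 : ℤ) else 0) * sgn j' := by
    rw [Finset.mul_sum]
    apply Finset.sum_congr rfl
    intro j' _
    rw [b_Z1 H hS]
    ring
  rw [this, sum_ite_mul]
  ring

theorem tau_Z2 (H : ArithHyp k g o inv j0 sgn b deg a1) {P : ι} {S : J → ι} {Z1 Z2 : ι} {ε ζ : ℤ}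
    (hS : Shape o inv j0 b deg P S Z1 Z2 ε ζ) : tau sgn b Z2 = ζ * sgn j0 := by
  unfold tau
  have : ∑ j', b j' Z2 * sgn j' = -ζ * ∑ j', (if j' = j0 then (1 : ℤ) else 0) * sgn j' := by
    rw [Finset.mul_sum]
    apply Finset.sum_congr rfl
    intro j' _
    rw [b_Z2 H hS]
    ring
  rw [this, sum_ite_mul]
  ring

theorem sq_pm {x : ℤ} (h : x = 1 ∨ x = -1) : x ^ 2 = 1 := by
  rcases h with h | h <;> rw [h] <;> norm_num

end EQS

open EQS in
/-- PIECE EQS (A4). -/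
theorem eq_shape (H : ArithHyp k g o inv j0 sgn b deg a1) {P : ι} {S : J → ι} {Z1 Z2 : ι} {ε ζ : ℤ}
    (hε : ε = 1 ∨ ε = -1) (hζ : ζ = 1 ∨ ζ = -1) (hS : Shape o inv j0 b deg P S Z1 Z2 ε ζ) :
    ((∃ j, j ≠ j0) → (1 : ℚ) + (ε : ℚ) / (deg P : ℚ) - 4 * (ε : ℚ) / ((deg P : ℚ) + (ε : ℚ)) =
      4 * (k : ℚ) ^ 3 / (g : ℚ)) ∧
    (1 : ℚ) + (ε : ℚ) / (deg P : ℚ) - (ε : ℚ) / (deg Z1 : ℚ) - (ζ : ℚ) / (deg Z2 : ℚ) =
      4 * (k : ℚ) ^ 3 / (g : ℚ) := by
  have hε2 : (ε : ℚ) ^ 2 = 1 := by exact_mod_cast sq_pm hε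
  have hζ2 : (ζ : ℚ) ^ 2 = 1 := by exact_mod_cast sq_pm hζ
  have hs0 : (sgn j0 : ℚ) ^ 2 = 1 := by exact_mod_cast sq_pm (H.sgn_sq j0)
  set F : ι → ℚ := fun i => (tau sgn b i : ℚ) ^ 2 / (deg i : ℚ) with hF
  have hFo : F o = 1 := by
    simp only [hF, tau_o H, H.deg_o]; norm_num
  have hFP : F P = 1 / (deg P : ℚ) := by
    simp only [hF, tau_P H hS]; rw [hε2]
  have hFZ1 : F Z1 = 1 / (deg Z1 : ℚ) := by
    simp only [hF, tau_Z1 H hS]
    push_cast
    rw [mul_pow, hε2, hs0, one_mul]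
  have hFZ2 : F Z2 = 1 / (deg Z2 : ℚ) := by
    simp only [hF, tau_Z2 H hS]
    push_cast
    rw [mul_pow, hζ2, hs0, one_mul]
  constructor
  · rintro ⟨j, hj⟩
    have hsj : (sgn j : ℚ) ^ 2 = 1 := by exact_mod_cast sq_pm (H.sgn_sq j)
    have hFS : F (S j) = 4 / ((deg P : ℚ) + (ε : ℚ)) := by
      simp only [hF, tau_S H hS hj, hS.degS j hj]
      push_cast
      rw [mul_pow, mul_pow, hε2, hsj]; norm_num
    have hsum : ∑ i, (b j i : ℚ) * (tau sgn b i : ℚ) ^ 2 / (deg i : ℚ) =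
        F o + (ε : ℚ) * F P - (ε : ℚ) * F (S j) := by
      rw [← sum_ind_mul o F, ← sum_ind_mul P F, ← sum_ind_mul (S j) F, Finset.mul_sum,
        Finset.mul_sum, ← Finset.sum_add_distrib, ← Finset.sum_sub_distrib]
      apply Finset.sum_congr rfl
      intro i _
      rw [hS.bj j hj i]
      simp only [hF]
      push_cast
      ring
    rw [← H.eq j, hsum, hFo, hFP, hFS]
    ring
  · have hsum : ∑ i, (b j0 i : ℚ) * (tau sgn b i : ℚ) ^ 2 / (deg i : ℚ) =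
        F o + (ε : ℚ) * F P - (ε : ℚ) * F Z1 - (ζ : ℚ) * F Z2 := by
      rw [← sum_ind_mul o F, ← sum_ind_mul P F, ← sum_ind_mul Z1 F, ← sum_ind_mul Z2 F,
        Finset.mul_sum, Finset.mul_sum, Finset.mul_sum, ← Finset.sum_add_distrib,
        ← Finset.sum_sub_distrib, ← Finset.sum_sub_distrib]
      apply Finset.sum_congr rfl
      intro i _
      rw [hS.bj0 i]
      simp only [hF]
      push_cast
      ring
    rw [← H.eq j0, hsum, hFo, hFP, hFZ1, hFZ2]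
    ring

end Cfsg.Agent.Helper3.BSW
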