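import Mathlib
import Cfsg.Agent.Lib.Helper3.BSWArithDefs
import Cfsg.Agent.Lib.Helper8.BSWEQS

/-!
# S3282 piece KILL1: the exotic shape 1 is impossible
-/

set_option autoImplicit false
set_option linter.unusedSectionVars false
set_option linter.unusedVariables false

namespace Cfsg.Agent.Helper3.BSW

variable {ι J : Type*} [Fintype ι] [Fintype J] [DecidableEq ι] [DecidableEq J]

variable {k g : ℕ} {o : ι} {inv : J → J} {j0 : J} {sgn : J → ℤ} {b : J → ι → ℤ} {deg a1 : ι → ℤ}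

namespace KILL1

/-- `4/m = 1/z1 - 1/z2` with `m, z1, z2 > 0` forces `z1 < z2`. -/
theorem lt_of_key {m z1 z2 : ℤ} (hm : 0 < m) (hz1 : 0 < z1) (hz2 : 0 < z2)
    (key : (4 : ℚ) / (m : ℚ) = 1 / (z1 : ℚ) - 1 / (z2 : ℚ)) : z1 < z2 := by
  by_contra hle
  have hle := not_lt.mp hle
  have hz2q : (0 : ℚ) < (z2 : ℚ) := by exact_mod_cast hz2
  have hleq : (z2 : ℚ) ≤ (z1 : ℚ) := by exact_mod_cast hle
  have h1 : 1 / (z1 : ℚ) ≤ 1 / (z2 : ℚ) := one_div_le_one_div_of_le hz2q hleq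
  have hmq : (0 : ℚ) < (m : ℚ) := by exact_mod_cast hm
  have hpos : (0 : ℚ) < 4 / (m : ℚ) := by positivity
  linarith

end KILL1

/-- PIECE KILL1 (A4: no exotic shape 1). -/
theorem kill_one (H : ArithHyp k g o inv j0 sgn b deg a1) {P : ι} {S : J → ι} {Z1 Z2 : ι} {ε : ℤ}
    (hε : ε = 1 ∨ ε = -1) (hne : ∃ j, j ≠ j0) (hS : Shape o inv j0 b deg P S Z1 Z2 ε (-ε)) :
    False := by
  have hζ : -ε = 1 ∨ -ε = -1 := by
    rcases hε with h | h <;> rw [h] <;> norm_num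
  obtain ⟨e1, e2⟩ := eq_shape H hε hζ hS
  have e1 := e1 hne
  obtain ⟨j, hj⟩ := hne
  have hd : 0 < deg P := H.deg_pos P
  have hz1 : 0 < deg Z1 := H.deg_pos Z1
  have hz2 : 0 < deg Z2 := H.deg_pos Z2
  have hdS : 0 < deg P + ε := by
    rw [← hS.degS j hj]; exact H.deg_pos _
  have hdegZ := hS.degZ
  rcases hε with h | h
  · subst h
    have key : (4 : ℚ) / ((deg P + 1 : ℤ) : ℚ) = 1 / (deg Z1 : ℚ) - 1 / (deg Z2 : ℚ) := by
      push_cast at e1 e2 ⊢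
      have : (-1 : ℚ) / (deg Z2 : ℚ) = -(1 / (deg Z2 : ℚ)) := by ring
      rw [this] at e2
      have e1' : (4 : ℚ) * 1 / ((deg P : ℚ) + 1) = 4 / ((deg P : ℚ) + 1) := by ring
      linarith
    have hlt := KILL1.lt_of_key hdS hz1 hz2 key
    linarith
  · subst h
    have key : (4 : ℚ) / ((deg P + -1 : ℤ) : ℚ) = 1 / (deg Z1 : ℚ) - 1 / (deg Z2 : ℚ) := by
      push_cast at e1 e2 ⊢
      have h1 : (-1 : ℚ) / (deg Z1 : ℚ) = -(1 / (deg Z1 : ℚ)) := by ring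
      have h2 : (4 : ℚ) * -1 / ((deg P : ℚ) + -1) = -(4 / ((deg P : ℚ) + -1)) := by ring
      rw [h1] at e2
      rw [h2] at e1
      linarith
    have hlt := KILL1.lt_of_key hdS hz1 hz2 key
    linarith

end Cfsg.Agent.Helper3.BSW
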