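import Mathlib
import Cfsg.Prelude.Def_JComponents
import Cfsg.Agent.Lib.Helper27.KVDefs
import Cfsg.Agent.Lib.Helper7.JC48B
import Cfsg.Agent.Lib.Helper25.JCConj
import Cfsg.Agent.Lib.Helper14.Ambient
import Cfsg.Agent.Lib.Helper13.JCASM2

/-!
# KS12c / S2953' (helper27's farm-out), PIECE PCMP (helper8): membership in `jComponentsOutside`

`mem_jComponentsOutside_of_le` : a `J(T)`-component `K ≰ M` inside a 2-local `L' ≥ T` lies in `jComponentsOutside M T`
(second half of the proof of `Cfsg.Agent.S2949.result`).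
`conj_mem_jComponentsOutside` : `jComponentsOutside M T` is stable under conjugation by `N_G(T)`.
-/

set_option autoImplicit false
set_option linter.unusedVariables false
set_option linter.unusedSectionVars false
set_option linter.style.haveILetI false

namespace Cfsg.Agent.Helper27.KV

open Cfsg Cfsg.Agent.Helper13.JCFF Cfsg.Agent.Helper27.KU

universe u

variable {G : Type u} [Group G] [Finite G]

section ctx2

open Cfsg.Agent.Helper7.JC48 Cfsg.Agent.Helper15

variable (hL : IsCharacteristicTwoType G)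
  (hN : ∀ N : Subgroup G, IsTwoLocal N → Group.IsSolvable ↥N)
  (hZ : ∀ S : Sylow 2 G, Subgroup.centralizer (omegaCenterOf (S : Subgroup G) : Set G) ≤
      Subgroup.normalizer ((S : Subgroup G) : Set G))
  (S : Sylow 2 G) {M : Subgroup G}
  (hMJ : Subgroup.normalizer (thompsonSubgroupOf 2 (S : Subgroup G) : Set G) ≤ M)
  {T : Subgroup G} (hT : T ∈ maxStraddlingTwoSubgroups M)

include hL hN hZ hMJ hT

/-- PCMP (1).  Copy of the second half of the proof of `Cfsg.Agent.S2949.result`. -/
theorem mem_jComponentsOutside_of_le {L' : Subgroup G} (hL'2 : IsTwoLocal L') (hTL' : T ≤ L')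
    {K : Subgroup G} (hK : IsJComponent T K) (hKL' : K ≤ L') (hKM : ¬ K ≤ M) :
    K ∈ jComponentsOutside M T := by
  have hT1 : T ≠ ⊥ := hT.1.2.1
  have hL'M : ¬ L' ≤ M := fun h => hKM (hKL'.trans h)
  have hLT : L' ∈ jOvergroups T :=
    Cfsg.Agent.Helper7.JC48.mem_jOvergroups_self_of_max hL S hMJ hT hL'2 hL'M hTL'
  refine ⟨⟨hK, ?_⟩, hKM, ?_⟩
  · -- `K ∈ 𝒦₀(T)`
    intro S' hJS' hS'
    have hW4 : Nat.card (wOf K) = 4 := hK.2.2.2.2.1
    have hWp : IsPGroup 2 (wOf K) := by
      apply IsPGroup.of_card (n := 2)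
      rw [hW4]; norm_num
    have hW1 : wOf K ≠ ⊥ := by
      intro h
      rw [h, Subgroup.card_bot] at hW4
      omega
    have hloc : IsTwoLocal (Subgroup.normalizer (wOf K : Set G)) := ⟨wOf K, hWp, hW1, rfl⟩
    have hKN : K ≤ Subgroup.normalizer (wOf K : Set G) :=
      Subgroup.le_normalizer.trans (Cfsg.Agent.Helper25.JC.normalizer_le_normalizer_wOf K)
    have hNM : ¬ Subgroup.normalizer (wOf K : Set G) ≤ M := fun h => hKM (hKN.trans h)
    exact (Cfsg.Agent.Helper7.JC48.J_eq_and_le_of_max S hMJ hT hloc hNM hS' hJS').1.symm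
  · -- `O₂(⟨K, T⟩) ≠ 1`
    have hTsyl : IsSylowTwoIn T L' := hLT.1
    have hQT : pCoreOf 2 L' ≤ T :=
      Cfsg.Agent.Helper7.Glaub.pCoreOf_le_of_isSylowIn
        (Cfsg.Agent.Helper7.JC48.isSylowIn_of_two hTsyl)
    have hQne : pCoreOf 2 L' ≠ ⊥ := by
      intro h
      have hc := hLT.2.2
      rw [h] at hc
      have htop : Subgroup.centralizer ((⊥ : Subgroup G) : Set G) = ⊤ := by
        rw [Subgroup.coe_bot]
        exact Subgroup.centralizer_eq_top_iff_subset.2 (by
          intro x hx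
          rw [Set.mem_singleton_iff] at hx
          subst hx
          exact (Subgroup.center G).one_mem)
      rw [htop] at hc
      apply hT1
      exact le_bot_iff.1 (le_top.trans hc)
    have hYL : K ⊔ T ≤ L' := sup_le hKL' hTL'
    have hle : pCoreOf 2 L' ≤ pCoreOf 2 (K ⊔ T) := by
      apply Cfsg.Agent.Helper14.le_pCoreOf (hQT.trans le_sup_right)
      · exact hYL.trans (Cfsg.Agent.Helper14.le_normalizer_pCoreOf 2 L')
      · exact Cfsg.Agent.Helper14.pCoreOf_isPGroup 2 L'
    intro h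
    rw [h] at hle
    exact hQne (le_bot_iff.1 hle)

/-- PCMP (2).  For `x ∈ N_G(T)` (`≤ N_G(J(T))`): `K^x` is a `J(T)`-component not in `M`; it lies in `L^x ≥ T^x = T`
where `L` is the maximal 2-local of `main_S2950`; apply PCMP (1). -/
theorem conj_mem_jComponentsOutside {K : Subgroup G} (hK : K ∈ jComponentsOutside M T) {x : G}
    (hx : x ∈ Subgroup.normalizer (T : Set G)) :
    K.map (MulAut.conj x).toMonoidHom ∈ jComponentsOutside M T := by
  obtain ⟨L, hLmax, hKL, -, -, hTL⟩ := main_S2950 hL hN hZ S hMJ hT hK.1.1 hK.2.1 hK.2.2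
  have hxJ : x ∈ Subgroup.normalizer (thompsonSubgroupOf 2 T : Set G) :=
    normalizer_le_normalizer_J T hx
  have hxM : x ∈ M := normalizer_J_le_of_max S hMJ hT hxJ
  have hTx : T.map (MulAut.conj x).toMonoidHom = T := map_conj_eq_of_mem_normalizer hx
  have hKx : IsJComponent T (K.map (MulAut.conj x).toMonoidHom) := by
    have h := (isJComponent_map_conj x (T := T) (K := K)).2 hK.1.1
    rwa [hTx] at h
  have hKxM : ¬ K.map (MulAut.conj x).toMonoidHom ≤ M := by
    intro h
    apply hK.2.1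
    have h2 := map_conj_mono h x⁻¹
    rwa [map_conj_inv_map_conj, map_conj_eq_self_of_mem (M.inv_mem hxM)] at h2
  have hTLx : T ≤ L.map (MulAut.conj x).toMonoidHom := by
    have h := map_conj_mono hTL.1 x
    rwa [hTx] at h
  exact mem_jComponentsOutside_of_le hL hN hZ S hMJ hT
    (isMaximalTwoLocal_map_conj x hLmax).1 hTLx hKx
    (map_conj_mono (le_sup_left.trans hKL) x) hKxM

end ctx2

end Cfsg.Agent.Helper27.KV
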