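import Mathlib
import Cfsg.Prelude.Def_JComponents
import Cfsg.Agent.Lib.Helper27.KVDefs
import Cfsg.Agent.Lib.Helper15.KVBAS

/-!
# KS12c / S2953' (helper27's farm-out), PIECE POMG (helper8)

`commutator_omegaCenterOf_ne_bot_of` : POMG with the inclusion `Z₀ ≤ Ω₁Z(T)` (= `z0_le_omegaCenterOf` of the skeleton, which
is part of the S2951'/S2952' assembly) as a hypothesis `hZ0`.  The exact-signature statement of the skeleton is
`commutator_omegaCenterOf_ne_bot_of … (z0_le_omegaCenterOf hL hN hZ S hMJ hT hNO hK) hK`.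
-/

set_option autoImplicit false
set_option linter.unusedVariables false
set_option linter.unusedSectionVars false
set_option linter.style.haveILetI false

namespace Cfsg.Agent.Helper27.KV

open Cfsg Cfsg.Agent.Helper13.JCFF Cfsg.Agent.Helper27.KU

open scoped commutatorElement

universe u

variable {G : Type u} [Group G] [Finite G]

section ctx2

variable (hL : IsCharacteristicTwoType G)
  (hN : ∀ N : Subgroup G, IsTwoLocal N → Group.IsSolvable ↥N)
  (hZ : ∀ S : Sylow 2 G, Subgroup.centralizer (omegaCenterOf (S : Subgroup G) : Set G) ≤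
      Subgroup.normalizer ((S : Subgroup G) : Set G))
  (S : Sylow 2 G) {M : Subgroup G}
  (hMJ : Subgroup.normalizer (thompsonSubgroupOf 2 (S : Subgroup G) : Set G) ≤ M)
  {T : Subgroup G} (hT : T ∈ maxStraddlingTwoSubgroups M)

include hL hN hZ hMJ hT

/-- POMG, with `Z₀ ≤ Ω₁Z(T)` as a hypothesis.  `1 ≠ w ∈ Z₀ ⊓ W_K` (`z0_inf_wOf_ne_bot`), `w ∈ Ω₁Z(T)`, some `k ∈ K` does not
commute with `w` (`exists_not_comm_of_mem_wOf`), so `⁅w, k⁆ ≠ 1`. -/
theorem commutator_omegaCenterOf_ne_bot_of (hZ0 : Z0 T ≤ omegaCenterOf T) {K : Subgroup G}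
    (hK : K ∈ jComponentsOutside M T) : ⁅omegaCenterOf T, K ⊔ T⁆ ≠ ⊥ := by
  have hT2 : IsPGroup 2 ↥T := hT.1.1
  have hT1 : T ≠ ⊥ := hT.1.2.1
  have hne := z0_inf_wOf_ne_bot hL hN hZ hT2 hT1 hK.1.1
  obtain ⟨⟨w, hw⟩, hw1⟩ := (Subgroup.ne_bot_iff_exists_ne_one (H := Z0 T ⊓ wOf K)).1 hne
  have hw1' : w ≠ 1 := fun h => hw1 (Subtype.ext h)
  obtain ⟨hwZ, hwW⟩ := Subgroup.mem_inf.1 hw
  obtain ⟨k, hk, hkw⟩ := exists_not_comm_of_mem_wOf hT2 hK.1.1 hwW hw1'
  intro h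
  have hmem : ⁅w, k⁆ ∈ ⁅omegaCenterOf T, K ⊔ T⁆ :=
    Subgroup.commutator_mem_commutator (hZ0 hwZ) ((le_sup_left : K ≤ K ⊔ T) hk)
  rw [h, Subgroup.mem_bot] at hmem
  exact hkw (commutatorElement_eq_one_iff_commute.1 hmem).eq.symm

end ctx2

end Cfsg.Agent.Helper27.KV
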