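import Mathlib
import Cfsg.Agent.Lib.Helper24.FrobeniusSchur
import Cfsg.Agent.Lib.Helper24.CharIntegral
import Cfsg.Agent.Lib.Helper5.FrobKer
import Cfsg.Agent.Lib.Helper5.PrimeTIg

/-!
# Groups of order 4080 with the character degrees of `PSL(2,16)`: no element of order four (helper8)

The Frobenius–Schur count of involutions forces every indicator to be `1` and the seven remaining
degrees to be `17`; the count of square roots of an involution is then `1 + 0 - 8 + 7 = 0`.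
-/

set_option autoImplicit false
set_option linter.unusedVariables false
set_option linter.unusedSectionVars false
set_option linter.style.haveILetI false

namespace Cfsg.Agent.Helper8.PSL16

open Cfsg Cfsg.Agent.Helper24 Cfsg.Agent.Helper5
open Cfsg.Agent.Helper5.PrimeTI
open scoped ComplexConjugate

universe u

variable {G : Type u} [Group G] [Fintype G] [Fintype (IrrCharacter G)]

/-- splitting a sum over the irreducible characters -/
theorem sum_split {M : Type*} [AddCommMonoid M] [DecidableEq (IrrCharacter G)]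
    (E : Finset (IrrCharacter G)) (τ₀ X : IrrCharacter G)
    (hτE : τ₀ ∉ E) (hXE : X ∉ E) (hXτ : X ≠ τ₀) (f : IrrCharacter G → M) :
    ∑ ψ, f ψ = f τ₀ + (f X + (∑ ψ ∈ E, f ψ + ∑ ψ ∈ (Eᶜ.erase τ₀).erase X, f ψ)) := by
  rw [← Finset.sum_add_sum_compl E f, ← Finset.add_sum_erase Eᶜ f (Finset.mem_compl.mpr hτE),
    ← Finset.add_sum_erase (Eᶜ.erase τ₀) f
      (Finset.mem_erase.mpr ⟨hXτ, Finset.mem_compl.mpr hXE⟩)]
  abel

/-- the number of solutions of `u * u = 1` when the involutions form one class -/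
theorem sqrtCount_one {τ : G} (hττ : τ * τ = 1) (hτ1 : τ ≠ 1)
    (hall : ∀ s : G, s * s = 1 → s ≠ 1 → IsConj s τ) :
    sqrtCount (1 : G) = 1 + ((Subgroup.centralizer ({τ} : Set G)).index : ℂ) := by
  classical
  unfold sqrtCount
  rw [Finset.sum_boole]
  have hset : Finset.univ.filter (fun u : G => u * u = 1) =
      insert 1 (Finset.univ.filter (IsConj τ)) := by
    ext u
    simp only [Finset.mem_filter, Finset.mem_univ, true_and, Finset.mem_insert]
    constructor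
    · intro hu
      by_cases h1 : u = 1
      · exact Or.inl h1
      · exact Or.inr (hall u hu h1).symm
    · rintro (rfl | hc)
      · exact mul_one 1
      · obtain ⟨c, hc⟩ := isConj_iff.mp hc
        rw [← hc]
        calc c * τ * c⁻¹ * (c * τ * c⁻¹) = c * (τ * τ) * c⁻¹ := by group
          _ = 1 := by rw [hττ]; group
  have hnot : (1 : G) ∉ Finset.univ.filter (IsConj τ) := by
    simp only [Finset.mem_filter, Finset.mem_univ, true_and]
    intro hc
    exact hτ1 (isConj_one_right.mp hc.symm)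
  rw [hset, Finset.card_insert_of_notMem hnot, card_filter_isConj]
  push_cast
  ring

set_option maxHeartbeats 1600000 in
/-- an involution has no square root -/
theorem no_sqrt (hcard : Nat.card G = 4080) (E : Finset (IrrCharacter G)) (X : IrrCharacter G)
    (hEcard : E.card = 8) (hXE : X ∉ E) (hXne : (X : G → ℂ) ≠ fun _ => 1)
    (hEone : ∀ ψ ∈ E, (ψ : G → ℂ) ≠ fun _ => 1)
    (hXdeg : charDegree (X : G → ℂ) = 16) (hEdeg : ∀ ψ ∈ E, charDegree (ψ : G → ℂ) = 15)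
    (hEval : ∀ ψ ∈ E, ∀ s : G, s * s = 1 → (ψ : G → ℂ) s = -(1 - (X : G → ℂ) s))
    (hRest : ∀ ψ ∉ E, ψ ≠ X → (ψ : G → ℂ) ≠ (fun _ => 1) → 17 ∣ charDegree (ψ : G → ℂ))
    (τ : G) (hττ : τ * τ = 1) (hτ1 : τ ≠ 1) (hXτ : (X : G → ℂ) τ = 0)
    (hC : Nat.card (Subgroup.centralizer ({τ} : Set G)) = 16)
    (hall : ∀ s : G, s * s = 1 → s ≠ 1 → IsConj s τ) (g : G) : g * g ≠ τ := by
  classical
  set τ₀ : IrrCharacter G := ⟨fun _ => 1, isIrrCharacter_one⟩ with hτ₀
  have hτ₀E : τ₀ ∉ E := fun h => hEone τ₀ h rfl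
  have hXτ₀ : X ≠ τ₀ := fun h => hXne (by rw [h])
  set R := (Eᶜ.erase τ₀).erase X with hR
  have hRmem : ∀ ψ ∈ R, 17 ∣ charDegree (ψ : G → ℂ) := by
    intro ψ hψ
    have h1 := Finset.ne_of_mem_erase hψ
    have h2 := Finset.mem_of_mem_erase hψ
    have h3 := Finset.ne_of_mem_erase h2
    have h4 := Finset.mem_compl.mp (Finset.mem_of_mem_erase h2)
    exact hRest ψ h4 h1 (fun h => h3 (Subtype.ext h))
  -- integer indicators
  have hν : ∀ ψ : IrrCharacter G, ∃ v : ℤ, (v : ℂ) = fsInd (ψ : G → ℂ) ∧ v ≤ 1 := by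
    intro ψ
    rcases fsInd_cases ψ.2 with ⟨-, h | h⟩ | ⟨-, h⟩
    · exact ⟨1, by rw [h]; simp, le_refl _⟩
    · exact ⟨-1, by rw [h]; simp, by norm_num⟩
    · exact ⟨0, by rw [h]; simp, by norm_num⟩
  choose ν hνeq hνle using hν
  have hdegτ₀ : charDegree (τ₀ : G → ℂ) = 1 := charDegree_one
  -- the squares of the degrees
  have hsq := sum_charDegree_sq (G := G)
  rw [hcard, sum_split E τ₀ X hτ₀E hXE hXτ₀, ← hR, hdegτ₀, hXdeg,
    Finset.sum_congr rfl (fun ψ hψ => by rw [hEdeg ψ hψ]), Finset.sum_const, hEcard] at hsq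
  have hRsq : ∑ ψ ∈ R, charDegree (ψ : G → ℂ) ^ 2 = 2023 := by
    simp only [smul_eq_mul] at hsq
    omega
  -- the index of the centralizer
  have hidx : (Subgroup.centralizer ({τ} : Set G)).index = 255 := by
    have := Subgroup.card_mul_index (Subgroup.centralizer ({τ} : Set G))
    rw [hC, hcard] at this
    omega
  have hcount1 : sqrtCount (1 : G) = 256 := by
    rw [sqrtCount_one hττ hτ1 hall, hidx]
    norm_num
  -- the indicator sum at the identity
  have hfs1 : ∑ ψ : IrrCharacter G, ν ψ * (charDegree (ψ : G → ℂ) : ℤ) = 256 := by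
    have h := sum_fsInd_mul (G := G) (1 : G)
    rw [hcount1] at h
    have : ((∑ ψ : IrrCharacter G, ν ψ * (charDegree (ψ : G → ℂ) : ℤ) : ℤ) : ℂ) =
        ((256 : ℤ) : ℂ) := by
      push_cast
      rw [← h]
      refine Finset.sum_congr rfl fun ψ _ => ?_
      rw [hνeq ψ, irr_one_eq_charDegree ψ.2]
    exact_mod_cast this
  -- the sum of the degrees
  have hdegsum : ∑ ψ : IrrCharacter G, (charDegree (ψ : G → ℂ) : ℤ) =
      137 + ∑ ψ ∈ R, (charDegree (ψ : G → ℂ) : ℤ) := by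
    rw [sum_split E τ₀ X hτ₀E hXE hXτ₀, ← hR, hdegτ₀, hXdeg,
      Finset.sum_congr rfl (fun ψ hψ => by rw [hEdeg ψ hψ]), Finset.sum_const, hEcard]
    simp only [smul_eq_mul, nsmul_eq_mul]
    push_cast
    ring
  have hRsq' : ∑ ψ ∈ R, (charDegree (ψ : G → ℂ) : ℤ) ^ 2 = 2023 := by
    exact_mod_cast hRsq
  -- the two nonnegative sums
  have hA0 : ∀ ψ ∈ (Finset.univ : Finset (IrrCharacter G)),
      0 ≤ (1 - ν ψ) * (charDegree (ψ : G → ℂ) : ℤ) := fun ψ _ =>
    mul_nonneg (by have := hνle ψ; omega) (by positivity)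
  have hB0 : ∀ ψ ∈ R, 0 ≤ (charDegree (ψ : G → ℂ) : ℤ) * ((charDegree (ψ : G → ℂ) : ℤ) - 17) := by
    intro ψ hψ
    have h17 : 17 ≤ charDegree (ψ : G → ℂ) :=
      Nat.le_of_dvd (charDegree_pos ψ.2) (hRmem ψ hψ)
    have : (17 : ℤ) ≤ (charDegree (ψ : G → ℂ) : ℤ) := by exact_mod_cast h17
    exact mul_nonneg (by positivity) (by omega)
  have hAB : 17 * ∑ ψ : IrrCharacter G, (1 - ν ψ) * (charDegree (ψ : G → ℂ) : ℤ) +
      ∑ ψ ∈ R, (charDegree (ψ : G → ℂ) : ℤ) * ((charDegree (ψ : G → ℂ) : ℤ) - 17) = 0 := by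
    have e1 : ∑ ψ : IrrCharacter G, (1 - ν ψ) * (charDegree (ψ : G → ℂ) : ℤ) =
        ∑ ψ : IrrCharacter G, (charDegree (ψ : G → ℂ) : ℤ) -
          ∑ ψ : IrrCharacter G, ν ψ * (charDegree (ψ : G → ℂ) : ℤ) := by
      rw [← Finset.sum_sub_distrib]
      exact Finset.sum_congr rfl fun ψ _ => by ring
    have e2 : ∑ ψ ∈ R, (charDegree (ψ : G → ℂ) : ℤ) * ((charDegree (ψ : G → ℂ) : ℤ) - 17) =
        ∑ ψ ∈ R, (charDegree (ψ : G → ℂ) : ℤ) ^ 2 -
          17 * ∑ ψ ∈ R, (charDegree (ψ : G → ℂ) : ℤ) := by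
      rw [Finset.mul_sum, ← Finset.sum_sub_distrib]
      exact Finset.sum_congr rfl fun ψ _ => by ring
    rw [e1, e2, hfs1, hdegsum, hRsq']
    ring
  have hA := Finset.sum_nonneg hA0
  have hB := Finset.sum_nonneg hB0
  have hAz : ∑ ψ : IrrCharacter G, (1 - ν ψ) * (charDegree (ψ : G → ℂ) : ℤ) = 0 := by omega
  have hBz : ∑ ψ ∈ R, (charDegree (ψ : G → ℂ) : ℤ) * ((charDegree (ψ : G → ℂ) : ℤ) - 17) = 0 := by
    omega
  have hν1 : ∀ ψ : IrrCharacter G, fsInd (ψ : G → ℂ) = 1 := by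
    intro ψ
    have h0 := (Finset.sum_eq_zero_iff_of_nonneg hA0).mp hAz ψ (Finset.mem_univ ψ)
    have hpos : (0 : ℤ) < (charDegree (ψ : G → ℂ) : ℤ) := by exact_mod_cast charDegree_pos ψ.2
    rcases mul_eq_zero.mp h0 with h | h
    · have : ν ψ = 1 := by omega
      rw [← hνeq ψ, this]; simp
    · omega
  have hR17 : ∀ ψ ∈ R, (ψ : G → ℂ) 1 = 17 := by
    intro ψ hψ
    have h0 := (Finset.sum_eq_zero_iff_of_nonneg hB0).mp hBz ψ hψ
    have hpos : (0 : ℤ) < (charDegree (ψ : G → ℂ) : ℤ) := by exact_mod_cast charDegree_pos ψ.2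
    have : (charDegree (ψ : G → ℂ) : ℤ) = 17 := by
      rcases mul_eq_zero.mp h0 with h | h <;> omega
    have h17 : charDegree (ψ : G → ℂ) = 17 := by exact_mod_cast this
    rw [irr_one_eq_charDegree ψ.2, h17]
    norm_num
  -- the values at the involution
  have hEτ : ∀ ψ ∈ E, (ψ : G → ℂ) τ = -1 := by
    intro ψ hψ
    rw [hEval ψ hψ τ hττ, hXτ]
    ring
  have hcol := FrobKer.sum_deg_mul (X := G) hτ1
  rw [sum_split E τ₀ X hτ₀E hXE hXτ₀, ← hR, hXτ,
    Finset.sum_congr rfl (fun ψ hψ => by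
      rw [hEτ ψ hψ, irr_one_eq_charDegree ψ.2, hEdeg ψ hψ]),
    Finset.sum_const, hEcard,
    Finset.sum_congr rfl (fun ψ (hψ : ψ ∈ R) => by rw [hR17 ψ hψ]), ← Finset.mul_sum] at hcol
  have hRτ : ∑ ψ ∈ R, (ψ : G → ℂ) τ = 7 := by
    have h1 : (τ₀ : G → ℂ) 1 * (τ₀ : G → ℂ) τ = 1 := by simp [hτ₀]
    rw [h1] at hcol
    simp only [nsmul_eq_mul] at hcol
    push_cast at hcol
    linear_combination (1 / 17 : ℂ) * hcol
  have hsq0 : sqrtCount τ = 0 := by
    rw [← sum_fsInd_mul τ, Finset.sum_congr rfl (fun ψ _ => by rw [hν1 ψ, one_mul]),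
      sum_split E τ₀ X hτ₀E hXE hXτ₀, ← hR, hXτ, Finset.sum_congr rfl (fun ψ hψ => hEτ ψ hψ),
      Finset.sum_const, hEcard, hRτ]
    simp [hτ₀]
    norm_num
  intro hg
  unfold sqrtCount at hsq0
  rw [Finset.sum_boole] at hsq0
  have hcz : (Finset.univ.filter (fun u : G => u * u = τ)).card = 0 := by exact_mod_cast hsq0
  have hmem : g ∈ Finset.univ.filter (fun u : G => u * u = τ) := by
    simp only [Finset.mem_filter, Finset.mem_univ, true_and]
    exact hg
  rw [Finset.card_eq_zero] at hcz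
  rw [hcz] at hmem
  exact absurd hmem (Finset.notMem_empty g)

/-- no element of order four -/
theorem sq_eq_one_of_pow (hns : ∀ u : G, u * u = 1 → u ≠ 1 → ∀ g : G, g * g ≠ u) (g : G)
    (hg : g ^ 16 = 1) : g ^ 2 = 1 := by
  by_contra h2
  by_cases h4 : g ^ 4 = 1
  · refine hns (g ^ 2) ?_ h2 g (by rw [pow_two])
    rw [← pow_add]; exact h4
  by_cases h8 : g ^ 8 = 1
  · refine hns (g ^ 4) ?_ h4 (g ^ 2) (by rw [← pow_add])
    rw [← pow_add]; exact h8
  · refine hns (g ^ 8) ?_ h8 (g ^ 4) (by rw [← pow_add])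
    rw [← pow_add]; exact hg

end Cfsg.Agent.Helper8.PSL16
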