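import Mathlib
import Cfsg.Agent.Lib.Helper3.LSDefs
import Cfsg.Agent.Lib.Helper3.LSDefs2
import Cfsg.Agent.Lib.Helper3.LSW12
import Cfsg.Agent.Lib.Helper3.LSW34
import Cfsg.Agent.Lib.Helper19.LSACT1
import Cfsg.Agent.Lib.Helper19.LSACT2
import Cfsg.Agent.Lib.Helper3.LSPATH

/-!
S5286 farm-out (helper3), piece LS-FUS: Britton-type peeling along a reduced path.
-/

set_option autoImplicit false
set_option linter.unusedSectionVars false
set_option linter.unusedVariables false

noncomputable section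

namespace Cfsg.Agent.Helper3.LS

universe u

variable {Sg : Type u} [Group Sg] (D : Data Sg)

theorem ls_fus_θ_apply (x : Sg) (v : FreeGroup D.X) :
    D.θ x v = FreeGroup.freeGroupCongr (MulAction.toPerm x) v := rfl

/-- along a reduced step the word of the vertex grows by exactly the new letter. -/
theorem ls_fus_step_word (g : D.W) (i : D.I) (b : Bool)
    (hn : FreeGroup.norm ((g * D.ts i b) • (1 : FreeGroup D.X)) =
      FreeGroup.norm (g • (1 : FreeGroup D.X)) + 1) :
    ((g * D.ts i b) • (1 : FreeGroup D.X)).toWord =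
      (g • (1 : FreeGroup D.X)).toWord ++ [((g.right • (D.lt i b).1), b)] := by
  rw [mul_ts_smul_one] at hn ⊢
  rcases word_mul_letter (g • (1 : FreeGroup D.X)) ((g.right • (D.lt i b).1), b) with h | h
  · exact h
  · exfalso
    have h2 := congrArg List.length h
    unfold FreeGroup.norm at hn
    rw [List.length_append, List.length_singleton] at h2
    omega

theorem ls_fus_mem_map (σ y : Sg) (P : Subgroup Sg) :
    y ∈ P.map (MulAut.conj σ).toMonoidHom ↔ ∃ x ∈ P, σ * x * σ⁻¹ = y := by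
  rw [Subgroup.mem_map]
  rfl

theorem ls_fus_right_step (g : D.W) (i : D.I) (b : Bool) (s : Sg) :
    (g * D.ts i b * D.inS s).right = g.right * (if b then D.τ i else (D.τ i)⁻¹) * s := by
  cases b
  · simp [Data.ts, Data.tt, Data.inS]
  · simp [Data.ts, Data.tt, Data.inS]

theorem fus_of_pth {h : D.W} (hh : D.Pth h) (P : Subgroup Sg) (hP : P ≤ D.S0)
    (hfix : ∀ x ∈ P, D.θ x (h • (1 : FreeGroup D.X)) = h • (1 : FreeGroup D.X)) :
    D.Fus (h.right)⁻¹ P := by
  induction hh generalizing P with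
  | base s hs =>
    have h1 : (D.inS s).right = s := by simp [Data.inS]
    rw [h1]
    exact Data.Fus.inner s⁻¹ (D.S0.inv_mem hs) P hP
  | step g i b s hs hg hn ih =>
    have hw : (g * D.ts i b * D.inS s) • (1 : FreeGroup D.X) =
        (g * D.ts i b) • (1 : FreeGroup D.X) := mul_inS_smul_one D _ s
    have hword := ls_fus_step_word D g i b hn
    have hpre : (g • (1 : FreeGroup D.X)).toWord <+:
        ((g * D.ts i b) • (1 : FreeGroup D.X)).toWord := by
      rw [hword]; exact List.prefix_append _ _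
    have hmemw : ((g.right • (D.lt i b).1), b) ∈
        ((g * D.ts i b) • (1 : FreeGroup D.X)).toWord := by
      rw [hword]; simp
    have hfix' : ∀ x ∈ P, FreeGroup.freeGroupCongr (MulAction.toPerm x)
        ((g * D.ts i b) • (1 : FreeGroup D.X)) = (g * D.ts i b) • (1 : FreeGroup D.X) := by
      intro x hx
      have := hfix x hx
      rw [hw] at this
      exact this
    have h1 : ∀ x ∈ P, D.θ x (g • (1 : FreeGroup D.X)) = g • (1 : FreeGroup D.X) := by
      intro x hx
      exact word_fixed_prefix (MulAction.toPerm x) _ _ (hfix' x hx) hpre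
    have h2 : ∀ x ∈ P, x • (g.right • (D.lt i b).1) = g.right • (D.lt i b).1 := by
      intro x hx
      exact word_fixed_letter (MulAction.toPerm x) _ (hfix' x hx) _ hmemw
    have ih' := ih P hP h1
    -- the conjugated subgroup fixes the base letter
    have hfl : ∀ y ∈ P.map (MulAut.conj (g.right)⁻¹).toMonoidHom,
        y • (D.lt i b).1 = (D.lt i b).1 := by
      intro y hy
      rw [ls_fus_mem_map] at hy
      obtain ⟨x, hx, rfl⟩ := hy
      have := h2 x hx
      rw [inv_inv, mul_smul, mul_smul, this, inv_smul_smul]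
    have hs' : s⁻¹ ∈ D.S0 := D.S0.inv_mem hs
    cases b with
    | true =>
      have hlt : (D.lt i true).1 = D.x0 i := by simp [Data.lt]
      have hP1 : P.map (MulAut.conj (g.right)⁻¹).toMonoidHom ≤ D.B i := by
        intro y hy
        have h3 := hfl y hy
        rw [hlt] at h3
        have h4 : y • D.x0 i = (1 : Sg) • D.x0 i := by rw [h3, one_smul]
        have h5 := (smul_x0_eq_iff D y 1 i).1 h4
        rw [mul_one] at h5
        have := (D.B i).inv_mem h5
        simpa using this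
      have step1 := Data.Fus.comp (g.right)⁻¹ (D.τ i)⁻¹ P ih' (Data.Fus.bwd i _ hP1)
      have hP2 : P.map (MulAut.conj ((D.τ i)⁻¹ * (g.right)⁻¹)).toMonoidHom ≤ D.S0 := by
        intro w hw
        rw [ls_fus_mem_map] at hw
        obtain ⟨x, hx, rfl⟩ := hw
        have hy : (g.right)⁻¹ * x * ((g.right)⁻¹)⁻¹ ∈ D.B i :=
          hP1 ((ls_fus_mem_map _ _ _).2 ⟨x, hx, rfl⟩)
        have h6 := (mem_B_iff D i _).1 hy
        have e : (D.τ i)⁻¹ * (g.right)⁻¹ * x * ((D.τ i)⁻¹ * (g.right)⁻¹)⁻¹ =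
            (D.τ i)⁻¹ * ((g.right)⁻¹ * x * ((g.right)⁻¹)⁻¹) * D.τ i := by
          simp [mul_assoc]
        rw [e]
        exact D.hA i h6
      have step2 := Data.Fus.comp _ s⁻¹ P step1 (Data.Fus.inner s⁻¹ hs' _ hP2)
      have e : ((g * D.ts i true * D.inS s).right)⁻¹ = s⁻¹ * ((D.τ i)⁻¹ * (g.right)⁻¹) := by
        rw [ls_fus_right_step]
        simp [mul_assoc]
      rw [e]
      exact step2
    | false =>
      have hlt : (D.lt i false).1 = (D.τ i)⁻¹ • D.x0 i := by simp [Data.lt]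
      have hP1 : P.map (MulAut.conj (g.right)⁻¹).toMonoidHom ≤ D.A i := by
        intro y hy
        have h3 := hfl y hy
        rw [hlt, ← mul_smul] at h3
        have h5 := (smul_x0_eq_iff D (y * (D.τ i)⁻¹) (D.τ i)⁻¹ i).1 h3
        have h6 := (mem_B_iff D i _).1 h5
        have e : (D.τ i)⁻¹ * ((y * (D.τ i)⁻¹)⁻¹ * (D.τ i)⁻¹) * D.τ i = y⁻¹ := by
          simp [mul_assoc]
        rw [e] at h6
        have := (D.A i).inv_mem h6
        simpa using this
      have step1 := Data.Fus.comp (g.right)⁻¹ (D.τ i) P ih' (Data.Fus.fwd i _ hP1)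
      have hP2 : P.map (MulAut.conj (D.τ i * (g.right)⁻¹)).toMonoidHom ≤ D.S0 := by
        intro w hw
        rw [ls_fus_mem_map] at hw
        obtain ⟨x, hx, rfl⟩ := hw
        have hy : (g.right)⁻¹ * x * ((g.right)⁻¹)⁻¹ ∈ D.A i :=
          hP1 ((ls_fus_mem_map _ _ _).2 ⟨x, hx, rfl⟩)
        have e : D.τ i * (g.right)⁻¹ * x * (D.τ i * (g.right)⁻¹)⁻¹ =
            D.τ i * ((g.right)⁻¹ * x * ((g.right)⁻¹)⁻¹) * (D.τ i)⁻¹ := by
          simp [mul_assoc]
        rw [e]
        apply D.hB i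
        exact (ls_fus_mem_map _ _ _).2 ⟨_, hy, rfl⟩
      have step2 := Data.Fus.comp _ s⁻¹ P step1 (Data.Fus.inner s⁻¹ hs' _ hP2)
      have e : ((g * D.ts i false * D.inS s).right)⁻¹ = s⁻¹ * (D.τ i * (g.right)⁻¹) := by
        rw [ls_fus_right_step]
        simp [mul_assoc]
      rw [e]
      exact step2

/-- `fus_of_mem` with the path theorem as a hypothesis. -/
theorem ls_fus_of_mem_core (hpth : ∀ g : D.W, g ∈ D.G → D.Pth g)
    (g : D.W) (hg : g ∈ D.G) (P : Subgroup Sg) (hP : P ≤ D.S0)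
    (hc : ∀ x ∈ P, ∃ y, g * D.inS x * g⁻¹ = D.inS y) : D.Fus g.right P := by
  have hp : D.Pth g⁻¹ := hpth _ (D.G.inv_mem hg)
  have hfix : ∀ x ∈ P, D.θ x (g⁻¹ • (1 : FreeGroup D.X)) = g⁻¹ • (1 : FreeGroup D.X) := by
    intro x hx
    obtain ⟨y, hy⟩ := hc x hx
    have h1 : D.inS x * g⁻¹ = g⁻¹ * D.inS y := by
      rw [← hy]; simp [mul_assoc]
    rw [← smul_inS, ← mul_smul, h1, mul_inS_smul_one]
  have := fus_of_pth D hp P hP hfix
  have e : ((g⁻¹).right)⁻¹ = g.right := by simp
  rw [e] at this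
  exact this

/-- (M2) -/
theorem fus_of_mem (g : D.W) (hg : g ∈ D.G) (P : Subgroup Sg) (hP : P ≤ D.S0)
    (hc : ∀ x ∈ P, ∃ y, g * D.inS x * g⁻¹ = D.inS y) : D.Fus g.right P :=
  ls_fus_of_mem_core D (pth_of_mem D) g hg P hP hc

end Cfsg.Agent.Helper3.LS
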