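import Mathlib
import Cfsg.Agent.Lib.Helper3.M24IdxDefs
import Cfsg.Agent.Lib.Helper29.M24Sextet
import Cfsg.Agent.Lib.Helper29.M24OctStab
import Cfsg.Agent.Lib.Helper29.M21Simple

/-!
# S1589 piece IDX-C3B: `sextet_of_fix4`
-/

set_option autoImplicit false
open Cfsg

namespace Cfsg.Agent.Helper3.M24Idx

open Cfsg.Agent.Helper27 Cfsg.Agent.Helper29 Cfsg.Agent.Helper29.M24
open scoped Pointwise

/-- a set invariant under a group which is transitive outside `S` and is too small to contain
the complement of `S` lies inside `S` -/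
theorem m24idx_c3b_subset (S B : Finset GolayPt) (H : Subgroup (Equiv.Perm GolayPt))
    (hinv : ∀ g ∈ H, g • B = B)
    (htr : ∀ p q : GolayPt, p ∉ S → q ∉ S → ∃ g ∈ H, g p = q)
    (hcard : B.card + S.card < 24) : B ⊆ S := by
  classical
  by_contra hcon
  rw [Finset.not_subset] at hcon
  obtain ⟨p, hpB, hpS⟩ := hcon
  have hsub : Finset.univ \ S ⊆ B := by
    intro q hq
    rw [Finset.mem_sdiff] at hq
    obtain ⟨g, hg, hgp⟩ := htr p q hpS hq.2
    have h1 := (smul_eq_iff_forall B g).1 (hinv g hg) p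
    rw [hgp] at h1
    exact h1.2 hpB
  have h2 := Finset.card_le_card hsub
  have h3 : (Finset.univ \ S).card = 24 - S.card := by
    rw [Finset.card_sdiff_of_subset (Finset.subset_univ S), card_univ_pt]
  have h4 : S.card ≤ 24 := by
    rw [← card_univ_pt]; exact Finset.card_le_card (Finset.subset_univ S)
  omega

theorem m24idx_c3b_mem_t0 (x a b c p : GolayPt) :
    p ∈ ({x, a, b, c} : Finset GolayPt) ↔ p = x ∨ p = a ∨ p = b ∨ p = c := by
  simp only [Finset.mem_insert, Finset.mem_singleton]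

theorem m24idx_c3b_card_t0 (x a b c : GolayPt) (hxa : x ≠ a) (hxb : x ≠ b) (hxc : x ≠ c)
    (hab : a ≠ b) (hac : a ≠ c) (hbc : b ≠ c) : ({x, a, b, c} : Finset GolayPt).card = 4 := by
  rw [Finset.card_insert_of_notMem, Finset.card_insert_of_notMem, Finset.card_insert_of_notMem,
    Finset.card_singleton]
  · simp only [Finset.mem_singleton]; exact hbc
  · simp only [Finset.mem_insert, Finset.mem_singleton, not_or]; exact ⟨hab, hac⟩
  · simp only [Finset.mem_insert, Finset.mem_singleton, not_or]; exact ⟨hxa, hxb, hxc⟩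

/-- an element fixing `x` and preserving `{a,b,c}` preserves `{x,a,b,c}` -/
theorem m24idx_c3b_smul_t0 (x a b c : GolayPt) (g : Equiv.Perm GolayPt) (hx : g x = x)
    (h3 : g • ({a, b, c} : Finset GolayPt) = {a, b, c}) :
    g • ({x, a, b, c} : Finset GolayPt) = {x, a, b, c} := by
  classical
  have : ({x, a, b, c} : Finset GolayPt) = insert x ({a, b, c} : Finset GolayPt) := rfl
  rw [this, Finset.smul_finset_insert, h3, Equiv.Perm.smul_def, hx]

/-- a conjugation argument: if `k x = v`, elements of `K` fixing `v` preserve `k • t0` -/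
theorem m24idx_c3b_block_inv (K : Subgroup (Equiv.Perm GolayPt)) (x a b c : GolayPt)
    (hstab : ∀ g ∈ K, g x = x → g • ({a, b, c} : Finset GolayPt) = {a, b, c})
    (k : Equiv.Perm GolayPt) (hk : k ∈ K) (g : Equiv.Perm GolayPt) (hg : g ∈ K)
    (hgv : g (k x) = k x) :
    g • (k • ({x, a, b, c} : Finset GolayPt)) = k • ({x, a, b, c} : Finset GolayPt) := by
  have h1 : k⁻¹ * g * k ∈ K := K.mul_mem (K.mul_mem (K.inv_mem hk) hg) hk
  have h2 : (k⁻¹ * g * k) x = x := by
    rw [Equiv.Perm.mul_apply, Equiv.Perm.mul_apply, hgv]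
    simp
  have h3 := m24idx_c3b_smul_t0 x a b c _ h2 (hstab _ h1 h2)
  have h4 : g • (k • ({x, a, b, c} : Finset GolayPt)) =
      k • ((k⁻¹ * g * k) • ({x, a, b, c} : Finset GolayPt)) := by
    rw [smul_smul, smul_smul]
    congr 1
    group
  rw [h4, h3]

/-- the octad through five distinct points -/
theorem m24idx_c3b_octad (x a b c v : GolayPt) (hxa : x ≠ a) (hxb : x ≠ b) (hxc : x ≠ c)
    (hab : a ≠ b) (hac : a ≠ c) (hbc : b ≠ c) (hvx : v ≠ x) (hva : v ≠ a) (hvb : v ≠ b)
    (hvc : v ≠ c) : ∃ o ∈ octads, x ∈ o ∧ a ∈ o ∧ b ∈ o ∧ c ∈ o ∧ v ∈ o := by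
  let e : Fin 5 ↪ GolayPt := ⟨![x, a, b, c, v], by
    intro i j hij
    fin_cases i <;> fin_cases j <;> simp_all [eq_comm]⟩
  obtain ⟨o, ho, hoe⟩ := exists_octad_of_emb e
  exact ⟨o, ho, hoe 0, hoe 1, hoe 2, hoe 3, hoe 4⟩

/-- IDX-C3B -/
theorem sextet_of_fix4 (K : Subgroup (Equiv.Perm GolayPt)) (hKM : K ≤ Cfsg.M24) (htr : IsTrans K)
    (x a b c : GolayPt) (hxa : x ≠ a) (hxb : x ≠ b) (hxc : x ≠ c) (hab : a ≠ b) (hac : a ≠ c)
    (hbc : b ≠ c)
    (hstab : ∀ g ∈ K, g x = x → g • ({a, b, c} : Finset GolayPt) = {a, b, c})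
    (hle : fix4 x a b c ≤ K)
    (htr4 : ∀ u v : GolayPt, (u ≠ x ∧ u ≠ a ∧ u ≠ b ∧ u ≠ c) → (v ≠ x ∧ v ≠ a ∧ v ≠ b ∧ v ≠ c) →
      ∃ g ∈ fix4 x a b c, g u = v) :
    ∀ k ∈ K, k • sextetOf ({x, a, b, c} : Finset GolayPt) = sextetOf {x, a, b, c} := by
  classical
  have ht0 := m24idx_c3b_card_t0 x a b c hxa hxb hxc hab hac hbc
  have hnot : ∀ p : GolayPt, p ∉ ({x, a, b, c} : Finset GolayPt) →
      (p ≠ x ∧ p ≠ a ∧ p ≠ b ∧ p ≠ c) := by
    intro p hp
    rw [m24idx_c3b_mem_t0] at hp
    push Not at hp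
    exact hp
  -- elements of `fix4` fix the points of `t0`
  have hfixpt : ∀ g ∈ fix4 x a b c, ∀ w ∈ ({x, a, b, c} : Finset GolayPt), g w = w := by
    intro g hg w hw
    rw [mem_fix4] at hg
    rw [m24idx_c3b_mem_t0] at hw
    rcases hw with rfl | rfl | rfl | rfl
    · exact hg.2.1
    · exact hg.2.2.1
    · exact hg.2.2.2.1
    · exact hg.2.2.2.2
  -- Lemma A
  have hA : ∀ h ∈ K, h x ∈ ({x, a, b, c} : Finset GolayPt) →
      h • ({x, a, b, c} : Finset GolayPt) = {x, a, b, c} := by
    intro h hh hw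
    have hsub : h • ({x, a, b, c} : Finset GolayPt) ⊆ {x, a, b, c} := by
      apply m24idx_c3b_subset _ _ (fix4 x a b c)
      · intro g hg
        exact m24idx_c3b_block_inv K x a b c hstab h hh g (hle hg) (hfixpt g hg _ hw)
      · intro p q hp hq
        exact htr4 p q (hnot p hp) (hnot q hq)
      · rw [Finset.card_smul_finset, ht0]; norm_num
    exact Finset.eq_of_subset_of_card_le hsub (by rw [Finset.card_smul_finset])
  -- Lemma B
  have hB : ∀ k ∈ K, ∀ w' ∈ ({x, a, b, c} : Finset GolayPt), k w' ∈ ({x, a, b, c} : Finset GolayPt) →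
      k • ({x, a, b, c} : Finset GolayPt) = {x, a, b, c} := by
    intro k hk w' hw' hkw
    obtain ⟨h, hh, hhx⟩ := htr x w'
    have h1 := hA h hh (by rw [hhx]; exact hw')
    have h2 := hA (k * h) (K.mul_mem hk hh) (by rw [Equiv.Perm.mul_apply, hhx]; exact hkw)
    rw [← smul_smul, h1] at h2
    exact h2
  -- main claim: every translate of `t0` lies in the sextet
  have hmain : ∀ k ∈ K, k • ({x, a, b, c} : Finset GolayPt) ∈ sextetOf ({x, a, b, c} : Finset GolayPt) := by
    intro k hk
    by_cases hkx : k x ∈ ({x, a, b, c} : Finset GolayPt)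
    · rw [hA k hk hkx]
      exact self_mem_sextetOf _ ht0
    · set v := k x with hv
      set B := k • ({x, a, b, c} : Finset GolayPt) with hBdef
      have hBcard : B.card = 4 := by rw [hBdef, Finset.card_smul_finset, ht0]
      have hvB : v ∈ B := by
        rw [hBdef, hv]
        have : x ∈ ({x, a, b, c} : Finset GolayPt) := by
          rw [m24idx_c3b_mem_t0]; exact Or.inl rfl
        have := Finset.smul_mem_smul_finset (a := k) this
        rwa [Equiv.Perm.smul_def] at this
      have hdisj : Disjoint B ({x, a, b, c} : Finset GolayPt) := by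
        rw [Finset.disjoint_left]
        intro p hpB hpt
        rw [hBdef] at hpB
        obtain ⟨w', hw', rfl⟩ := Finset.mem_smul_finset.1 hpB
        rw [Equiv.Perm.smul_def] at hpt
        have h1 := hB k hk w' hw' hpt
        apply hkx
        rw [← h1]
        exact hvB
      obtain ⟨hvx, hva, hvb, hvc⟩ := hnot v hkx
      -- the octad through the five points
      obtain ⟨o, ho, hxo, hao, hbo, hco, hvo⟩ :=
        m24idx_c3b_octad x a b c v hxa hxb hxc hab hac hbc hvx hva hvb hvc
      have ht0o : ({x, a, b, c} : Finset GolayPt) ⊆ o := by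
        intro p hp
        rw [m24idx_c3b_mem_t0] at hp
        rcases hp with rfl | rfl | rfl | rfl <;> assumption
      have hocard : o.card = 8 := ho.2
      have hBo : B ⊆ o := by
        apply m24idx_c3b_subset _ _ (octN o)
        · intro σ hσ
          rw [mem_octN_iff] at hσ
          have hσ4 : σ ∈ fix4 x a b c := by
            rw [mem_fix4]
            exact ⟨hσ.1, hσ.2 x hxo, hσ.2 a hao, hσ.2 b hbo, hσ.2 c hco⟩
          exact m24idx_c3b_block_inv K x a b c hstab k hk σ (hle hσ4) (hσ.2 v hvo)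
        · intro p q hp hq
          exact octN_trans o ho p q hp hq
        · rw [hBcard, hocard]; norm_num
      have hunion : ({x, a, b, c} : Finset GolayPt) ∪ B = o := by
        apply Finset.eq_of_subset_of_card_le (Finset.union_subset ht0o hBo)
        rw [Finset.card_union_of_disjoint hdisj.symm, ht0, hBcard, hocard]
      have hsd : symmDiff ({x, a, b, c} : Finset GolayPt) B = o := by
        rw [symmDiff_eq_sup_sdiff_inf]
        have : ({x, a, b, c} : Finset GolayPt) ⊓ B = ∅ :=
          Finset.disjoint_iff_inter_eq_empty.1 hdisj.symm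
        rw [this, ← hunion]
        simp
      rw [mem_sextetOf]
      refine ⟨hBcard, ?_⟩
      rw [hsd]
      exact ho.1
  intro k hk
  rw [smul_sextetOf (hKM hk)]
  exact (eq_sextetOf_of_mem _ (sextetOf_mem_sextets _ ht0) _ (hmain k hk)).symm

end Cfsg.Agent.Helper3.M24Idx
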