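import Mathlib

/-!
# S2512, piece S12-PRODORD (helper8): element orders of `L × L × L × Z_2^m` and `L × L × Z_2^m`.
-/

set_option autoImplicit false
set_option linter.style.haveILetI false

open Polynomial

namespace Cfsg.Agent.Helper5.S12

universe v v₁ v₂ u

/-- every element of `Multiplicative (Fin m → ZMod 2)` has order `1` or `2` -/
theorem s12_prodord_orderOf (m : ℕ) (e : Multiplicative (Fin m → ZMod 2)) :
    orderOf e = 1 ∨ orderOf e = 2 := by
  have h1 : e ^ 2 = 1 := by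
    apply Multiplicative.toAdd.injective
    rw [toAdd_pow, toAdd_one]
    ext i
    simp only [Pi.smul_apply, Pi.zero_apply, nsmul_eq_mul, Nat.cast_ofNat]
    have : (2 : ZMod 2) = 0 := by decide
    rw [this, zero_mul]
  have h2 : orderOf e ∣ 2 := orderOf_dvd_of_pow_eq_one h1
  exact (Nat.dvd_prime Nat.prime_two).1 h2

/-- `lcm n 2` for `n` not odd -/
theorem s12_prodord_lcm_two_of_not_odd (n : ℕ) (h : ¬ Odd n) : Nat.lcm n 2 = n := by
  have h2 : 2 ∣ n := (Nat.not_odd_iff_even.1 h).two_dvd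
  exact Nat.lcm_eq_left h2

/-- `lcm n 2` for `n` odd -/
theorem s12_prodord_lcm_two_of_odd (n : ℕ) (h : Odd n) : Nat.lcm n 2 = 2 * n := by
  have hc : Nat.Coprime n 2 := Nat.coprime_two_right.mpr h
  rw [hc.lcm_eq_mul, mul_comm]

/-- `lcm a b` is odd iff both are -/
theorem s12_prodord_odd_lcm (a b : ℕ) : Odd (Nat.lcm a b) ↔ Odd a ∧ Odd b := by
  constructor
  · intro h
    constructor
    · exact Odd.of_dvd_nat h (Nat.dvd_lcm_left a b)
    · exact Odd.of_dvd_nat h (Nat.dvd_lcm_right a b)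
  · rintro ⟨ha, hb⟩
    rw [← Nat.not_even_iff_odd]
    intro he
    have h2 : 2 ∣ a * b := he.two_dvd.trans (Nat.lcm_dvd_mul a b)
    rcases (Nat.Prime.dvd_mul Nat.prime_two).1 h2 with h3 | h3
    · exact (Nat.not_even_iff_odd.2 ha) (even_iff_two_dvd.2 h3)
    · exact (Nat.not_even_iff_odd.2 hb) (even_iff_two_dvd.2 h3)

/-- PIECE S12-PRODORD (1/2). -/
theorem range_orderOf_prod3 {L : Type u} [Group L] (m : ℕ)
    (h : ∀ a b c : L, Odd (orderOf a) → Odd (orderOf b) → Odd (orderOf c) →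
      ∃ a' b' c' : L, Nat.lcm (orderOf a') (Nat.lcm (orderOf b') (orderOf c')) =
        2 * Nat.lcm (orderOf a) (Nat.lcm (orderOf b) (orderOf c))) :
    Set.range (orderOf : L × L × L × Multiplicative (Fin m → ZMod 2) → ℕ) =
      Set.range (orderOf : L × L × L → ℕ) := by
  apply Set.Subset.antisymm
  · rintro _ ⟨⟨x1, x2, x3, e⟩, rfl⟩
    rcases s12_prodord_orderOf m e with he | he
    · refine ⟨(x1, x2, x3), ?_⟩
      simp only [Prod.orderOf, he, Nat.lcm_one_right]
    · have e1 : orderOf ((x1, x2, x3, e) : L × L × L × Multiplicative (Fin m → ZMod 2)) =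
          Nat.lcm (Nat.lcm (orderOf x1) (Nat.lcm (orderOf x2) (orderOf x3))) 2 := by
        simp only [Prod.orderOf, he]
        rw [Nat.lcm_assoc, Nat.lcm_assoc]
      by_cases hodd : Odd (Nat.lcm (orderOf x1) (Nat.lcm (orderOf x2) (orderOf x3)))
      · obtain ⟨h1, h23⟩ := (s12_prodord_odd_lcm _ _).1 hodd
        obtain ⟨h2, h3⟩ := (s12_prodord_odd_lcm _ _).1 h23
        obtain ⟨y1, y2, y3, hy⟩ := h x1 x2 x3 h1 h2 h3
        refine ⟨(y1, y2, y3), ?_⟩
        show orderOf ((y1, y2, y3) : L × L × L) = orderOf ((x1, x2, x3, e) : L × L × L × Multiplicative (Fin m → ZMod 2))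
        rw [e1, s12_prodord_lcm_two_of_odd _ hodd, ← hy]
        simp only [Prod.orderOf]
      · refine ⟨(x1, x2, x3), ?_⟩
        show orderOf ((x1, x2, x3) : L × L × L) = orderOf ((x1, x2, x3, e) : L × L × L × Multiplicative (Fin m → ZMod 2))
        rw [e1, s12_prodord_lcm_two_of_not_odd _ hodd]
        simp only [Prod.orderOf]
  · rintro _ ⟨⟨x1, x2, x3⟩, rfl⟩
    refine ⟨(x1, x2, x3, 1), ?_⟩
    simp only [Prod.orderOf, orderOf_one, Nat.lcm_one_right]

/-- PIECE S12-PRODORD (2/2).  The same with two factors. -/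
theorem range_orderOf_prod2 {L : Type u} [Group L] (m : ℕ)
    (h : ∀ a b : L, Odd (orderOf a) → Odd (orderOf b) →
      ∃ a' b' : L, Nat.lcm (orderOf a') (orderOf b') =
        2 * Nat.lcm (orderOf a) (orderOf b)) :
    Set.range (orderOf : L × L × Multiplicative (Fin m → ZMod 2) → ℕ) =
      Set.range (orderOf : L × L → ℕ) := by
  apply Set.Subset.antisymm
  · rintro _ ⟨⟨x1, x2, e⟩, rfl⟩
    rcases s12_prodord_orderOf m e with he | he
    · refine ⟨(x1, x2), ?_⟩
      simp only [Prod.orderOf, he, Nat.lcm_one_right]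
    · have e1 : orderOf ((x1, x2, e) : L × L × Multiplicative (Fin m → ZMod 2)) =
          Nat.lcm (Nat.lcm (orderOf x1) (orderOf x2)) 2 := by
        simp only [Prod.orderOf, he]
        rw [Nat.lcm_assoc]
      by_cases hodd : Odd (Nat.lcm (orderOf x1) (orderOf x2))
      · obtain ⟨h1, h2⟩ := (s12_prodord_odd_lcm _ _).1 hodd
        obtain ⟨y1, y2, hy⟩ := h x1 x2 h1 h2
        refine ⟨(y1, y2), ?_⟩
        show orderOf ((y1, y2) : L × L) = orderOf ((x1, x2, e) : L × L × Multiplicative (Fin m → ZMod 2))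
        rw [e1, s12_prodord_lcm_two_of_odd _ hodd, ← hy]
        simp only [Prod.orderOf]
      · refine ⟨(x1, x2), ?_⟩
        show orderOf ((x1, x2) : L × L) = orderOf ((x1, x2, e) : L × L × Multiplicative (Fin m → ZMod 2))
        rw [e1, s12_prodord_lcm_two_of_not_odd _ hodd]
        simp only [Prod.orderOf]
  · rintro _ ⟨⟨x1, x2⟩, rfl⟩
    refine ⟨(x1, x2, 1), ?_⟩
    simp only [Prod.orderOf, orderOf_one, Nat.lcm_one_right]

end Cfsg.Agent.Helper5.S12
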