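import Mathlib
import Cfsg.Agent.Lib.Helper8.BG149E
import Cfsg.Agent.Lib.Helper16.BG149P7
import Cfsg.Agent.Lib.Helper19.BGKPrime

/-!
# BG 14.9 (S1435), part F: the final assembly (helper8; steps (7)+(8) by helper16)
-/

set_option autoImplicit false

namespace Cfsg.Agent.Helper8.BG149

open Cfsg Subgroup
open Cfsg.Agent.Helper16.BG147 (Ctx Kst St1430 St1431 St1432 St1351b St1378b)
open Cfsg.Agent.Helper22.BG13 (Hyp1350 Hyp1417 Hyp1418)
open Cfsg.Agent.Helper16.BG149 (Hyp1352 Hyp1364)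

universe u

variable {G : Type u} [Group G] [Finite G]

/-- BG 14.9 from the frozen rows it depends on (all as explicit hypotheses) -/
theorem main (hG : IsMinSimpleOddOrder G) {M K U Ms H : Subgroup G} (hM : IsCoatom M)
    (hKU : IsSigmaDecomposition M K U) (hK1 : K ≠ ⊥) (hU1 : U ≠ ⊥) (hMs : IsCoatom Ms)
    (hKst : K = sigmaCore Ms ⊓ centralizer ((sigmaCore M ⊓ centralizer (K : Set G) : Subgroup G) : Set G))
    (hKstH : IsPiHallOf (kappa Ms) (sigmaCore M ⊓ centralizer (K : Set G)) Ms)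
    {r : ℕ} [Fact r.Prime] (hr : r ∣ Nat.card U) (R : Sylow r U) (hH : IsCoatom H)
    (hNR : normalizer (((R : Subgroup U).map U.subtype : Subgroup G) : Set G) ≤ H)
    (h30 : St1430 G) (h31 : St1431 G) (h32 : St1432 G) (h51 : St1351b G) (h78 : St1378b G)
    (h53 : ∀ k ∈ K, k ≠ 1 → U ⊓ centralizer ({k} : Set G) = ⊥)
    (h50 : Hyp1350 G) (h17 : Hyp1417 G) (h18 : Hyp1418 G) (h29 : Hyp1429 G)
    (hUT : Cfsg.Agent.Helper23.BG10.UniqThm G) (h15 : Cfsg.Agent.Helper20.BG12.H1415 G)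
    (h20 : Cfsg.Agent.Helper21.BG143.Hyp1420 G) (h75 : Cfsg.Agent.Helper16.BG145.St1375 G)
    (h52 : Hyp1352 G) (h64 : Hyp1364 G) :
    kappa H = ∅ ∧ U ≤ sigmaCore H ∧ M ⊓ H = U ⊔ K ∧ ¬ H ⊓ normalizer (U : Set G) ≤ M ∧
      K ≤ fittingOf (H ⊓ Ms) ∧ IsComplIn (H ⊓ Ms) (sigmaCore H) H := by
  have d := mkCfg hG hM hKU hK1 hU1 hMs hKst hKstH hr R hH hNR h30 h31 h32 h51 h78 h53 h50 h17 h18
  have hpK : (Nat.card K).Prime :=
    Cfsg.Agent.Helper19.BGKPrime.card_K_prime_of_U_ne_bot hG hM (h50 M hM).1 hKU hK1 hU1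
      (h30 M hM K hKU.hall hK1).1 h53
  have hKF : K ≤ fittingHallOf Ms := Cfsg.Agent.Helper16.BG149.K_le_fittingHallOf d.c h52 h64
  obtain ⟨h6, h5⟩ := Cfsg.Agent.Helper16.BG149.compl_of_cfg d hpK hUT h15 h20 h29 h75 hKF
  obtain ⟨h1, h2, h3, h4⟩ := main_four d h29
  exact ⟨h1, h2, h3, h4, h5, h6⟩

end Cfsg.Agent.Helper8.BG149
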