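import Mathlib
import Cfsg.Prelude.Def_OddOrderLocal
import Cfsg.Prelude.Def_Solvable
import Cfsg.Agent.Lib.Helper16.BG147D
import Cfsg.Agent.Lib.Helper22.BG13A
import Cfsg.Agent.Lib.Helper21.BG14In
import Cfsg.Agent.Lib.Helper7.TypeP
import Cfsg.Agent.Lib.Helper1.PiHall

/-!
# Piece (5) of S1376 (BG 14.12): free action of the complement and the Frobenius complement property

* `free_of_tau2_empty`: if `κ(M) = ∅` and `τ₂(M) = ∅` then every non-identity element of a complement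
  `E₁` of `M_σ` in `M` acts without non-identity fixed points on `M_σ` (from the shape of S1432).
* `isFrobeniusComplement_of_free`: a non-trivial complement acting freely on `M_σ ≠ 1` is a Frobenius
  complement of `M`.
-/

set_option autoImplicit false

namespace Cfsg.Agent.Helper8.BG1412

open Cfsg Subgroup

variable {G : Type*} [Group G] [Finite G]

/-- the order of a complement of `M_σ` is prime to `σ(M)` -/
theorem not_mem_sigma_of_dvd_card_compl (h50 : Cfsg.Agent.Helper22.BG13.Hyp1350 G)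
    {M E₁ : Subgroup G} (hM : IsCoatom M) (hE : IsComplIn E₁ (sigmaCore M) M) {p : ℕ}
    (hp : p.Prime) (hpE : p ∣ Nat.card ↥E₁) : p ∉ sigma M := by
  intro hpσ
  have hhall := (h50 M hM).1
  have h1 : Nat.card ↥M = Nat.card ↥E₁ * Nat.card ↥(sigmaCore M) :=
    Cfsg.Agent.Helper7.IsComplIn.card_eq hE
  have h2 : Nat.card ↥(sigmaCore M) * (sigmaCore M).relIndex M = Nat.card ↥M :=
    (Cfsg.Agent.Helper1.PiHall.card_eq_card_mul_relIndex hhall.1).symm
  have hpos : 0 < Nat.card ↥(sigmaCore M) := Nat.card_pos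
  have h3 : (sigmaCore M).relIndex M = Nat.card ↥E₁ := by
    apply Nat.eq_of_mul_eq_mul_left hpos
    rw [h2, h1, mul_comm]
  exact hhall.2.2 p hp hpσ (h3 ▸ hpE)

/-- **free action**: with `κ(M) = ∅` and `τ₂(M) = ∅`, a complement `E₁` of `M_σ` in `M` acts freely
on `M_σ` -/
theorem free_of_tau2_empty (h32 : Cfsg.Agent.Helper16.BG147.St1432 G) {M E₁ : Subgroup G}
    (hM : IsCoatom M) (hκ : kappa M = ∅) (hτ : ∀ s, s ∉ tau2 M)
    (hE : IsComplIn E₁ (sigmaCore M) M) (h50 : Cfsg.Agent.Helper22.BG13.Hyp1350 G) :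
    ∀ e ∈ E₁, e ≠ 1 → sigmaCore M ⊓ centralizer ({e} : Set G) = ⊥ := by
  intro e he he1
  rw [eq_bot_iff]
  intro y hy
  rw [mem_bot]
  by_contra hy1
  have hyσ : y ∈ sigmaCore M := hy.1
  have hye : y * e = e * y := by
    have := (mem_centralizer_iff.1 hy.2) e (Set.mem_singleton e)
    exact this.symm
  have heC' : e ∈ centralizer ({y} : Set G) := by
    rw [mem_centralizer_iff]
    intro z hz
    rw [Set.mem_singleton_iff] at hz
    rw [hz]
    exact hye
  have heC : e ∈ M ⊓ centralizer ({y} : Set G) := Subgroup.mem_inf.2 ⟨hE.1 he, heC'⟩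
  have hσ : ∀ p : ℕ, p.Prime → p ∣ orderOf e → p ∉ sigma M := by
    intro p hp hpe
    apply not_mem_sigma_of_dvd_card_compl h50 hM hE hp
    have : orderOf e ∣ Nat.card ↥E₁ := by
      have h := orderOf_dvd_natCard (⟨e, he⟩ : ↥E₁)
      rwa [Subgroup.orderOf_mk] at h
    exact hpe.trans this
  -- a prime divisor of the order of `e`
  have hone : orderOf e ≠ 1 := by
    intro h
    exact he1 (orderOf_eq_one_iff.1 h)
  obtain ⟨p, hp, hpe⟩ := Nat.exists_prime_and_dvd hone
  rcases h32 M hM y hyσ hy1 e heC he1 hσ with h | h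
  · have : p ∈ kappa M := h.1 p hp hpe
    rw [hκ] at this
    exact this
  · exact hτ p (h.1 p hp hpe)

/-- **Frobenius complement**: a non-trivial complement of `M_σ ≠ 1` acting freely on `M_σ` is a
Frobenius complement of `M` -/
theorem isFrobeniusComplement_of_free {M E₁ : Subgroup G}
    (hE : IsComplIn E₁ (sigmaCore M) M) (hE1 : E₁ ≠ ⊥) (hσ : sigmaCore M ≠ ⊥)
    (hfree : ∀ e ∈ E₁, e ≠ 1 → sigmaCore M ⊓ centralizer ({e} : Set G) = ⊥) :
    IsFrobeniusComplement (E₁.subgroupOf M) := by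
  refine ⟨?_, ?_, ?_⟩
  · intro h
    rw [Subgroup.subgroupOf_eq_bot] at h
    apply hE1
    rw [eq_bot_iff]
    intro x hx
    exact h.le_bot ⟨hx, hE.1 hx⟩
  · intro h
    rw [Subgroup.subgroupOf_eq_top] at h
    apply hσ
    rw [eq_bot_iff]
    intro x hx
    have hxE : x ∈ E₁ := h (hE.2.1 hx)
    have : x ∈ E₁ ⊓ sigmaCore M := Subgroup.mem_inf.2 ⟨hxE, hx⟩
    rw [hE.2.2.1] at this
    exact this
  · intro g hg
    rw [eq_bot_iff]
    intro z hz
    rw [mem_bot]
    obtain ⟨hz1, hz2⟩ := Subgroup.mem_inf.1 hz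
    have hzE : (z : G) ∈ E₁ := Subgroup.mem_subgroupOf.1 hz1
    -- `z = g z' g⁻¹` with `z' ∈ E₁`
    rw [Subgroup.mem_pointwise_smul_iff_inv_smul_mem] at hz2
    have hz'E : ((g⁻¹ * z * g : ↥M) : G) ∈ E₁ := by
      have := Subgroup.mem_subgroupOf.1 hz2
      simpa [MulAut.smul_def, MulAut.conj_apply] using this
    -- decompose `g = a * b`
    obtain ⟨a, ha, b, hb, hab⟩ := hE.2.2.2 (g : G) g.2
    have hb1 : b ≠ 1 := by
      intro h
      apply hg
      rw [Subgroup.mem_subgroupOf, hab, h, mul_one]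
      exact ha
    -- `w := a⁻¹ z a ∈ E₁` and `b⁻¹ w b ∈ E₁`
    set w : G := a⁻¹ * (z : G) * a with hw
    have hwE : w ∈ E₁ := mul_mem (mul_mem (inv_mem ha) hzE) ha
    have hconj : b⁻¹ * w * b⁻¹⁻¹ ∈ E₁ := by
      have e1 : ((g⁻¹ * z * g : ↥M) : G) = b⁻¹ * w * b⁻¹⁻¹ := by
        push_cast
        rw [hab, hw]
        group
      rw [← e1]
      exact hz'E
    have hcomm : b⁻¹ * w = w * b⁻¹ :=
      Cfsg.Agent.Helper21.BG14In.comm_of_conj_mem hE (inv_mem hb) hwE hconj
    -- if `w ≠ 1` then `b⁻¹ ∈ M_σ ∩ C(w) = 1`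
    have hw1 : w = 1 := by
      by_contra hw1
      have hbC' : b⁻¹ ∈ centralizer ({w} : Set G) := by
        rw [mem_centralizer_iff]
        intro t ht
        rw [Set.mem_singleton_iff] at ht
        rw [ht]
        exact hcomm.symm
      have hbC : b⁻¹ ∈ sigmaCore M ⊓ centralizer ({w} : Set G) :=
        Subgroup.mem_inf.2 ⟨inv_mem hb, hbC'⟩
      rw [hfree w hwE hw1, mem_bot] at hbC
      exact hb1 (inv_eq_one.1 hbC)
    have hz1' : (z : G) = 1 := by
      have : a⁻¹ * (z : G) * a = 1 := hw1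
      have h2 : (z : G) = a * (a⁻¹ * (z : G) * a) * a⁻¹ := by group
      rw [h2, this]
      group
    exact Subtype.ext hz1'

end Cfsg.Agent.Helper8.BG1412
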