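import Mathlib
import Cfsg.Prelude.Def_OddOrder
import Cfsg.Prelude.Def_OddOrderLocal
import Cfsg.Agent.Lib.Helper27.BGTyM
import Cfsg.Agent.Lib.Helper16.BG147D
import Cfsg.Agent.Lib.Helper4.BG1379A
import Cfsg.Agent.Lib.Helper14.BGUniqA

/-!
S1538 (Peterfalvi 8.15-8.16 flavour): for a maximal subgroup `M` of Type II the sets
`A₀(M)`, `A(M)`, `A₁(M)` are TI-subsets with normaliser `M`.
Hypothesis style: earlier rows enter as frozen-shape `Prop`s.
-/

set_option autoImplicit false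
set_option linter.unusedVariables false
set_option linter.unusedSectionVars false

namespace Cfsg.Agent.Helper8.BG1538

open Cfsg Subgroup
open scoped Pointwise
open Cfsg.Agent.Helper27.BGTy
open Cfsg.Agent.Helper16.BG147 (St1432)

variable {G : Type*} [Group G]

/-- an `M`-invariant set is normalised by `M` -/
theorem le_set_normalizer {M : Subgroup G} {X : Set G}
    (h : ∀ m ∈ M, ∀ x ∈ X, m * x * m⁻¹ ∈ X) : M ≤ Subgroup.normalizer X := by
  intro m hm
  rw [Subgroup.mem_set_normalizer_iff]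
  intro x
  constructor
  · exact h m hm x
  · intro hx
    have h1 := h m⁻¹ (M.inv_mem hm) _ hx
    have h2 : m⁻¹ * (m * x * m⁻¹) * m⁻¹⁻¹ = x := by group
    rw [h2] at h1
    exact h1

/-- the TI property with normaliser `M` from the "core" implication -/
theorem ti_of_core {M : Subgroup G} {X : Set G} (hne : X.Nonempty)
    (hinv : ∀ m ∈ M, ∀ x ∈ X, m * x * m⁻¹ ∈ X)
    (hcore : ∀ g : G, ∀ v ∈ X, g * v * g⁻¹ ∈ X → g ∈ M) :
    IsTISubset X ∧ Subgroup.normalizer X = M := by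
  have hN : Subgroup.normalizer X = M := by
    apply le_antisymm
    · intro g hg
      obtain ⟨v, hv⟩ := hne
      rw [Subgroup.mem_set_normalizer_iff] at hg
      exact hcore g v hv ((hg v).mp hv)
    · exact le_set_normalizer hinv
  refine ⟨?_, hN⟩
  intro g hg x hx hgx
  rw [hN] at hg
  exact absurd (hcore g x hx hgx) hg

/-- facts on the `W`-part elements: `v = m w m⁻¹`, `w ∈ W₁W₂` outside `W₁ ∪ W₂`, `|W₁| = p` prime,
`p` coprime to `d` and the exponent of `W₂` dividing `d` -/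
theorem w_facts {M H W₁ W₂ : Subgroup G} {p d : ℕ} (hp : p.Prime) (hcop : p.Coprime d)
    (hW₁ : ∀ a ∈ W₁, a ^ p = 1) (hW₂ : ∀ b ∈ W₂, b ^ d = 1) (hW₂H : W₂ ≤ H)
    (hc : ∀ a ∈ W₁, ∀ b ∈ W₂, a * b = b * a)
    (hHn : ∀ m ∈ M, ∀ x ∈ H, m * x * m⁻¹ ∈ H)
    {m w : G} (hm : m ∈ M) (hw : w ∈ W₁ ⊔ W₂) (hw1 : w ∉ W₁) (hw2 : w ∉ W₂) :
    (m * w * m⁻¹) ^ p ∈ H ∧ (m * w * m⁻¹) ^ p ≠ 1 ∧ (m * w * m⁻¹) ^ d ≠ 1 := by
  obtain ⟨a, ha, b, hb, rfl⟩ :=
    (Cfsg.Agent.Helper16.BG147.mem_sup_iff_of_commute W₁ W₂ hc).mp hw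
  have ha1 : a ≠ 1 := by
    rintro rfl
    rw [one_mul] at hw2
    exact hw2 hb
  have hb1 : b ≠ 1 := by
    rintro rfl
    rw [mul_one] at hw1
    exact hw1 ha
  have hcomm : Commute a b := hc a ha b hb
  have hap : a ^ p = 1 := hW₁ a ha
  have hbd : b ^ d = 1 := hW₂ b hb
  have hwp : (a * b) ^ p = b ^ p := by rw [hcomm.mul_pow, hap, one_mul]
  have hwd : (a * b) ^ d = a ^ d := by rw [hcomm.mul_pow, hbd, mul_one]
  have hbp1 : b ^ p ≠ 1 := by
    intro h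
    have h1 : orderOf b ∣ p := orderOf_dvd_of_pow_eq_one h
    have h2 : orderOf b ∣ d := orderOf_dvd_of_pow_eq_one hbd
    have h3 : orderOf b ∣ 1 := by
      have := Nat.dvd_gcd h1 h2
      rwa [Nat.Coprime.gcd_eq_one hcop] at this
    exact hb1 (orderOf_eq_one_iff.mp (Nat.dvd_one.mp h3))
  have had1 : a ^ d ≠ 1 := by
    intro h
    have h1 : orderOf a ∣ p := orderOf_dvd_of_pow_eq_one hap
    have h2 : orderOf a ∣ d := orderOf_dvd_of_pow_eq_one h
    have h3 : orderOf a ∣ 1 := by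
      have := Nat.dvd_gcd h1 h2
      rwa [Nat.Coprime.gcd_eq_one hcop] at this
    exact ha1 (orderOf_eq_one_iff.mp (Nat.dvd_one.mp h3))
  refine ⟨?_, ?_, ?_⟩
  · rw [conj_pow, hwp]
    exact hHn m hm _ (hW₂H (W₂.pow_mem hb p))
  · rw [conj_pow, hwp]
    intro h
    apply hbp1
    have : b ^ p = m⁻¹ * (m * b ^ p * m⁻¹) * m := by group
    rw [this, h]; group
  · rw [conj_pow, hwd]
    intro h
    apply had1
    have : a ^ d = m⁻¹ * (m * a ^ d * m⁻¹) * m := by group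
    rw [this, h]; group

/-- the set of `M`-conjugates of the elements of `W₁W₂` outside `W₁ ∪ W₂`, over all type-P data -/
def wSet (M : Subgroup G) : Set G :=
  {v | ∃ W₁ U W₂ : Subgroup G, IsTypePWith M W₁ U W₂ ∧
    ∃ m ∈ M, ∃ w ∈ W₁ ⊔ W₂, w ∉ W₁ ∧ w ∉ W₂ ∧ v = m * w * m⁻¹}

/-- the set `A(M)` for a type-P group with `M_s = M_F` -/
def aSet (M : Subgroup G) : Set G :=
  {a | a ∈ ⁅M, M⁆ ∧ a ≠ 1 ∧ ∃ x ∈ fittingHallOf M, x ≠ 1 ∧ a * x = x * a}

theorem aSet_inv {M : Subgroup G}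
    (hHn : ∀ m ∈ M, ∀ x ∈ fittingHallOf M, m * x * m⁻¹ ∈ fittingHallOf M)
    (hDn : ∀ m ∈ M, ∀ x ∈ ⁅M, M⁆, m * x * m⁻¹ ∈ ⁅M, M⁆) :
    ∀ m ∈ M, ∀ a ∈ aSet M, m * a * m⁻¹ ∈ aSet M := by
  rintro m hm a ⟨haD, ha1, x, hx, hx1, hax⟩
  refine ⟨hDn m hm a haD, ?_, m * x * m⁻¹, hHn m hm x hx, ?_, ?_⟩
  · intro h
    apply ha1
    have : a = m⁻¹ * (m * a * m⁻¹) * m := by group
    rw [this, h]; group
  · intro h
    apply hx1
    have : x = m⁻¹ * (m * x * m⁻¹) * m := by group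
    rw [this, h]; group
  · have h1 : m * a * m⁻¹ * (m * x * m⁻¹) = m * (a * x) * m⁻¹ := by group
    have h2 : m * x * m⁻¹ * (m * a * m⁻¹) = m * (x * a) * m⁻¹ := by group
    rw [h1, h2, hax]

theorem wSet_inv {M : Subgroup G} : ∀ m ∈ M, ∀ v ∈ wSet M, m * v * m⁻¹ ∈ wSet M := by
  rintro m hm v ⟨W₁, U, W₂, hP, m₀, hm₀, w, hw, hw1, hw2, rfl⟩
  refine ⟨W₁, U, W₂, hP, m * m₀, M.mul_mem hm hm₀, w, hw, hw1, hw2, ?_⟩
  group

/-- the core implication: `v, gvg⁻¹ ∈ A(M) ∪ W`-part forces `g ∈ M` -/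
theorem core {M F : Subgroup G} {p d : ℕ} (hp : p.Prime) (hcop : p.Coprime d)
    (hHF : fittingHallOf M ≤ F)
    (hD : ∀ a ∈ ⁅M, M⁆, a ^ d = 1)
    (hHD : fittingHallOf M ≤ ⁅M, M⁆)
    (hFti : ∀ g : G, ∀ x ∈ F, x ≠ 1 → g * x * g⁻¹ ∈ F → g ∈ M)
    (hHn : ∀ m ∈ M, ∀ x ∈ fittingHallOf M, m * x * m⁻¹ ∈ fittingHallOf M)
    (hHhall : ∀ y ∈ M, ∀ z ∈ fittingHallOf M, orderOf y = orderOf z → y ∈ fittingHallOf M)
    (hcent : ∀ a ∈ ⁅M, M⁆, a ≠ 1 → ∀ x ∈ fittingHallOf M, x ≠ 1 → a * x = x * a →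
      Subgroup.centralizer ({a} : Set G) ≤ M)
    (hW : ∀ W₁ U W₂ : Subgroup G, IsTypePWith M W₁ U W₂ → ∀ a ∈ W₁, a ^ p = 1) :
    ∀ g : G, ∀ v ∈ aSet M ∪ wSet M, g * v * g⁻¹ ∈ aSet M ∪ wSet M → g ∈ M := by
  have hwf : ∀ v ∈ wSet M, v ^ p ∈ fittingHallOf M ∧ v ^ p ≠ 1 ∧ v ^ d ≠ 1 := by
    rintro v ⟨W₁, U, W₂, hP, m, hm, w, hw, hw1, hw2, rfl⟩
    obtain ⟨-, -, -, hc, -, -⟩ := hP.selfNormalizing
    have hW₂H : W₂ ≤ fittingHallOf M := hP.W₂_le.trans inf_le_left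
    exact w_facts hp hcop (hW W₁ U W₂ hP) (fun b hb => hD b (hHD (hW₂H hb))) hW₂H hc hHn
      hm hw hw1 hw2
  intro g v hv hgv
  rcases hv with hv | hv
  · obtain ⟨hvD, hv1, x, hx, hx1, hvx⟩ := hv
    rcases hgv with hgv | hgv
    · obtain ⟨-, -, y, hy, hy1, hgy⟩ := hgv
      -- `y' = g⁻¹ y g` centralises `v`
      have hy' : g⁻¹ * y * g ∈ Subgroup.centralizer ({v} : Set G) := by
        rw [Subgroup.mem_centralizer_iff]
        intro h hh
        rw [Set.mem_singleton_iff] at hh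
        subst hh
        have h1 : h * (g⁻¹ * y * g) = g⁻¹ * (g * h * g⁻¹ * y) * g := by group
        have h2 : g⁻¹ * y * g * h = g⁻¹ * (y * (g * h * g⁻¹)) * g := by group
        rw [h1, h2, hgy]
      have hy'M : g⁻¹ * y * g ∈ M := hcent v hvD hv1 x hx hx1 hvx hy'
      have hord : orderOf (g⁻¹ * y * g) = orderOf y := by
        have := orderOf_injective (MulAut.conj g⁻¹).toMonoidHom (MulAut.conj g⁻¹).injective y
        simpa [MulAut.conj_apply] using this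
      have hy'H : g⁻¹ * y * g ∈ fittingHallOf M := hHhall _ hy'M y hy hord
      have hy'1 : g⁻¹ * y * g ≠ 1 := by
        intro h
        apply hy1
        have : y = g * (g⁻¹ * y * g) * g⁻¹ := by group
        rw [this, h]; group
      apply hFti g (g⁻¹ * y * g) (hHF hy'H) hy'1
      have : g * (g⁻¹ * y * g) * g⁻¹ = y := by group
      rw [this]
      exact hHF hy
    · exfalso
      apply (hwf _ hgv).2.2
      rw [conj_pow, hD v hvD]; group
  · rcases hgv with hgv | hgv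
    · exfalso
      apply (hwf v hv).2.2
      have h1 := hD _ hgv.1
      rw [conj_pow] at h1
      have : v ^ d = g⁻¹ * (g * v ^ d * g⁻¹) * g := by group
      rw [this, h1]; group
    · obtain ⟨h1, h2, -⟩ := hwf v hv
      obtain ⟨h3, -, -⟩ := hwf _ hgv
      apply hFti g (v ^ p) (hHF h1) h2
      rw [← conj_pow]
      exact hHF h3

/-- S1538 from the earlier rows (frozen shapes) -/
theorem main [Finite G] (hG : IsMinSimpleOddOrder G) (h50 : H1350 G) (h51 : H1351 G)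
    (h52 : H1352 G) (h55 : H1355 G) (h64 : H1364 G) (h65 : H1365 G) (h72 : H1372 G)
    (h32 : St1432 G) (M : Subgroup G) (hM : IsCoatom M) (hII : IsOfTypeII M) :
    (IsTISubset (typeA0 M) ∧ Subgroup.normalizer (typeA0 M) = M) ∧
    (IsTISubset (typeA M) ∧ Subgroup.normalizer (typeA M) = M) ∧
    (IsTISubset (typeA1 M) ∧ Subgroup.normalizer (typeA1 M) = M) := by
  obtain ⟨⟨K, hK⟩, hKc⟩ := h51 M hM
  obtain ⟨⟨U, hKU⟩, -⟩ := h52 M hM K (hKc K hK) hK
  obtain ⟨hK1, hU1⟩ := of_typeII h50 h55 h65 M hM K U hKU hII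
  have hnotI : ¬ IsOfTypeI M := fun h => hK1 (of_typeI h50 h55 h64 M hM K U hKU h).1
  obtain ⟨W₁, V, W₂, hP, hV1, hW₁p, hTI, hVc, hVN, -, -⟩ := hII
  have h50' := (h50 M hM).1
  obtain ⟨hH1, hHs, hsD, -, -⟩ := h55 M hM
  have hDM : ⁅M, M⁆ ≤ M := commutator_self_le M
  obtain ⟨hder, -⟩ := h65 M hM K U hKU hK1
  obtain ⟨-, -, hsF⟩ := h72 M hM K U hKU hK1 hU1
  have hHD : fittingHallOf M ≤ ⁅M, M⁆ := hP.U_compl.1
  -- exclusion of Types III, IV
  have hcopH : (Nat.card (fittingHallOf M)).Coprime ((fittingHallOf M).relIndex ⁅M, M⁆) := by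
    have h1 := Cfsg.Agent.Helper7.fittingHallOf_coprime M
    rw [← Subgroup.relIndex_mul_relIndex (fittingHallOf M) ⁅M, M⁆ M hHD hDM] at h1
    exact Nat.Coprime.coprime_mul_right_right h1
  have hsolv : Group.IsSolvable ↥⁅M, M⁆ :=
    Cfsg.Agent.Helper14.BGTrans.isSolvable_of_ne_top hG (ne_top_of_le hM hDM)
  have hnot : ¬ (IsOfTypeIII M ∨ IsOfTypeIV M) := by
    rintro (⟨W₁', V', W₂', hP', -, -, -, -, hN⟩ | ⟨W₁', V', W₂', hP', -, -, -, -, hN⟩)
    · obtain ⟨m, hm, hmV⟩ := compl_conj hsolv hcopH hP.U_compl hP'.U_compl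
      exact hVN (normalizer_le_of_conj (hDM hm) hmV hN)
    · obtain ⟨m, hm, hmV⟩ := compl_conj hsolv hcopH hP.U_compl hP'.U_compl
      exact hVN (normalizer_le_of_conj (hDM hm) hmV hN)
  have hcore := typeCore_of_not hnot
  have hA : typeA M = aSet M := by
    unfold typeA aSet
    rw [if_neg hnotI, hcore]
  have hA0 : typeA0 M = aSet M ∪ wSet M := by
    unfold typeA0 wSet
    rw [hA]
    ext v
    simp only [Set.mem_union, Set.mem_setOf_eq]
    constructor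
    · rintro (h | ⟨-, h⟩)
      · exact Or.inl h
      · exact Or.inr h
    · rintro (h | h)
      · exact Or.inl h
      · exact Or.inr ⟨hnotI, h⟩
  have hA1 : typeA1 M = (fittingHallOf M : Set G) \ {1} := by
    unfold typeA1; rw [hcore]
  -- `F(M)`
  have hHF : fittingHallOf M ≤ fittingOf M := by
    rw [← hP.fitting_eq]; exact le_sup_left
  have hFM : fittingOf M ≤ M := Subgroup.map_subtype_le _
  have hNF : Subgroup.normalizer (fittingOf M : Set G) = M := by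
    have hle := Cfsg.Agent.Helper14.BGUniq.le_normalizer_fittingOf M
    rcases eq_or_lt_of_le hle with h | h
    · exact h.symm
    · exfalso
      apply Cfsg.Agent.Helper4.BG144.normalizer_ne_top' hG (A := fittingOf M) ?_ ?_ (hM.2 _ h)
      · intro hbot; apply hH1; rw [eq_bot_iff, ← hbot]; exact hHF
      · intro htop; apply hM.1; rw [eq_top_iff, ← htop]; exact hFM
  have hFti : ∀ g : G, ∀ x ∈ fittingOf M, x ≠ 1 → g * x * g⁻¹ ∈ fittingOf M → g ∈ M := by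
    intro g x hx hx1 hgx
    by_contra hg
    apply hx1
    refine hTI g ?_ x hx hgx
    rw [hNF]; exact hg
  have hHn : ∀ m ∈ M, ∀ x ∈ fittingHallOf M, m * x * m⁻¹ ∈ fittingHallOf M := by
    intro m hm x hx
    have := Cfsg.Agent.Helper7.le_normalizer_fittingHallOf M hm
    rw [Subgroup.mem_set_normalizer_iff] at this
    exact (this x).mp hx
  have hDn : ∀ m ∈ M, ∀ x ∈ ⁅M, M⁆, m * x * m⁻¹ ∈ ⁅M, M⁆ := by
    intro m hm x hx
    have := derived_le_normalizer M hm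
    rw [Subgroup.mem_set_normalizer_iff] at this
    exact (this x).mp hx
  have hHhall : ∀ y ∈ M, ∀ z ∈ fittingHallOf M, orderOf y = orderOf z → y ∈ fittingHallOf M := by
    intro y hy z hz hord
    have hcopM := Cfsg.Agent.Helper7.fittingHall_coprime ↥M
    have hdvd : orderOf (⟨y, hy⟩ : ↥M) ∣ Nat.card (fittingHall ↥M) := by
      rw [Subgroup.orderOf_mk, hord]
      have h1 : orderOf z ∣ Nat.card (fittingHallOf M) := Subgroup.orderOf_dvd_natCard _ hz
      have h2 : Nat.card (fittingHallOf M) = Nat.card (fittingHall ↥M) := by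
        unfold fittingHallOf
        exact Subgroup.card_map_of_injective M.subtype_injective
      rwa [h2] at h1
    have hle : Subgroup.zpowers (⟨y, hy⟩ : ↥M) ≤ fittingHall ↥M := by
      apply Cfsg.Agent.Helper1.PiHall.le_normal_of_coprime
      rw [Nat.card_zpowers]
      exact Nat.Coprime.coprime_dvd_left hdvd hcopM
    have hmem : (⟨y, hy⟩ : ↥M) ∈ fittingHall ↥M := hle (Subgroup.mem_zpowers _)
    exact ⟨⟨y, hy⟩, hmem, rfl⟩
  have hD : ∀ a ∈ ⁅M, M⁆, a ^ (Nat.card ↥⁅M, M⁆) = 1 := fun a ha =>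
    orderOf_dvd_iff_pow_eq_one.mp (Subgroup.orderOf_dvd_natCard _ ha)
  have hW₁M : W₁ ≤ M := hP.W₁_compl.2.1
  have hcardM := Cfsg.Agent.Helper7.IsComplIn.card_eq hP.W₁_compl
  have hW₁i : W₁.relIndex M = Nat.card ↥⁅M, M⁆ := by
    have h4 := relIndex_mul_card hW₁M
    rw [hcardM] at h4
    exact Nat.eq_of_mul_eq_mul_right Nat.card_pos h4
  have hcop : (Nat.card W₁).Coprime (Nat.card ↥⁅M, M⁆) := by rw [← hW₁i]; exact hP.W₁_hall
  have hW : ∀ W₁' U' W₂' : Subgroup G, IsTypePWith M W₁' U' W₂' →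
      ∀ a ∈ W₁', a ^ (Nat.card W₁) = 1 := by
    intro W₁' U' W₂' hP' a ha
    have h1 := Cfsg.Agent.Helper7.IsComplIn.card_eq hP'.W₁_compl
    rw [hcardM] at h1
    have h2 : Nat.card W₁ = Nat.card W₁' := Nat.eq_of_mul_eq_mul_left Nat.card_pos h1
    rw [h2]
    exact orderOf_dvd_iff_pow_eq_one.mp (Subgroup.orderOf_dvd_natCard _ ha)
  have hcent : ∀ a ∈ ⁅M, M⁆, a ≠ 1 → ∀ x ∈ fittingHallOf M, x ≠ 1 → a * x = x * a →
      Subgroup.centralizer ({a} : Set G) ≤ M := by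
    intro a haD ha1 x hx hx1 hax
    have haM : a ∈ M := hDM haD
    have ho0 : orderOf a ≠ 0 := (orderOf_pos a).ne'
    by_cases hσ : ∃ q : ℕ, q.Prime ∧ q ∣ orderOf a ∧ q ∈ sigma M
    · obtain ⟨q, hq, hqo, hqσ⟩ := hσ
      have hbo : orderOf (a ^ (orderOf a / q)) = q := orderOf_pow_orderOf_div ho0 hqo
      have hbM : a ^ (orderOf a / q) ∈ M := M.pow_mem haM _
      have hbs : a ^ (orderOf a / q) ∈ sigmaCore M := by
        apply Cfsg.Agent.Helper4.BG1379.mem_sigmaCore_of_isPiNum h50 hM hbM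
        intro r hr hrd
        rw [hbo] at hrd
        rw [(Nat.prime_dvd_prime_iff_eq hr hq).mp hrd]
        exact hqσ
      have hb1 : a ^ (orderOf a / q) ≠ 1 := by
        intro h
        rw [h, orderOf_one] at hbo
        exact hq.one_lt.ne hbo
      intro c hc
      apply hFti c _ (hsF hbs) hb1
      rw [Subgroup.mem_centralizer_iff] at hc
      have hca : a * c = c * a := hc a (Set.mem_singleton a)
      have hcomm : Commute c (a ^ (orderOf a / q)) := Commute.pow_right hca.symm _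
      have h2 : c * a ^ (orderOf a / q) * c⁻¹ = a ^ (orderOf a / q) := by
        rw [hcomm.eq, mul_inv_cancel_right]
      rw [h2]; exact hsF hbs
    · have hσ' : ∀ q : ℕ, q.Prime → q ∣ orderOf a → q ∉ sigma M :=
        fun q hq hqo hqσ => hσ ⟨q, hq, hqo, hqσ⟩
      have hxs : x ∈ sigmaCore M := hHs hx
      have haC : a ∈ M ⊓ Subgroup.centralizer ({x} : Set G) := by
        refine Subgroup.mem_inf.mpr ⟨haM, ?_⟩
        rw [Subgroup.mem_centralizer_iff]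
        intro h hh
        rw [Set.mem_singleton_iff] at hh
        subst hh
        exact hax.symm
      rcases h32 M hM x hxs hx1 a haC ha1 hσ' with
        ⟨hκ, -⟩ | ⟨-, -, hC, -⟩
      · exfalso
        have hne : orderOf a ≠ 1 := fun h => ha1 (orderOf_eq_one_iff.mp h)
        obtain ⟨q, hq, hqo⟩ := Nat.exists_prime_and_dvd hne
        have hqκ := hκ q hq hqo
        apply hKU.hall.2.2 q hq hqκ
        rw [K_relIndex hKU h50']
        have h1 : orderOf a ∣ Nat.card ↥⁅M, M⁆ := Subgroup.orderOf_dvd_natCard _ haD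
        have h2 : Nat.card ↥⁅M, M⁆ = Nat.card (sigmaCore M) * Nat.card U := by
          rw [hder]; exact Cfsg.Agent.Helper7.IsComplIn.card_eq (isComplIn_sigmaCore_U hKU)
        rw [mul_comm, ← h2]
        exact hqo.trans h1
      · exact hC
  have hCORE := core hW₁p hcop hHF hD hHD hFti hHn hHhall hcent hW
  have hAinv := aSet_inv hHn hDn
  have hex : ∃ x ∈ fittingHallOf M, x ≠ 1 := by
    by_contra h
    refine hH1 ((Subgroup.eq_bot_iff_forall _).mpr (fun x hx => ?_))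
    by_contra hx1
    exact h ⟨x, hx, hx1⟩
  obtain ⟨x₀, hx₀, hx₀1⟩ := hex
  have hsub1 : (fittingHallOf M : Set G) \ {1} ⊆ aSet M := by
    rintro x ⟨hx, hx1⟩
    exact ⟨hHD hx, hx1, x, hx, hx1, rfl⟩
  have hx₀A1 : x₀ ∈ (fittingHallOf M : Set G) \ {1} := ⟨hx₀, hx₀1⟩
  rw [hA0, hA, hA1]
  refine ⟨ti_of_core ⟨x₀, Or.inl (hsub1 hx₀A1)⟩ ?_ hCORE,
    ti_of_core ⟨x₀, hsub1 hx₀A1⟩ hAinv ?_, ti_of_core ⟨x₀, hx₀A1⟩ ?_ ?_⟩
  · intro m hm v hv
    rcases hv with h | h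
    · exact Or.inl (hAinv m hm v h)
    · exact Or.inr (wSet_inv m hm v h)
  · intro g v hv hgv
    exact hCORE g v (Or.inl hv) (Or.inl hgv)
  · rintro m hm x ⟨hx, hx1⟩
    refine ⟨hHn m hm x hx, ?_⟩
    intro h
    apply hx1
    have h' : m * x * m⁻¹ = 1 := h
    have : x = m⁻¹ * (m * x * m⁻¹) * m := by group
    rw [Set.mem_singleton_iff, this, h']; group
  · intro g v hv hgv
    exact hCORE g v (Or.inl (hsub1 hv)) (Or.inl (hsub1 hgv))

end Cfsg.Agent.Helper8.BG1538
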