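import Mathlib
import Cfsg.Agent.Lib.Helper8.CNMinMax

/-!
# Minimal simple CN-groups of odd order: conjugation of maximal nilpotent subgroups and the
covering of `G` by the conjugates of the kernels of the maximal subgroups
-/

set_option autoImplicit false
set_option linter.style.haveILetI false
set_option linter.unusedSectionVars false

namespace Cfsg.Agent.Helper8.CNMin

universe u

open Cfsg
open scoped Pointwise

variable {G : Type u} [Group G] [Finite G]

omit [Finite G] in
theorem map_conj_map_conj_inv (H : Subgroup G) (g : G) :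
    (H.map (MulAut.conj g).toMonoidHom).map (MulAut.conj g⁻¹).toMonoidHom = H := by
  rw [Subgroup.map_map]
  convert Subgroup.map_id H
  ext x
  simp [MulAut.conj_apply, mul_assoc]

omit [Finite G] in
theorem map_conj_inv_map_conj (H : Subgroup G) (g : G) :
    (H.map (MulAut.conj g⁻¹).toMonoidHom).map (MulAut.conj g).toMonoidHom = H := by
  have := map_conj_map_conj_inv H g⁻¹
  rwa [inv_inv] at this

omit [Finite G] in
theorem normalizer_map_conj (H : Subgroup G) (g : G) :
    Subgroup.normalizer ((H.map (MulAut.conj g).toMonoidHom : Subgroup G) : Set G) =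
      (Subgroup.normalizer (H : Set G)).map (MulAut.conj g).toMonoidHom :=
  (Subgroup.map_equiv_normalizer_eq H (MulAut.conj g)).symm

theorem MaxNil.conj {H : Subgroup G} (hH : MaxNil H) (g : G) :
    MaxNil (H.map (MulAut.conj g).toMonoidHom) := by
  refine ⟨Cfsg.Agent.S1473.isNilpotent_map _ hH.1, ?_⟩
  intro L hL hle
  have h1 : H ≤ L.map (MulAut.conj g⁻¹).toMonoidHom := by
    rw [← map_conj_map_conj_inv H g]
    exact Subgroup.map_mono hle
  have h2 := hH.2 _ (Cfsg.Agent.S1473.isNilpotent_map _ hL) h1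
  rw [← h2, map_conj_inv_map_conj]

theorem MaxNil.eq_fittingHallOf (h : Hyp G) {H : Subgroup G} (hH : MaxNil H) :
    H = Cfsg.fittingHallOf (Subgroup.normalizer (H : Set G)) := by
  obtain ⟨E, hft, -⟩ := hH.exists_FT h
  exact hft.K_eq

theorem MaxNil.eq_of_normalizer_eq (h : Hyp G) {H₁ H₂ : Subgroup G} (h₁ : MaxNil H₁)
    (h₂ : MaxNil H₂)
    (hn : Subgroup.normalizer (H₁ : Set G) = Subgroup.normalizer (H₂ : Set G)) : H₁ = H₂ :=
  calc H₁ = Cfsg.fittingHallOf (Subgroup.normalizer (H₁ : Set G)) := h₁.eq_fittingHallOf h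
    _ = Cfsg.fittingHallOf (Subgroup.normalizer (H₂ : Set G)) := by rw [hn]
    _ = H₂ := (h₂.eq_fittingHallOf h).symm

/-- The kernel of a maximal subgroup, as `fittingHallOf`. -/
theorem coatom_FT' (h : Hyp G) {M : Subgroup G} (hM : IsCoatom M) :
    ∃ E : Subgroup G, FT M (Cfsg.fittingHallOf M) E := by
  obtain ⟨K, E, hft⟩ := coatom_FT h hM
  have := hft.K_eq
  subst this
  exact ⟨E, hft⟩

/-- Every element is conjugate into the kernel of a representative of the maximal subgroups. -/
theorem exists_conj_mem_kernel (h : Hyp G) {ι : Type*} (Mrep : ι → Subgroup G)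
    (hmax : ∀ i, IsCoatom (Mrep i))
    (hall : ∀ M : Subgroup G, IsCoatom M →
      ∃ i, ∃ g : G, M = (Mrep i).map (MulAut.conj g).toMonoidHom) (x : G) :
    ∃ i, ∃ g : G, g * x * g⁻¹ ∈ Cfsg.fittingHallOf (Mrep i) := by
  haveI := h.simple
  by_cases hx1 : x = 1
  · obtain ⟨M, hM, -⟩ := (eq_top_or_exists_le_coatom (⊥ : Subgroup G)).resolve_left bot_ne_top
    obtain ⟨i, -, -⟩ := hall M hM
    refine ⟨i, 1, ?_⟩
    rw [hx1]; simp
  · obtain ⟨H, hle, hHn, hHm⟩ := exists_max_nilpotent (Subgroup.zpowers x) (zpowers_isNilpotent x)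
    have hH : MaxNil H := ⟨hHn, hHm⟩
    obtain ⟨E, -, hco⟩ := hH.exists_FT h
    obtain ⟨i, g, hig⟩ := hall _ hco
    obtain ⟨E', hft⟩ := coatom_FT' h (hmax i)
    have hK := hft.maxNil h (hmax i)
    have hNK := hft.normalizer_eq h (hmax i)
    have hK' := hK.conj g
    have hNK' : Subgroup.normalizer
        (((Cfsg.fittingHallOf (Mrep i)).map (MulAut.conj g).toMonoidHom : Subgroup G) : Set G) =
        Subgroup.normalizer (H : Set G) := by
      rw [normalizer_map_conj, hNK, hig]
    have heq := MaxNil.eq_of_normalizer_eq h hK' hH hNK'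
    have hxH : x ∈ H := hle (Subgroup.mem_zpowers x)
    rw [← heq] at hxH
    obtain ⟨y, hy, hyx⟩ := hxH
    refine ⟨i, g⁻¹, ?_⟩
    have : g⁻¹ * x * g⁻¹⁻¹ = y := by
      rw [← hyx]; simp [MulAut.conj_apply, mul_assoc]
    rw [this]; exact hy

end Cfsg.Agent.Helper8.CNMin
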