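import Mathlib
import Cfsg.Prelude.Def_OddOrderChar
import Cfsg.Agent.Lib.Helper8.Basic

/-!
# Averages of class functions over cosets under coprime action (helper8's shared library)

If `a` normalises the subgroup `K`, the order of `a` is coprime to `#K`, and `C = C_K(a)`, then for
every class function `χ` the average of `χ` over the coset `K a` equals its average over `C a`.
-/

set_option autoImplicit false

namespace Cfsg.Agent.Helper8.CosetAvg

open Cfsg
open scoped Classical

variable {G : Type*} [Group G] [Fintype G]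

/-- the elements of a subgroup as a finset -/
noncomputable def fin (K : Subgroup G) : Finset G := Finset.univ.filter (fun u => u ∈ K)

omit [Fintype G] in
theorem mem_fin [Fintype G] {K : Subgroup G} {u : G} : u ∈ fin K ↔ u ∈ K := by
  simp [fin]

theorem card_fin (K : Subgroup G) : (fin K).card = Nat.card K := by
  rw [Nat.card_eq_fintype_card, Fintype.card_subtype]
  rfl

/-- the average of `χ` over the coset `K l` -/
noncomputable def avg (K : Subgroup G) (χ : G → ℂ) (l : G) : ℂ :=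
  (Nat.card K : ℂ)⁻¹ * ∑ u ∈ fin K, χ (u * l)

section main

variable (K C : Subgroup G) (a : G) (hnorm : ∀ u ∈ K, a * u * a⁻¹ ∈ K)
  (hcop : (Nat.card K).Coprime (orderOf a)) (hC : ∀ u, u ∈ C ↔ u ∈ K ∧ a * u = u * a)

/-- the conjugation map `(v, c) ↦ v c a v⁻¹ a⁻¹` -/
def phi (p : G × G) : G := p.1 * p.2 * (a * p.1⁻¹ * a⁻¹)

omit [Fintype G] in
theorem phi_mul (p : G × G) : phi a p * a = p.1 * (p.2 * a) * p.1⁻¹ := by
  unfold phi; group

include hnorm hC in
omit [Fintype G] in
theorem phi_mem {p : G × G} (h1 : p.1 ∈ K) (h2 : p.2 ∈ C) : phi a p ∈ K := by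
  unfold phi
  exact K.mul_mem (K.mul_mem h1 ((hC _).1 h2).1) (hnorm _ (K.inv_mem h1))

include hcop hC in
/-- the key step: an element of `K` conjugating `c a` to `c₀ a` centralises `a` -/
theorem mem_C_of_conj {w c c₀ : G} (hw : w ∈ K) (hc : c ∈ C) (hc₀ : c₀ ∈ C)
    (h : w * (c * a) * w⁻¹ = c₀ * a) : w ∈ C := by
  rw [hC]
  refine ⟨hw, ?_⟩
  set n := Nat.card K with hn
  have hpow : ∀ x ∈ C, (x * a) ^ n = a ^ n := by
    intro x hx
    have hxa : Commute x a := ((hC x).1 hx).2.symm
    rw [hxa.mul_pow]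
    have : x ^ n = 1 := Cfsg.Agent.Helper8.pow_card_of_mem K x ((hC x).1 hx).1
    rw [this, one_mul]
  have h1 : w * a ^ n * w⁻¹ = a ^ n := by
    have := congrArg (· ^ n) h
    simp only [conj_pow, hpow c hc, hpow c₀ hc₀] at this
    exact this
  obtain ⟨m, hm⟩ := exists_pow_eq_self_of_coprime hcop
  have h2 : w * a * w⁻¹ = a := by
    calc w * a * w⁻¹ = w * (a ^ n) ^ m * w⁻¹ := by rw [hm]
      _ = (w * a ^ n * w⁻¹) ^ m := by rw [conj_pow]
      _ = a := by rw [h1, hm]
  calc a * w = (w * a * w⁻¹)⁻¹⁻¹ * w := by rw [h2]; group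
    _ = w * a := by group

include hnorm hcop hC in
theorem card_fibre_le (y : G) :
    (((fin K) ×ˢ (fin C)).filter (fun p => phi a p = y)).card ≤ (fin C).card := by
  set F := ((fin K) ×ˢ (fin C)).filter (fun p => phi a p = y) with hF
  rcases F.eq_empty_or_nonempty with h | ⟨p₀, hp₀⟩
  · rw [h]; simp
  · have hp₀' := Finset.mem_filter.1 hp₀
    have hp₀K : p₀.1 ∈ K := mem_fin.1 (Finset.mem_product.1 hp₀'.1).1
    have hp₀C : p₀.2 ∈ C := mem_fin.1 (Finset.mem_product.1 hp₀'.1).2
    apply Finset.card_le_card_of_injOn (fun p => p₀.1⁻¹ * p.1)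
    · intro p hp
      have hp' := Finset.mem_filter.1 hp
      have hpK : p.1 ∈ K := mem_fin.1 (Finset.mem_product.1 hp'.1).1
      have hpC : p.2 ∈ C := mem_fin.1 (Finset.mem_product.1 hp'.1).2
      rw [Finset.mem_coe, mem_fin]
      have h1 : phi a p * a = phi a p₀ * a := by rw [hp'.2, hp₀'.2]
      rw [phi_mul, phi_mul] at h1
      apply mem_C_of_conj K C a hcop hC (K.mul_mem (K.inv_mem hp₀K) hpK) hpC hp₀C
      calc p₀.1⁻¹ * p.1 * (p.2 * a) * (p₀.1⁻¹ * p.1)⁻¹
          = p₀.1⁻¹ * (p.1 * (p.2 * a) * p.1⁻¹) * p₀.1 := by group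
        _ = p₀.1⁻¹ * (p₀.1 * (p₀.2 * a) * p₀.1⁻¹) * p₀.1 := by rw [h1]
        _ = p₀.2 * a := by group
    · intro p hp q hq heq
      have hp' := Finset.mem_filter.1 hp
      have hq' := Finset.mem_filter.1 hq
      have h1 : p.1 = q.1 := mul_left_cancel heq
      have h2 : phi a p = phi a q := by rw [hp'.2, hq'.2]
      unfold phi at h2
      rw [h1] at h2
      have h3 : p.2 = q.2 := mul_left_cancel (mul_right_cancel h2)
      exact Prod.ext h1 h3

include hnorm hcop hC in
theorem card_fibre_eq {y : G} (hy : y ∈ fin K) :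
    (((fin K) ×ˢ (fin C)).filter (fun p => phi a p = y)).card = (fin C).card := by
  have hmaps : ∀ p ∈ (fin K) ×ˢ (fin C), phi a p ∈ fin K := by
    intro p hp
    obtain ⟨h1, h2⟩ := Finset.mem_product.1 hp
    exact mem_fin.2 (phi_mem K C a hnorm hC (mem_fin.1 h1) (mem_fin.1 h2))
  have hsum := Finset.card_eq_sum_card_fiberwise hmaps
  rw [Finset.card_product] at hsum
  have hle : ∀ y ∈ fin K,
      (((fin K) ×ˢ (fin C)).filter (fun p => phi a p = y)).card ≤ (fin C).card :=
    fun y _ => card_fibre_le K C a hnorm hcop hC y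
  have hconst : ∑ _y ∈ fin K, (fin C).card = (fin K).card * (fin C).card := by
    rw [Finset.sum_const, smul_eq_mul]
  exact (Finset.sum_eq_sum_iff_of_le hle).1 (by rw [hconst, ← hsum]) y hy

include hnorm hcop hC in
/-- the average over the coset `K a` equals the average over `C_K(a) a` -/
theorem avg_eq (χ : G → ℂ) (hχ : Cfsg.IsClassFunction G χ) : avg K χ a = avg C χ a := by
  have hmaps : ∀ p ∈ (fin K) ×ˢ (fin C), phi a p ∈ fin K := by
    intro p hp
    obtain ⟨h1, h2⟩ := Finset.mem_product.1 hp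
    exact mem_fin.2 (phi_mem K C a hnorm hC (mem_fin.1 h1) (mem_fin.1 h2))
  have e1 : ∑ p ∈ (fin K) ×ˢ (fin C), χ (phi a p * a) =
      ((fin C).card : ℂ) * ∑ y ∈ fin K, χ (y * a) := by
    rw [← Finset.sum_fiberwise_of_maps_to hmaps, Finset.mul_sum]
    refine Finset.sum_congr rfl fun y hy => ?_
    have : ∀ p ∈ ((fin K) ×ˢ (fin C)).filter (fun p => phi a p = y),
        χ (phi a p * a) = χ (y * a) := by
      intro p hp
      rw [(Finset.mem_filter.1 hp).2]
    rw [Finset.sum_congr rfl this, Finset.sum_const, card_fibre_eq K C a hnorm hcop hC hy,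
      nsmul_eq_mul]
  have e2 : ∑ p ∈ (fin K) ×ˢ (fin C), χ (phi a p * a) =
      ((fin K).card : ℂ) * ∑ c ∈ fin C, χ (c * a) := by
    rw [Finset.sum_product]
    have : ∀ v ∈ fin K, ∑ c ∈ fin C, χ (phi a (v, c) * a) = ∑ c ∈ fin C, χ (c * a) := by
      intro v _
      refine Finset.sum_congr rfl fun c _ => ?_
      rw [phi_mul]
      exact hχ _ _
    rw [Finset.sum_congr rfl this, Finset.sum_const, nsmul_eq_mul]
  have hK0 : (Nat.card K : ℂ) ≠ 0 := by exact_mod_cast (Nat.card_pos (α := K)).ne'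
  have hC0 : (Nat.card C : ℂ) ≠ 0 := by exact_mod_cast (Nat.card_pos (α := C)).ne'
  unfold avg
  rw [card_fin] at e1 e2
  have := e1.symm.trans e2
  field_simp
  linear_combination this

end main

end Cfsg.Agent.Helper8.CosetAvg
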