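import Mathlib
import Cfsg.Agent.Lib.Helper16.KazarinC

/-!
# A subgroup of prime power index that is cyclic-by-(cyclic 2-group) (helper8)

If `G` has a subgroup `A` of prime power index with a cyclic normal subgroup `B` such that
`A ⧸ B` is a cyclic 2-group, then `G` is solvable.  The proof is by induction on the order,
using Kazarin's theorem (helper16) and the transfer for a cyclic Sylow 2-subgroup.
-/

set_option autoImplicit false

namespace Cfsg.Agent.Helper8.CycByCyc

open Subgroup Cfsg.Agent.Helper16.Kazarin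

universe u

/-- The hypothesis package. -/
def Hyp (p : ℕ) (G : Type u) [Group G] : Prop :=
  ∃ (A : Subgroup G) (s : ℕ) (B : Subgroup A) (_ : B.Normal) (r : ℕ),
    A.index = p ^ s ∧ IsCyclic B ∧ IsCyclic (A ⧸ B) ∧ Nat.card (A ⧸ B) = 2 ^ r

theorem Hyp.quotient {p : ℕ} (hp : p.Prime) {G : Type u} [Group G] [Finite G] (h : Hyp p G)
    (N : Subgroup G) [N.Normal] : Hyp p (G ⧸ N) := by
  obtain ⟨A, s, B, hBn, r, hidx, hBc, hQc, hcard⟩ := h
  set π := QuotientGroup.mk' N with hπ
  have hπs : Function.Surjective π := QuotientGroup.mk'_surjective N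
  set f : A →* A.map π := π.subgroupMap A with hf
  have hfs : Function.Surjective f := π.subgroupMap_surjective A
  have hBn' : (B.map f).Normal := Subgroup.Normal.map hBn f hfs
  have hdvd : (A.map π).index ∣ p ^ s := hidx ▸ Subgroup.index_map_dvd A hπs
  obtain ⟨s', _, hs'⟩ := (Nat.dvd_prime_pow hp).mp hdvd
  have hle : B ≤ (B.map f).comap f := Subgroup.le_comap_map f B
  set g : A ⧸ B →* (A.map π) ⧸ (B.map f) := QuotientGroup.map B (B.map f) f hle with hg
  have hgs : Function.Surjective g := by
    intro y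
    induction y using QuotientGroup.induction_on with
    | H a' =>
      obtain ⟨a, rfl⟩ := hfs a'
      exact ⟨(a : A ⧸ B), rfl⟩
  have hcd : Nat.card ((A.map π) ⧸ (B.map f)) ∣ 2 ^ r := hcard ▸ Subgroup.card_dvd_of_surjective g hgs
  obtain ⟨r', _, hr'⟩ := (Nat.dvd_prime_pow Nat.prime_two).mp hcd
  refine ⟨A.map π, s', B.map f, hBn', r', hs', ?_, ?_, hr'⟩
  · exact isCyclic_of_surjective (f.subgroupMap B) (f.subgroupMap_surjective B)
  · exact isCyclic_of_surjective g hgs

theorem solvable_of_classPow {p q : ℕ} (hp : p.Prime) (hq : q.Prime) {G : Type u} [Group G]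
    [Finite G]
    (IH : ∀ (H : Type u) [Group H] [Finite H], Nat.card H < Nat.card G → Hyp p H →
      Group.IsSolvable H)
    (h : Hyp p G) (x : G) (hx1 : x ≠ 1) (hx : ClassPow q x) : Group.IsSolvable G := by
  set N := Subgroup.normalClosure ({x} : Set G) with hN
  have : N.Normal := Subgroup.normalClosure_normal
  have hNs : Group.IsSolvable N := kazarin hq x hx
  have hxN : x ∈ N := Subgroup.subset_normalClosure (Set.mem_singleton x)
  have hNbot : N ≠ ⊥ := by
    intro hb
    rw [hb, Subgroup.mem_bot] at hxN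
    exact hx1 hxN
  have hcardN : 1 < Nat.card N := N.one_lt_card_iff_ne_bot.mpr hNbot
  have hmul : Nat.card G = Nat.card (G ⧸ N) * Nat.card N :=
    Subgroup.card_eq_card_quotient_mul_card_subgroup N
  have hpos : 0 < Nat.card (G ⧸ N) := Nat.card_pos
  have hlt : Nat.card (G ⧸ N) < Nat.card G := by
    rw [hmul]
    nlinarith
  have : Group.IsSolvable (G ⧸ N) := IH (G ⧸ N) hlt (h.quotient hp N)
  exact Group.isSolvable_of_ker_le_range N.subtype (QuotientGroup.mk' N) (by simp)


/-- exit: a nontrivial element of `A` central in `A` -/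
theorem exit_central {p : ℕ} (hp : p.Prime) {G : Type u} [Group G] [Finite G]
    (IH : ∀ (H : Type u) [Group H] [Finite H], Nat.card H < Nat.card G → Hyp p H →
      Group.IsSolvable H)
    (h : Hyp p G) (A : Subgroup G) (s : ℕ) (hidx : A.index = p ^ s) (x : A) (hx1 : x ≠ 1)
    (hcomm : ∀ y : A, y * x = x * y) : Group.IsSolvable G := by
  apply solvable_of_classPow hp hp IH h (x : G)
  · intro h1
    apply hx1
    exact Subtype.ext h1
  · have hle : A ≤ centralizer {(x : G)} := by
      intro y hy
      rw [mem_centralizer_iff]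
      intro z hz
      rw [Set.mem_singleton_iff] at hz
      subst hz
      have := hcomm ⟨y, hy⟩
      exact (congrArg Subtype.val this).symm
    have hdvd : (centralizer {(x : G)}).index ∣ p ^ s := hidx ▸ index_dvd_of_le hle
    obtain ⟨j, _, hj⟩ := (Nat.dvd_prime_pow hp).mp hdvd
    exact ⟨j, hj⟩

/-- exit: `A` abelian -/
theorem exit_abelian {p : ℕ} (hp : p.Prime) {G : Type u} [Group G] [Finite G]
    (IH : ∀ (H : Type u) [Group H] [Finite H], Nat.card H < Nat.card G → Hyp p H →
      Group.IsSolvable H)
    (h : Hyp p G) (A : Subgroup G) (s : ℕ) (hidx : A.index = p ^ s)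
    (hab : ∀ x y : A, x * y = y * x) : Group.IsSolvable G := by
  by_cases hA : A = ⊥
  · have hcardG : Nat.card G = p ^ s := by
      rw [← hidx, hA, Subgroup.index_bot]
    have : Fact p.Prime := ⟨hp⟩
    have hpg : IsPGroup p G := IsPGroup.of_card hcardG
    have := hpg.isNilpotent
    infer_instance
  · obtain ⟨x, hx1⟩ := (Subgroup.ne_bot_iff_exists_ne_one).mp hA
    exact exit_central hp IH h A s hidx x hx1 (fun y => hab y x)


section Local

variable {G : Type u} [Group G] [Finite G] (A : Subgroup G) (B : Subgroup A) [hBn : B.Normal]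

/-- an element of `A` of odd order lies in `B` when `A ⧸ B` is a 2-group -/
theorem mem_of_odd {r : ℕ} (hcard : Nat.card (A ⧸ B) = 2 ^ r) (x : A) (n : ℕ) (hn : n.Coprime 2)
    (hx : x ^ n = 1) : x ∈ B := by
  rw [← QuotientGroup.eq_one_iff]
  have h1 : (x : A ⧸ B) ^ n = 1 := by
    rw [← QuotientGroup.mk_pow, hx, QuotientGroup.mk_one]
  have h2 : (x : A ⧸ B) ^ (2 ^ r) = 1 := by
    rw [← hcard]
    exact pow_card_eq_one'
  have hd1 := orderOf_dvd_of_pow_eq_one h1
  have hd2 := orderOf_dvd_of_pow_eq_one h2
  have hcop : n.Coprime (2 ^ r) := Nat.Coprime.pow_right r hn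
  have : orderOf (x : A ⧸ B) = 1 := Nat.eq_one_of_dvd_coprimes hcop hd1 hd2
  exact orderOf_eq_one_iff.mp this

/-- if `B` is trivial then `A` is abelian -/
theorem abelian_of_bot (hQc : IsCyclic (A ⧸ B)) (hB : ∀ x : A, x ∈ B → x = 1) (x y : A) :
    x * y = y * x := by
  have hc : ((x * y : A) : A ⧸ B) = ((y * x : A) : A ⧸ B) := by
    rw [QuotientGroup.mk_mul, QuotientGroup.mk_mul]
    exact (IsCyclic.commGroup (α := A ⧸ B)).mul_comm _ _
  have := hB _ (QuotientGroup.eq.mp hc)
  rw [inv_mul_eq_one] at this
  exact this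

/-- if `B` is everything then `A` is abelian -/
theorem abelian_of_top (hBc : IsCyclic B) (hB : ∀ x : A, x ∈ B) (x y : A) :
    x * y = y * x := by
  have := (IsCyclic.commGroup (α := B)).mul_comm ⟨x, hB x⟩ ⟨y, hB y⟩
  exact congrArg Subtype.val this


/-- a generator of `B` has class size dividing `|G : B|` -/
theorem centralizer_index_dvd (b : B) (hb : ∀ x : B, x ∈ zpowers b) :
    (centralizer {((b : A) : G)}).index ∣ B.index * A.index := by
  rw [← Subgroup.index_map_subtype]
  apply index_dvd_of_le
  rintro _ ⟨y, hy, rfl⟩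
  obtain ⟨k, hk⟩ := mem_zpowers_iff.mp (hb ⟨y, hy⟩)
  rw [mem_centralizer_iff]
  intro z hz
  rw [Set.mem_singleton_iff] at hz
  subst hz
  have hy' : y = (b : A) ^ k := by
    have := congrArg Subtype.val hk
    simpa using this.symm
  rw [hy']
  simp only [Subgroup.subtype_apply, Subgroup.coe_zpow]
  exact ((Commute.refl ((b : A) : G)).zpow_right k).eq

/-- an involution of the cyclic normal subgroup `B` is central in `A` -/
theorem exists_central_of_even (hBc : IsCyclic B) (h2 : 2 ∣ Nat.card B) :
    ∃ z : A, z ≠ 1 ∧ ∀ y : A, y * z = z * y := by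
  classical
  have : Fact (Nat.Prime 2) := ⟨Nat.prime_two⟩
  obtain ⟨z, hz⟩ := exists_prime_orderOf_dvd_card' 2 h2
  have hz1 : z ≠ 1 := by
    intro h1
    rw [h1, orderOf_one] at hz
    omega
  have hz2 : z ^ 2 = 1 := by
    rw [← hz]
    exact pow_orderOf_eq_one z
  refine ⟨(z : A), fun h1 => hz1 (Subtype.ext h1), fun y => ?_⟩
  have hmem : y * (z : A) * y⁻¹ ∈ B := hBn.conj_mem (z : A) z.2 y
  set z' : B := ⟨y * (z : A) * y⁻¹, hmem⟩ with hz'
  have hz'2 : z' ^ 2 = 1 := by
    apply Subtype.ext
    simp only [hz', Subgroup.coe_pow, Subgroup.coe_one]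
    rw [conj_pow]
    have : ((z : A)) ^ 2 = 1 := by
      have := congrArg Subtype.val hz2
      simpa using this
    rw [this]
    group
  have hz'1 : z' ≠ 1 := by
    intro h1
    apply hz1
    have := congrArg Subtype.val h1
    simp only [hz', Subgroup.coe_one] at this
    apply Subtype.ext
    rw [Subgroup.coe_one]
    have h3 : (z : A) = y⁻¹ * (y * (z : A) * y⁻¹) * y := by group
    rw [h3, this]
    group
  have heq : z' = z := by
    by_contra hne
    have : Fintype B := Fintype.ofFinite B
    have hle := IsCyclic.card_pow_eq_one_le (α := B) (n := 2) (by norm_num)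
    have hsub : ({1, z, z'} : Finset B) ⊆ Finset.univ.filter (fun a : B => a ^ 2 = 1) := by
      intro a ha
      simp only [Finset.mem_insert, Finset.mem_singleton] at ha
      simp only [Finset.mem_filter, Finset.mem_univ, true_and]
      rcases ha with rfl | rfl | rfl
      · exact one_pow 2
      · exact hz2
      · exact hz'2
    have hcard3 : ({1, z, z'} : Finset B).card = 3 := by
      rw [Finset.card_insert_of_notMem, Finset.card_pair]
      · exact fun h => hne h.symm
      · simp only [Finset.mem_insert, Finset.mem_singleton, not_or]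
        exact ⟨fun h => hz1 h.symm, fun h => hz'1 h.symm⟩
    have := Finset.card_le_card hsub
    omega
  have h4 := congrArg Subtype.val heq
  simp only [hz'] at h4
  calc y * (z : A) = y * (z : A) * y⁻¹ * y := by group
    _ = (z : A) * y := by rw [h4]


/-- transfer step: `p` odd, `|B|` odd, `|G|` even -/
theorem transfer_step {p : ℕ} (hp : p.Prime) (hp2 : p ≠ 2)
    (IH : ∀ (H : Type u) [Group H] [Finite H], Nat.card H < Nat.card G → Hyp p H →
      Group.IsSolvable H)
    {s r : ℕ} (hidx : A.index = p ^ s) (hBc : IsCyclic B)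
    (hcard : Nat.card (A ⧸ B) = 2 ^ r) (hQc : IsCyclic (A ⧸ B)) (hBodd : ¬ 2 ∣ Nat.card B)
    (h2G : 2 ∣ Nat.card G) : Group.IsSolvable G := by
  classical
  have : Fact (Nat.Prime 2) := ⟨Nat.prime_two⟩
  obtain ⟨TA⟩ : Nonempty (Sylow 2 A) := inferInstance
  -- the Sylow 2-subgroup of `A` is cyclic
  have hTAc : IsCyclic TA := by
    set φ : TA →* A ⧸ B := (QuotientGroup.mk' B).comp (TA : Subgroup A).subtype with hφ
    apply isCyclic_of_injective φ
    rw [injective_iff_map_eq_one]
    intro t ht
    have htB : (t : A) ∈ B := by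
      rw [← QuotientGroup.eq_one_iff]
      exact ht
    obtain ⟨k, hk⟩ := (IsPGroup.iff_orderOf.mp TA.isPGroup') t
    have hdvd : orderOf t ∣ Nat.card B := by
      have h1 : orderOf (⟨(t : A), htB⟩ : B) ∣ Nat.card B := orderOf_dvd_natCard _
      have h2 : orderOf (⟨(t : A), htB⟩ : B) = orderOf t := by
        rw [← Subgroup.orderOf_coe, ← Subgroup.orderOf_coe t]
      rwa [h2] at h1
    rw [hk] at hdvd
    have hk0 : k = 0 := by
      by_contra hk0
      exact hBodd ((dvd_pow_self 2 hk0).trans hdvd)
    rw [hk0, pow_zero] at hk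
    exact orderOf_eq_one_iff.mp hk
  -- a cyclic Sylow 2-subgroup of `G`
  set T : Subgroup G := (TA : Subgroup A).map A.subtype with hT
  have hfact : (Nat.card G).factorization 2 = (Nat.card A).factorization 2 := by
    have h1 : Nat.card G = Nat.card A * p ^ s := by
      rw [← hidx, A.card_mul_index]
    have hA0 : Nat.card A ≠ 0 := Nat.card_pos.ne'
    have hps0 : p ^ s ≠ 0 := pow_ne_zero _ hp.ne_zero
    have h2 : (p ^ s).factorization 2 = 0 := by
      apply Nat.factorization_eq_zero_of_not_dvd
      intro hd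
      have := Nat.prime_two.dvd_of_dvd_pow hd
      exact hp2 ((Nat.prime_dvd_prime_iff_eq Nat.prime_two hp).mp this).symm
    rw [h1, Nat.factorization_mul hA0 hps0, Finsupp.add_apply, h2, add_zero]
  have hcardT : Nat.card T = 2 ^ (Nat.card G).factorization 2 := by
    rw [hfact, hT, Subgroup.card_subtype]
    exact Sylow.card_eq_multiplicity TA
  set P : Sylow 2 G := Sylow.ofCard T hcardT with hP
  have hPc : IsCyclic ↥(P : Subgroup G) := by
    show IsCyclic ↥T
    exact isCyclic_of_surjective (A.subtype.subgroupMap (TA : Subgroup A))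
      (A.subtype.subgroupMap_surjective _)
  have hmin : (Nat.card G).minFac = 2 := (Nat.minFac_eq_two_iff _).mpr h2G
  have hcompl := IsCyclic.isComplement' hmin hPc
  set φ := MonoidHom.transferSylow P (hPc.normalizer_le_centralizer hmin) with hφ
  set K : Subgroup G := φ.ker with hK
  have hKodd : ¬ 2 ∣ Nat.card K := by
    rw [← hcompl.index_eq_card]
    exact P.not_dvd_index
  have hKcop : (Nat.card K).Coprime 2 :=
    ((Nat.Prime.coprime_iff_not_dvd Nat.prime_two).mpr hKodd).symm
  have hPbot : (P : Subgroup G) ≠ ⊥ := P.ne_bot_of_dvd_card h2G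
  have hPcard : 1 < Nat.card (P : Subgroup G) := (P : Subgroup G).one_lt_card_iff_ne_bot.mpr hPbot
  have hmul : Nat.card K * Nat.card (P : Subgroup G) = Nat.card G := hcompl.card_mul_card
  have hKpos : 0 < Nat.card K := Nat.card_pos
  have hlt : Nat.card K < Nat.card G := by
    rw [← hmul]
    nlinarith
  -- `A ⊓ K` is inside (the image of) `B`, so cyclic
  have hBGc : IsCyclic ↥(B.map A.subtype) :=
    isCyclic_of_surjective (A.subtype.subgroupMap B) (A.subtype.subgroupMap_surjective _)
  have hle : A ⊓ K ≤ B.map A.subtype := by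
    intro x hx
    obtain ⟨hxA, hxK⟩ := Subgroup.mem_inf.mp hx
    have hpow : (⟨x, hxA⟩ : A) ^ Nat.card K = 1 := by
      apply Subtype.ext
      rw [Subgroup.coe_pow, Subgroup.coe_one]
      have h1 : (⟨x, hxK⟩ : K) ^ Nat.card K = 1 := pow_card_eq_one'
      have := congrArg Subtype.val h1
      rw [Subgroup.coe_pow, Subgroup.coe_one] at this
      exact this
    have hmem := mem_of_odd A B hcard ⟨x, hxA⟩ (Nat.card K) hKcop hpow
    exact ⟨⟨x, hxA⟩, hmem, rfl⟩
  have hAKc : IsCyclic ↥(A ⊓ K) :=
    isCyclic_of_injective (Subgroup.inclusion hle) (Subgroup.inclusion_injective hle)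
  have hA'c : IsCyclic ↥((A ⊓ K).subgroupOf K) :=
    isCyclic_of_injective (Subgroup.subgroupOfEquivOfLe (inf_le_right : A ⊓ K ≤ K)).toMonoidHom
      (Subgroup.subgroupOfEquivOfLe (inf_le_right : A ⊓ K ≤ K)).injective
  have hdvd : ((A ⊓ K).subgroupOf K).index ∣ p ^ s := by
    have h1 : ((A ⊓ K).subgroupOf K).index = A.relIndex K := by
      rw [← Subgroup.inf_relIndex_right]
      rfl
    rw [h1, ← hidx]
    exact Cfsg.Agent.Helper21.relIndex_dvd_index_of_normal_right A K
  obtain ⟨s', _, hs'⟩ := (Nat.dvd_prime_pow hp).mp hdvd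
  have hHypK : Hyp p K := by
    refine ⟨(A ⊓ K).subgroupOf K, s', ⊤, inferInstance, 0, hs', ?_, ?_, ?_⟩
    · exact isCyclic_of_surjective (Subgroup.topEquiv (G := ↥((A ⊓ K).subgroupOf K))).symm.toMonoidHom
        (Subgroup.topEquiv (G := ↥((A ⊓ K).subgroupOf K))).symm.surjective
    · have := QuotientGroup.subsingleton_quotient_top (G := ↥((A ⊓ K).subgroupOf K))
      exact isCyclic_of_subsingleton
    · have := QuotientGroup.subsingleton_quotient_top (G := ↥((A ⊓ K).subgroupOf K))
      rw [pow_zero]
      exact Nat.card_unique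
  have hKs : Group.IsSolvable K := IH K hlt hHypK
  have hPs : Group.IsSolvable ↥(P : Subgroup G) :=
    Group.isSolvable_of_comm (fun a b => (IsCyclic.commGroup (α := ↥(P : Subgroup G))).mul_comm a b)
  exact Group.isSolvable_of_ker_le_range K.subtype φ (by simp [hK])

end Local


theorem main_step {p : ℕ} (hp : p.Prime) {G : Type u} [Group G] [Finite G]
    (IH : ∀ (H : Type u) [Group H] [Finite H], Nat.card H < Nat.card G → Hyp p H →
      Group.IsSolvable H)
    (h : Hyp p G) : Group.IsSolvable G := by
  obtain ⟨A, s, B, hBn, r, hidx, hBc, hQc, hcard⟩ := h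
  have h' : Hyp p G := ⟨A, s, B, hBn, r, hidx, hBc, hQc, hcard⟩
  obtain ⟨b, hb⟩ := IsCyclic.exists_generator (α := B)
  by_cases hp2 : p = 2
  · -- `p = 2`: the generator of `B` has 2-power class size
    by_cases hb1 : b = 1
    · apply exit_abelian hp IH h' A s hidx
      apply abelian_of_bot A B hQc
      intro x hx
      have := hb ⟨x, hx⟩
      rw [hb1, Subgroup.zpowers_one_eq_bot, Subgroup.mem_bot] at this
      exact congrArg Subtype.val this
    · apply solvable_of_classPow hp Nat.prime_two IH h' ((b : A) : G)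
      · intro h1
        apply hb1
        apply Subtype.ext
        apply Subtype.ext
        exact h1
      · have hdvd := centralizer_index_dvd A B b hb
        have hBi : B.index = 2 ^ r := by
          rw [Subgroup.index_eq_card]
          exact hcard
        rw [hidx, hBi, hp2, ← pow_add] at hdvd
        obtain ⟨j, _, hj⟩ := (Nat.dvd_prime_pow Nat.prime_two).mp hdvd
        exact ⟨j, hj⟩
  · by_cases hBeven : 2 ∣ Nat.card B
    · obtain ⟨z, hz1, hzc⟩ := exists_central_of_even A B hBc hBeven
      exact exit_central hp IH h' A s hidx z hz1 hzc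
    · by_cases h2G : 2 ∣ Nat.card G
      · exact transfer_step A B hp hp2 IH hidx hBc hcard hQc hBeven h2G
      · -- `|G|` odd: `A = B` is cyclic
        apply exit_abelian hp IH h' A s hidx
        apply abelian_of_top A B hBc
        have hr0 : r = 0 := by
          by_contra hr0
          apply h2G
          have h1 : Nat.card (A ⧸ B) ∣ Nat.card A := by
            rw [← Subgroup.index_eq_card]
            exact Subgroup.index_dvd_card B
          have h2 : Nat.card A ∣ Nat.card G := Subgroup.card_subgroup_dvd_card A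
          rw [hcard] at h1
          exact (dvd_pow_self 2 hr0).trans (h1.trans h2)
        rw [hr0, pow_zero, ← Subgroup.index_eq_card, Subgroup.index_eq_one] at hcard
        intro x
        rw [hcard]
        exact Subgroup.mem_top x

theorem main_aux {p : ℕ} (hp : p.Prime) : ∀ (n : ℕ) (G : Type u) [Group G] [Finite G],
    Nat.card G = n → Hyp p G → Group.IsSolvable G := by
  intro n
  induction n using Nat.strong_induction_on with
  | _ n ih =>
    intro G _ _ hcard h
    apply main_step hp _ h
    intro H _ _ hlt hH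
    exact ih (Nat.card H) (hcard ▸ hlt) H rfl hH

/-- **Main theorem**: a subgroup of prime power index which is cyclic-by-(cyclic 2-group) forces
solvability. -/
theorem main {G : Type u} [Group G] [Finite G] (A : Subgroup G) (p s : ℕ) (hp : p.Prime)
    (hA : A.index = p ^ s) (B : Subgroup A) [hBn : B.Normal] (hB : IsCyclic B)
    (hAB : IsCyclic (A ⧸ B)) (r : ℕ) (hr : Nat.card (A ⧸ B) = 2 ^ r) : Group.IsSolvable G :=
  main_aux hp (Nat.card G) G rfl ⟨A, s, B, hBn, r, hA, hB, hAB, hr⟩

end Cfsg.Agent.Helper8.CycByCyc
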