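import Mathlib
import Cfsg.Prelude.Def_OddOrderChar
import Cfsg.Agent.Lib.Helper24.CharComplete
import Cfsg.Agent.Lib.Helper8.Dual
import Cfsg.Agent.S1509
import Cfsg.Agent.S1506

/-!
# Uniqueness of the family attached to a self-normalising cyclic subgroup (helper8 library)

`family_unique`: two families satisfying `Cfsg.IsCyclicTIFamily W₁ W₂` coincide, as soon as both
`W₁` and `W₂` have at least three elements.
-/

set_option autoImplicit false

namespace Cfsg.Agent.Helper8.CycTI

open Cfsg Cfsg.Agent.Helper24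
open scoped ComplexConjugate

section Signed

variable {X : Type*} [Group X] [Fintype X]

/-- signed irreducible characters -/
def SIrr (α : X → ℂ) : Prop := IsIrrCharacter X α ∨ IsIrrCharacter X (-α)

/-- the inner product of two signed irreducibles is `0`, or `1` (and they are equal), or `-1`
(and they are opposite) -/
theorem sirr_inner (α β : X → ℂ) (hα : SIrr α) (hβ : SIrr β) :
    classInner α β = 0 ∨ (classInner α β = 1 ∧ α = β) ∨ (classInner α β = -1 ∧ α = -β) := by
  classical
  obtain ⟨ea, a, hea, ha, rfl⟩ := Cfsg.Agent.S1509.signed_irr α hα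
  obtain ⟨eb, b, heb, hb, rfl⟩ := Cfsg.Agent.S1509.signed_irr β hβ
  rw [Cfsg.Agent.S1509.inner_signed _ _ _ _ ha hb]
  by_cases hab : a = b
  · subst hab
    rw [if_pos rfl, mul_one]
    rcases hea with rfl | rfl <;> rcases heb with rfl | rfl
    · right; left; exact ⟨by norm_num, rfl⟩
    · right; right
      refine ⟨by norm_num, ?_⟩
      funext x
      simp
    · right; right
      refine ⟨by norm_num, ?_⟩
      funext x
      simp
    · right; left; exact ⟨by norm_num, rfl⟩
  · left
    rw [if_neg hab, mul_zero]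
    norm_num

theorem classInner_neg_right (α β : X → ℂ) : classInner α (-β) = -classInner α β := by
  have : (-β) = ((-1 : ℂ)) • β := by
    funext x
    simp
  rw [this, classInner_smul_right]
  simp

/-- for orthogonal signed irreducibles `a, b`, a signed irreducible `u` cannot meet both -/
theorem sirr_mul_eq_zero (a b u : X → ℂ) (ha : SIrr a) (hu : SIrr u)
    (hab : classInner b a = 0) : classInner a u * classInner b u = 0 := by
  rcases sirr_inner a u ha hu with h | ⟨-, h⟩ | ⟨-, h⟩
  · rw [h, zero_mul]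
  · rw [← h, hab, mul_zero]
  · have h2 : u = -a := by rw [h, neg_neg]
    rw [h2, classInner_neg_right b a, hab, neg_zero, mul_zero]

theorem sirr_inner_cases (a u : X → ℂ) (ha : SIrr a) (hu : SIrr u) :
    classInner a u = 0 ∨ classInner a u = 1 ∨ classInner a u = -1 := by
  rcases sirr_inner a u ha hu with h | ⟨h, -⟩ | ⟨h, -⟩
  · exact Or.inl h
  · exact Or.inr (Or.inl h)
  · exact Or.inr (Or.inr h)

theorem sirr_eq_of_inner_one (a u : X → ℂ) (ha : SIrr a) (hu : SIrr u)
    (h : classInner a u = 1) : a = u := by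
  rcases sirr_inner a u ha hu with h' | ⟨-, h'⟩ | ⟨h', -⟩
  · rw [h] at h'; exact absurd h' one_ne_zero
  · exact h'
  · rw [h] at h'
    norm_num at h'

/-- the key combinatorial step: if `u` has inner product `-1` with `-a - b₁ + c₁` and with
`-a - b₂ + c₂`, all of `a, b₁, c₁, b₂, c₂` being pairwise orthogonal signed irreducibles,
then `u = a`. -/
theorem eq_of_two_relations (a b₁ c₁ b₂ c₂ u : X → ℂ) (ha : SIrr a) (hb₁ : SIrr b₁)
    (hc₁ : SIrr c₁) (hb₂ : SIrr b₂) (hc₂ : SIrr c₂) (hu : SIrr u)
    (o1 : classInner b₂ b₁ = 0) (o2 : classInner c₂ b₁ = 0)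
    (o3 : classInner b₂ c₁ = 0) (o4 : classInner c₂ c₁ = 0) (o5 : classInner b₁ a = 0)
    (r1 : -classInner a u - classInner b₁ u + classInner c₁ u = -1)
    (r2 : -classInner a u - classInner b₂ u + classInner c₂ u = -1) : a = u := by
  have m1 := sirr_mul_eq_zero b₁ b₂ u hb₁ hu o1
  have m2 := sirr_mul_eq_zero b₁ c₂ u hb₁ hu o2
  have m3 := sirr_mul_eq_zero c₁ b₂ u hc₁ hu o3
  have m4 := sirr_mul_eq_zero c₁ c₂ u hc₁ hu o4
  apply sirr_eq_of_inner_one a u ha hu
  rcases sirr_inner_cases a u ha hu with hx | hx | hx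
  · -- x = 0 : impossible
    exfalso
    rw [hx] at r1 r2
    rcases sirr_inner_cases b₁ u hb₁ hu with h1 | h1 | h1 <;>
    rcases sirr_inner_cases c₁ u hc₁ hu with h2 | h2 | h2 <;>
    rcases sirr_inner_cases b₂ u hb₂ hu with h3 | h3 | h3 <;>
    rcases sirr_inner_cases c₂ u hc₂ hu with h4 | h4 | h4 <;>
    rw [h1, h2] at r1 <;> rw [h3, h4] at r2 <;>
    first
      | (norm_num at r1; done)
      | (norm_num at r2; done)
      | (rw [h1, h3] at m1; norm_num at m1; done)
      | (rw [h1, h4] at m2; norm_num at m2; done)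
      | (rw [h2, h3] at m3; norm_num at m3; done)
      | (rw [h2, h4] at m4; norm_num at m4; done)
  · exact hx
  · exfalso
    have n1 := sirr_mul_eq_zero a b₁ u ha hu o5
    rw [hx] at r1 n1
    rcases sirr_inner_cases b₁ u hb₁ hu with h1 | h1 | h1 <;>
    rcases sirr_inner_cases c₁ u hc₁ hu with h2 | h2 | h2 <;>
    rw [h1, h2] at r1 <;> rw [h1] at n1 <;>
    first
      | (norm_num at r1; done)
      | (norm_num at n1; done)
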