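import Mathlib
import Cfsg.Agent.Lib.Helper8.CycTI1

/-!
# Uniqueness of the family attached to a self-normalising cyclic subgroup, II (helper8 library)
-/

set_option autoImplicit false

namespace Cfsg.Agent.Helper8.CycTI

open Cfsg Cfsg.Agent.Helper24 Cfsg.Agent.Helper8
open scoped ComplexConjugate

section Uniq

variable {G : Type*} [Group G] [Fintype G]

theorem classInner_combo_left (θ A B C : G → ℂ) :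
    Cfsg.classInner (fun g => 1 - A g - B g + C g) θ
      = Cfsg.classInner (fun _ => 1) θ - Cfsg.classInner A θ - Cfsg.classInner B θ
        + Cfsg.classInner C θ := by
  simp only [classInner_def, sub_mul, add_mul, Finset.sum_sub_distrib,
    Finset.sum_add_distrib, mul_sub, mul_add]

variable (W₁ W₂ : Subgroup G)

/-- a character of `W₁ ⊔ W₂` trivial on both factors is trivial -/
theorem eq_one_of_triv (η : ↥(W₁ ⊔ W₂) →* ℂˣ)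
    (h1 : ∀ w : ↥(W₁ ⊔ W₂), (w : G) ∈ W₁ → η w = 1)
    (h2 : ∀ w : ↥(W₁ ⊔ W₂), (w : G) ∈ W₂ → η w = 1) : η = 1 := by
  have hsup : W₁.subgroupOf (W₁ ⊔ W₂) ⊔ W₂.subgroupOf (W₁ ⊔ W₂) = ⊤ :=
    codisjoint_iff.mp (Subgroup.codisjoint_subgroupOf_sup W₁ W₂)
  apply hom_eq_of_eqOn_sup _ _ hsup
  · intro w hw
    rw [h1 w hw, MonoidHom.one_apply]
  · intro w hw
    rw [h2 w hw, MonoidHom.one_apply]

variable {W₁ W₂}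

/-- the relation obtained by pairing the induction identity with `χ' φ` -/
theorem relation_left {χ χ' : (↥(W₁ ⊔ W₂) →* ℂˣ) → (G → ℂ)}
    (hχ : Cfsg.IsCyclicTIFamily W₁ W₂ χ) (hχ' : Cfsg.IsCyclicTIFamily W₁ W₂ χ')
    (φ ψ : ↥(W₁ ⊔ W₂) →* ℂˣ) (hφ : φ ≠ 1) (hψ : ψ ≠ 1)
    (hφ₂ : ∀ w : ↥(W₁ ⊔ W₂), (w : G) ∈ W₂ → φ w = 1)
    (hψ₁ : ∀ w : ↥(W₁ ⊔ W₂), (w : G) ∈ W₁ → ψ w = 1) :
    -Cfsg.classInner (χ φ) (χ' φ) - Cfsg.classInner (χ ψ) (χ' φ)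
      + Cfsg.classInner (χ (φ * ψ)) (χ' φ) = -1 := by
  classical
  have e1 := hχ.induced_eq φ ψ hφ hψ hφ₂ hψ₁
  have e2 := hχ'.induced_eq φ ψ hφ hψ hφ₂ hψ₁
  have e3 := e1.symm.trans e2
  have e4 := congrArg (fun F => Cfsg.classInner F (χ' φ)) e3
  simp only [classInner_combo_left] at e4
  have hne1 : φ ≠ ψ := by
    intro h
    apply hφ
    exact eq_one_of_triv W₁ W₂ φ (fun w hw => by rw [h]; exact hψ₁ w hw) hφ₂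
  have hne2 : φ * ψ ≠ φ := by
    intro h
    apply hψ
    have : φ * ψ = φ * 1 := h.trans (mul_one φ).symm
    exact mul_left_cancel this
  have o1 : Cfsg.classInner (χ' φ) (χ' φ) = 1 := by rw [hχ'.orthonormal, if_pos rfl]
  have o2 : Cfsg.classInner (χ' ψ) (χ' φ) = 0 := by
    rw [hχ'.orthonormal, if_neg (Ne.symm hne1)]
  have o3 : Cfsg.classInner (χ' (φ * ψ)) (χ' φ) = 0 := by
    rw [hχ'.orthonormal, if_neg hne2]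
  have o4 : Cfsg.classInner (fun _ : G => (1 : ℂ)) (χ' φ) = 0 := by
    rw [← hχ'.map_one, hχ'.orthonormal, if_neg (Ne.symm hφ)]
  rw [o1, o2, o3] at e4
  rw [o4] at e4
  linear_combination e4

/-- the relation obtained by pairing the induction identity with `χ' ψ` -/
theorem relation_right {χ χ' : (↥(W₁ ⊔ W₂) →* ℂˣ) → (G → ℂ)}
    (hχ : Cfsg.IsCyclicTIFamily W₁ W₂ χ) (hχ' : Cfsg.IsCyclicTIFamily W₁ W₂ χ')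
    (φ ψ : ↥(W₁ ⊔ W₂) →* ℂˣ) (hφ : φ ≠ 1) (hψ : ψ ≠ 1)
    (hφ₂ : ∀ w : ↥(W₁ ⊔ W₂), (w : G) ∈ W₂ → φ w = 1)
    (hψ₁ : ∀ w : ↥(W₁ ⊔ W₂), (w : G) ∈ W₁ → ψ w = 1) :
    -Cfsg.classInner (χ ψ) (χ' ψ) - Cfsg.classInner (χ φ) (χ' ψ)
      + Cfsg.classInner (χ (φ * ψ)) (χ' ψ) = -1 := by
  classical
  have e1 := hχ.induced_eq φ ψ hφ hψ hφ₂ hψ₁
  have e2 := hχ'.induced_eq φ ψ hφ hψ hφ₂ hψ₁
  have e3 := e1.symm.trans e2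
  have e4 := congrArg (fun F => Cfsg.classInner F (χ' ψ)) e3
  simp only [classInner_combo_left] at e4
  have hne1 : φ ≠ ψ := by
    intro h
    apply hφ
    exact eq_one_of_triv W₁ W₂ φ (fun w hw => by rw [h]; exact hψ₁ w hw) hφ₂
  have hne2 : φ * ψ ≠ ψ := by
    intro h
    apply hφ
    have : φ * ψ = 1 * ψ := h.trans (one_mul ψ).symm
    exact mul_right_cancel this
  have o1 : Cfsg.classInner (χ' ψ) (χ' ψ) = 1 := by rw [hχ'.orthonormal, if_pos rfl]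
  have o2 : Cfsg.classInner (χ' φ) (χ' ψ) = 0 := by
    rw [hχ'.orthonormal, if_neg hne1]
  have o3 : Cfsg.classInner (χ' (φ * ψ)) (χ' ψ) = 0 := by
    rw [hχ'.orthonormal, if_neg hne2]
  have o4 : Cfsg.classInner (fun _ : G => (1 : ℂ)) (χ' ψ) = 0 := by
    rw [← hχ'.map_one, hχ'.orthonormal, if_neg (Ne.symm hψ)]
  rw [o1, o2, o3] at e4
  rw [o4] at e4
  linear_combination e4

theorem family_sirr {χ : (↥(W₁ ⊔ W₂) →* ℂˣ) → (G → ℂ)}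
    (hχ : Cfsg.IsCyclicTIFamily W₁ W₂ χ) (ω : ↥(W₁ ⊔ W₂) →* ℂˣ) : SIrr (χ ω) :=
  hχ.irr_or_neg ω

theorem family_orth {χ : (↥(W₁ ⊔ W₂) →* ℂˣ) → (G → ℂ)}
    (hχ : Cfsg.IsCyclicTIFamily W₁ W₂ χ) {ω ω' : ↥(W₁ ⊔ W₂) →* ℂˣ} (h : ω ≠ ω') :
    Cfsg.classInner (χ ω) (χ ω') = 0 := by
  classical
  rw [hχ.orthonormal, if_neg h]

/-- uniqueness on the characters trivial on `W₂` -/
theorem unique_left {χ χ' : (↥(W₁ ⊔ W₂) →* ℂˣ) → (G → ℂ)}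
    (hχ : Cfsg.IsCyclicTIFamily W₁ W₂ χ) (hχ' : Cfsg.IsCyclicTIFamily W₁ W₂ χ')
    (φ ψ₁ ψ₂ : ↥(W₁ ⊔ W₂) →* ℂˣ) (hφ : φ ≠ 1) (hψ₁ : ψ₁ ≠ 1) (hψ₂ : ψ₂ ≠ 1) (h12 : ψ₁ ≠ ψ₂)
    (hφ₂ : ∀ w : ↥(W₁ ⊔ W₂), (w : G) ∈ W₂ → φ w = 1)
    (hψ₁₁ : ∀ w : ↥(W₁ ⊔ W₂), (w : G) ∈ W₁ → ψ₁ w = 1)
    (hψ₂₁ : ∀ w : ↥(W₁ ⊔ W₂), (w : G) ∈ W₁ → ψ₂ w = 1) :
    χ φ = χ' φ := by
  have r1 := relation_left hχ hχ' φ ψ₁ hφ hψ₁ hφ₂ hψ₁₁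
  have r2 := relation_left hχ hχ' φ ψ₂ hφ hψ₂ hφ₂ hψ₂₁
  -- index inequalities
  have hx : ∀ (α β : ↥(W₁ ⊔ W₂) →* ℂˣ), (∀ w : ↥(W₁ ⊔ W₂), (w : G) ∈ W₁ → α w = 1) →
      (∀ w : ↥(W₁ ⊔ W₂), (w : G) ∈ W₁ → β w = 1) → φ * α ≠ β := by
    intro α β hα hβ h
    apply hφ
    apply eq_one_of_triv W₁ W₂ φ _ hφ₂
    intro w hw
    have := DFunLike.congr_fun h w
    rw [MonoidHom.mul_apply, hα w hw, hβ w hw, mul_one] at this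
    exact this
  have n1 : ψ₂ ≠ ψ₁ := Ne.symm h12
  have n2 : φ * ψ₂ ≠ ψ₁ := hx ψ₂ ψ₁ hψ₂₁ hψ₁₁
  have n3 : ψ₂ ≠ φ * ψ₁ := Ne.symm (hx ψ₁ ψ₂ hψ₁₁ hψ₂₁)
  have n4 : φ * ψ₂ ≠ φ * ψ₁ := fun h => n1 (mul_left_cancel h)
  have n5 : ψ₁ ≠ φ := by
    intro h
    apply hφ
    exact eq_one_of_triv W₁ W₂ φ (fun w hw => by rw [← h]; exact hψ₁₁ w hw) hφ₂
  exact eq_of_two_relations (χ φ) (χ ψ₁) (χ (φ * ψ₁)) (χ ψ₂) (χ (φ * ψ₂)) (χ' φ)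
    (family_sirr hχ _) (family_sirr hχ _) (family_sirr hχ _) (family_sirr hχ _)
    (family_sirr hχ _) (family_sirr hχ' _)
    (family_orth hχ n1) (family_orth hχ n2) (family_orth hχ n3) (family_orth hχ n4)
    (family_orth hχ n5) r1 r2

/-- uniqueness on the characters trivial on `W₁` -/
theorem unique_right {χ χ' : (↥(W₁ ⊔ W₂) →* ℂˣ) → (G → ℂ)}
    (hχ : Cfsg.IsCyclicTIFamily W₁ W₂ χ) (hχ' : Cfsg.IsCyclicTIFamily W₁ W₂ χ')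
    (ψ φ₁ φ₂ : ↥(W₁ ⊔ W₂) →* ℂˣ) (hψ : ψ ≠ 1) (hφ₁ : φ₁ ≠ 1) (hφ₂ : φ₂ ≠ 1) (h12 : φ₁ ≠ φ₂)
    (hψ₁ : ∀ w : ↥(W₁ ⊔ W₂), (w : G) ∈ W₁ → ψ w = 1)
    (hφ₁₂ : ∀ w : ↥(W₁ ⊔ W₂), (w : G) ∈ W₂ → φ₁ w = 1)
    (hφ₂₂ : ∀ w : ↥(W₁ ⊔ W₂), (w : G) ∈ W₂ → φ₂ w = 1) :
    χ ψ = χ' ψ := by
  have r1 := relation_right hχ hχ' φ₁ ψ hφ₁ hψ hφ₁₂ hψ₁
  have r2 := relation_right hχ hχ' φ₂ ψ hφ₂ hψ hφ₂₂ hψ₁
  have hx : ∀ (α β : ↥(W₁ ⊔ W₂) →* ℂˣ), (∀ w : ↥(W₁ ⊔ W₂), (w : G) ∈ W₂ → α w = 1) →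
      (∀ w : ↥(W₁ ⊔ W₂), (w : G) ∈ W₂ → β w = 1) → α * ψ ≠ β := by
    intro α β hα hβ h
    apply hψ
    apply eq_one_of_triv W₁ W₂ ψ hψ₁
    intro w hw
    have := DFunLike.congr_fun h w
    rw [MonoidHom.mul_apply, hα w hw, hβ w hw, one_mul] at this
    exact this
  have n1 : φ₂ ≠ φ₁ := Ne.symm h12
  have n2 : φ₂ * ψ ≠ φ₁ := hx φ₂ φ₁ hφ₂₂ hφ₁₂
  have n3 : φ₂ ≠ φ₁ * ψ := Ne.symm (hx φ₁ φ₂ hφ₁₂ hφ₂₂)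
  have n4 : φ₂ * ψ ≠ φ₁ * ψ := fun h => n1 (mul_right_cancel h)
  have n5 : φ₁ ≠ ψ := by
    intro h
    apply hψ
    exact eq_one_of_triv W₁ W₂ ψ hψ₁ (fun w hw => by rw [← h]; exact hφ₁₂ w hw)
  exact eq_of_two_relations (χ ψ) (χ φ₁) (χ (φ₁ * ψ)) (χ φ₂) (χ (φ₂ * ψ)) (χ' ψ)
    (family_sirr hχ _) (family_sirr hχ _) (family_sirr hχ _) (family_sirr hχ _)
    (family_sirr hχ _) (family_sirr hχ' _)
    (family_orth hχ n1) (family_orth hχ n2) (family_orth hχ n3) (family_orth hχ n4)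
    (family_orth hχ n5) r1 r2

end Uniq

end Cfsg.Agent.Helper8.CycTI
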