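import Mathlib
import Cfsg.Agent.Lib.Helper8.CycTI2

/-!
# Uniqueness of the family attached to a self-normalising cyclic subgroup, III (helper8 library)

`family_unique`: two families satisfying `Cfsg.IsCyclicTIFamily W₁ W₂` coincide when
`W₁ ⊔ W₂` has odd order.
-/

set_option autoImplicit false

namespace Cfsg.Agent.Helper8.CycTI

open Cfsg Cfsg.Agent.Helper24 Cfsg.Agent.Helper8
open scoped ComplexConjugate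

theorem exists_two_ne_one {α : Type*} [One α] [Finite α] (h : 3 ≤ Nat.card α) :
    ∃ a b : α, a ≠ 1 ∧ b ≠ 1 ∧ a ≠ b := by
  classical
  haveI : Fintype α := Fintype.ofFinite α
  rw [Nat.card_eq_fintype_card] at h
  obtain ⟨a, b, c, hab, hac, hbc⟩ := Fintype.two_lt_card_iff.mp (by omega : 2 < Fintype.card α)
  by_cases ha : a = 1
  · refine ⟨b, c, ?_, ?_, hbc⟩
    · rw [← ha]; exact Ne.symm hab
    · rw [← ha]; exact Ne.symm hac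
  · by_cases hb : b = 1
    · refine ⟨a, c, ha, ?_, hac⟩
      rw [← hb]; exact Ne.symm hbc
    · exact ⟨a, b, ha, hb, hab⟩

section Main

variable {G : Type*} [Group G] [Fintype G]

/-- the structural data of a self-normalising cyclic subgroup of odd order -/
theorem structure_data (W₁ W₂ : Subgroup G) (hW : Cfsg.IsSelfNormalizingCyclic W₁ W₂)
    (hodd : Odd (Nat.card ↥(W₁ ⊔ W₂))) :
    (∀ x y : ↥(W₁ ⊔ W₂), x * y = y * x) ∧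
    W₁.subgroupOf (W₁ ⊔ W₂) ⊓ W₂.subgroupOf (W₁ ⊔ W₂) = ⊥ ∧
    W₁.subgroupOf (W₁ ⊔ W₂) ⊔ W₂.subgroupOf (W₁ ⊔ W₂) = ⊤ ∧
    3 ≤ Nat.card ↥(trivOn (W₂.subgroupOf (W₁ ⊔ W₂))) ∧
    3 ≤ Nat.card ↥(trivOn (W₁.subgroupOf (W₁ ⊔ W₂))) := by
  obtain ⟨hW1, hW2, hdisj, hcomm, hcyc, hnorm⟩ := hW
  have hA : ∀ x y : ↥(W₁ ⊔ W₂), x * y = y * x := by
    intro x y
    haveI := hcyc
    letI := IsCyclic.commGroup (α := ↥(W₁ ⊔ W₂))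
    exact mul_comm x y
  have hinf : W₁.subgroupOf (W₁ ⊔ W₂) ⊓ W₂.subgroupOf (W₁ ⊔ W₂) = ⊥ := by
    rw [eq_bot_iff]
    intro x hx
    obtain ⟨h1, h2⟩ := Subgroup.mem_inf.mp hx
    have : (x : G) ∈ W₁ ⊓ W₂ := Subgroup.mem_inf.mpr ⟨h1, h2⟩
    rw [hdisj, Subgroup.mem_bot] at this
    rw [Subgroup.mem_bot]
    exact Subtype.ext this
  have hsup : W₁.subgroupOf (W₁ ⊔ W₂) ⊔ W₂.subgroupOf (W₁ ⊔ W₂) = ⊤ :=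
    codisjoint_iff.mp (Subgroup.codisjoint_subgroupOf_sup W₁ W₂)
  obtain ⟨hc1, hc2⟩ := card_trivOn_of_compl hA _ _ hinf hsup
  have hn1 : Nat.card ↥(W₁.subgroupOf (W₁ ⊔ W₂)) = Nat.card W₁ :=
    Nat.card_congr (Subgroup.subgroupOfEquivOfLe le_sup_left).toEquiv
  have hn2 : Nat.card ↥(W₂.subgroupOf (W₁ ⊔ W₂)) = Nat.card W₂ :=
    Nat.card_congr (Subgroup.subgroupOfEquivOfLe le_sup_right).toEquiv
  have hmul : Nat.card W₁ * Nat.card W₂ = Nat.card ↥(W₁ ⊔ W₂) := by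
    rw [← hn1, ← hn2]
    exact (isComplement'_of_comm hA _ _ hinf hsup).card_mul_card
  have hodd12 : Odd (Nat.card W₁) ∧ Odd (Nat.card W₂) := by
    rw [← hmul] at hodd
    exact Nat.odd_mul.mp hodd
  have h1 : 1 < Nat.card W₁ := by
    rw [Subgroup.one_lt_card_iff_ne_bot]; exact hW1
  have h2 : 1 < Nat.card W₂ := by
    rw [Subgroup.one_lt_card_iff_ne_bot]; exact hW2
  refine ⟨hA, hinf, hsup, ?_, ?_⟩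
  · rw [hc1, hn1]
    obtain ⟨k, hk⟩ := hodd12.1
    omega
  · rw [hc2, hn2]
    obtain ⟨k, hk⟩ := hodd12.2
    omega

/-- **Uniqueness of the family.** -/
theorem family_unique (W₁ W₂ : Subgroup G) (hW : Cfsg.IsSelfNormalizingCyclic W₁ W₂)
    (hodd : Odd (Nat.card ↥(W₁ ⊔ W₂))) {χ χ' : (↥(W₁ ⊔ W₂) →* ℂˣ) → (G → ℂ)}
    (hχ : Cfsg.IsCyclicTIFamily W₁ W₂ χ) (hχ' : Cfsg.IsCyclicTIFamily W₁ W₂ χ') :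
    χ = χ' := by
  obtain ⟨hA, hinf, hsup, hΦ, hΨ⟩ := structure_data W₁ W₂ hW hodd
  haveI := finite_hom hA
  obtain ⟨φ₁, φ₂, hφ₁, hφ₂, hφ12⟩ := exists_two_ne_one hΦ
  obtain ⟨ψ₁, ψ₂, hψ₁, hψ₂, hψ12⟩ := exists_two_ne_one hΨ
  have cφ : ∀ φ : ↥(trivOn (W₂.subgroupOf (W₁ ⊔ W₂))), φ ≠ 1 →
      ∀ w : ↥(W₁ ⊔ W₂), (w : G) ∈ W₂ → (φ : ↥(W₁ ⊔ W₂) →* ℂˣ) w = 1 := fun φ _ w hw => φ.2 w hw
  have ne1 : ∀ {H : Subgroup ↥(W₁ ⊔ W₂)} (η : ↥(trivOn H)), η ≠ 1 →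
      (η : ↥(W₁ ⊔ W₂) →* ℂˣ) ≠ 1 := by
    intro H η hη h
    apply hη
    exact Subtype.ext h
  have neq : ∀ {H : Subgroup ↥(W₁ ⊔ W₂)} (η η' : ↥(trivOn H)), η ≠ η' →
      (η : ↥(W₁ ⊔ W₂) →* ℂˣ) ≠ (η' : ↥(W₁ ⊔ W₂) →* ℂˣ) := by
    intro H η η' hη h
    apply hη
    exact Subtype.ext h
  have L : ∀ φ : ↥(trivOn (W₂.subgroupOf (W₁ ⊔ W₂))), (φ : ↥(W₁ ⊔ W₂) →* ℂˣ) ≠ 1 →
      χ (φ : ↥(W₁ ⊔ W₂) →* ℂˣ) = χ' (φ : ↥(W₁ ⊔ W₂) →* ℂˣ) := by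
    intro φ hφ
    exact unique_left hχ hχ' φ.1 ψ₁.1 ψ₂.1 hφ (ne1 ψ₁ hψ₁) (ne1 ψ₂ hψ₂) (neq ψ₁ ψ₂ hψ12)
      (fun w hw => φ.2 w hw) (fun w hw => ψ₁.2 w hw) (fun w hw => ψ₂.2 w hw)
  have R : ∀ ψ : ↥(trivOn (W₁.subgroupOf (W₁ ⊔ W₂))), (ψ : ↥(W₁ ⊔ W₂) →* ℂˣ) ≠ 1 →
      χ (ψ : ↥(W₁ ⊔ W₂) →* ℂˣ) = χ' (ψ : ↥(W₁ ⊔ W₂) →* ℂˣ) := by
    intro ψ hψ
    exact unique_right hχ hχ' ψ.1 φ₁.1 φ₂.1 hψ (ne1 φ₁ hφ₁) (ne1 φ₂ hφ₂) (neq φ₁ φ₂ hφ12)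
      (fun w hw => ψ.2 w hw) (fun w hw => φ₁.2 w hw) (fun w hw => φ₂.2 w hw)
  funext ω
  obtain ⟨⟨φ, ψ⟩, rfl⟩ := (mulPair_bijective hA _ _ hinf hsup).2 ω
  simp only [mulPair]
  by_cases h1 : (φ : ↥(W₁ ⊔ W₂) →* ℂˣ) = 1
  · by_cases h2 : (ψ : ↥(W₁ ⊔ W₂) →* ℂˣ) = 1
    · have e : (φ : ↥(W₁ ⊔ W₂) →* ℂˣ) * (ψ : ↥(W₁ ⊔ W₂) →* ℂˣ) = 1 := by
        rw [h1, h2]; ext w; simp
      rw [e, hχ.map_one, hχ'.map_one]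
    · have e : (φ : ↥(W₁ ⊔ W₂) →* ℂˣ) * (ψ : ↥(W₁ ⊔ W₂) →* ℂˣ) = ψ := by
        rw [h1]; ext w; simp
      rw [e]
      exact R ψ h2
  · by_cases h2 : (ψ : ↥(W₁ ⊔ W₂) →* ℂˣ) = 1
    · have e : (φ : ↥(W₁ ⊔ W₂) →* ℂˣ) * (ψ : ↥(W₁ ⊔ W₂) →* ℂˣ) = φ := by
        rw [h2]; ext w; simp
      rw [e]
      exact L φ h1
    · have e1 := hχ.induced_eq φ.1 ψ.1 h1 h2 (fun w hw => φ.2 w hw) (fun w hw => ψ.2 w hw)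
      have e2 := hχ'.induced_eq φ.1 ψ.1 h1 h2 (fun w hw => φ.2 w hw) (fun w hw => ψ.2 w hw)
      have e3 := e1.symm.trans e2
      funext g
      have e4 : 1 - χ φ.1 g - χ ψ.1 g + χ (φ.1 * ψ.1) g
          = 1 - χ' φ.1 g - χ' ψ.1 g + χ' (φ.1 * ψ.1) g := congrFun e3 g
      have eL := congrFun (L φ h1) g
      have eR := congrFun (R ψ h2) g
      linear_combination e4 + eL + eR

end Main

end Cfsg.Agent.Helper8.CycTI
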