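import Mathlib
import Cfsg.Agent.Lib.Helper8.CycTI3
import Cfsg.Agent.Lib.Helper18.GaloisConj

/-!
# Power twists of the family attached to a self-normalising cyclic subgroup (helper8 library)

`isCyclicTIFamily_twist`: for `j` prime to `|G|` with inverse `i`, the family
`ω ↦ (g ↦ χ (ω ^ i) (g ^ j))` is again a family for `(W₁, W₂)`.
`family_twist_eq`: hence it equals `χ` (odd order).
-/

set_option autoImplicit false

namespace Cfsg.Agent.Helper8.CycTI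

open Cfsg Cfsg.Agent.Helper24 Cfsg.Agent.Helper8 Cfsg.Agent.Helper18
open scoped ComplexConjugate

theorem pow_mul_eq_self {X : Type*} [Group X] {n i j : ℕ} (x : X) (hx : orderOf x ∣ n)
    (hij : i * j ≡ 1 [MOD n]) : x ^ (i * j) = x := by
  have h1 : x ^ (i * j) = x ^ 1 := pow_eq_pow_iff_modEq.mpr (hij.of_dvd hx)
  rw [h1, pow_one]

section Twist

universe u

variable {G : Type u} [Group G] [Fintype G]

/-- Powers commute with induction of arbitrary functions. -/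
theorem indFun_pow (E : Subgroup G) (f : E → ℂ) {j : ℕ}
    (hj : Nat.Coprime (Nat.card G) j) (g : G) :
    indFun E f (g ^ j) = indFun E (fun e => f (e ^ j)) g := by
  rw [indFun_apply, indFun_apply]
  congr 1
  refine Finset.sum_congr rfl fun x _ => ?_
  have h1 : x⁻¹ * g ^ j * x = (x⁻¹ * g * x) ^ j := by
    have := conj_pow (a := x⁻¹) (b := g) (i := j)
    rw [inv_inv] at this
    exact this.symm
  rw [h1]
  by_cases hy : x⁻¹ * g * x ∈ E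
  · rw [Cfsg.Agent.Helper8.extendByZero_of_mem E _ _ (E.pow_mem hy j),
      Cfsg.Agent.Helper8.extendByZero_of_mem E _ _ hy]
    rfl
  · rw [Cfsg.Agent.Helper8.extendByZero_of_not_mem E _ _ hy,
      Cfsg.Agent.Helper8.extendByZero_of_not_mem]
    intro h
    apply hy
    have hcop : Nat.Coprime j (orderOf (x⁻¹ * g * x)) :=
      (Nat.Coprime.coprime_dvd_left (orderOf_dvd_natCard _) hj).symm
    obtain ⟨m, hm⟩ := exists_pow_eq_self_of_coprime hcop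
    rw [← hm]
    exact E.pow_mem h m

variable {W₁ W₂ : Subgroup G}

/-- the power twist of a family -/
def twist (χ : (↥(W₁ ⊔ W₂) →* ℂˣ) → (G → ℂ)) (i j : ℕ) :
    (↥(W₁ ⊔ W₂) →* ℂˣ) → (G → ℂ) :=
  fun ω g => χ (ω ^ i) (g ^ j)

theorem orderOf_sub_dvd (w : ↥(W₁ ⊔ W₂)) : orderOf w ∣ Nat.card G :=
  (orderOf_dvd_natCard w).trans (Subgroup.card_subgroup_dvd_card _)

theorem hom_pow_mul_eq_self {i j : ℕ} (hij : i * j ≡ 1 [MOD Nat.card G])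
    (ω : ↥(W₁ ⊔ W₂) →* ℂˣ) : (ω ^ i) ^ j = ω := by
  ext w
  rw [MonoidHom.pow_apply, MonoidHom.pow_apply, ← pow_mul, ← map_pow,
    pow_mul_eq_self w (orderOf_sub_dvd w) hij]

theorem hom_pow_apply_pow {i j : ℕ} (hij : i * j ≡ 1 [MOD Nat.card G])
    (ω : ↥(W₁ ⊔ W₂) →* ℂˣ) (w : ↥(W₁ ⊔ W₂)) : (ω ^ i) (w ^ j) = ω w := by
  rw [MonoidHom.pow_apply, map_pow, ← pow_mul, mul_comm, ← map_pow,
    pow_mul_eq_self w (orderOf_sub_dvd w) hij]

theorem not_mem_pow {i j : ℕ} (hij : i * j ≡ 1 [MOD Nat.card G]) (K : Subgroup G)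
    (w : ↥(W₁ ⊔ W₂)) (hw : (w : G) ∉ K) : ((w ^ j : ↥(W₁ ⊔ W₂)) : G) ∉ K := by
  intro h
  apply hw
  have h2 : ((w ^ j : ↥(W₁ ⊔ W₂)) : G) ^ i ∈ K := K.pow_mem h i
  rw [Subgroup.coe_pow, ← pow_mul, mul_comm,
    pow_mul_eq_self (w : G) (orderOf_dvd_natCard _) hij] at h2
  exact h2

theorem hom_one_pow (i : ℕ) : (1 : ↥(W₁ ⊔ W₂) →* ℂˣ) ^ i = 1 := by
  ext w
  rw [MonoidHom.pow_apply, MonoidHom.one_apply, one_pow]

theorem hom_mul_pow (φ ψ : ↥(W₁ ⊔ W₂) →* ℂˣ) (i : ℕ) : (φ * ψ) ^ i = φ ^ i * ψ ^ i := by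
  ext w
  rw [MonoidHom.pow_apply, MonoidHom.mul_apply, MonoidHom.mul_apply, MonoidHom.pow_apply,
    MonoidHom.pow_apply, mul_pow]

theorem isCyclicTIFamily_twist {χ : (↥(W₁ ⊔ W₂) →* ℂˣ) → (G → ℂ)}
    (hχ : Cfsg.IsCyclicTIFamily W₁ W₂ χ) {i j : ℕ} (hj : Nat.Coprime (Nat.card G) j)
    (hij : i * j ≡ 1 [MOD Nat.card G]) : Cfsg.IsCyclicTIFamily W₁ W₂ (twist χ i j) := by
  have hinj : ∀ ω ω' : ↥(W₁ ⊔ W₂) →* ℂˣ, ω ^ i = ω' ^ i ↔ ω = ω' := by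
    intro ω ω'
    constructor
    · intro h
      rw [← hom_pow_mul_eq_self hij ω, ← hom_pow_mul_eq_self hij ω', h]
    · intro h
      rw [h]
  refine ⟨?_, ?_, ?_, ?_, ?_⟩
  · intro ω
    rcases hχ.irr_or_neg (ω ^ i) with h | h
    · left
      exact isIrrCharacter_comp_pow h hj
    · right
      exact isIrrCharacter_comp_pow h hj
  · intro ω ω'
    have h1 : Cfsg.classInner (twist χ i j ω) (twist χ i j ω')
        = Cfsg.classInner (χ (ω ^ i)) (χ (ω' ^ i)) :=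
      classInner_comp_pow (χ (ω ^ i)) (χ (ω' ^ i)) hj
    rw [h1, hχ.orthonormal]
    by_cases h : ω = ω'
    · rw [if_pos h, if_pos ((hinj ω ω').mpr h)]
    · rw [if_neg h, if_neg (fun h' => h ((hinj ω ω').mp h'))]
  · funext g
    show χ (1 ^ i) (g ^ j) = 1
    rw [hom_one_pow, hχ.map_one]
  · intro ω w hw1 hw2
    show χ (ω ^ i) ((w : G) ^ j) = (ω w : ℂ)
    have e : (w : G) ^ j = ((w ^ j : ↥(W₁ ⊔ W₂)) : G) := (Subgroup.coe_pow _ w j).symm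
    rw [e, hχ.eq_on (ω ^ i) (w ^ j) (not_mem_pow hij W₁ w hw1) (not_mem_pow hij W₂ w hw2),
      hom_pow_apply_pow hij]
  · intro φ ψ hφ hψ hφ₂ hψ₁
    have hφi : φ ^ i ≠ 1 := by
      intro h
      apply hφ
      rw [← hom_pow_mul_eq_self hij φ, h, hom_one_pow]
    have hψi : ψ ^ i ≠ 1 := by
      intro h
      apply hψ
      rw [← hom_pow_mul_eq_self hij ψ, h, hom_one_pow]
    have hφ₂i : ∀ w : ↥(W₁ ⊔ W₂), (w : G) ∈ W₂ → (φ ^ i) w = 1 := by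
      intro w hw
      rw [MonoidHom.pow_apply, hφ₂ w hw, one_pow]
    have hψ₁i : ∀ w : ↥(W₁ ⊔ W₂), (w : G) ∈ W₁ → (ψ ^ i) w = 1 := by
      intro w hw
      rw [MonoidHom.pow_apply, hψ₁ w hw, one_pow]
    have e1 := hχ.induced_eq (φ ^ i) (ψ ^ i) hφi hψi hφ₂i hψ₁i
    funext g
    have e2 := congrFun e1 (g ^ j)
    rw [indFun_pow _ _ hj] at e2
    have e3 : (fun e : ↥(W₁ ⊔ W₂) => 1 - (((φ ^ i) (e ^ j) : ℂˣ) : ℂ) - (((ψ ^ i) (e ^ j) : ℂˣ) : ℂ)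
        + (((φ ^ i) (e ^ j) : ℂˣ) : ℂ) * (((ψ ^ i) (e ^ j) : ℂˣ) : ℂ))
        = fun w => 1 - (φ w : ℂ) - (ψ w : ℂ) + (φ w : ℂ) * (ψ w : ℂ) := by
      funext e
      rw [hom_pow_apply_pow hij, hom_pow_apply_pow hij]
    rw [e3] at e2
    rw [e2]
    show _ = 1 - χ (φ ^ i) (g ^ j) - χ (ψ ^ i) (g ^ j) + χ ((φ * ψ) ^ i) (g ^ j)
    rw [hom_mul_pow]

/-- the twisted family is the family itself -/
theorem family_twist_eq (hW : Cfsg.IsSelfNormalizingCyclic W₁ W₂)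
    (hodd : Odd (Nat.card ↥(W₁ ⊔ W₂))) {χ : (↥(W₁ ⊔ W₂) →* ℂˣ) → (G → ℂ)}
    (hχ : Cfsg.IsCyclicTIFamily W₁ W₂ χ) {i j : ℕ} (hj : Nat.Coprime (Nat.card G) j)
    (hij : i * j ≡ 1 [MOD Nat.card G]) (ω : ↥(W₁ ⊔ W₂) →* ℂˣ) (g : G) :
    χ ω g = χ (ω ^ i) (g ^ j) := by
  have h := family_unique W₁ W₂ hW hodd hχ (isCyclicTIFamily_twist hχ hj hij)
  exact congrFun (congrFun h ω) g

end Twist

end Cfsg.Agent.Helper8.CycTI
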