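import Mathlib
import Cfsg.Agent.Lib.Helper8.CycTI4
import Cfsg.Agent.Lib.Helper24.GeneratorSum

/-!
# Rationality of the family attached to a self-normalising cyclic subgroup (helper8 library)

`family_int`: the value of `χ ω` at an element of order prime to the order of `ω` is an integer.
-/

set_option autoImplicit false

namespace Cfsg.Agent.Helper8.CycTI

open Cfsg Cfsg.Agent.Helper24 Cfsg.Agent.Helper8 Cfsg.Agent.Helper18

/-- lifting a pair of residues to a unit modulo `n` -/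
theorem exists_unit_lift {n a m k : ℕ} (hn : 0 < n) (ha : a ∣ n) (hm : m ∣ n)
    (ham : Nat.Coprime a m) (hk : Nat.Coprime k m) :
    ∃ i j : ℕ, Nat.Coprime n j ∧ j ≡ k [MOD m] ∧ i * j ≡ 1 [MOD n] ∧ i ≡ 1 [MOD a] := by
  have hd : a * m ∣ n := Nat.Coprime.mul_dvd_of_dvd_of_dvd ham ha hm
  obtain ⟨j₀, hj₀a, hj₀m⟩ := Nat.chineseRemainder ham 1 k
  have hc : Nat.Coprime j₀ (a * m) := by
    apply Nat.Coprime.mul_right
    · show Nat.gcd j₀ a = 1
      rw [hj₀a.gcd_eq]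
      exact Nat.gcd_one_left a
    · show Nat.gcd j₀ m = 1
      rw [hj₀m.gcd_eq]
      exact hk
  haveI : NeZero n := ⟨hn.ne'⟩
  obtain ⟨u, hu⟩ := ZMod.unitsMap_surjective hd (ZMod.unitOfCoprime j₀ hc)
  have hu' : (ZMod.castHom hd (ZMod (a * m))) (u : ZMod n) = (j₀ : ZMod (a * m)) := by
    have := congrArg (fun v : (ZMod (a * m))ˣ => (v : ZMod (a * m))) hu
    simpa [ZMod.unitsMap] using this
  have hjj₀ : (u : ZMod n).val ≡ j₀ [MOD a * m] := by
    rw [← ZMod.natCast_eq_natCast_iff]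
    rw [← hu', ZMod.castHom_apply, ZMod.natCast_val]
  have hja : (u : ZMod n).val ≡ 1 [MOD a] := (hjj₀.of_dvd (dvd_mul_right a m)).trans hj₀a
  have hjm : (u : ZMod n).val ≡ k [MOD m] := (hjj₀.of_dvd (dvd_mul_left m a)).trans hj₀m
  have hij : ((u⁻¹ : (ZMod n)ˣ) : ZMod n).val * (u : ZMod n).val ≡ 1 [MOD n] := by
    rw [← ZMod.natCast_eq_natCast_iff]
    push_cast
    rw [ZMod.natCast_zmod_val, ZMod.natCast_zmod_val, Units.inv_mul]
  refine ⟨((u⁻¹ : (ZMod n)ˣ) : ZMod n).val, (u : ZMod n).val,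
    (ZMod.val_coe_unit_coprime u).symm, hjm, hij, ?_⟩
  have h1 : ((u⁻¹ : (ZMod n)ˣ) : ZMod n).val * (u : ZMod n).val
      ≡ ((u⁻¹ : (ZMod n)ˣ) : ZMod n).val * 1 [MOD a] := Nat.ModEq.mul_left _ hja
  have h2 := (hij.of_dvd ha)
  rw [mul_one] at h1
  exact h1.symm.trans h2

section Final

universe u

variable {G : Type u} [Group G] [Fintype G] {W₁ W₂ : Subgroup G}

theorem orderOf_hom_dvd (ω : ↥(W₁ ⊔ W₂) →* ℂˣ) : orderOf ω ∣ Nat.card G := by
  have h1 : ω ^ Nat.card ↥(W₁ ⊔ W₂) = 1 := by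
    ext w
    rw [MonoidHom.pow_apply, ← map_pow, pow_card_eq_one', map_one, MonoidHom.one_apply]
  exact (orderOf_dvd_of_pow_eq_one h1).trans (Subgroup.card_subgroup_dvd_card _)

/-- the family is constant on the generators of a cyclic subgroup of order prime to the order
of `ω` -/
theorem family_pow_eq (hW : Cfsg.IsSelfNormalizingCyclic W₁ W₂)
    (hodd : Odd (Nat.card ↥(W₁ ⊔ W₂))) {χ : (↥(W₁ ⊔ W₂) →* ℂˣ) → (G → ℂ)}
    (hχ : Cfsg.IsCyclicTIFamily W₁ W₂ χ) (ω : ↥(W₁ ⊔ W₂) →* ℂˣ) (g : G)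
    (hg : Nat.Coprime (orderOf g) (orderOf ω)) (k : ℕ) (hk : Nat.Coprime k (orderOf g)) :
    χ ω (g ^ k) = χ ω g := by
  obtain ⟨i, j, hj, hjk, hij, hi⟩ := exists_unit_lift (Nat.card_pos (α := G))
    (orderOf_hom_dvd ω) (orderOf_dvd_natCard g) hg.symm hk
  rw [family_twist_eq hW hodd hχ hj hij ω g]
  have e1 : ω ^ i = ω := by
    have h1 : ω ^ i = ω ^ 1 :=
      (pow_eq_pow_iff_modEq (G := ↥(W₁ ⊔ W₂) →* ℂˣ) (x := ω)).mpr hi
    have h2 : ω ^ 1 = ω := by
      ext w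
      rw [MonoidHom.pow_apply, pow_one]
    exact h1.trans h2
  have e2 : g ^ j = g ^ k := pow_eq_pow_iff_modEq.mpr hjk
  rw [e1, e2]

/-- integrality for an irreducible character constant on generators -/
theorem int_of_irr (θ : G → ℂ) (hθ : IsIrrCharacter G θ) (g : G)
    (h : ∀ k : ℕ, Nat.Coprime k (orderOf g) → θ (g ^ k) = θ g) : ∃ z : ℤ, θ g = z := by
  classical
  have hcomm : ∀ a b : ↥(Subgroup.zpowers g), a * b = b * a := by
    intro a b
    obtain ⟨x, hx⟩ := Subgroup.mem_zpowers_iff.mp a.2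
    obtain ⟨y, hy⟩ := Subgroup.mem_zpowers_iff.mp b.2
    apply Subtype.ext
    rw [Subgroup.coe_mul, Subgroup.coe_mul, ← hx, ← hy, ← zpow_add, ← zpow_add, add_comm]
  have hψ : IsCharacter ↥(Subgroup.zpowers g) (fun t : ↥(Subgroup.zpowers g) => θ t) :=
    isCharacter_restrict (Subgroup.zpowers g) (isCharacter_of_isIrrCharacter hθ)
  have hcard : Nat.card ↥(Subgroup.zpowers g) = orderOf g := Nat.card_zpowers g
  refine Cfsg.Agent.Helper24.GenSum.int_of_const_on_generators' hcomm hψ (θ g) ?_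
    ⟨g, Subgroup.mem_zpowers g⟩ ?_
  · intro t ht
    have hfin : IsOfFinOrder g := isOfFinOrder_of_finite g
    obtain ⟨k, hk⟩ : ∃ k : ℕ, g ^ k = (t : G) := by
      have := (hfin.mem_powers_iff_mem_zpowers).mpr t.2
      exact (Submonoid.mem_powers_iff _ _).mp this
    have hord : orderOf (t : G) = orderOf g := by
      rw [Subgroup.orderOf_coe, ht, hcard]
    rw [← hk, orderOf_pow] at hord
    have hpos : 0 < orderOf g := orderOf_pos g
    have hgcd : Nat.gcd (orderOf g) k = 1 := by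
      rcases Nat.div_eq_self.mp hord with h0 | h1
      · omega
      · exact h1
    show θ (t : G) = θ g
    rw [← hk]
    exact h k (Nat.coprime_comm.mp hgcd)
  · rw [hcard]
    exact Subgroup.orderOf_mk g _

/-- **Integrality of the family** at elements of order prime to the order of `ω`. -/
theorem family_int (hW : Cfsg.IsSelfNormalizingCyclic W₁ W₂)
    (hodd : Odd (Nat.card ↥(W₁ ⊔ W₂))) {χ : (↥(W₁ ⊔ W₂) →* ℂˣ) → (G → ℂ)}
    (hχ : Cfsg.IsCyclicTIFamily W₁ W₂ χ) (ω : ↥(W₁ ⊔ W₂) →* ℂˣ) (g : G)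
    (hg : Nat.Coprime (orderOf g) (orderOf ω)) : ∃ n : ℤ, χ ω g = n := by
  have hpow := family_pow_eq hW hodd hχ ω g hg
  rcases hχ.irr_or_neg ω with h | h
  · exact int_of_irr (χ ω) h g hpow
  · obtain ⟨z, hz⟩ := int_of_irr (-χ ω) h g (fun k hk => by
      show -χ ω (g ^ k) = -χ ω g
      rw [hpow k hk])
    refine ⟨-z, ?_⟩
    have : -χ ω g = z := hz
    push_cast
    rw [← this, neg_neg]

end Final

end Cfsg.Agent.Helper8.CycTI
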