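import Mathlib
import Cfsg.Prelude.Def_OddOrderChar
import Cfsg.Agent.S1498
import Cfsg.Agent.S1499

/-!
# The Dade map: well-definedness and the basic counting identity (helper8's shared library)
-/

set_option autoImplicit false

namespace Cfsg.Agent.Helper8

open Cfsg
open scoped ComplexConjugate

section Dade

variable {G : Type*} [Group G] (A : Set G) (L : Subgroup G) (H : G → Subgroup G)

/-- elements of `C_G(a) = H a ⊔ C_L(a)` factor as `l * v` -/
theorem dade_centralizer_factor (hD : Cfsg.DadeHypothesis A L H) (a : G) (ha : a ∈ A) (c : G)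
    (hc : c ∈ Subgroup.centralizer ({a} : Set G)) :
    ∃ l ∈ L ⊓ Subgroup.centralizer ({a} : Set G), ∃ v ∈ H a, c = l * v := by
  rw [← hD.sup_eq a ha] at hc
  have hnorm : ∀ l ∈ L ⊓ Subgroup.centralizer ({a} : Set G), ∀ v ∈ H a, l * v * l⁻¹ ∈ H a :=
    fun l hl v hv => hD.conj_mem_H a ha l (Subgroup.mem_inf.mp hl).2 v hv
  rw [Subgroup.sup_eq_closure] at hc
  refine Subgroup.closure_induction (p := fun c _ => ∃ l ∈ L ⊓ Subgroup.centralizer ({a} : Set G),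
    ∃ v ∈ H a, c = l * v) ?_ ?_ ?_ ?_ hc
  · intro x hx
    rcases hx with hx | hx
    · exact ⟨1, Subgroup.one_mem _, x, hx, by simp⟩
    · exact ⟨x, hx, 1, Subgroup.one_mem _, by simp⟩
  · exact ⟨1, Subgroup.one_mem _, 1, Subgroup.one_mem _, by simp⟩
  · rintro x y _ _ ⟨l, hl, v, hv, rfl⟩ ⟨l', hl', v', hv', rfl⟩
    refine ⟨l * l', Subgroup.mul_mem _ hl hl', (l'⁻¹ * v * l'⁻¹⁻¹) * v', ?_, ?_⟩
    · exact Subgroup.mul_mem _ (hnorm _ (Subgroup.inv_mem _ hl') v hv) hv'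
    · group
  · rintro x _ ⟨l, hl, v, hv, rfl⟩
    refine ⟨l⁻¹, Subgroup.inv_mem _ hl, l * v⁻¹ * l⁻¹, hnorm l hl _ (Subgroup.inv_mem _ hv), ?_⟩
    group

variable [Finite G]

/-- extended equivariance: `z u z⁻¹ ∈ H (z a z⁻¹)` whenever `z a z⁻¹ ∈ A` -/
theorem dade_conj_mem (hD : Cfsg.DadeHypothesis A L H) (a : G) (ha : a ∈ A) (z : G)
    (hz : z * a * z⁻¹ ∈ A) (u : G) (hu : u ∈ H a) :
    z * u * z⁻¹ ∈ H (z * a * z⁻¹) ∧ Nat.card (H (z * a * z⁻¹)) = Nat.card (H a) := by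
  obtain ⟨x, hx, hxe⟩ := hD.fusion a ha z hz
  have hc : x⁻¹ * z ∈ Subgroup.centralizer ({a} : Set G) := by
    rw [Subgroup.mem_centralizer_iff]
    intro y hy
    rw [Set.mem_singleton_iff] at hy
    subst hy
    have : x⁻¹ * (z * y * z⁻¹) * x = y := by rw [← hxe]; group
    calc y * (x⁻¹ * z) = (x⁻¹ * (z * y * z⁻¹) * x) * (x⁻¹ * z) := by rw [this]
      _ = x⁻¹ * z * y := by group
  have h1 := Cfsg.Agent.S1498.result A L H hD a ha x hx
  rw [← hxe, h1]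
  constructor
  · refine ⟨(x⁻¹ * z) * u * (x⁻¹ * z)⁻¹, hD.conj_mem_H a ha _ hc u hu, ?_⟩
    simp only [MulEquiv.coe_toMonoidHom, MulAut.conj_apply]
    group
  · exact Subgroup.card_map_of_injective (MulAut.conj x).injective

/-- counting the elements that conjugate `a` into `A` -/
theorem dade_card_conj (hD : Cfsg.DadeHypothesis A L H) (a : G) (ha : a ∈ A) :
    Nat.card {z : G // z * a * z⁻¹ ∈ A} = Nat.card L * Nat.card (H a) := by
  rw [← Nat.card_prod]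
  symm
  have hmem : ∀ p : ↥L × ↥(H a), ((p.1 : G) * (p.2 : G)) * a * ((p.1 : G) * (p.2 : G))⁻¹ ∈ A := by
    intro p
    have hv : (p.2 : G) ∈ Subgroup.centralizer ({a} : Set G) := hD.le_centralizer a ha p.2.2
    rw [Subgroup.mem_centralizer_iff] at hv
    have hv' : a * (p.2 : G) = (p.2 : G) * a := hv a rfl
    have : ((p.1 : G) * (p.2 : G)) * a * ((p.1 : G) * (p.2 : G))⁻¹ = (p.1 : G) * a * (p.1 : G)⁻¹ := by
      calc ((p.1 : G) * (p.2 : G)) * a * ((p.1 : G) * (p.2 : G))⁻¹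
          = (p.1 : G) * ((p.2 : G) * a) * (p.2 : G)⁻¹ * (p.1 : G)⁻¹ := by group
        _ = (p.1 : G) * (a * (p.2 : G)) * (p.2 : G)⁻¹ * (p.1 : G)⁻¹ := by rw [hv']
        _ = (p.1 : G) * a * (p.1 : G)⁻¹ := by group
    rw [this]
    exact hD.conj_mem _ p.1.2 a ha
  apply Nat.card_congr
  refine Equiv.ofBijective (fun p => ⟨(p.1 : G) * (p.2 : G), hmem p⟩) ⟨?_, ?_⟩
  · rintro ⟨⟨x, hx⟩, ⟨v, hv⟩⟩ ⟨⟨x', hx'⟩, ⟨v', hv'⟩⟩ h
    have h' : x * v = x' * v' := congrArg Subtype.val h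
    have h2 : x'⁻¹ * x = v' * v⁻¹ := by
      have := congrArg (fun t => x'⁻¹ * t * v⁻¹) h'
      simpa [mul_assoc] using this
    have hmemL : x'⁻¹ * x ∈ L := L.mul_mem (L.inv_mem hx') hx
    have hmemH : x'⁻¹ * x ∈ H a := by rw [h2]; exact (H a).mul_mem hv' ((H a).inv_mem hv)
    have hbot : x'⁻¹ * x ∈ H a ⊓ (L ⊓ Subgroup.centralizer ({a} : Set G)) :=
      Subgroup.mem_inf.mpr ⟨hmemH, Subgroup.mem_inf.mpr ⟨hmemL, hD.le_centralizer a ha hmemH⟩⟩
    rw [hD.inf_eq_bot a ha, Subgroup.mem_bot] at hbot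
    have hxx : x = x' := by
      have := congrArg (fun t => x' * t) hbot
      simpa using this
    subst hxx
    have hvv : v = v' := mul_left_cancel h'
    subst hvv
    rfl
  · rintro ⟨z, hz⟩
    obtain ⟨x, hx, hxe⟩ := hD.fusion a ha z hz
    have hc : x⁻¹ * z ∈ Subgroup.centralizer ({a} : Set G) := by
      rw [Subgroup.mem_centralizer_iff]
      intro y hy
      rw [Set.mem_singleton_iff] at hy
      subst hy
      have : x⁻¹ * (z * y * z⁻¹) * x = y := by rw [← hxe]; group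
      calc y * (x⁻¹ * z) = (x⁻¹ * (z * y * z⁻¹) * x) * (x⁻¹ * z) := by rw [this]
        _ = x⁻¹ * z * y := by group
    obtain ⟨l, hl, v, hv, hlv⟩ := dade_centralizer_factor A L H hD a ha _ hc
    refine ⟨(⟨x * l, L.mul_mem hx (Subgroup.mem_inf.mp hl).1⟩, ⟨v, hv⟩), ?_⟩
    apply Subtype.ext
    change x * l * v = z
    rw [mul_assoc, ← hlv]
    group

/-- well-definedness of the Dade map on class functions -/
theorem dade_apply (hD : Cfsg.DadeHypothesis A L H) (α : L → ℂ) (hα : Cfsg.IsClassFunction L α)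
    (a : L) (ha : (a : G) ∈ A) (u : G) (hu : u ∈ H a) (x g : G)
    (hx : x * g * x⁻¹ = (a : G) * u) : Cfsg.dadeIsometry A L H α g = α a := by
  classical
  have hex : ∃ a : ↥L, (a : G) ∈ A ∧ ∃ x : G, ∃ u ∈ H (a : G), x * g * x⁻¹ = (a : G) * u :=
    ⟨a, ha, x, u, hu, hx⟩
  unfold Cfsg.dadeIsometry
  rw [dif_pos hex]
  obtain ⟨ha', x', u', hu', hx'⟩ := Classical.choose_spec hex
  set a' := Classical.choose hex with ha'def
  -- `(x' x⁻¹) (a u) (x' x⁻¹)⁻¹ = a' u'`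
  have hconj : (x' * x⁻¹) * ((a : G) * u) * (x' * x⁻¹)⁻¹ = (a' : G) * u' := by
    rw [← hx, ← hx']; group
  have h1 := Cfsg.Agent.S1499.conj_eq A L H hD a a' ha ha' u u' _ hu hu' hconj
  obtain ⟨l, hl, hle⟩ := hD.fusion a ha (x' * x⁻¹) (by rw [h1]; exact ha')
  have : a' = ⟨l, hl⟩ * a * (⟨l, hl⟩ : L)⁻¹ := by
    apply Subtype.ext
    simp only [Subgroup.coe_mul, Subgroup.coe_inv]
    rw [hle, h1]
  rw [this]
  exact hα a ⟨l, hl⟩

theorem dade_apply_of_not (α : L → ℂ) (g : G)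
    (h : ¬ ∃ a : ↥L, (a : G) ∈ A ∧ ∃ x : G, ∃ u ∈ H (a : G), x * g * x⁻¹ = (a : G) * u) :
    Cfsg.dadeIsometry A L H α g = 0 := by
  classical
  unfold Cfsg.dadeIsometry
  rw [dif_neg h]

/-- the Dade image of a class function is a class function -/
theorem dade_isClassFunction (hD : Cfsg.DadeHypothesis A L H) (α : L → ℂ)
    (hα : Cfsg.IsClassFunction L α) : Cfsg.IsClassFunction G (Cfsg.dadeIsometry A L H α) := by
  classical
  intro g h
  by_cases hex : ∃ a : ↥L, (a : G) ∈ A ∧ ∃ x : G, ∃ u ∈ H (a : G), x * g * x⁻¹ = (a : G) * u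
  · obtain ⟨a, ha, x, u, hu, hx⟩ := hex
    rw [dade_apply A L H hD α hα a ha u hu x g hx]
    apply dade_apply A L H hD α hα a ha u hu (x * h⁻¹)
    rw [← hx]; group
  · rw [dade_apply_of_not A L H α g hex]
    apply dade_apply_of_not
    rintro ⟨a, ha, x, u, hu, hx⟩
    apply hex
    refine ⟨a, ha, x * h, u, hu, ?_⟩
    rw [← hx]; group

end Dade


section Count

variable {G : Type*} [Group G] [Fintype G] (A : Set G) (L : Subgroup G) [Fintype L]
  (H : G → Subgroup G)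

open Classical in
/-- the kernel of the Dade map -/
noncomputable def dadeKernel (α : L → ℂ) (g : G) (a : L) : ℂ :=
  if (a : G) ∈ A ∧ (a : G)⁻¹ * g ∈ H a then α a * (Nat.card (H a) : ℂ)⁻¹ else 0

theorem dadeKernel_eq_zero_of_ne (hD : Cfsg.DadeHypothesis A L H) (α : L → ℂ) (a₀ : L)
    (ha₀ : (a₀ : G) ∈ A) (u₀ : G) (hu₀ : u₀ ∈ H a₀) (z : G) (b : L)
    (hb : (b : G) ≠ z * a₀ * z⁻¹) :
    dadeKernel A L H α (z * ((a₀ : G) * u₀) * z⁻¹) b = 0 := by
  classical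
  unfold dadeKernel
  rw [if_neg]
  rintro ⟨hbA, hbH⟩
  apply hb
  have hconj : z * ((a₀ : G) * u₀) * z⁻¹ = (b : G) * ((b : G)⁻¹ * (z * ((a₀ : G) * u₀) * z⁻¹)) := by
    group
  exact (Cfsg.Agent.S1499.conj_eq A L H hD a₀ b ha₀ hbA u₀ _ z hu₀ hbH hconj).symm

theorem sum_dadeKernel_conj (hD : Cfsg.DadeHypothesis A L H) (α : L → ℂ)
    (hα : Cfsg.IsClassFunction L α) (a₀ : L) (ha₀ : (a₀ : G) ∈ A) (u₀ : G) (hu₀ : u₀ ∈ H a₀)
    (z : G) [Decidable (z * (a₀ : G) * z⁻¹ ∈ A)] :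
    ∑ a : L, dadeKernel A L H α (z * ((a₀ : G) * u₀) * z⁻¹) a
      = if z * (a₀ : G) * z⁻¹ ∈ A then α a₀ * (Nat.card (H a₀) : ℂ)⁻¹ else 0 := by
  classical
  split_ifs with hz
  · set a₁ : L := ⟨z * (a₀ : G) * z⁻¹, hD.subset hz⟩ with ha₁
    rw [Finset.sum_eq_single a₁]
    · obtain ⟨hmem, hcard⟩ := dade_conj_mem A L H hD a₀ ha₀ z hz u₀ hu₀
      unfold dadeKernel
      have hcond : (a₁ : G) ∈ A ∧ (a₁ : G)⁻¹ * (z * ((a₀ : G) * u₀) * z⁻¹) ∈ H a₁ := by
        refine ⟨hz, ?_⟩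
        have : (a₁ : G)⁻¹ * (z * ((a₀ : G) * u₀) * z⁻¹) = z * u₀ * z⁻¹ := by
          change (z * (a₀ : G) * z⁻¹)⁻¹ * (z * ((a₀ : G) * u₀) * z⁻¹) = z * u₀ * z⁻¹
          group
        rw [this]
        exact hmem
      rw [if_pos hcond]
      have hc : Nat.card (H (a₁ : G)) = Nat.card (H (a₀ : G)) := hcard
      rw [hc]
      congr 1
      obtain ⟨l, hl, hle⟩ := hD.fusion a₀ ha₀ z hz
      have : a₁ = ⟨l, hl⟩ * a₀ * (⟨l, hl⟩ : L)⁻¹ := by
        apply Subtype.ext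
        simp only [Subgroup.coe_mul, Subgroup.coe_inv]
        rw [hle]
      rw [this]
      exact hα a₀ ⟨l, hl⟩
    · intro b _ hb
      apply dadeKernel_eq_zero_of_ne A L H hD α a₀ ha₀ u₀ hu₀ z b
      intro h
      apply hb
      exact Subtype.ext h
    · intro h
      exact absurd (Finset.mem_univ _) h
  · apply Finset.sum_eq_zero
    intro b _
    unfold dadeKernel
    rw [if_neg]
    rintro ⟨hbA, hbH⟩
    apply hz
    have hconj : z * ((a₀ : G) * u₀) * z⁻¹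
        = (b : G) * ((b : G)⁻¹ * (z * ((a₀ : G) * u₀) * z⁻¹)) := by group
    rw [Cfsg.Agent.S1499.conj_eq A L H hD a₀ b ha₀ hbA u₀ _ z hu₀ hbH hconj]
    exact hbA

/-- the kernel sums to `|L| α^τ(g)` -/
theorem sum_sum_dadeKernel (hD : Cfsg.DadeHypothesis A L H) (α : L → ℂ)
    (hα : Cfsg.IsClassFunction L α) (g : G) :
    ∑ z : G, ∑ a : L, dadeKernel A L H α (z * g * z⁻¹) a
      = (Nat.card L : ℂ) * Cfsg.dadeIsometry A L H α g := by
  classical
  by_cases hex : ∃ a : ↥L, (a : G) ∈ A ∧ ∃ x : G, ∃ u ∈ H (a : G), x * g * x⁻¹ = (a : G) * u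
  · obtain ⟨a₀, ha₀, x₀, u₀, hu₀, hx₀⟩ := hex
    rw [dade_apply A L H hD α hα a₀ ha₀ u₀ hu₀ x₀ g hx₀]
    have e : ∑ z : G, ∑ a : L, dadeKernel A L H α (z * g * z⁻¹) a
        = ∑ z : G, ∑ a : L, dadeKernel A L H α (z * ((a₀ : G) * u₀) * z⁻¹) a := by
      apply Fintype.sum_equiv (Equiv.mulRight x₀⁻¹)
      intro z
      have : z * g * z⁻¹ = (Equiv.mulRight x₀⁻¹ z) * ((a₀ : G) * u₀) * (Equiv.mulRight x₀⁻¹ z)⁻¹ := by
        rw [← hx₀, Equiv.coe_mulRight]; group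
      rw [this]
    rw [e]
    simp_rw [sum_dadeKernel_conj A L H hD α hα a₀ ha₀ u₀ hu₀]
    rw [Finset.sum_ite, Finset.sum_const_zero, add_zero, Finset.sum_const, nsmul_eq_mul]
    have hcard : (Finset.univ.filter (fun z : G => z * (a₀ : G) * z⁻¹ ∈ A)).card
        = Nat.card L * Nat.card (H a₀) := by
      rw [← dade_card_conj A L H hD a₀ ha₀, Nat.card_eq_fintype_card, Fintype.card_subtype]
    rw [hcard]
    have hH : (Nat.card (H (a₀ : G)) : ℂ) ≠ 0 := by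
      exact_mod_cast (Nat.card_pos (α := ↥(H (a₀ : G)))).ne'
    push_cast
    field_simp
  · rw [dade_apply_of_not A L H α g hex, mul_zero]
    apply Finset.sum_eq_zero
    intro z _
    apply Finset.sum_eq_zero
    intro a _
    unfold dadeKernel
    rw [if_neg]
    rintro ⟨haA, haH⟩
    apply hex
    exact ⟨a, haA, z, _, haH, by group⟩

theorem sum_dadeKernel_mul (α : L → ℂ) (hαA : ∀ x : L, (x : G) ∉ A → α x = 0) (F : G → ℂ)
    [∀ a : L, DecidablePred (· ∈ H a)] :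
    ∑ g : G, ∑ a : L, dadeKernel A L H α g a * F g
      = ∑ a : L, α a * ((Nat.card (H a) : ℂ)⁻¹ * ∑ u : G, if u ∈ H a then F (a * u) else 0) := by
  classical
  rw [Finset.sum_comm]
  refine Finset.sum_congr rfl fun a _ => ?_
  rw [← Equiv.sum_comp (Equiv.mulLeft (a : G)) (fun g => dadeKernel A L H α g a * F g)]
  by_cases ha : (a : G) ∈ A
  · rw [Finset.mul_sum, Finset.mul_sum]
    refine Finset.sum_congr rfl fun u _ => ?_
    unfold dadeKernel
    simp only [Equiv.coe_mulLeft, inv_mul_cancel_left, ha, true_and]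
    split_ifs with hu
    · ring
    · ring
  · rw [hαA a ha, zero_mul]
    apply Finset.sum_eq_zero
    intro u _
    unfold dadeKernel
    rw [if_neg (fun h => ha h.1), zero_mul]

/-- **The Dade counting identity.** -/
theorem dade_sum (hD : Cfsg.DadeHypothesis A L H) (α : L → ℂ) (hα : Cfsg.IsClassFunction L α)
    (hαA : ∀ x : L, (x : G) ∉ A → α x = 0) (F : G → ℂ) (hF : Cfsg.IsClassFunction G F)
    [∀ a : L, DecidablePred (· ∈ H a)] :
    (Nat.card L : ℂ) * ∑ g : G, Cfsg.dadeIsometry A L H α g * F g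
      = (Nat.card G : ℂ) * ∑ a : L, α a *
          ((Nat.card (H a) : ℂ)⁻¹ * ∑ u : G, if u ∈ H a then F (a * u) else 0) := by
  classical
  rw [Finset.mul_sum]
  have h1 : ∀ g : G, (Nat.card L : ℂ) * (Cfsg.dadeIsometry A L H α g * F g)
      = ∑ z : G, ∑ a : L, dadeKernel A L H α (z * g * z⁻¹) a * F (z * g * z⁻¹) := by
    intro g
    rw [← mul_assoc, ← sum_sum_dadeKernel A L H hD α hα g, Finset.sum_mul]
    refine Finset.sum_congr rfl fun z _ => ?_
    rw [Finset.sum_mul]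
    refine Finset.sum_congr rfl fun a _ => ?_
    rw [hF g z]
  rw [Finset.sum_congr rfl (fun g _ => h1 g), Finset.sum_comm]
  have h2 : ∀ z : G, ∑ g : G, ∑ a : L, dadeKernel A L H α (z * g * z⁻¹) a * F (z * g * z⁻¹)
      = ∑ g : G, ∑ a : L, dadeKernel A L H α g a * F g := by
    intro z
    exact Equiv.sum_comp (MulAut.conj z).toEquiv (fun g => ∑ a : L, dadeKernel A L H α g a * F g)
  rw [Finset.sum_congr rfl (fun z _ => h2 z), Finset.sum_const, Finset.card_univ, nsmul_eq_mul,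
    sum_dadeKernel_mul A L H α hαA F, Nat.card_eq_fintype_card]

omit [Group G] [Fintype G] in
theorem finsum_mem_eq_sum_ite {M : Type*} [AddCommMonoid M] {X : Type*} [Fintype X] (S : Set X)
    [DecidablePred (· ∈ S)] (f : X → M) :
    ∑ᶠ u ∈ S, f u = ∑ u : X, if u ∈ S then f u else 0 := by
  rw [finsum_mem_def, finsum_eq_sum_of_fintype]
  refine Finset.sum_congr rfl fun u _ => ?_
  rw [Set.indicator_apply]

end Count

end Cfsg.Agent.Helper8
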