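import Mathlib
import Cfsg.Prelude.Def_OddOrderChar
import Cfsg.Agent.Lib.Helper8.Dade
import Cfsg.Agent.Lib.Helper8.CosetAvg
import Cfsg.Agent.Lib.Helper8.CharExtra
import Cfsg.Agent.Lib.Helper18.GenChar
import Cfsg.Agent.Lib.Helper24.CharInduced
import Cfsg.Agent.Lib.Helper8.InnerExtra
import Cfsg.Agent.S1500

/-!
# The Dade map sends generalized characters to generalized characters (helper8's shared library)

Inclusion-exclusion over the nonempty subsets `B` of `A`, in the inner-product form.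
-/

set_option autoImplicit false

namespace Cfsg.Agent.Helper8.DadeExp

open Cfsg Cfsg.Agent.Helper8 Cfsg.Agent.Helper8.CosetAvg
open scoped Classical ComplexConjugate

section defs

variable {G : Type*} [Group G] (L : Subgroup G) (H : G → Subgroup G)

/-- the intersection of the signalizers of the members of `B` -/
def HB (B : Finset G) : Subgroup G := ⨅ b ∈ B, H b

theorem mem_HB {B : Finset G} {u : G} : u ∈ HB H B ↔ ∀ b ∈ B, u ∈ H b := by
  simp [HB, Subgroup.mem_iInf]

theorem HB_insert (a : G) (B : Finset G) : HB H (insert a B) = H a ⊓ HB H B := by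
  ext u
  simp only [mem_HB, Subgroup.mem_inf, Finset.mem_insert, forall_eq_or_imp]

theorem HB_singleton (a : G) : HB H {a} = H a := by
  ext u
  simp [mem_HB]

/-- the stabilizer of `B` in `L` under conjugation -/
def NB (B : Finset G) : Subgroup G where
  carrier := {l | l ∈ L ∧ ∀ g, g ∈ B ↔ l * g * l⁻¹ ∈ B}
  one_mem' := ⟨L.one_mem, fun g => by simp⟩
  mul_mem' := by
    rintro x y ⟨hx, hx'⟩ ⟨hy, hy'⟩
    refine ⟨L.mul_mem hx hy, fun g => ?_⟩
    rw [hy' g, hx' (y * g * y⁻¹)]
    have : x * (y * g * y⁻¹) * x⁻¹ = x * y * g * (x * y)⁻¹ := by group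
    rw [this]
  inv_mem' := by
    rintro x ⟨hx, hx'⟩
    refine ⟨L.inv_mem hx, fun g => ?_⟩
    rw [hx' (x⁻¹ * g * x⁻¹⁻¹)]
    have : x * (x⁻¹ * g * x⁻¹⁻¹) * x⁻¹ = g := by group
    rw [this]

theorem mem_NB {B : Finset G} {l : G} :
    l ∈ NB L B ↔ l ∈ L ∧ ∀ g, g ∈ B ↔ l * g * l⁻¹ ∈ B := Iff.rfl

theorem NB_le (B : Finset G) : NB L B ≤ L := fun _ h => h.1

end defs

section dade

variable {G : Type*} [Group G] [Finite G] {A : Set G} {L : Subgroup G} {H : G → Subgroup G}
  (hD : Cfsg.DadeHypothesis A L H)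

include hD

/-- `N_L(B)` normalises `H(B)` -/
theorem conj_mem_HB {B : Finset G} (hBA : (↑B : Set G) ⊆ A) {l : G} (hl : l ∈ NB L B) {u : G}
    (hu : u ∈ HB H B) : l * u * l⁻¹ ∈ HB H B := by
  rw [mem_HB]
  intro b hb
  have hl' := (NB L B).inv_mem hl
  have hb' : l⁻¹ * b * l⁻¹⁻¹ ∈ B := (hl'.2 b).1 hb
  have h1 := Cfsg.Agent.S1498.result A L H hD _ (hBA hb') l hl.1
  have h2 : l * (l⁻¹ * b * l⁻¹⁻¹) * l⁻¹ = b := by group
  rw [h2] at h1
  rw [h1]
  exact ⟨u, (mem_HB H).1 hu _ hb', rfl⟩

theorem NB_le_normalizer {B : Finset G} (hBA : (↑B : Set G) ⊆ A) :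
    NB L B ≤ Subgroup.normalizer ((HB H B : Subgroup G) : Set G) := by
  intro l hl
  rw [Subgroup.mem_normalizer_iff]
  intro u
  constructor
  · exact fun hu => conj_mem_HB hD hBA hl hu
  · intro hu
    have := conj_mem_HB hD hBA ((NB L B).inv_mem hl) hu
    have e : l⁻¹ * (l * u * l⁻¹) * l⁻¹⁻¹ = u := by group
    rwa [e] at this

/-- an element of some `H b` commuting with `a ∈ A` lies in `H a` -/
theorem mem_H_of_commute {a b : G} (ha : a ∈ A) (hb : b ∈ A) {u : G} (hu : u ∈ H b)
    (hcomm : a * u = u * a) : u ∈ H a := by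
  have huc : u ∈ Subgroup.centralizer ({a} : Set G) := by
    rw [Subgroup.mem_centralizer_iff]
    intro y hy
    rw [Set.mem_singleton_iff] at hy
    subst hy
    exact hcomm
  obtain ⟨l, hl, v, hv, rfl⟩ := dade_centralizer_factor A L H hD a ha u huc
  set n := Nat.card (H b) with hn
  have hpow : ∀ k : ℕ, ∃ w ∈ H a, (l * v) ^ k = l ^ k * w := by
    intro k
    induction k with
    | zero => exact ⟨1, Subgroup.one_mem _, by simp⟩
    | succ k ih =>
      obtain ⟨w, hw, hk⟩ := ih
      refine ⟨(l⁻¹ * w * l⁻¹⁻¹) * v, ?_, ?_⟩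
      · refine Subgroup.mul_mem _ ?_ hv
        exact hD.conj_mem_H a ha _ (Subgroup.inv_mem _ (Subgroup.mem_inf.1 hl).2) w hw
      · rw [pow_succ, hk, pow_succ]; group
  obtain ⟨w, hw, hk⟩ := hpow n
  have h1 : (l * v) ^ n = 1 := pow_card_of_mem (H b) _ hu
  have h2 : l ^ n ∈ H a := by
    have : l ^ n = w⁻¹ := by
      rw [h1] at hk
      exact eq_inv_of_mul_eq_one_left hk.symm
    rw [this]; exact Subgroup.inv_mem _ hw
  have h3 : l ^ n ∈ H a ⊓ (L ⊓ Subgroup.centralizer ({a} : Set G)) :=
    Subgroup.mem_inf.2 ⟨h2, Subgroup.pow_mem _ hl n⟩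
  rw [hD.inf_eq_bot a ha, Subgroup.mem_bot] at h3
  have h4 : l ^ Nat.card ↥(L ⊓ Subgroup.centralizer ({a} : Set G)) = 1 := pow_card_of_mem _ l hl
  have h5 : orderOf l ∣ 1 := by
    rw [← Nat.Coprime.gcd_eq_one (hD.coprime b hb a ha)]
    exact Nat.dvd_gcd (orderOf_dvd_of_pow_eq_one h3) (orderOf_dvd_of_pow_eq_one h4)
  have h6 : l = 1 := orderOf_eq_one_iff.1 (Nat.dvd_one.1 h5)
  rw [h6, one_mul]
  exact hv

end dade

section integrality

variable {G : Type*} [Group G] [Fintype G]

/-- the weighted inner product attached to a pair `K ⋊ N` is an integer -/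
theorem int_pair (L K N : Subgroup G) [Fintype L]
    (hNK : N ≤ Subgroup.normalizer ((K : Subgroup G) : Set G)) (hNL : N ≤ L)
    (α : L → ℂ) (hα : Cfsg.IsGeneralizedCharacter L α) (χ : G → ℂ)
    (hχ : Cfsg.IsGeneralizedCharacter G χ) :
    ∃ z : ℤ, (Nat.card N : ℂ)⁻¹ *
      ∑ l ∈ fin N, Cfsg.extendByZero L α l * conj (avg K χ l) = z := by
  set φ := (K.normalizerMonoidHom).comp (Subgroup.inclusion hNK) with hφ
  let S := ↥K ⋊[φ] ↥N
  letI : Fintype S := Fintype.ofEquiv _ SemidirectProduct.equivProd.symm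
  let F : S →* G := SemidirectProduct.monoidHomSubgroup hNK
  let r : S →* ↥L := (Subgroup.inclusion hNL).comp SemidirectProduct.rightHom
  obtain ⟨z, hz⟩ := genChar_inner_genChar_int (Cfsg.Agent.Helper18.isGenChar_comp r hα)
    (Cfsg.Agent.Helper18.isGenChar_comp F hχ)
  refine ⟨z, ?_⟩
  rw [← hz]
  unfold Cfsg.classInner
  have hcard : Nat.card S = Nat.card K * Nat.card N := by
    rw [Nat.card_congr SemidirectProduct.equivProd, Nat.card_prod]
  have hK0 : (Nat.card K : ℂ) ≠ 0 := by exact_mod_cast (Nat.card_pos (α := K)).ne'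
  have hN0 : (Nat.card N : ℂ) ≠ 0 := by exact_mod_cast (Nat.card_pos (α := N)).ne'
  have hsum : ∑ s : S, (α ∘ r) s * conj ((χ ∘ F) s) =
      ∑ l : ↥N, ∑ u : ↥K, α ⟨l, hNL l.2⟩ * conj (χ ((u : G) * (l : G))) := by
    rw [← Equiv.sum_comp (SemidirectProduct.equivProd (φ := φ)).symm, Fintype.sum_prod_type,
      Finset.sum_comm]
    rfl
  rw [hsum, hcard]
  have hfinN : ∑ l ∈ fin N, Cfsg.extendByZero L α l * conj (avg K χ l) =
      ∑ l : ↥N, Cfsg.extendByZero L α (l : G) * conj (avg K χ (l : G)) :=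
    Finset.sum_subtype (fin N) (fun x => mem_fin) _
  rw [hfinN, Finset.mul_sum, Finset.mul_sum]
  refine Finset.sum_congr rfl fun l _ => ?_
  rw [Helper24.extendByZero_of_mem L α (hNL l.2)]
  unfold avg
  have hfinK : ∑ u ∈ fin K, χ (u * (l : G)) = ∑ u : ↥K, χ ((u : G) * (l : G)) :=
    Finset.sum_subtype (fin K) (fun x => mem_fin) _
  rw [hfinK, map_mul, map_inv₀, Complex.conj_natCast, map_sum, ← Finset.mul_sum]
  push_cast
  field_simp

end integrality

section pairing

variable {G : Type*} [Group G] [Fintype G] {A : Set G} {L : Subgroup G} {H : G → Subgroup G}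
  (hD : Cfsg.DadeHypothesis A L H)

/-- the nonempty subsets of `A` -/
noncomputable def fam (A : Set G) : Finset (Finset G) :=
  (Finset.univ : Finset G).powerset.filter (fun B => B.Nonempty ∧ (↑B : Set G) ⊆ A)

omit [Group G] in
theorem mem_fam {B : Finset G} : B ∈ fam A ↔ B.Nonempty ∧ (↑B : Set G) ⊆ A := by
  simp [fam]

include hD

/-- adding a normalising element of `A` to `B` does not change the average at that element -/
theorem avg_insert {B : Finset G} (hB : B ∈ fam A) {a : G} (ha : a ∈ A) (haN : a ∈ NB L B)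
    (χ : G → ℂ) (hχ : Cfsg.IsClassFunction G χ) :
    avg (HB H B) χ a = avg (HB H (insert a B)) χ a := by
  obtain ⟨⟨b, hb⟩, hBA⟩ := mem_fam.1 hB
  apply CosetAvg.avg_eq (HB H B) (HB H (insert a B)) a
  · exact fun u hu => conj_mem_HB hD hBA haN hu
  · have h1 : Nat.card (HB H B) ∣ Nat.card (H b) :=
      Subgroup.card_dvd_of_le (fun u hu => (mem_HB H).1 hu b hb)
    have h2 := Cfsg.Agent.S1499.orderOf_dvd_card_inf A L H hD a ha
    exact Nat.Coprime.coprime_dvd_left h1
      (Nat.Coprime.coprime_dvd_right h2 (hD.coprime b (hBA hb) a ha))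
  · intro u
    rw [HB_insert, Subgroup.mem_inf]
    constructor
    · rintro ⟨h1, h2⟩
      refine ⟨h2, ?_⟩
      have := hD.le_centralizer a ha h1
      rw [Subgroup.mem_centralizer_iff] at this
      exact this a rfl
    · rintro ⟨h1, h2⟩
      exact ⟨mem_H_of_commute hD ha (hBA hb) ((mem_HB H).1 h1 b hb) h2, h1⟩
  · exact hχ

omit hD in
theorem conj_eq_self_iff (a g : G) : a * g * a⁻¹ = a ↔ g = a := by
  constructor
  · intro h
    have : g = a⁻¹ * (a * g * a⁻¹) * a := by group
    rw [this, h]; group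
  · rintro rfl; group

/-- the alternating sum over the subsets normalised by `a` collapses to the singleton -/
theorem sum_pairing {a : G} (ha : a ∈ A) (χ : G → ℂ) (hχ : Cfsg.IsClassFunction G χ) :
    ∑ B ∈ (fam A).filter (fun B => a ∈ NB L B),
      (-1 : ℂ) ^ (B.card + 1) * avg (HB H B) χ a = avg (H a) χ a := by
  have haL : a ∈ L := hD.subset ha
  set P := (fam A).filter (fun B => a ∈ NB L B) with hP
  have hmemP : ∀ B, B ∈ P ↔ (B.Nonempty ∧ (↑B : Set G) ⊆ A) ∧ a ∈ NB L B := by
    intro B; rw [hP, Finset.mem_filter, mem_fam]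
  have hsing : ({a} : Finset G) ∈ P := by
    rw [hmemP]
    refine ⟨⟨Finset.singleton_nonempty a, by simpa using ha⟩, haL, fun g => ?_⟩
    rw [Finset.mem_singleton, Finset.mem_singleton, conj_eq_self_iff]
  rw [← Finset.add_sum_erase P _ hsing]
  have hzero : ∑ B ∈ P.erase {a}, (-1 : ℂ) ^ (B.card + 1) * avg (HB H B) χ a = 0 := by
    refine Finset.sum_involution (fun B _ => if a ∈ B then B.erase a else insert a B) ?_ ?_ ?_ ?_
    · intro B hB
      obtain ⟨hBne, hBP⟩ := Finset.mem_erase.1 hB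
      obtain ⟨⟨hBn, hBA⟩, haN⟩ := (hmemP B).1 hBP
      by_cases haB : a ∈ B
      · rw [if_pos haB]
        -- `B' = B.erase a`
        have hB'n : (B.erase a).Nonempty := by
          rw [Finset.nonempty_iff_ne_empty]
          intro h0
          apply hBne
          rw [Finset.erase_eq_empty_iff] at h0
          rcases h0 with h0 | h0
          · exact absurd h0 (Finset.nonempty_iff_ne_empty.1 hBn)
          · exact h0
        have hB'A : (↑(B.erase a) : Set G) ⊆ A := fun x hx => hBA (Finset.mem_of_mem_erase hx)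
        have hB'N : a ∈ NB L (B.erase a) := by
          refine ⟨haL, fun g => ?_⟩
          rw [Finset.mem_erase, Finset.mem_erase, ← haN.2 g, Ne, Ne, conj_eq_self_iff]
        have hfam : B.erase a ∈ fam A := mem_fam.2 ⟨hB'n, hB'A⟩
        have h1 := avg_insert hD hfam ha hB'N χ hχ
        rw [Finset.insert_erase haB] at h1
        have hcard : B.card = (B.erase a).card + 1 := (Finset.card_erase_add_one haB).symm
        rw [h1, hcard]
        ring
      · rw [if_neg haB]
        have hfam : B ∈ fam A := mem_fam.2 ⟨hBn, hBA⟩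
        have h1 := avg_insert hD hfam ha haN χ hχ
        rw [← h1, Finset.card_insert_of_notMem haB]
        ring
    · intro B _ _
      by_cases haB : a ∈ B
      · rw [if_pos haB]
        intro h
        have : a ∈ B.erase a := by rw [h]; exact haB
        exact (Finset.notMem_erase a B) this
      · rw [if_neg haB]
        intro h
        apply haB
        rw [← h]; exact Finset.mem_insert_self a B
    · intro B hB
      obtain ⟨hBne, hBP⟩ := Finset.mem_erase.1 hB
      obtain ⟨⟨hBn, hBA⟩, haN⟩ := (hmemP B).1 hBP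
      by_cases haB : a ∈ B
      · rw [if_pos haB]
        have hB'n : (B.erase a).Nonempty := by
          rw [Finset.nonempty_iff_ne_empty]
          intro h0
          apply hBne
          rw [Finset.erase_eq_empty_iff] at h0
          rcases h0 with h0 | h0
          · exact absurd h0 (Finset.nonempty_iff_ne_empty.1 hBn)
          · exact h0
        refine Finset.mem_erase.2 ⟨?_, (hmemP _).2 ⟨⟨hB'n, fun x hx =>
          hBA (Finset.mem_of_mem_erase hx)⟩, haL, fun g => ?_⟩⟩
        · intro h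
          have : a ∈ B.erase a := by rw [h]; exact Finset.mem_singleton_self a
          exact (Finset.notMem_erase a B) this
        · rw [Finset.mem_erase, Finset.mem_erase, ← haN.2 g, Ne, Ne, conj_eq_self_iff]
      · rw [if_neg haB]
        refine Finset.mem_erase.2 ⟨?_, (hmemP _).2 ⟨⟨Finset.insert_nonempty a B, ?_⟩, haL,
          fun g => ?_⟩⟩
        · intro h
          obtain ⟨b, hb⟩ := hBn
          have h1 : b ∈ insert a B := Finset.mem_insert_of_mem hb
          rw [h, Finset.mem_singleton] at h1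
          exact haB (h1 ▸ hb)
        · intro x hx
          rw [Finset.coe_insert] at hx
          rcases hx with rfl | hx
          · exact ha
          · exact hBA hx
        · rw [Finset.mem_insert, Finset.mem_insert, ← haN.2 g, conj_eq_self_iff]
    · intro B hB
      by_cases haB : a ∈ B
      · simp only [if_pos haB, Finset.notMem_erase, if_false, Finset.insert_erase haB]
      · simp only [if_neg haB, Finset.mem_insert_self, if_true, Finset.erase_insert haB]
  rw [hzero, add_zero, HB_singleton, Finset.card_singleton]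
  norm_num

end pairing

section orbits

variable {G : Type*} [Group G] [Fintype G] (L : Subgroup G)

/-- conjugation of a finite subset -/
noncomputable def conjF (l : G) (B : Finset G) : Finset G := B.image (fun g => l * g * l⁻¹)

omit [Fintype G] in
theorem mem_conjF {l g : G} {B : Finset G} : g ∈ conjF l B ↔ l⁻¹ * g * l ∈ B := by
  unfold conjF
  rw [Finset.mem_image]
  constructor
  · rintro ⟨x, hx, rfl⟩
    have : l⁻¹ * (l * x * l⁻¹) * l = x := by group
    rwa [this]
  · intro h
    exact ⟨_, h, by group⟩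

omit [Fintype G] in
theorem conjF_mul (l l' : G) (B : Finset G) : conjF l (conjF l' B) = conjF (l * l') B := by
  ext g
  rw [mem_conjF, mem_conjF, mem_conjF]
  have : l'⁻¹ * (l⁻¹ * g * l) * l' = (l * l')⁻¹ * g * (l * l') := by group
  rw [this]

omit [Fintype G] in
theorem conjF_one (B : Finset G) : conjF 1 B = B := by
  ext g; rw [mem_conjF]; simp

omit [Fintype G] in
theorem card_conjF (l : G) (B : Finset G) : (conjF l B).card = B.card := by
  unfold conjF
  apply Finset.card_image_of_injective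
  intro x y h
  have := congrArg (fun t => l⁻¹ * t * l) h
  simpa [mul_assoc] using this

omit [Fintype G] in
theorem mem_NB_iff_conjF {B : Finset G} {l : G} : l ∈ NB L B ↔ l ∈ L ∧ conjF l B = B := by
  rw [mem_NB]
  constructor
  · rintro ⟨hl, h⟩
    refine ⟨hl, ?_⟩
    ext g
    rw [mem_conjF, h (l⁻¹ * g * l)]
    have : l * (l⁻¹ * g * l) * l⁻¹ = g := by group
    rw [this]
  · rintro ⟨hl, h⟩
    refine ⟨hl, fun g => ?_⟩
    have e : l⁻¹ * (l * g * l⁻¹) * l = g := by group
    constructor
    · intro hg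
      rw [← h, mem_conjF, e]; exact hg
    · intro hg
      rw [← h, mem_conjF, e] at hg; exact hg

omit [Fintype G] in
/-- the stabilizer of a conjugate is the conjugate of the stabilizer -/
theorem NB_conjF {l : G} (hl : l ∈ L) (B : Finset G) :
    NB L (conjF l B) = (NB L B).map (MulAut.conj l).toMonoidHom := by
  ext x
  rw [mem_NB_iff_conjF, Subgroup.mem_map]
  constructor
  · rintro ⟨hx, h⟩
    refine ⟨l⁻¹ * x * l, (mem_NB_iff_conjF L).2 ⟨L.mul_mem (L.mul_mem (L.inv_mem hl) hx) hl, ?_⟩,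
      by simp [MulAut.conj_apply]; group⟩
    have h1 : conjF (l⁻¹ * x * l) B = conjF l⁻¹ (conjF x (conjF l B)) := by
      rw [conjF_mul, conjF_mul]
    rw [h1, h, conjF_mul, inv_mul_cancel, conjF_one]
  · rintro ⟨y, hy, rfl⟩
    obtain ⟨hyL, hyB⟩ := (mem_NB_iff_conjF L).1 hy
    simp only [MulEquiv.coe_toMonoidHom, MulAut.conj_apply]
    refine ⟨L.mul_mem (L.mul_mem hl hyL) (L.inv_mem hl), ?_⟩
    rw [conjF_mul]
    have : l * y * l⁻¹ * l = l * y := by group
    rw [this, ← conjF_mul, hyB]

theorem card_NB_conjF {l : G} (hl : l ∈ L) (B : Finset G) :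
    Nat.card (NB L (conjF l B)) = Nat.card (NB L B) := by
  rw [NB_conjF L hl]
  exact Subgroup.card_map_of_injective (MulAut.conj l).injective

/-- the orbit of `B` under `L` -/
noncomputable def orb (B : Finset G) : Finset (Finset G) := (fin L).image (fun l => conjF l B)

/-- orbit-stabilizer -/
theorem card_orb_mul (B : Finset G) : (orb L B).card * Nat.card (NB L B) = Nat.card L := by
  have hmaps : ∀ l ∈ fin L, (fun l => conjF l B) l ∈ orb L B :=
    fun l hl => Finset.mem_image_of_mem _ hl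
  have h1 := Finset.card_eq_sum_card_fiberwise hmaps
  rw [card_fin] at h1
  have h2 : ∀ B' ∈ orb L B,
      ((fin L).filter (fun l => conjF l B = B')).card = Nat.card (NB L B) := by
    intro B' hB'
    obtain ⟨l₁, hl₁, rfl⟩ := Finset.mem_image.1 hB'
    have hl₁L : l₁ ∈ L := mem_fin.1 hl₁
    rw [← card_fin]
    symm
    apply Finset.card_bij (fun x _ => l₁ * x)
    · intro x hx
      obtain ⟨hxL, hxB⟩ := (mem_NB_iff_conjF L).1 (mem_fin.1 hx)
      rw [Finset.mem_filter, mem_fin]
      exact ⟨L.mul_mem hl₁L hxL, by rw [← conjF_mul, hxB]⟩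
    · intro x _ y _ h
      exact mul_left_cancel h
    · intro l hl
      obtain ⟨hlL, hlB⟩ := Finset.mem_filter.1 hl
      refine ⟨l₁⁻¹ * l, ?_, by group⟩
      rw [mem_fin, mem_NB_iff_conjF]
      refine ⟨L.mul_mem (L.inv_mem hl₁L) (mem_fin.1 hlL), ?_⟩
      rw [← conjF_mul, hlB, conjF_mul, inv_mul_cancel, conjF_one]
  rw [Finset.sum_congr rfl h2, Finset.sum_const, smul_eq_mul] at h1
  exact h1.symm

/-- weighted orbit counting: the stabilizer-weighted sum of an invariant integer function over an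
invariant family is divisible by `#L` -/
theorem card_dvd_sum (c : Finset G → ℤ) : ∀ (n : ℕ) (X : Finset (Finset G)), X.card = n →
    (∀ l ∈ L, ∀ B ∈ X, conjF l B ∈ X) → (∀ l ∈ L, ∀ B ∈ X, c (conjF l B) = c B) →
    (Nat.card L : ℤ) ∣ ∑ B ∈ X, (Nat.card (NB L B) : ℤ) * c B := by
  intro n
  induction n using Nat.strong_induction_on with
  | _ n ih =>
    intro X hXn hclosed hinv
    rcases X.eq_empty_or_nonempty with h0 | ⟨B₀, hB₀⟩
    · rw [h0]; simp
    · set O := orb L B₀ with hO
      have hOX : O ⊆ X := by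
        intro B hB
        obtain ⟨l, hl, rfl⟩ := Finset.mem_image.1 hB
        exact hclosed l (mem_fin.1 hl) B₀ hB₀
      have hB₀O : B₀ ∈ O := by
        refine Finset.mem_image.2 ⟨1, mem_fin.2 L.one_mem, conjF_one B₀⟩
      have hclosed' : ∀ l ∈ L, ∀ B ∈ X \ O, conjF l B ∈ X \ O := by
        intro l hl B hB
        obtain ⟨hBX, hBO⟩ := Finset.mem_sdiff.1 hB
        refine Finset.mem_sdiff.2 ⟨hclosed l hl B hBX, fun h => hBO ?_⟩
        obtain ⟨l₀, hl₀, h₀⟩ := Finset.mem_image.1 h
        refine Finset.mem_image.2 ⟨l⁻¹ * l₀, mem_fin.2 (L.mul_mem (L.inv_mem hl) (mem_fin.1 hl₀)), ?_⟩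
        rw [← conjF_mul, h₀, conjF_mul, inv_mul_cancel, conjF_one]
      have hlt : (X \ O).card < n := by
        rw [← hXn]
        apply Finset.card_lt_card
        refine ⟨Finset.sdiff_subset, fun h => ?_⟩
        exact (Finset.mem_sdiff.1 (h hB₀)).2 hB₀O
      have h1 := ih _ hlt (X \ O) rfl hclosed'
        (fun l hl B hB => hinv l hl B (Finset.mem_sdiff.1 hB).1)
      have h2 : ∑ B ∈ O, (Nat.card (NB L B) : ℤ) * c B = (Nat.card L : ℤ) * c B₀ := by
        have : ∀ B ∈ O, (Nat.card (NB L B) : ℤ) * c B = (Nat.card (NB L B₀) : ℤ) * c B₀ := by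
          intro B hB
          obtain ⟨l, hl, rfl⟩ := Finset.mem_image.1 hB
          rw [card_NB_conjF L (mem_fin.1 hl), hinv l (mem_fin.1 hl) B₀ hB₀]
        rw [Finset.sum_congr rfl this, Finset.sum_const, nsmul_eq_mul, ← mul_assoc]
        congr 1
        have := card_orb_mul L B₀
        exact_mod_cast this
      rw [← Finset.sum_sdiff hOX, h2]
      exact dvd_add h1 (dvd_mul_right _ _)

end orbits

section assembly

variable {G : Type*} [Group G] [Fintype G] {A : Set G} {L : Subgroup G} [Fintype L]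
  {H : G → Subgroup G} (hD : Cfsg.DadeHypothesis A L H)

include hD

theorem HB_conjF {B : Finset G} (hBA : (↑B : Set G) ⊆ A) {l : G} (hl : l ∈ L) :
    HB H (conjF l B) = (HB H B).map (MulAut.conj l).toMonoidHom := by
  ext u
  rw [mem_HB, Subgroup.mem_map]
  constructor
  · intro h
    refine ⟨l⁻¹ * u * l, ?_, by simp only [MulEquiv.coe_toMonoidHom, MulAut.conj_apply]; group⟩
    rw [mem_HB]
    intro b hb
    have e0 : l⁻¹ * (l * b * l⁻¹) * l = b := by group
    have h1 := h (l * b * l⁻¹) (mem_conjF.2 (by rw [e0]; exact hb))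
    rw [Cfsg.Agent.S1498.result A L H hD b (hBA hb) l hl] at h1
    obtain ⟨v, hv, hvu⟩ := h1
    simp only [MulEquiv.coe_toMonoidHom, MulAut.conj_apply] at hvu
    rw [← hvu]
    have : l⁻¹ * (l * v * l⁻¹) * l = v := by group
    rwa [this]
  · rintro ⟨v, hv, rfl⟩ b' hb'
    have hb : l⁻¹ * b' * l ∈ B := mem_conjF.1 hb'
    have h1 := Cfsg.Agent.S1498.result A L H hD _ (hBA hb) l hl
    have e : l * (l⁻¹ * b' * l) * l⁻¹ = b' := by group
    rw [e] at h1
    rw [h1]
    exact ⟨v, (mem_HB H).1 hv _ hb, rfl⟩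

theorem avg_conjF {B : Finset G} (hBA : (↑B : Set G) ⊆ A) {l : G} (hl : l ∈ L) (χ : G → ℂ)
    (hχ : Cfsg.IsClassFunction G χ) (y : G) :
    avg (HB H (conjF l B)) χ (l * y * l⁻¹) = avg (HB H B) χ y := by
  unfold avg
  rw [HB_conjF hD hBA hl, Subgroup.card_map_of_injective (MulAut.conj l).injective]
  congr 1
  symm
  apply Finset.sum_bij (fun v _ => l * v * l⁻¹)
  · intro v hv
    rw [mem_fin] at hv ⊢
    exact ⟨v, hv, by simp only [MulEquiv.coe_toMonoidHom, MulAut.conj_apply]⟩
  · intro v _ w _ h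
    have := congrArg (fun t => l⁻¹ * t * l) h
    simpa [mul_assoc] using this
  · intro u hu
    rw [mem_fin] at hu
    obtain ⟨v, hv, rfl⟩ := hu
    exact ⟨v, mem_fin.2 hv, by simp only [MulEquiv.coe_toMonoidHom, MulAut.conj_apply]⟩
  · intro v _
    have : l * v * l⁻¹ * (l * y * l⁻¹) = l * (v * y) * l⁻¹ := by group
    rw [this, hχ]

omit hD in
theorem conjF_mem_fam (hD : Cfsg.DadeHypothesis A L H) {B : Finset G} (hB : B ∈ fam A) {l : G}
    (hl : l ∈ L) : conjF l B ∈ fam A := by
  obtain ⟨⟨b, hb⟩, hBA⟩ := mem_fam.1 hB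
  refine mem_fam.2 ⟨⟨l * b * l⁻¹, Finset.mem_image_of_mem _ hb⟩, ?_⟩
  intro x hx
  obtain ⟨y, hy, rfl⟩ := Finset.mem_image.1 hx
  exact hD.conj_mem l hl y (hBA hy)

/-- the weighted inner product attached to `B` -/
noncomputable def zB (L : Subgroup G) [Fintype L] (H : G → Subgroup G) (α : L → ℂ) (χ : G → ℂ)
    (B : Finset G) : ℂ :=
  (Nat.card (NB L B) : ℂ)⁻¹ *
    ∑ l ∈ fin (NB L B), Cfsg.extendByZero L α l * conj (avg (HB H B) χ l)

theorem zB_conjF {B : Finset G} (hBA : (↑B : Set G) ⊆ A) {l : G} (hl : l ∈ L) (α : L → ℂ)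
    (hα : Cfsg.IsClassFunction L α) (χ : G → ℂ) (hχ : Cfsg.IsClassFunction G χ) :
    zB L H α χ (conjF l B) = zB L H α χ B := by
  unfold zB
  rw [card_NB_conjF L hl]
  congr 1
  symm
  apply Finset.sum_bij (fun y _ => l * y * l⁻¹)
  · intro y hy
    rw [mem_fin] at hy ⊢
    rw [NB_conjF L hl]
    exact ⟨y, hy, by simp only [MulEquiv.coe_toMonoidHom, MulAut.conj_apply]⟩
  · intro v _ w _ h
    have := congrArg (fun t => l⁻¹ * t * l) h
    simpa [mul_assoc] using this
  · intro u hu
    rw [mem_fin, NB_conjF L hl] at hu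
    obtain ⟨v, hv, rfl⟩ := hu
    exact ⟨v, mem_fin.2 hv, by simp only [MulEquiv.coe_toMonoidHom, MulAut.conj_apply]⟩
  · intro y hy
    have hyL : y ∈ L := NB_le L B (mem_fin.1 hy)
    rw [avg_conjF hD hBA hl χ hχ y]
    congr 1
    rw [Helper24.extendByZero_of_mem L α hyL,
      Helper24.extendByZero_of_mem L α (L.mul_mem (L.mul_mem hl hyL) (L.inv_mem hl))]
    exact (hα ⟨y, hyL⟩ ⟨l, hl⟩).symm

end assembly

section final

variable {G : Type*} [Group G] [Fintype G] {A : Set G} {L : Subgroup G} [Fintype L]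
  {H : G → Subgroup G} (hD : Cfsg.DadeHypothesis A L H)

include hD

/-- the multiplicities of the Dade image of a generalized character are integers -/
theorem inner_dade_int (α : L → ℂ) (hα : Cfsg.IsGeneralizedCharacter L α)
    (hαA : ∀ x : L, (x : G) ∉ A → α x = 0) (χ : G → ℂ)
    (hχ : Cfsg.IsGeneralizedCharacter G χ) :
    ∃ z : ℤ, Cfsg.classInner (Cfsg.dadeIsometry A L H α) χ = z := by
  have hαcf := isClassFunction_of_isGeneralizedCharacter hα
  have hχcf := isClassFunction_of_isGeneralizedCharacter hχ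
  -- the adjoint function
  set ψ : L → ℂ := fun a => ∑ B ∈ (fam A).filter (fun B => (a : G) ∈ NB L B),
    (-1 : ℂ) ^ (B.card + 1) * avg (HB H B) χ a with hψdef
  have hψ : ∀ a : L, (a : G) ∈ A →
      ψ a = (Nat.card (H a) : ℂ)⁻¹ * ∑ᶠ u ∈ (H a : Set G), χ (a * u) := by
    intro a ha
    rw [hψdef]
    simp only
    rw [sum_pairing hD ha χ hχcf]
    unfold avg
    congr 1
    rw [finsum_mem_eq_sum_ite (H (a : G) : Set G) (fun u => χ ((a : G) * u))]
    unfold fin
    rw [Finset.sum_filter]
    refine Finset.sum_congr rfl fun u _ => ?_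
    simp only [SetLike.mem_coe]
    split_ifs with hu
    · have := hD.le_centralizer a ha hu
      rw [Subgroup.mem_centralizer_iff] at this
      rw [this a rfl]
    · rfl
  rw [Cfsg.Agent.S1500.part_two A L H hD α hαcf hαA χ ψ hχcf hψ]
  -- integrality of the pieces
  have hint : ∀ B : Finset G, B ∈ fam A → ∃ z : ℤ, zB L H α χ B = z := by
    intro B hB
    exact int_pair L (HB H B) (NB L B) (NB_le_normalizer hD (mem_fam.1 hB).2) (NB_le L B) α hα χ hχ
  choose! z hz using hint
  set c : Finset G → ℤ := fun B => (-1) ^ (B.card + 1) * z B with hc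
  have hdvd := card_dvd_sum L c _ (fam A) rfl
    (fun l hl B hB => conjF_mem_fam hD hB hl)
    (fun l hl B hB => by
      simp only [hc]
      rw [card_conjF]
      congr 1
      have h1 := hz _ (conjF_mem_fam hD hB hl)
      rw [zB_conjF hD (mem_fam.1 hB).2 hl α hαcf χ hχcf, hz B hB] at h1
      exact_mod_cast h1.symm)
  obtain ⟨k, hk⟩ := hdvd
  refine ⟨k, ?_⟩
  -- expansion of the inner product
  unfold Cfsg.classInner
  have hL0 : (Nat.card L : ℂ) ≠ 0 := by exact_mod_cast (Nat.card_pos (α := L)).ne'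
  have hexp : ∑ a : L, α a * conj (ψ a) =
      ∑ B ∈ fam A, (((Nat.card (NB L B) : ℤ) * c B : ℤ) : ℂ) := by
    have e1 : ∀ a : L, α a * conj (ψ a) = ∑ B ∈ fam A,
        if (a : G) ∈ NB L B then α a * ((-1 : ℂ) ^ (B.card + 1) * conj (avg (HB H B) χ a)) else 0 := by
      intro a
      rw [hψdef]
      simp only
      rw [map_sum, Finset.mul_sum, Finset.sum_filter]
      refine Finset.sum_congr rfl fun B _ => ?_
      split_ifs
      · rw [map_mul, map_pow, map_neg, map_one]
      · rfl
    rw [Finset.sum_congr rfl (fun a _ => e1 a), Finset.sum_comm]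
    refine Finset.sum_congr rfl fun B hB => ?_
    have hN0 : (Nat.card (NB L B) : ℂ) ≠ 0 := by
      exact_mod_cast (Nat.card_pos (α := NB L B)).ne'
    have e2 : ∑ l ∈ fin (NB L B), Cfsg.extendByZero L α l * conj (avg (HB H B) χ l) =
        ∑ a : L, if (a : G) ∈ NB L B then α a * conj (avg (HB H B) χ a) else 0 := by
      have e3 : ∑ l ∈ fin (NB L B), Cfsg.extendByZero L α l * conj (avg (HB H B) χ l) =
          ∑ l ∈ fin L, if l ∈ NB L B then
            Cfsg.extendByZero L α l * conj (avg (HB H B) χ l) else 0 := by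
        rw [← Finset.sum_filter]
        refine Finset.sum_congr ?_ fun _ _ => rfl
        ext l
        simp only [Finset.mem_filter, mem_fin]
        exact ⟨fun h => ⟨NB_le L B h, h⟩, fun h => h.2⟩
      rw [e3, Finset.sum_subtype (fin L) (fun x => mem_fin) (fun l => if l ∈ NB L B then
            Cfsg.extendByZero L α l * conj (avg (HB H B) χ l) else 0)]
      refine Finset.sum_congr rfl fun a _ => ?_
      rw [Helper24.extendByZero_coe]
    have e4 := hz B hB
    unfold zB at e4
    rw [e2] at e4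
    have e5 : ∑ a : L, (if (a : G) ∈ NB L B then
        α a * ((-1 : ℂ) ^ (B.card + 1) * conj (avg (HB H B) χ a)) else 0) =
        (-1 : ℂ) ^ (B.card + 1) *
          ∑ a : L, if (a : G) ∈ NB L B then α a * conj (avg (HB H B) χ a) else 0 := by
      rw [Finset.mul_sum]
      refine Finset.sum_congr rfl fun a _ => ?_
      split_ifs
      · ring
      · ring
    rw [e5]
    have e6 : ∑ a : L, (if (a : G) ∈ NB L B then α a * conj (avg (HB H B) χ a) else 0) =
        (Nat.card (NB L B) : ℂ) * (z B : ℂ) := by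
      rw [← e4]; field_simp
    rw [e6]
    simp only [hc]
    push_cast
    ring
  rw [hexp, ← Int.cast_sum, hk]
  push_cast
  field_simp

/-- **Dade**: the Dade image of a generalized character vanishing off `A` is a generalized
character -/
theorem dade_isGenChar (α : L → ℂ) (hα : Cfsg.IsGeneralizedCharacter L α)
    (hαA : ∀ x : L, (x : G) ∉ A → α x = 0) :
    Cfsg.IsGeneralizedCharacter G (Cfsg.dadeIsometry A L H α) := by
  letI : Fintype (Cfsg.IrrCharacter G) := Cfsg.Agent.Helper24.irrFintype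
  apply Cfsg.Agent.Helper18.isGenChar_of_int_inner
  · exact dade_isClassFunction A L H hD α (isClassFunction_of_isGeneralizedCharacter hα)
  · intro μ
    exact inner_dade_int hD α hα hαA μ
      (isGen_of_isCharacter (Cfsg.Agent.Helper24.isCharacter_of_isIrrCharacter μ.2))

end final

end Cfsg.Agent.Helper8.DadeExp
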