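import Mathlib

/-!
# Involutions with products of odd order: midpoints (helper8)

Elementary identities in a group: an element of odd order inverting an element of odd order,
square roots in cyclic groups of odd order, and the "midpoint" of an involution `y` and its
conjugate `τ y τ⁻¹` under an involution `τ`.
-/

set_option autoImplicit false

namespace Cfsg.Agent.Helper8.FischerMid

variable {G : Type*} [Group G]

theorem inv_eq_self_of_mul_self {x : G} (hx : x * x = 1) : x⁻¹ = x :=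
  inv_eq_of_mul_eq_one_right hx

/-- an element of odd order inverting an element `c` of odd order forces `c = 1`. -/
theorem eq_one_of_inverts_odd {a c : G} {i j : ℕ} (ha : a ^ (2 * i + 1) = 1)
    (hc : c ^ (2 * j + 1) = 1) (h : a * c * a⁻¹ = c⁻¹) : c = 1 := by
  have h2 : a ^ 2 * c * (a ^ 2)⁻¹ = c := by
    have e1 : a ^ 2 * c * (a ^ 2)⁻¹ = a * (a * c * a⁻¹) * a⁻¹ := by rw [pow_two]; group
    have e2 : a * c⁻¹ * a⁻¹ = (a * c * a⁻¹)⁻¹ := by group
    rw [e1, h, e2, h, inv_inv]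
  have hcomm2 : Commute (a ^ 2) c := by
    show a ^ 2 * c = c * a ^ 2
    calc a ^ 2 * c = (a ^ 2 * c * (a ^ 2)⁻¹) * a ^ 2 := by group
      _ = c * a ^ 2 := by rw [h2]
  have ha' : a = (a ^ 2) ^ (i + 1) := by
    rw [← pow_mul, show 2 * (i + 1) = (2 * i + 1) + 1 by ring, pow_succ, ha, one_mul]
  have hcomm : Commute a c := by
    rw [ha']; exact hcomm2.pow_left _
  have hcc : c = c⁻¹ := by
    have e : a * c * a⁻¹ = c := by rw [hcomm.eq]; group
    rw [e] at h
    exact h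
  have hc2 : c ^ 2 = 1 := by
    rw [pow_two]
    nth_rewrite 2 [hcc]
    exact mul_inv_cancel c
  have : c ^ (2 * j + 1) = c := by
    rw [pow_succ, pow_mul, hc2, one_pow, one_mul]
  rw [← this, hc]

/-- conjugation by an involution `x` inverting `v` inverts every power of `v`. -/
theorem conj_pow_of_inverts {x v : G} (h : x * v * x⁻¹ = v⁻¹) (n : ℕ) :
    x * v ^ n * x⁻¹ = (v ^ n)⁻¹ := by
  rw [← conj_pow, h, inv_pow]

/-- square root in a cyclic group of odd order, and conjugation of an inverting involution. -/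
theorem conj_sqrt {x v : G} (hx : x * x = 1) {j : ℕ} (hv : v ^ (2 * j + 1) = 1)
    (h : x * v * x⁻¹ = v⁻¹) : (v ^ (j + 1))⁻¹ * x * v ^ (j + 1) = x * v := by
  have hxi : x⁻¹ = x := inv_eq_self_of_mul_self hx
  set s := v ^ (j + 1) with hs
  have hss : s * s = v := by
    rw [hs, ← pow_add, show j + 1 + (j + 1) = (2 * j + 1) + 1 by ring, pow_succ, hv, one_mul]
  have hsinv : x * s * x⁻¹ = s⁻¹ := conj_pow_of_inverts h _
  have hxs : x * s = s⁻¹ * x := by
    calc x * s = (x * s * x⁻¹) * x := by group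
      _ = s⁻¹ * x := by rw [hsinv]
  have hvx : x * v = v⁻¹ * x := by
    calc x * v = (x * v * x⁻¹) * x := by group
      _ = v⁻¹ * x := by rw [h]
  calc s⁻¹ * x * s = s⁻¹ * (x * s) := by group
    _ = s⁻¹ * (s⁻¹ * x) := by rw [hxs]
    _ = (s * s)⁻¹ * x := by group
    _ = v⁻¹ * x := by rw [hss]
    _ = x * v := hvx.symm

/-- two involutions: the first inverts the product. -/
theorem inverts_mul {y z : G} (hy : y * y = 1) (hz : z * z = 1) :
    y * (y * z) * y⁻¹ = (y * z)⁻¹ := by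
  have hyi : y⁻¹ = y := inv_eq_self_of_mul_self hy
  have hzi : z⁻¹ = z := inv_eq_self_of_mul_self hz
  rw [mul_inv_rev, hyi, hzi, ← mul_assoc, hy, one_mul]

/-- The midpoint of `y` and `τ y τ⁻¹`. -/
noncomputable def mid (τ y : G) : G :=
  y * (y * (τ * y * τ⁻¹)) ^ (orderOf (y * (τ * y * τ⁻¹)) / 2 + 1)

section

variable {τ y : G} (hτ : τ * τ = 1) (hy : y * y = 1)
  (hodd : Odd (orderOf (y * (τ * y * τ⁻¹))))

include hτ hy hodd

theorem mid_aux : ∃ (v : G) (j : ℕ), mid τ y = y * v ∧ v * v = y * (τ * y * τ⁻¹) ∧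
    v ^ (2 * j + 1) = 1 ∧ y * v * y⁻¹ = v⁻¹ ∧ τ * v * τ⁻¹ = v⁻¹ := by
  have hτi : τ⁻¹ = τ := inv_eq_self_of_mul_self hτ
  have hyi : y⁻¹ = y := inv_eq_self_of_mul_self hy
  set z := τ * y * τ⁻¹ with hz
  have hzz : z * z = 1 := by
    rw [hz]
    calc τ * y * τ⁻¹ * (τ * y * τ⁻¹) = τ * (y * y) * τ⁻¹ := by group
      _ = 1 := by rw [hy]; group
  set u := y * z with hu
  obtain ⟨j, hj⟩ := hodd
  have hdiv : orderOf u / 2 = j := by omega
  have huk : u ^ (2 * j + 1) = 1 := by rw [← hj]; exact pow_orderOf_eq_one u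
  have hyu : y * u * y⁻¹ = u⁻¹ := inverts_mul hy hzz
  have hτu : τ * u * τ⁻¹ = u⁻¹ := by
    have hzi : z⁻¹ = z := inv_eq_self_of_mul_self hzz
    have e1 : τ * u * τ⁻¹ = (τ * y * τ⁻¹) * (τ * z * τ⁻¹) := by rw [hu]; group
    have e2 : τ * z * τ⁻¹ = y := by
      rw [hz]
      calc τ * (τ * y * τ⁻¹) * τ⁻¹ = (τ * τ) * y * (τ * τ)⁻¹ := by group
        _ = y := by rw [hτ]; group
    rw [e1, e2, ← hz, hu, mul_inv_rev, hzi, hyi]
  refine ⟨u ^ (j + 1), j, ?_, ?_, ?_, ?_, ?_⟩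
  · unfold mid
    rw [← hz, ← hu, hdiv]
  · rw [← pow_add, show j + 1 + (j + 1) = (2 * j + 1) + 1 by ring, pow_succ, huk, one_mul]
  · rw [← pow_mul, mul_comm, pow_mul, huk, one_pow]
  · exact conj_pow_of_inverts hyu _
  · exact conj_pow_of_inverts hτu _

/-- the midpoint is a conjugate of `y`. -/
theorem mid_conj : ∃ s : G, mid τ y = s⁻¹ * y * s := by
  obtain ⟨v, j, hm, -, hvk, hyv, -⟩ := mid_aux hτ hy hodd
  exact ⟨v ^ (j + 1), by rw [hm, conj_sqrt hy hvk hyv]⟩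

/-- the midpoint commutes with `τ`. -/
theorem mid_comm : τ * mid τ y = mid τ y * τ := by
  obtain ⟨v, j, hm, hvv, hvk, hyv, hτv⟩ := mid_aux hτ hy hodd
  have hτi : τ⁻¹ = τ := inv_eq_self_of_mul_self hτ
  have hyi : y⁻¹ = y := inv_eq_self_of_mul_self hy
  rw [hm]
  have e1 : τ * (y * v) * τ⁻¹ = (τ * y * τ⁻¹) * (τ * v * τ⁻¹) := by group
  have e2 : τ * y * τ⁻¹ = y * (v * v) := by
    rw [hvv, ← mul_assoc, hy, one_mul]
  have e3 : τ * (y * v) * τ⁻¹ = y * v := by
    rw [e1, e2, hτv]; group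
  calc τ * (y * v) = (τ * (y * v) * τ⁻¹) * τ := by group
    _ = y * v * τ := by rw [e3]

/-- the midpoint conjugates `y` to `τ y τ⁻¹`. -/
theorem mid_conj_eq : mid τ y * y * (mid τ y)⁻¹ = τ * y * τ⁻¹ := by
  obtain ⟨v, j, hm, hvv, hvk, hyv, hτv⟩ := mid_aux hτ hy hodd
  have hyi : y⁻¹ = y := inv_eq_self_of_mul_self hy
  rw [hm]
  have e1 : y * v * y * (y * v)⁻¹ = y * v * (y * v * y⁻¹)⁻¹ := by group
  have e2 : τ * y * τ⁻¹ = y * (v * v) := by
    rw [hvv, ← mul_assoc, hy, one_mul]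
  rw [e1, hyv, inv_inv, e2]; group

/-- the midpoint is an involution. -/
theorem mid_mul_self : mid τ y * mid τ y = 1 := by
  obtain ⟨s, hs⟩ := mid_conj hτ hy hodd
  rw [hs]
  calc s⁻¹ * y * s * (s⁻¹ * y * s) = s⁻¹ * (y * y) * s := by group
    _ = 1 := by rw [hy]; group

/-- uniqueness of the midpoint. -/
theorem mid_unique {w : G} (hw : w * w = 1) (hwτ : τ * w = w * τ)
    (hwy : w * y * w⁻¹ = τ * y * τ⁻¹) (hwodd : Odd (orderOf (w * mid τ y))) :
    w = mid τ y := by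
  obtain ⟨v, j, hm, hvv, hvk, hyv, hτv⟩ := mid_aux hτ hy hodd
  have hyi : y⁻¹ = y := inv_eq_self_of_mul_self hy
  have hwi : w⁻¹ = w := inv_eq_self_of_mul_self hw
  have hmm : mid τ y * mid τ y = 1 := mid_mul_self hτ hy hodd
  have hmi : (mid τ y)⁻¹ = mid τ y := inv_eq_self_of_mul_self hmm
  have hmy : mid τ y * y * (mid τ y)⁻¹ = τ * y * τ⁻¹ := mid_conj_eq hτ hy hodd
  set m := mid τ y with hmdef
  set c := w * m with hc
  -- `c` commutes with `y`
  have hcy : c * y * c⁻¹ = y := by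
    have e : c * y * c⁻¹ = w * (m * y * m⁻¹) * w⁻¹ := by rw [hc]; group
    rw [e, hmy, ← hwy, hwi]
    calc w * (w * y * w) * w = (w * w) * y * (w * w) := by group
      _ = y := by rw [hw]; group
  -- `m` inverts `c`
  have hmc : m * c * m⁻¹ = c⁻¹ := by
    rw [hc, mul_inv_rev, hmi, hwi]
    calc m * (w * m) * m = m * w * (m * m) := by group
      _ = m * w := by rw [hmm, mul_one]
  -- `v = y * m` inverts `c`
  have hv : v = y * m := by rw [hm, ← mul_assoc, hy, one_mul]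
  have hvc : v * c * v⁻¹ = c⁻¹ := by
    have e : v * c * v⁻¹ = y * (m * c * m⁻¹) * y⁻¹ := by rw [hv]; group
    have e2 : y * c⁻¹ * y⁻¹ = c⁻¹ := by
      have h1 : c * y = y * c := by
        calc c * y = (c * y * c⁻¹) * c := by group
          _ = y * c := by rw [hcy]
      calc y * c⁻¹ * y⁻¹ = c⁻¹ * (c * y) * c⁻¹ * y⁻¹ := by group
        _ = c⁻¹ * (y * c) * c⁻¹ * y⁻¹ := by rw [h1]
        _ = c⁻¹ := by group
    rw [e, hmc, e2]
  obtain ⟨i, hi⟩ := hwodd
  have hck : c ^ (2 * i + 1) = 1 := by rw [← hi]; exact pow_orderOf_eq_one c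
  have hc1 : c = 1 := eq_one_of_inverts_odd hvk hck hvc
  have : w = m⁻¹ := eq_inv_of_mul_eq_one_left hc1
  rw [this, hmi]

end

end Cfsg.Agent.Helper8.FischerMid
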