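import Mathlib
import Cfsg.Agent.Lib.Helper8.FischerMid

/-!
# Counting in a conjugation-invariant set of involutions with products of odd order (helper8)

`Good D`: `D` is a conjugation-invariant set of involutions (or `1`) any two of which have a
product of odd order.  Main result `ncard_eq_mul`: for `x ∈ D` and an involution `τ` commuting with
`x`, if every member of `C_D(τ)` is conjugate to `x` under `C_G(τ)`, then
`|D| = |C_D(τ)| * |C_D(τ x)|`.  Also `ncard_conj_orbit`: the number of conjugates of `x` under a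
subgroup `R`.
-/

set_option autoImplicit false

namespace Cfsg.Agent.Helper8.FischerCount

open Cfsg.Agent.Helper8.FischerMid

variable {G : Type*} [Group G]

structure Good (D : Set G) : Prop where
  inv : ∀ a ∈ D, a * a = 1
  conj : ∀ g : G, ∀ a ∈ D, g * a * g⁻¹ ∈ D
  odd : ∀ a ∈ D, ∀ b ∈ D, Odd (orderOf (a * b))

theorem Good.conj' {D : Set G} (hD : Good D) (g : G) {a : G} (ha : a ∈ D) : g⁻¹ * a * g ∈ D := by
  have := hD.conj g⁻¹ a ha
  rwa [inv_inv] at this

theorem Good.mid_mem {D : Set G} (hD : Good D) {τ y : G} (hτ : τ * τ = 1) (hy : y ∈ D) :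
    mid τ y ∈ D := by
  have hodd : Odd (orderOf (y * (τ * y * τ⁻¹))) := hD.odd y hy _ (hD.conj τ y hy)
  obtain ⟨s, hs⟩ := mid_conj hτ (hD.inv y hy) hodd
  rw [hs]
  exact hD.conj' s hy

theorem ncard_eq_mul [Finite G] {D : Set G} (hD : Good D) {x τ : G} (hτ : τ * τ = 1)
    (hA : ∀ w ∈ D, τ * w = w * τ → ∃ s : G, s * τ = τ * s ∧ w = s⁻¹ * x * s) :
    D.ncard = {w | w ∈ D ∧ τ * w = w * τ}.ncard * {z | z ∈ D ∧ (τ * x) * z = z * (τ * x)}.ncard := by
  classical
  have hτi : τ⁻¹ = τ := inv_eq_self_of_mul_self hτ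
  set A : Set G := {w | w ∈ D ∧ τ * w = w * τ} with hAdef
  set B : Set G := {z | z ∈ D ∧ (τ * x) * z = z * (τ * x)} with hBdef
  have hA' : ∀ w : G, w ∈ A → ∃ s : G, s * τ = τ * s ∧ w = s⁻¹ * x * s := fun w hw => hA w hw.1 hw.2
  choose! s hs using hA'
  rw [← Set.ncard_prod]
  apply le_antisymm
  · -- `D → A × B`
    refine Set.ncard_le_ncard_of_injOn
      (fun y => (mid τ y, s (mid τ y) * y * (s (mid τ y))⁻¹)) ?_ ?_ (Set.toFinite _)
    · intro y hy
      have hodd : Odd (orderOf (y * (τ * y * τ⁻¹))) := hD.odd y hy _ (hD.conj τ y hy)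
      have hyy := hD.inv y hy
      have hmA : mid τ y ∈ A := ⟨hD.mid_mem hτ hy, mid_comm hτ hyy hodd⟩
      refine ⟨hmA, hD.conj _ y hy, ?_⟩
      obtain ⟨hc, hw⟩ := hs _ hmA
      set c := s (mid τ y) with hcdef
      set w := mid τ y with hwdef
      have hwy : w * y * w⁻¹ = τ * y * τ⁻¹ := mid_conj_eq hτ hyy hodd
      -- `τ w` commutes with `y`
      have h1 : (τ * w) * y = y * (τ * w) := by
        calc τ * w * y = τ * (w * y * w⁻¹) * w := by group
          _ = τ * (τ * y * τ⁻¹) * w := by rw [hwy]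
          _ = (τ * τ) * y * (τ⁻¹ * w) := by group
          _ = y * (τ * w) := by rw [hτ, hτi]; group
      have hx : x = c * w * c⁻¹ := by rw [hw]; group
      have h2 : τ * x = c * (τ * w) * c⁻¹ := by
        rw [hx]
        calc τ * (c * w * c⁻¹) = (τ * c) * w * c⁻¹ := by group
          _ = (c * τ) * w * c⁻¹ := by rw [hc]
          _ = c * (τ * w) * c⁻¹ := by group
      show τ * x * (c * y * c⁻¹) = c * y * c⁻¹ * (τ * x)
      rw [h2]
      calc c * (τ * w) * c⁻¹ * (c * y * c⁻¹) = c * ((τ * w) * y) * c⁻¹ := by group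
        _ = c * (y * (τ * w)) * c⁻¹ := by rw [h1]
        _ = c * y * c⁻¹ * (c * (τ * w) * c⁻¹) := by group
    · intro y _ y' _ h
      simp only [Prod.mk.injEq] at h
      obtain ⟨h1, h2⟩ := h
      rw [h1] at h2
      have := mul_right_cancel h2
      exact mul_left_cancel this
  · -- `A × B → D`
    refine Set.ncard_le_ncard_of_injOn (fun q : G × G => (s q.1)⁻¹ * q.2 * s q.1) ?_ ?_
      (Set.toFinite _)
    · rintro ⟨w, z⟩ ⟨_, hz⟩
      exact hD.conj' _ hz.1
    · have key : ∀ w z : G, w ∈ A → z ∈ B → w = mid τ ((s w)⁻¹ * z * s w) := by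
        intro w z hw hz
        obtain ⟨hc, hwx⟩ := hs w hw
        set c := s w with hcdef
        have hy'D : c⁻¹ * z * c ∈ D := hD.conj' _ hz.1
        set y' := c⁻¹ * z * c with hy'
        have hodd : Odd (orderOf (y' * (τ * y' * τ⁻¹))) := hD.odd y' hy'D _ (hD.conj τ y' hy'D)
        have hc' : c⁻¹ * τ = τ * c⁻¹ := by
          calc c⁻¹ * τ = c⁻¹ * (τ * c) * c⁻¹ := by group
            _ = c⁻¹ * (c * τ) * c⁻¹ := by rw [hc]
            _ = τ * c⁻¹ := by group
        have h1 : (τ * w) * y' = y' * (τ * w) := by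
          have e : τ * w = c⁻¹ * (τ * x) * c := by
            rw [hwx]
            calc τ * (c⁻¹ * x * c) = (τ * c⁻¹) * x * c := by group
              _ = (c⁻¹ * τ) * x * c := by rw [hc']
              _ = c⁻¹ * (τ * x) * c := by group
          rw [e, hy']
          calc c⁻¹ * (τ * x) * c * (c⁻¹ * z * c) = c⁻¹ * ((τ * x) * z) * c := by group
            _ = c⁻¹ * (z * (τ * x)) * c := by rw [hz.2]
            _ = c⁻¹ * z * c * (c⁻¹ * (τ * x) * c) := by group
        have hwy : w * y' * w⁻¹ = τ * y' * τ⁻¹ := by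
          calc w * y' * w⁻¹ = τ⁻¹ * ((τ * w) * y') * w⁻¹ := by group
            _ = τ⁻¹ * (y' * (τ * w)) * w⁻¹ := by rw [h1]
            _ = τ * y' * τ⁻¹ := by rw [hτi]; group
        exact mid_unique hτ (hD.inv y' hy'D) hodd (hD.inv w hw.1) hw.2 hwy
          (hD.odd w hw.1 _ (hD.mid_mem hτ hy'D))
      rintro ⟨w, z⟩ ⟨hw, hz⟩ ⟨w', z'⟩ ⟨hw', hz'⟩ h
      simp only at h hw hz hw' hz'
      have e1 := key w z hw hz
      have e2 := key w' z' hw' hz'
      rw [h] at e1
      have hww : w = w' := e1.trans e2.symm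
      subst hww
      have := mul_right_cancel h
      have := mul_left_cancel this
      rw [this]

/-- the number of conjugates of `x` under a subgroup `R`. -/
theorem ncard_conj_orbit [Finite G] (R : Subgroup G) (x : G) :
    {y | ∃ r ∈ R, y = r * x * r⁻¹}.ncard = (Subgroup.centralizer {x}).relIndex R := by
  letI : MulAction ↥R G :=
    MulAction.compHom G (((ConjAct.toConjAct : G ≃* ConjAct G).toMonoidHom).comp R.subtype)
  have hsmul : ∀ (r : R) (g : G), r • g = (r : G) * g * (r : G)⁻¹ := fun r g => rfl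
  have h1 : MulAction.stabilizer (↥R) x = (Subgroup.centralizer {x}).subgroupOf R := by
    ext r
    rw [MulAction.mem_stabilizer_iff, hsmul, Subgroup.mem_subgroupOf,
      Subgroup.mem_centralizer_iff]
    simp only [Set.mem_singleton_iff, forall_eq]
    constructor
    · intro h
      calc x * (r : G) = ((r : G) * x * (r : G)⁻¹)⁻¹⁻¹ * r := by rw [h]; group
        _ = (r : G) * x := by group
    · intro h
      calc (r : G) * x * (r : G)⁻¹ = (x * r) * (r : G)⁻¹ := by rw [h]
        _ = x := by group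
  have h2 : MulAction.orbit (↥R) x = {y | ∃ r ∈ R, y = r * x * r⁻¹} := by
    ext y
    constructor
    · rintro ⟨r, rfl⟩
      exact ⟨r, r.2, hsmul r x⟩
    · rintro ⟨r, hr, rfl⟩
      exact ⟨⟨r, hr⟩, hsmul _ _⟩
  rw [← h2, ← MulAction.index_stabilizer, h1]
  rfl

/-- the number of conjugates of `x` under a `p`-subgroup is a power of `p`. -/
theorem ncard_conj_orbit_pow [Finite G] {p : ℕ} (hp : p.Prime) (R : Subgroup G)
    (hR : IsPGroup p R) (x : G) : ∃ a : ℕ, {y | ∃ r ∈ R, y = r * x * r⁻¹}.ncard = p ^ a := by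
  rw [ncard_conj_orbit]
  haveI : Fact p.Prime := ⟨hp⟩
  obtain ⟨k, hk⟩ := IsPGroup.iff_card.mp hR
  have h : (Subgroup.centralizer {x}).relIndex R ∣ p ^ k := by
    rw [← hk]; exact Subgroup.relIndex_dvd_card _ _
  obtain ⟨a, _, ha⟩ := (Nat.dvd_prime_pow hp).mp h
  exact ⟨a, ha⟩

/-- the size of the conjugacy class. -/
theorem ncard_conjugatesOf [Finite G] (x : G) :
    (conjugatesOf x).ncard = (Subgroup.centralizer {x}).index := by
  have h := ncard_conj_orbit (⊤ : Subgroup G) x
  rw [Subgroup.relIndex_top_right] at h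
  rw [← h]
  congr 1
  ext y
  show IsConj x y ↔ _
  rw [isConj_iff]
  constructor
  · rintro ⟨c, hc⟩
    exact ⟨c, Subgroup.mem_top _, hc.symm⟩
  · rintro ⟨r, -, rfl⟩
    exact ⟨r, rfl⟩

end Cfsg.Agent.Helper8.FischerCount
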