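import Mathlib
import Cfsg.Agent.Lib.Helper8.FischerCount

/-!
# Framework for the induction in Fischer's theorem on `p`-power products (helper8)

`Hyp p D`: `D` is a conjugation-invariant set of involutions whose pairwise products have
`p`-power order.  `Pi D`: the subgroup generated by the products of two members of `D`.
`IHs p G`: the induction hypothesis (the theorem for all groups of smaller order, in the same
universe).  Transfer of the induction hypothesis to proper subgroups (`sub_of_IH`) and proper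
quotients (`quot_of_IH`).
-/

set_option autoImplicit false

universe u

namespace Cfsg.Agent.Helper8.FischerFrame

open Cfsg.Agent.Helper8.FischerMid Cfsg.Agent.Helper8.FischerCount

variable {G : Type u} [Group G]

structure Hyp (p : ℕ) (D : Set G) : Prop where
  inv : ∀ a ∈ D, orderOf a = 2
  conj : ∀ g : G, ∀ a ∈ D, g * a * g⁻¹ ∈ D
  prod : ∀ a ∈ D, ∀ b ∈ D, ∃ k : ℕ, orderOf (a * b) = p ^ k

/-- the subgroup generated by the products of two members of `D`. -/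
def Pi (D : Set G) : Subgroup G := Subgroup.closure {z | ∃ a ∈ D, ∃ b ∈ D, z = a * b}

theorem mul_mem_Pi {D : Set G} {a b : G} (ha : a ∈ D) (hb : b ∈ D) : a * b ∈ Pi D :=
  Subgroup.subset_closure ⟨a, ha, b, hb, rfl⟩

theorem Pi_mono {D E : Set G} (h : D ⊆ E) : Pi D ≤ Pi E := by
  apply Subgroup.closure_mono
  rintro _ ⟨a, ha, b, hb, rfl⟩
  exact ⟨a, h ha, b, h hb, rfl⟩

theorem Hyp.mul_self {p : ℕ} {D : Set G} (hD : Hyp p D) {a : G} (ha : a ∈ D) : a * a = 1 := by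
  rw [← pow_two, ← hD.inv a ha, pow_orderOf_eq_one]

theorem Hyp.ne_one {p : ℕ} {D : Set G} (hD : Hyp p D) {a : G} (ha : a ∈ D) : a ≠ 1 := by
  intro h
  have := hD.inv a ha
  rw [h, orderOf_one] at this
  omega

theorem Hyp.inv_eq {p : ℕ} {D : Set G} (hD : Hyp p D) {a : G} (ha : a ∈ D) : a⁻¹ = a :=
  inv_eq_self_of_mul_self (hD.mul_self ha)

theorem odd_pow {p : ℕ} (hp : p.Prime) (hp2 : p ≠ 2) (k : ℕ) : Odd (p ^ k) :=
  (hp.odd_of_ne_two hp2).pow

theorem Hyp.good {p : ℕ} (hp : p.Prime) (hp2 : p ≠ 2) {D : Set G} (hD : Hyp p D) : Good D where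
  inv := fun _ ha => hD.mul_self ha
  conj := hD.conj
  odd := fun a ha b hb => by
    obtain ⟨k, hk⟩ := hD.prod a ha b hb
    rw [hk]; exact odd_pow hp hp2 k

theorem Hyp.subset {p : ℕ} {D E : Set G} (hD : Hyp p D) (hE : E ⊆ D)
    (hconj : ∀ g : G, ∀ a ∈ E, g * a * g⁻¹ ∈ E) : Hyp p E where
  inv := fun a ha => hD.inv a (hE ha)
  conj := hconj
  prod := fun a ha b hb => hD.prod a (hE ha) b (hE hb)

theorem Hyp.conjugatesOf {p : ℕ} {D : Set G} (hD : Hyp p D) {d : G} (hd : d ∈ D) :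
    Hyp p (conjugatesOf d) := by
  apply hD.subset
  · intro a ha
    obtain ⟨g, rfl⟩ := isConj_iff.mp ha
    exact hD.conj g d hd
  · intro g a ha
    obtain ⟨h, rfl⟩ := isConj_iff.mp ha
    exact isConj_iff.mpr ⟨g * h, by group⟩

/-- `Pi (D ∩ N)` is normalized by every element normalizing `D ∩ N`. -/
theorem conj_mem_Pi {E : Set G} {n : G} (hn : ∀ a ∈ E, n * a * n⁻¹ ∈ E) {z : G} (hz : z ∈ Pi E) :
    n * z * n⁻¹ ∈ Pi E := by
  induction hz using Subgroup.closure_induction with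
  | mem y hy =>
    obtain ⟨a, ha, b, hb, rfl⟩ := hy
    have : n * (a * b) * n⁻¹ = (n * a * n⁻¹) * (n * b * n⁻¹) := by group
    rw [this]
    exact mul_mem_Pi (hn a ha) (hn b hb)
  | one => simp
  | mul y z _ _ hy hz =>
    have : n * (y * z) * n⁻¹ = (n * y * n⁻¹) * (n * z * n⁻¹) := by group
    rw [this]; exact Subgroup.mul_mem _ hy hz
  | inv y _ hy =>
    have : n * y⁻¹ * n⁻¹ = (n * y * n⁻¹)⁻¹ := by group
    rw [this]; exact Subgroup.inv_mem _ hy

theorem Pi_normal {p : ℕ} {D : Set G} (hD : Hyp p D) : (Pi D).Normal :=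
  ⟨fun _ hz g => conj_mem_Pi (fun a ha => hD.conj g a ha) hz⟩

theorem Pi_inter_le (D : Set G) (N : Subgroup G) : Pi (D ∩ (N : Set G)) ≤ N := by
  unfold Pi
  rw [Subgroup.closure_le]
  rintro _ ⟨a, ha, b, hb, rfl⟩
  exact N.mul_mem ha.2 hb.2

theorem conj_mem_Pi_inter {p : ℕ} {D : Set G} (hD : Hyp p D) (N : Subgroup G) {n : G} (hn : n ∈ N)
    {z : G} (hz : z ∈ Pi (D ∩ (N : Set G))) : n * z * n⁻¹ ∈ Pi (D ∩ (N : Set G)) :=
  conj_mem_Pi (E := D ∩ (N : Set G))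
    (fun a ha => ⟨hD.conj n a ha.1, N.mul_mem (N.mul_mem hn ha.2) (N.inv_mem hn)⟩) hz

/-- the induction hypothesis. -/
def IHs (p : ℕ) (G : Type u) [Group G] : Prop :=
  ∀ (H : Type u) [Group H] [Finite H], Nat.card H < Nat.card G →
    ∀ E : Set H, Hyp p E → IsPGroup p (Pi E)

theorem sub_of_IH [Finite G] {p : ℕ} (IH : IHs p G) {D : Set G} (hD : Hyp p D) (N : Subgroup G)
    (hN : N ≠ ⊤) : IsPGroup p (Pi (D ∩ (N : Set G))) := by
  have hcard : Nat.card N < Nat.card G := by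
    have h1 : Nat.card N ≤ Nat.card G := Subgroup.card_le_card_group N
    rcases h1.lt_or_eq with h | h
    · exact h
    · exact absurd (Subgroup.card_eq_iff_eq_top N |>.mp h) hN
  set E : Set N := {n | (n : G) ∈ D} with hE
  have hEhyp : Hyp p E := by
    refine ⟨?_, ?_, ?_⟩
    · intro a ha
      rw [← Subgroup.orderOf_coe]
      exact hD.inv _ ha
    · intro g a ha
      exact hD.conj (g : G) a ha
    · intro a ha b hb
      obtain ⟨k, hk⟩ := hD.prod _ ha _ hb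
      refine ⟨k, ?_⟩
      rw [← Subgroup.orderOf_coe]
      exact hk
  have h := IH N hcard E hEhyp
  have hmap : Pi (D ∩ (N : Set G)) = (Pi E).map N.subtype := by
    unfold Pi
    rw [MonoidHom.map_closure]
    congr 1
    ext z
    constructor
    · rintro ⟨a, ha, b, hb, rfl⟩
      exact ⟨⟨a, ha.2⟩ * ⟨b, hb.2⟩, ⟨⟨a, ha.2⟩, ha.1, ⟨b, hb.2⟩, hb.1, rfl⟩, rfl⟩
    · rintro ⟨_, ⟨a, ha, b, hb, rfl⟩, rfl⟩
      exact ⟨a, ⟨ha, a.2⟩, b, ⟨hb, b.2⟩, rfl⟩
  rw [hmap]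
  exact h.map _

theorem Hyp.quot {p : ℕ} (hp : p.Prime) {D : Set G} (hD : Hyp p D)
    (K : Subgroup G) [K.Normal] (hDK : ∀ a ∈ D, a ∉ K) :
    Hyp p ((QuotientGroup.mk : G → G ⧸ K) '' D) := by
  refine ⟨?_, ?_, ?_⟩
  · rintro _ ⟨a, ha, rfl⟩
    apply orderOf_eq_prime
    · rw [← QuotientGroup.mk_pow, pow_two, hD.mul_self ha]; rfl
    · intro h
      exact hDK a ha ((QuotientGroup.eq_one_iff a).mp h)
  · rintro g _ ⟨a, ha, rfl⟩
    obtain ⟨g, rfl⟩ := QuotientGroup.mk_surjective g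
    exact ⟨g * a * g⁻¹, hD.conj g a ha, rfl⟩
  · rintro _ ⟨a, ha, rfl⟩ _ ⟨b, hb, rfl⟩
    obtain ⟨k, hk⟩ := hD.prod a ha b hb
    have hdvd : orderOf ((a : G ⧸ K) * (b : G ⧸ K)) ∣ p ^ k := by
      rw [← hk, ← QuotientGroup.mk_mul]
      exact orderOf_map_dvd (QuotientGroup.mk' K) (a * b)
    obtain ⟨j, _, hj⟩ := (Nat.dvd_prime_pow hp).mp hdvd
    exact ⟨j, hj⟩

theorem quot_of_IH [Finite G] {p : ℕ} (hp : p.Prime) (IH : IHs p G) {D : Set G} (hD : Hyp p D)
    (K : Subgroup G) [K.Normal] (hK : K ≠ ⊥) (hDK : ∀ a ∈ D, a ∉ K) :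
    IsPGroup p (Pi ((QuotientGroup.mk : G → G ⧸ K) '' D)) := by
  have hcard : Nat.card (G ⧸ K) < Nat.card G := by
    rw [← Subgroup.index_eq_card, ← Subgroup.index_mul_card K]
    have h1 : 1 < Nat.card K := by
      rw [Subgroup.one_lt_card_iff_ne_bot]; exact hK
    have h2 : 0 < K.index := Nat.pos_of_ne_zero Subgroup.index_ne_zero_of_finite
    nlinarith
  exact IH (G ⧸ K) hcard _ (hD.quot hp K hDK)

/-- if `d` commutes modulo the normal subgroup `T` with all its conjugates, in the sense that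
all `d * (g d g⁻¹)` lie in `T`, then `Pi D ≤ T`. -/
theorem Pi_le_of_mem {p : ℕ} (hp : p.Prime) (hp2 : p ≠ 2) {D : Set G} (hD : Hyp p D) {d : G}
    (hd : d ∈ D) (T : Subgroup G) [hT : T.Normal] (h : ∀ g : G, d * (g * d * g⁻¹) ∈ T) :
    Pi D ≤ T := by
  have hdi : d⁻¹ = d := hD.inv_eq hd
  -- every member of `D` is congruent to `d` modulo `T`
  have key : ∀ y ∈ D, d * y ∈ T := by
    intro y hy
    -- `(d y)^2 ∈ T`
    have h1 : d * (y * d * y⁻¹) ∈ T := h y
    have hyi : y⁻¹ = y := hD.inv_eq hy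
    have h2 : (d * y) ^ 2 ∈ T := by
      have : (d * y) ^ 2 = d * (y * d * y⁻¹) := by
        rw [pow_two, hyi]; group
      rw [this]; exact h1
    obtain ⟨k, hk⟩ := hD.prod d hd y hy
    obtain ⟨j, hj⟩ := odd_pow hp hp2 k
    have h3 : d * y = ((d * y) ^ 2) ^ (j + 1) := by
      rw [← pow_mul, show 2 * (j + 1) = (2 * j + 1) + 1 by ring, pow_succ, ← hj, ← hk,
        pow_orderOf_eq_one, one_mul]
    rw [h3]
    exact T.pow_mem h2 _
  unfold Pi
  rw [Subgroup.closure_le]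
  rintro _ ⟨a, ha, b, hb, rfl⟩
  have e : a * b = (d * a)⁻¹ * (d * b) := by
    rw [mul_inv_rev, hD.inv_eq ha]; group
  rw [e]
  exact T.mul_mem (T.inv_mem (key a ha)) (key b hb)

end Cfsg.Agent.Helper8.FischerFrame
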