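import Mathlib
import Cfsg.Agent.Lib.Helper8.FischerFrame

/-!
# Local analysis for Fischer's theorem on `p`-power products (helper8)

`sylow_of_maximal`: under the induction hypothesis, a maximal `x`-invariant `p`-subgroup (which
is not normal) is a Sylow `p`-subgroup.  `caseF`: if `x` commutes with an involution `t` such that
neither `t` nor `t x` is central, and the group has no nontrivial normal subgroup of odd order,
then `x` is central.
-/

set_option autoImplicit false

universe u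

namespace Cfsg.Agent.Helper8.FischerLocal

open Cfsg.Agent.Helper8.FischerMid Cfsg.Agent.Helper8.FischerCount
  Cfsg.Agent.Helper8.FischerFrame

variable {G : Type u} [Group G]

/-- invariance under conjugation by `x` passes to joins. -/
theorem inv_sup {x : G} {A B C : Subgroup G} (hA : ∀ z ∈ A, x * z * x⁻¹ ∈ C)
    (hB : ∀ z ∈ B, x * z * x⁻¹ ∈ C) : ∀ z ∈ A ⊔ B, x * z * x⁻¹ ∈ C := by
  have h : A ⊔ B ≤ C.comap (MulAut.conj x).toMonoidHom := by
    apply sup_le
    · intro z hz
      exact hA z hz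
    · intro z hz
      exact hB z hz
  intro z hz
  exact h hz

theorem inv_zpowers {x a : G} {A : Subgroup G} (ha : x * a * x⁻¹ ∈ A) :
    ∀ z ∈ Subgroup.zpowers a, x * z * x⁻¹ ∈ A := by
  have h : Subgroup.zpowers a ≤ A.comap (MulAut.conj x).toMonoidHom := by
    rw [Subgroup.zpowers_le]
    exact ha
  intro z hz
  exact h hz

theorem mem_normalizer_of_invol {x : G} (hx : x * x = 1) {R : Subgroup G}
    (hR : ∀ r ∈ R, x * r * x⁻¹ ∈ R) : x ∈ Subgroup.normalizer (R : Set G) := by
  rw [Subgroup.mem_normalizer_iff]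
  intro h
  refine ⟨hR h, fun hh => ?_⟩
  have := hR _ hh
  have hxi : x⁻¹ = x := inv_eq_self_of_mul_self hx
  have e : x * (x * h * x⁻¹) * x⁻¹ = h := by
    calc x * (x * h * x⁻¹) * x⁻¹ = (x * x) * h * (x * x)⁻¹ := by group
      _ = h := by rw [hx]; group
  rwa [e] at this

/-- Under the induction hypothesis, an inclusion-maximal `x`-invariant `p`-subgroup which is not
normal in `G` is a Sylow `p`-subgroup. -/
theorem sylow_of_maximal [Finite G] {p : ℕ} [hp : Fact p.Prime] (IH : IHs p G) {D : Set G}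
    (hD : Hyp p D) {x : G} (hx : x ∈ D) (R : Subgroup G) (hRp : IsPGroup p R)
    (hRx : ∀ r ∈ R, x * r * x⁻¹ ∈ R)
    (hmax : ∀ R' : Subgroup G, IsPGroup p R' → (∀ r ∈ R', x * r * x⁻¹ ∈ R') → ¬ R < R')
    (hRn : Subgroup.normalizer (R : Set G) ≠ ⊤) :
    ∃ P : Sylow p G, (P : Subgroup G) = R := by
  have hxx : x * x = 1 := hD.mul_self hx
  have hxi : x⁻¹ = x := hD.inv_eq hx
  set N := Subgroup.normalizer (R : Set G) with hN
  have hxN : x ∈ N := mem_normalizer_of_invol hxx hRx
  set T := Pi (D ∩ (N : Set G)) with hT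
  have hTp : IsPGroup p T := sub_of_IH IH hD N hRn
  have hTN : T ≤ N := Pi_inter_le D N
  have hTx : ∀ z ∈ T, x * z * x⁻¹ ∈ T := fun z hz => conj_mem_Pi_inter hD N hxN hz
  -- `T ≤ R`
  have hRN : R ≤ N := Subgroup.le_normalizer
  have hTR : T ≤ R := by
    have hp1 : IsPGroup p (T ⊔ R : Subgroup G) := by
      apply IsPGroup.to_sup_of_normal_left' hTp hRp
      rw [Subgroup.le_normalizer_iff]
      intro r hr z hz
      exact conj_mem_Pi_inter hD N (hRN hr) hz
    have hinv : ∀ z ∈ T ⊔ R, x * z * x⁻¹ ∈ T ⊔ R :=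
      inv_sup (fun z hz => (le_sup_left : T ≤ T ⊔ R) (hTx z hz))
        (fun z hz => (le_sup_right : R ≤ T ⊔ R) (hRx z hz))
    have hnot := hmax (T ⊔ R) hp1 hinv
    have hle : R ≤ T ⊔ R := le_sup_right
    rcases hle.lt_or_eq with h | h
    · exact absurd h hnot
    · rw [h]; exact le_sup_left
  obtain ⟨P, hP⟩ := hRp.exists_le_sylow
  refine ⟨P, ?_⟩
  by_contra hne
  have hlt : R < P := lt_of_le_of_ne hP (Ne.symm hne)
  -- normalizer condition in `P`
  haveI : Group.IsNilpotent ↥(P : Subgroup G) := P.isPGroup'.isNilpotent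
  have hlt' : R.subgroupOf P < ⊤ := by
    rw [lt_top_iff_ne_top, Ne, Subgroup.subgroupOf_eq_top]
    exact not_le_of_gt hlt
  have hnc := normalizerCondition_of_isNilpotent (G := ↥(P : Subgroup G)) (R.subgroupOf P) hlt'
  obtain ⟨a, haN, haR⟩ := SetLike.exists_of_lt hnc
  rw [← Subgroup.subgroupOf_normalizer_eq hP, Subgroup.mem_subgroupOf] at haN
  rw [Subgroup.mem_subgroupOf] at haR
  set a' : G := (a : G) with ha'
  have ha'P : a' ∈ (P : Subgroup G) := a.2
  -- the bigger invariant `p`-subgroup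
  have hzp : IsPGroup p (Subgroup.zpowers a') :=
    P.isPGroup'.to_le (Subgroup.zpowers_le.mpr ha'P)
  have hp2 : IsPGroup p (R ⊔ Subgroup.zpowers a' : Subgroup G) := by
    apply IsPGroup.to_sup_of_normal_left' hRp hzp
    rw [Subgroup.zpowers_le]
    exact haN
  have hinv2 : ∀ z ∈ R ⊔ Subgroup.zpowers a', x * z * x⁻¹ ∈ R ⊔ Subgroup.zpowers a' := by
    apply inv_sup
    · intro z hz
      exact (le_sup_left : R ≤ R ⊔ Subgroup.zpowers a') (hRx z hz)
    · apply inv_zpowers
      have e : x * a' * x⁻¹ = (x * (a' * x * a'⁻¹)) * a' := by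
        rw [hxi]; group
      rw [e]
      apply Subgroup.mul_mem
      · apply (le_sup_left : R ≤ R ⊔ Subgroup.zpowers a')
        apply hTR
        apply mul_mem_Pi
        · exact ⟨hx, hxN⟩
        · exact ⟨hD.conj a' x hx, N.mul_mem (N.mul_mem haN hxN) (N.inv_mem haN)⟩
      · exact (le_sup_right : Subgroup.zpowers a' ≤ R ⊔ Subgroup.zpowers a')
          (Subgroup.mem_zpowers a')
  have hlt2 : R < R ⊔ Subgroup.zpowers a' := by
    apply lt_of_le_of_ne le_sup_left
    intro h
    apply haR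
    rw [h]
    exact (le_sup_right : Subgroup.zpowers a' ≤ R ⊔ Subgroup.zpowers a') (Subgroup.mem_zpowers a')
  exact hmax _ hp2 hinv2 hlt2

theorem mem_centralizer_singleton {τ g : G} :
    g ∈ Subgroup.centralizer ({τ} : Set G) ↔ τ * g = g * τ := by
  rw [Subgroup.mem_centralizer_iff]
  simp

/-- the members of `D` commuting with a non-central involution `τ` (commuting with `x`) form the
orbit of `x` under a `p`-subgroup of `C(τ)`. -/
theorem cent_orbit [Finite G] {p : ℕ} (hp : p.Prime) (hp2 : p ≠ 2) (IH : IHs p G) {x : G}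
    (hD : Hyp p (conjugatesOf x)) {τ : G} (hτx : τ * x = x * τ)
    (hnc : ∃ g : G, τ * g ≠ g * τ) :
    (∀ w ∈ conjugatesOf x, τ * w = w * τ → ∃ s : G, s * τ = τ * s ∧ w = s⁻¹ * x * s) ∧
      ∃ a : ℕ, {w | w ∈ conjugatesOf x ∧ τ * w = w * τ}.ncard = p ^ a := by
  set D := conjugatesOf x with hDdef
  have hx : x ∈ D := mem_conjugatesOf_self
  have hxx : x * x = 1 := hD.mul_self hx
  set N := Subgroup.centralizer ({τ} : Set G) with hN
  have hNtop : N ≠ ⊤ := by
    obtain ⟨g, hg⟩ := hnc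
    intro h
    apply hg
    rw [← mem_centralizer_singleton, ← hN, h]
    exact Subgroup.mem_top g
  set R := Pi (D ∩ (N : Set G)) with hR
  have hRp : IsPGroup p R := sub_of_IH IH hD N hNtop
  have hRN : R ≤ N := Pi_inter_le D N
  have hxN : x ∈ N := mem_centralizer_singleton.mpr hτx
  have part1 : ∀ w ∈ D, τ * w = w * τ → ∃ s ∈ R, w = s⁻¹ * x * s := by
    intro w hw hwτ
    have hww : w * w = 1 := hD.mul_self hw
    have hwN : w ∈ N := mem_centralizer_singleton.mpr hwτ
    have hvR : x * w ∈ R := mul_mem_Pi ⟨hx, hxN⟩ ⟨hw, hwN⟩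
    obtain ⟨k, hk⟩ := hD.prod x hx w hw
    obtain ⟨j, hj⟩ := odd_pow hp hp2 k
    have hv : (x * w) ^ (2 * j + 1) = 1 := by
      rw [← hj, ← hk]; exact pow_orderOf_eq_one _
    have hinv : x * (x * w) * x⁻¹ = (x * w)⁻¹ := inverts_mul hxx hww
    refine ⟨(x * w) ^ (j + 1), R.pow_mem hvR _, ?_⟩
    rw [conj_sqrt hxx hv hinv, ← mul_assoc, hxx, one_mul]
  refine ⟨?_, ?_⟩
  · intro w hw hwτ
    obtain ⟨s, hsR, hs⟩ := part1 w hw hwτ
    exact ⟨s, (mem_centralizer_singleton.mp (hRN hsR)).symm, hs⟩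
  · have heq : {w | w ∈ D ∧ τ * w = w * τ} = {y | ∃ r ∈ R, y = r * x * r⁻¹} := by
      ext y
      constructor
      · rintro ⟨hyD, hyτ⟩
        obtain ⟨s, hsR, hs⟩ := part1 y hyD hyτ
        exact ⟨s⁻¹, R.inv_mem hsR, by rw [hs, inv_inv]⟩
      · rintro ⟨r, hr, rfl⟩
        refine ⟨hD.conj r x hx, ?_⟩
        have hrτ : τ * r = r * τ := mem_centralizer_singleton.mp (hRN hr)
        have hrτ' : τ * r⁻¹ = r⁻¹ * τ := by
          calc τ * r⁻¹ = r⁻¹ * (r * τ) * r⁻¹ := by group
            _ = r⁻¹ * (τ * r) * r⁻¹ := by rw [hrτ]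
            _ = r⁻¹ * τ := by group
        calc τ * (r * x * r⁻¹) = (τ * r) * x * r⁻¹ := by group
          _ = r * (τ * x) * r⁻¹ := by rw [hrτ]; group
          _ = r * x * (τ * r⁻¹) := by rw [hτx]; group
          _ = r * x * r⁻¹ * τ := by rw [hrτ']; group
    rw [heq]
    exact ncard_conj_orbit_pow hp R hRp x

/-- **Case F**: `x` commutes with an involution `t` such that neither `t` nor `t x` is central. -/
theorem caseF [Finite G] {p : ℕ} (hp : p.Prime) (hp2 : p ≠ 2) (IH : IHs p G) {x : G}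
    (hD : Hyp p (conjugatesOf x)) (hgen : Subgroup.closure (conjugatesOf x) = ⊤)
    (hO : ∀ N : Subgroup G, N.Normal → Odd (Nat.card N) → N = ⊥)
    {t : G} (ht : t * t = 1) (htx : t * x = x * t)
    (htc : ∃ g : G, t * g ≠ g * t) (htxc : ∃ g : G, (t * x) * g ≠ g * (t * x)) :
    ∀ g : G, g * x = x * g := by
  haveI : Fact p.Prime := ⟨hp⟩
  set D := conjugatesOf x with hDdef
  have hx : x ∈ D := mem_conjugatesOf_self
  have hxx : x * x = 1 := hD.mul_self hx
  have hxi : x⁻¹ = x := hD.inv_eq hx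
  have hgood : Good D := hD.good hp hp2
  obtain ⟨hA, a, ha⟩ := cent_orbit hp hp2 IH hD htx htc
  have htxx : (t * x) * x = x * (t * x) := by
    rw [← mul_assoc, ← htx]
  obtain ⟨-, b, hb⟩ := cent_orbit hp hp2 IH hD htxx htxc
  have hcount : D.ncard = p ^ (a + b) := by
    rw [ncard_eq_mul hgood ht hA, ha, hb, pow_add]
  by_cases hall : ∀ y ∈ D, y = x
  · intro g
    have h := hall _ (hD.conj g x hx)
    calc g * x = (g * x * g⁻¹) * g := by group
      _ = x * g := by rw [h]
  exfalso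
  push_neg at hall
  obtain ⟨y, hy, hyx⟩ := hall
  have hyy : y * y = 1 := hD.mul_self hy
  set u := x * y with hu
  have hu1 : u ≠ 1 := by
    intro h
    apply hyx
    have : y = x⁻¹ := (eq_inv_of_mul_eq_one_right h)
    rw [this, hxi]
  have huinv : x * u * x⁻¹ = u⁻¹ := inverts_mul hxx hyy
  set U := Subgroup.zpowers u with hU
  have hUp : IsPGroup p U := by
    obtain ⟨k, hk⟩ := hD.prod x hx y hy
    apply IsPGroup.of_card (n := k)
    rw [Nat.card_zpowers, ← hk]
  have hUx : ∀ z ∈ U, x * z * x⁻¹ ∈ U := by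
    apply inv_zpowers
    rw [huinv]
    exact U.inv_mem (Subgroup.mem_zpowers u)
  -- a maximal invariant `p`-subgroup containing `U`
  set X : Set (Subgroup G) :=
    {R | IsPGroup p R ∧ (∀ r ∈ R, x * r * x⁻¹ ∈ R) ∧ U ≤ R} with hX
  have hXne : X.Nonempty := ⟨U, hUp, hUx, le_rfl⟩
  obtain ⟨R, ⟨hRp, hRx, hUR⟩, hRmax⟩ := WellFounded.has_min (wellFounded_gt) X hXne
  have hmax : ∀ R' : Subgroup G, IsPGroup p R' → (∀ r ∈ R', x * r * x⁻¹ ∈ R') → ¬ R < R' := by
    intro R' h1 h2 hlt
    exact hRmax R' ⟨h1, h2, hUR.trans hlt.le⟩ hlt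
  have huR : u ∈ R := hUR (Subgroup.mem_zpowers u)
  have hRbot : R ≠ ⊥ := by
    intro h
    rw [h, Subgroup.mem_bot] at huR
    exact hu1 huR
  have hRodd : Odd (Nat.card R) := by
    obtain ⟨k, hk⟩ := IsPGroup.iff_card.mp hRp
    rw [hk]; exact odd_pow hp hp2 k
  have hRn : Subgroup.normalizer (R : Set G) ≠ ⊤ := by
    intro h
    rw [Subgroup.normalizer_eq_top_iff] at h
    exact hRbot (hO R h hRodd)
  obtain ⟨P, hP⟩ := sylow_of_maximal IH hD hx R hRp hRx hmax hRn
  -- the orbit of `x` under `R` is all of `D`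
  set C := Subgroup.centralizer ({x} : Set G) with hC
  set O : Set G := {y | ∃ r ∈ R, y = r * x * r⁻¹} with hOdef
  have hOD : O ⊆ D := by
    rintro _ ⟨r, -, rfl⟩
    exact hD.conj r x hx
  have hOcard : O.ncard = C.relIndex R := ncard_conj_orbit R x
  have hDcard : D.ncard = C.index := ncard_conjugatesOf x
  have hdvd : p ^ (a + b) ∣ C.relIndex R := by
    have h1 : (R ⊓ C).relIndex R * R.index = (R ⊓ C).index :=
      Subgroup.relIndex_mul_index inf_le_left
    have h2 : (R ⊓ C).relIndex C * C.index = (R ⊓ C).index :=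
      Subgroup.relIndex_mul_index inf_le_right
    rw [Subgroup.inf_relIndex_left] at h1
    rw [Subgroup.inf_relIndex_right, ← hDcard, hcount] at h2
    have h3 : p ^ (a + b) ∣ C.relIndex R * R.index := by
      rw [h1, ← h2]; exact dvd_mul_left _ _
    have hcop : Nat.Coprime (p ^ (a + b)) R.index := by
      apply Nat.Coprime.pow_left
      rw [Nat.Prime.coprime_iff_not_dvd hp, ← hP]
      exact P.not_dvd_index
    exact hcop.dvd_of_dvd_mul_right h3
  have hOeq : O = D := by
    apply Set.eq_of_subset_of_ncard_le hOD _ (Set.toFinite _)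
    rw [hOcard, hcount]
    apply Nat.le_of_dvd _ hdvd
    exact Nat.pos_of_ne_zero (Subgroup.index_ne_zero_of_finite (H := C.subgroupOf R))
  -- hence `R` is normal
  apply hRn
  rw [eq_top_iff, ← hgen, Subgroup.closure_le]
  intro z hz
  rw [← hOeq] at hz
  obtain ⟨r, hr, rfl⟩ := hz
  have hxN : x ∈ Subgroup.normalizer (R : Set G) := mem_normalizer_of_invol hxx hRx
  have hrN : r ∈ Subgroup.normalizer (R : Set G) := Subgroup.le_normalizer hr
  exact Subgroup.mul_mem _ (Subgroup.mul_mem _ hrN hxN) (Subgroup.inv_mem _ hrN)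

end Cfsg.Agent.Helper8.FischerLocal
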