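import Mathlib
import Cfsg.Agent.Lib.Helper8.FischerLocal

/-!
# Fischer's theorem on `p`-power products: central involutions (helper8)

`isPGroup_of_gen_odd`: a finite group generated by elements of odd order, which maps to a
`p`-group (`p` odd) with a kernel of order at most two, is a `p`-group.
`caseE`: if `G` has a central involution different from `x` and no nontrivial normal subgroup of
odd order, then `x` is central (under the induction hypothesis).
-/

set_option autoImplicit false

universe u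

namespace Cfsg.Agent.Helper8.FischerCentral

open Cfsg.Agent.Helper8.FischerMid Cfsg.Agent.Helper8.FischerCount
  Cfsg.Agent.Helper8.FischerFrame Cfsg.Agent.Helper8.FischerLocal

theorem isPGroup_of_gen_odd {M : Type*} [Group M] [Finite M] {p : ℕ} [hp : Fact p.Prime]
    {H : Type*} [Group H] (f : M →* H) (hr : IsPGroup p f.range) (τ : M)
    (hk : ∀ m : M, f m = 1 → m = 1 ∨ m = τ) (S : Set M) (hS : Subgroup.closure S = ⊤)
    (hodd : ∀ z ∈ S, Odd (orderOf z)) : IsPGroup p M := by
  classical
  -- the kernel has at most two elements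
  have hker : Nat.card f.ker ≤ 2 := by
    have hsub : (f.ker : Set M) ⊆ {1, τ} := by
      intro m hm
      rcases hk m (MonoidHom.mem_ker.mp hm) with h | h
      · left; exact h
      · right; exact h
    have h1 : (f.ker : Set M).ncard ≤ ({1, τ} : Set M).ncard :=
      Set.ncard_le_ncard hsub (Set.toFinite _)
    have h2 : ({1, τ} : Set M).ncard ≤ 2 := by
      have := Set.ncard_insert_le (1 : M) ({τ} : Set M)
      rw [Set.ncard_singleton] at this
      exact this
    have h3 : Nat.card f.ker = (f.ker : Set M).ncard := (Nat.card_coe_set_eq _)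
    rw [h3]
    exact h1.trans h2
  have hcard : Nat.card f.ker * Nat.card f.range = Nat.card M := by
    rw [← Subgroup.index_ker f]
    exact Subgroup.card_mul_index f.ker
  haveI : Finite ↥f.range := Finite.of_surjective f.rangeRestrict f.rangeRestrict_surjective
  obtain ⟨k, hk'⟩ := IsPGroup.iff_card.mp hr
  obtain ⟨Q⟩ : Nonempty (Sylow p M) := inferInstance
  have hidx : (Q : Subgroup M).index ∣ Nat.card f.ker := by
    have h1 : (Q : Subgroup M).index ∣ Nat.card f.ker * p ^ k := by
      rw [← hk', hcard]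
      exact Subgroup.index_dvd_card _
    have hcop : Nat.Coprime (Q : Subgroup M).index (p ^ k) := by
      apply Nat.Coprime.pow_right
      rw [Nat.coprime_comm, Nat.Prime.coprime_iff_not_dvd hp.out]
      exact Q.not_dvd_index
    exact hcop.dvd_of_dvd_mul_right h1
  have hidx2 : (Q : Subgroup M).index ≤ 2 :=
    (Nat.le_of_dvd Nat.card_pos hidx).trans hker
  have hpos : 0 < (Q : Subgroup M).index := Nat.pos_of_ne_zero Subgroup.index_ne_zero_of_finite
  have hQtop : (Q : Subgroup M) = ⊤ := by
    by_contra hne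
    have h2 : (Q : Subgroup M).index = 2 := by
      have h1 : (Q : Subgroup M).index ≠ 1 := fun h => hne (Subgroup.index_eq_one.mp h)
      omega
    haveI : (Q : Subgroup M).Normal := Subgroup.normal_of_index_eq_two h2
    have hc2 : Nat.card (M ⧸ (Q : Subgroup M)) = 2 := by
      rw [← Subgroup.index_eq_card]; exact h2
    apply hne
    rw [eq_top_iff, ← hS, Subgroup.closure_le]
    intro z hz
    obtain ⟨j, hj⟩ := hodd z hz
    have e1 : (QuotientGroup.mk z : M ⧸ (Q : Subgroup M)) ^ 2 = 1 := by
      rw [← hc2]; exact pow_card_eq_one'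
    have e2 : (QuotientGroup.mk z : M ⧸ (Q : Subgroup M)) ^ (2 * j + 1) = 1 := by
      rw [← QuotientGroup.mk_pow, ← hj, pow_orderOf_eq_one]; rfl
    have e3 : (QuotientGroup.mk z : M ⧸ (Q : Subgroup M)) = 1 := by
      rw [pow_succ, pow_mul, e1, one_pow, one_mul] at e2
      exact e2
    exact (QuotientGroup.eq_one_iff z).mp e3
  intro m
  have hm : m ∈ (Q : Subgroup M) := by rw [hQtop]; exact Subgroup.mem_top m
  obtain ⟨i, hi⟩ := Q.isPGroup' ⟨m, hm⟩
  refine ⟨i, ?_⟩
  have := congrArg Subtype.val hi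
  simpa using this

variable {G : Type u} [Group G]

/-- `x` is central as soon as `Pi (conjugatesOf x)` is trivial. -/
theorem central_of_Pi_eq_bot {p : ℕ} {x : G} (hD : Hyp p (conjugatesOf x))
    (h : Pi (conjugatesOf x) = ⊥) : ∀ g : G, g * x = x * g := by
  intro g
  have hx : x ∈ conjugatesOf x := mem_conjugatesOf_self
  have hxi : x⁻¹ = x := hD.inv_eq hx
  have h1 : x * (g * x * g⁻¹) ∈ Pi (conjugatesOf x) := mul_mem_Pi hx (hD.conj g x hx)
  rw [h, Subgroup.mem_bot] at h1
  have h2 : g * x * g⁻¹ = x := by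
    have := eq_inv_of_mul_eq_one_right h1
    rw [this, hxi]
  calc g * x = (g * x * g⁻¹) * g := by group
    _ = x * g := by rw [h2]

/-- **Case E**: a central involution different from `x`. -/
theorem caseE [Finite G] {p : ℕ} (hp : p.Prime) (hp2 : p ≠ 2) (IH : IHs p G) {x : G}
    (hD : Hyp p (conjugatesOf x))
    (hO : ∀ N : Subgroup G, N.Normal → Odd (Nat.card N) → N = ⊥)
    {τ : G} (hτ : τ * τ = 1) (hτ1 : τ ≠ 1) (hτx : τ ≠ x) (hc : ∀ g : G, τ * g = g * τ) :
    ∀ g : G, g * x = x * g := by
  haveI : Fact p.Prime := ⟨hp⟩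
  set D := conjugatesOf x with hDdef
  have hx : x ∈ D := mem_conjugatesOf_self
  set K := Subgroup.zpowers τ with hKdef
  haveI hKn : K.Normal := ⟨fun n hn g => by
    obtain ⟨k, rfl⟩ := Subgroup.mem_zpowers_iff.mp hn
    have hcomm : Commute g τ := (hc g).symm
    have h2 := hcomm.zpow_right k
    have : g * τ ^ k * g⁻¹ = τ ^ k := by
      calc g * τ ^ k * g⁻¹ = (τ ^ k * g) * g⁻¹ := by rw [h2.eq]
        _ = τ ^ k := by group
    rw [this]; exact hn⟩
  have hKmem : ∀ a ∈ K, a = 1 ∨ a = τ := by
    intro a ha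
    obtain ⟨k, rfl⟩ := Subgroup.mem_zpowers_iff.mp ha
    rcases Int.even_or_odd' k with ⟨m, rfl | rfl⟩
    · left; rw [zpow_mul, zpow_two, hτ, one_zpow]
    · right; rw [zpow_add_one, zpow_mul, zpow_two, hτ, one_zpow, one_mul]
  have hKbot : K ≠ ⊥ := by
    intro h
    apply hτ1
    have : τ ∈ K := Subgroup.mem_zpowers τ
    rw [h, Subgroup.mem_bot] at this
    exact this
  have hDK : ∀ a ∈ D, a ∉ K := by
    intro a ha haK
    rcases hKmem a haK with h | h
    · exact hD.ne_one ha h
    · obtain ⟨g, rfl⟩ := isConj_iff.mp ha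
      apply hτx
      have e : x = g⁻¹ * (g * x * g⁻¹) * g := by group
      rw [e, h, mul_assoc, hc g]; group
  have hq := quot_of_IH hp IH hD K hKbot hDK
  set M := Pi D with hMdef
  let f : ↥M →* G ⧸ K := (QuotientGroup.mk' K).comp M.subtype
  have hrange : f.range ≤ Pi ((QuotientGroup.mk : G → G ⧸ K) '' D) := by
    have key : ∀ y ∈ Pi D, ((y : G) : G ⧸ K) ∈ Pi ((QuotientGroup.mk : G → G ⧸ K) '' D) := by
      intro y hm
      induction hm using Subgroup.closure_induction with
      | mem y hy =>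
        obtain ⟨a, ha, b, hb, rfl⟩ := hy
        rw [QuotientGroup.mk_mul]
        exact mul_mem_Pi ⟨a, ha, rfl⟩ ⟨b, hb, rfl⟩
      | one => exact Subgroup.one_mem _
      | mul y z _ _ hy hz =>
        rw [QuotientGroup.mk_mul]; exact Subgroup.mul_mem _ hy hz
      | inv y _ hy =>
        rw [QuotientGroup.mk_inv]; exact Subgroup.inv_mem _ hy
    rintro _ ⟨m, rfl⟩
    exact key (m : G) m.2
  have hr : IsPGroup p f.range := hq.to_le hrange
  classical
  set τ' : ↥M := if h : τ ∈ M then ⟨τ, h⟩ else 1 with hτ'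
  have hk : ∀ m : ↥M, f m = 1 → m = 1 ∨ m = τ' := by
    intro m hm
    have hmK : (m : G) ∈ K := (QuotientGroup.eq_one_iff (m : G)).mp hm
    rcases hKmem _ hmK with h | h
    · left; exact Subtype.ext h
    · right
      have hτM : τ ∈ M := by rw [← h]; exact m.2
      rw [hτ', dif_pos hτM]
      exact Subtype.ext h
  set S : Set ↥M := ((↑) : ↥M → G) ⁻¹' {z | ∃ a ∈ D, ∃ b ∈ D, z = a * b} with hSdef
  have hS : Subgroup.closure S = ⊤ := Subgroup.closure_closure_coe_preimage
  have hodd : ∀ z ∈ S, Odd (orderOf z) := by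
    rintro z ⟨a, ha, b, hb, hz⟩
    obtain ⟨k, hk⟩ := hD.prod a ha b hb
    rw [← Subgroup.orderOf_coe, hz, hk]
    exact odd_pow hp hp2 k
  have hMp : IsPGroup p ↥M := isPGroup_of_gen_odd f hr τ' hk S hS hodd
  have hModd : Odd (Nat.card M) := by
    obtain ⟨k, hk⟩ := IsPGroup.iff_card.mp hMp
    rw [hk]; exact odd_pow hp hp2 k
  exact central_of_Pi_eq_bot hD (hO M (Pi_normal hD) hModd)

end Cfsg.Agent.Helper8.FischerCentral
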