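import Mathlib
import Cfsg.Agent.Lib.Helper25.InvOdd2

/-!
# Involutions whose products with conjugates have `p`-power order (helper8)

Generalisation to an arbitrary odd prime `p` of helper25's `InvOdd3` (the case `p = 3`).
Main result `exists_normal_p`: if `d` is an involution of the finite group `G`, every
`d * d^g` has `p`-power order and all commutators `[d, g]` lie in a normal subgroup of odd order
(the conclusion of Glauberman's `Z*`-theorem), then the products `d * d^g` lie in a normal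
`p`-subgroup.  `isolated_of_prod`: such an involution is isolated in each Sylow `2`-subgroup
containing it.  `commutator_le_of_prod_mem`: the derived subgroup of the group generated by the
class of `d` lies in any normal subgroup containing all `d * d^g`.
-/

set_option autoImplicit false

namespace Cfsg.Agent.Helper8.FischerOdd

open Cfsg.Agent.Helper25.InvOdd

/-- an invariant `r`-subgroup (`r ≠ p`) is centralized by `d`. -/
theorem commute_of_inv_pgroup {G : Type*} [Group G] {d : G} (hd : d * d = 1)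
    {p : ℕ} (hp : p.Prime)
    (hprod : ∀ g : G, ∃ k : ℕ, orderOf (d * (g * d * g⁻¹)) = p ^ k)
    {r : ℕ} (hr : r.Prime) (hrp : r ≠ p) {R : Subgroup G} (hRp : IsPGroup r R)
    (hR : ∀ x ∈ R, d * x * d⁻¹ ∈ R) {x : G} (hx : x ∈ R) : d * x = x * d := by
  have hdi : d⁻¹ = d := inv_eq_of_mul_eq_one_right hd
  have hy : d * (x * d * x⁻¹) ∈ R := by
    have : d * (x * d * x⁻¹) = (d * x * d⁻¹) * x⁻¹ := by rw [hdi]; group
    rw [this]; exact R.mul_mem (hR x hx) (R.inv_mem hx)
  obtain ⟨k, hk⟩ := hprod x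
  obtain ⟨j, hj⟩ := hRp ⟨_, hy⟩
  have hj' : (d * (x * d * x⁻¹)) ^ r ^ j = 1 := by
    have := congrArg Subtype.val hj
    simpa using this
  have hdvd : p ^ k ∣ r ^ j := hk ▸ orderOf_dvd_of_pow_eq_one hj'
  have hk0 : k = 0 := by
    by_contra hne
    have h3 : p ∣ r ^ j := (dvd_pow_self p hne).trans hdvd
    have h3r : p ∣ r := Nat.Prime.dvd_of_dvd_pow hp h3
    exact hrp ((Nat.prime_dvd_prime_iff_eq hp hr).mp h3r).symm
  rw [hk0, pow_zero, orderOf_eq_one_iff] at hk
  have h1 : x * d * x⁻¹ = d := by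
    have : x * d * x⁻¹ = d⁻¹ := eq_inv_of_mul_eq_one_right hk
    rw [this, hdi]
  calc d * x = (x * d * x⁻¹) * x := by rw [h1]
    _ = x * d := by group

theorem exists_normal_p {G : Type*} [Group G] [Finite G] (d : G) (hd : d * d = 1)
    {p : ℕ} (hp : p.Prime)
    (hprod : ∀ g : G, ∃ k : ℕ, orderOf (d * (g * d * g⁻¹)) = p ^ k)
    (N : Subgroup G) [hNn : N.Normal] (hodd : Odd (Nat.card N))
    (hN : ∀ g : G, d * g * d⁻¹ * g⁻¹ ∈ N) :
    ∃ T : Subgroup G, T.Normal ∧ IsPGroup p T ∧ ∀ g : G, d * (g * d * g⁻¹) ∈ T := by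
  have hdi : d⁻¹ = d := inv_eq_of_mul_eq_one_right hd
  haveI : Fact (Nat.Prime p) := ⟨hp⟩
  have hppos : 0 < p := hp.pos
  have hNinv : ∀ x ∈ N, d * x * d⁻¹ ∈ N := fun x hx => hNn.conj_mem x hx d
  set C : Subgroup G := N ⊓ Subgroup.centralizer {d} with hCdef
  have hmemC : ∀ x, x ∈ C ↔ x ∈ N ∧ d * x = x * d := by
    intro x
    rw [hCdef, Subgroup.mem_inf, Subgroup.mem_centralizer_iff]
    simp
  have hCN : C ≤ N := inf_le_left
  have hNpos : Nat.card N ≠ 0 := Nat.card_pos.ne'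
  have hCpos : Nat.card C ≠ 0 := Nat.card_pos.ne'
  have hCdvd : Nat.card C ∣ Nat.card N := Subgroup.card_dvd_of_le hCN
  have hCodd : Odd (Nat.card C) := Odd.of_dvd_nat hodd hCdvd
  have hCinv : ∀ x ∈ C, d * x * d⁻¹ ∈ C := by
    intro x hx
    have h := (hmemC x).mp hx
    have : d * x * d⁻¹ = x := by rw [h.2]; group
    rw [this]; exact hx
  -- the index of `C` in `N` is a power of `p`
  have hfac : ∀ r : ℕ, r.Prime → r ≠ p →
      (Nat.card N).factorization r ≤ (Nat.card C).factorization r := by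
    intro r hr hr3
    haveI : Fact r.Prime := ⟨hr⟩
    obtain ⟨R, hRN, hRp, hRc, hRinv⟩ := exists_inv_sylow hd N hNinv hodd r
    have hRC : R ≤ C := fun x hx =>
      (hmemC x).mpr ⟨hRN hx, commute_of_inv_pgroup hd hp hprod hr hr3 hRp hRinv hx⟩
    have : r ^ (Nat.card N).factorization r ∣ Nat.card C := hRc ▸ Subgroup.card_dvd_of_le hRC
    exact (Nat.Prime.pow_dvd_iff_le_factorization hr hCpos).mp this
  set a := (Nat.card N).factorization p with ha
  set b := (Nat.card C).factorization p with hb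
  have hba : b ≤ a := (Nat.factorization_le_iff_dvd hCpos hNpos).mpr hCdvd p
  have hpow_ne : ∀ n : ℕ, p ^ n ≠ 0 := fun n => pow_ne_zero _ hp.ne_zero
  have hcardN : Nat.card N = Nat.card C * p ^ (a - b) := by
    apply Nat.eq_of_factorization_eq hNpos (mul_ne_zero hCpos (hpow_ne _))
    intro q
    rw [Nat.factorization_mul hCpos (hpow_ne _), Nat.factorization_pow,
      Nat.Prime.factorization hp]
    simp only [Finsupp.coe_add, Finsupp.coe_smul, Pi.add_apply, Pi.smul_apply, smul_eq_mul]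
    by_cases hq3 : q = p
    · subst hq3
      simp only [Finsupp.single_eq_same, mul_one]
      omega
    · rw [Finsupp.single_eq_of_ne (by exact hq3), mul_zero, add_zero]
      by_cases hq : q.Prime
      · exact le_antisymm (hfac q hq hq3)
          ((Nat.factorization_le_iff_dvd hCpos hNpos).mpr hCdvd q)
      · rw [Nat.factorization_eq_zero_of_not_prime _ hq, Nat.factorization_eq_zero_of_not_prime _ hq]
  -- an invariant Sylow `p`-subgroup `Q` of `N` containing a Sylow `p`-subgroup `S` of `C`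
  obtain ⟨S, hSC, hSp, hSc, hSinv⟩ := exists_inv_sylow hd C hCinv hCodd p
  obtain ⟨Q, hSQ, hQN, hQp, hQc, hQinv⟩ :=
    exists_inv_sylow_ge hd N hNinv hodd p S (hSC.trans hCN) hSp hSinv
  have hQCc : Nat.card (C ⊓ Q : Subgroup G) = p ^ b := by
    have hle : S ≤ C ⊓ Q := le_inf hSC hSQ
    have hp' : IsPGroup p (C ⊓ Q : Subgroup G) := hQp.to_le inf_le_right
    obtain ⟨j, hj⟩ := IsPGroup.iff_card.mp hp'
    have hdvd : p ^ j ∣ Nat.card C := hj ▸ Subgroup.card_dvd_of_le inf_le_left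
    have hjb : j ≤ b := (Nat.Prime.pow_dvd_iff_le_factorization hp hCpos).mp hdvd
    have hcle : Nat.card (C ⊓ Q : Subgroup G) ≤ Nat.card S := by
      rw [hj, hSc]; exact Nat.pow_le_pow_right hppos hjb
    rw [← Subgroup.eq_of_le_of_card_ge hle hcle, hSc]
  -- `N = Q C`
  have hrelQ : C.relIndex Q = p ^ (a - b) := by
    have h1 : Nat.card (C.subgroupOf Q) * (C.subgroupOf Q).index = Nat.card Q :=
      Subgroup.card_mul_index _
    have h2 : Nat.card (C.subgroupOf Q) = p ^ b := by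
      rw [← hQCc, ← Subgroup.inf_subgroupOf_right]
      exact Nat.card_congr (Subgroup.subgroupOfEquivOfLe inf_le_right).toEquiv
    rw [h2, hQc] at h1
    have h3 : (p : ℕ) ^ b * p ^ (a - b) = p ^ a := by rw [← pow_add]; congr 1; omega
    have : (p : ℕ) ^ b * (C.subgroupOf Q).index = p ^ b * p ^ (a - b) := by rw [h1, h3]
    exact Nat.eq_of_mul_eq_mul_left (pow_pos hppos _) this
  have hrelN : C.relIndex N = p ^ (a - b) := by
    have h1 : Nat.card (C.subgroupOf N) * (C.subgroupOf N).index = Nat.card N :=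
      Subgroup.card_mul_index _
    have h2 : Nat.card (C.subgroupOf N) = Nat.card C :=
      Nat.card_congr (Subgroup.subgroupOfEquivOfLe hCN).toEquiv
    rw [h2, hcardN] at h1
    exact Nat.eq_of_mul_eq_mul_left (Nat.pos_of_ne_zero hCpos) h1
  have hbij : Function.Bijective (Subgroup.quotientSubgroupOfEmbeddingOfLE C hQN) := by
    apply Function.Injective.bijective_of_nat_card_le
      (Subgroup.quotientSubgroupOfEmbeddingOfLE C hQN).injective
    have e1 : Nat.card (↥N ⧸ C.subgroupOf N) = p ^ (a - b) := by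
      rw [← Subgroup.index_eq_card]; exact hrelN
    have e2 : Nat.card (↥Q ⧸ C.subgroupOf Q) = p ^ (a - b) := by
      rw [← Subgroup.index_eq_card]; exact hrelQ
    rw [e1, e2]
  have hfactor : ∀ n ∈ N, ∃ q ∈ Q, q⁻¹ * n ∈ C := by
    intro n hn
    obtain ⟨y, hy⟩ := hbij.2 (QuotientGroup.mk ⟨n, hn⟩)
    obtain ⟨q, rfl⟩ := QuotientGroup.mk_surjective y
    rw [Subgroup.quotientSubgroupOfEmbeddingOfLE_apply_mk, QuotientGroup.eq] at hy
    refine ⟨q, q.2, ?_⟩
    simpa [Subgroup.mem_subgroupOf] using hy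
  -- every commutator lies in `Q`
  have hmemQ : ∀ g : G, d * (g * d * g⁻¹) ∈ Q := by
    intro g
    set m : G := g * d * g⁻¹ * d⁻¹ with hm
    have hmN : m ∈ N := by
      have : m = (d * g * d⁻¹ * g⁻¹)⁻¹ := by rw [hm]; group
      rw [this]; exact N.inv_mem (hN g)
    have hminv : d * m * d⁻¹ = m⁻¹ := by
      rw [hm]
      have e1 : d * (g * d * g⁻¹ * d⁻¹) * d⁻¹ = d * g * d * g⁻¹ * (d * d)⁻¹ := by group
      have e2 : (g * d * g⁻¹ * d⁻¹)⁻¹ = d * g * d⁻¹ * g⁻¹ := by group
      rw [e1, e2, hd, hdi]; simp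
    have hoodd : Odd (orderOf m) := by
      have : orderOf m ∣ Nat.card N := by
        have := orderOf_dvd_natCard (⟨m, hmN⟩ : N)
        rwa [← Subgroup.orderOf_coe] at this
      exact Odd.of_dvd_nat hodd this
    obtain ⟨t, ht⟩ := hoodd
    set k : G := m ^ (t + 1) with hk
    have hkN : k ∈ N := N.pow_mem hmN _
    have hkk : k * k = m := by
      rw [hk, ← pow_add, show t + 1 + (t + 1) = orderOf m + 1 by omega, pow_succ,
        pow_orderOf_eq_one, one_mul]
    have hkinv : d * k * d⁻¹ = k⁻¹ := by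
      have : d * k * d⁻¹ = (d * m * d⁻¹) ^ (t + 1) := by
        rw [hk, conj_pow]
      rw [this, hminv, inv_pow]
    have hkconj : k * d * k⁻¹ = g * d * g⁻¹ := by
      have e1 : d * k⁻¹ * d⁻¹ = k := by
        have : d * k⁻¹ * d⁻¹ = (d * k * d⁻¹)⁻¹ := by group
        rw [this, hkinv, inv_inv]
      calc k * d * k⁻¹ = k * (d * k⁻¹ * d⁻¹) * d := by group
        _ = (k * k) * d := by rw [e1]
        _ = g * d * g⁻¹ := by rw [hkk, hm]; group
    obtain ⟨q, hqQ, hqc⟩ := hfactor k hkN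
    have hc := ((hmemC _).mp hqc).2
    have hqconj : q * d * q⁻¹ = k * d * k⁻¹ := by
      have e2 : (q⁻¹ * k) * d * (q⁻¹ * k)⁻¹ = d := by
        rw [← hc]; group
      calc q * d * q⁻¹ = q * ((q⁻¹ * k) * d * (q⁻¹ * k)⁻¹) * q⁻¹ := by rw [e2]
        _ = k * d * k⁻¹ := by group
    rw [← hkconj, ← hqconj]
    have : d * (q * d * q⁻¹) = (d * q * d⁻¹) * q⁻¹ := by rw [hdi]; group
    rw [this]
    exact Q.mul_mem (hQinv q hqQ) (Q.inv_mem hqQ)
  -- the subgroup generated by the commutators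
  set I₀ : Set G := {x | ∃ g : G, x = d * (g * d * g⁻¹)} with hI₀
  refine ⟨Subgroup.closure I₀, ?_, ?_, ?_⟩
  · constructor
    intro n hn h
    induction hn using Subgroup.closure_induction with
    | mem x hx =>
      obtain ⟨g, rfl⟩ := hx
      have e : h * (d * (g * d * g⁻¹)) * h⁻¹ =
          (d * (h * d * h⁻¹))⁻¹ * (d * ((h * g) * d * (h * g)⁻¹)) := by
        calc h * (d * (g * d * g⁻¹)) * h⁻¹ = h * d⁻¹ * g * d * g⁻¹ * h⁻¹ := by rw [hdi]; group
          _ = _ := by group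
      rw [e]
      exact Subgroup.mul_mem _ (Subgroup.inv_mem _ (Subgroup.subset_closure ⟨h, rfl⟩))
        (Subgroup.subset_closure ⟨h * g, rfl⟩)
    | one => simp
    | mul x y _ _ hx hy =>
      have : h * (x * y) * h⁻¹ = (h * x * h⁻¹) * (h * y * h⁻¹) := by group
      rw [this]; exact Subgroup.mul_mem _ hx hy
    | inv x _ hx =>
      have : h * x⁻¹ * h⁻¹ = (h * x * h⁻¹)⁻¹ := by group
      rw [this]; exact Subgroup.inv_mem _ hx
  · apply hQp.to_le
    rw [Subgroup.closure_le]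
    rintro _ ⟨g, rfl⟩
    exact hmemQ g
  · intro g
    exact Subgroup.subset_closure ⟨g, rfl⟩

/-- an involution all of whose products with conjugates have `p`-power order (`p` odd) is
isolated in every Sylow `2`-subgroup containing it. -/
theorem isolated_of_prod {G : Type*} [Group G] [Finite G] (d : G) (hd : orderOf d = 2)
    {p : ℕ} (hp : p.Prime) (hp2 : p ≠ 2)
    (hprod : ∀ g : G, ∃ k : ℕ, orderOf (d * (g * d * g⁻¹)) = p ^ k)
    (P : Sylow 2 G) (hdP : d ∈ P) (g : G) (hg : g * d * g⁻¹ ∈ P) : g * d * g⁻¹ = d := by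
  have hdd : d * d = 1 := by rw [← pow_two, ← hd, pow_orderOf_eq_one]
  have hdi : d⁻¹ = d := inv_eq_of_mul_eq_one_right hdd
  have hy : d * (g * d * g⁻¹) ∈ (P : Subgroup G) := (P : Subgroup G).mul_mem hdP hg
  obtain ⟨k, hk⟩ := hprod g
  obtain ⟨j, hj⟩ := P.isPGroup' ⟨_, hy⟩
  have hj' : (d * (g * d * g⁻¹)) ^ 2 ^ j = 1 := by
    have := congrArg Subtype.val hj
    simpa using this
  have hdvd : p ^ k ∣ 2 ^ j := hk ▸ orderOf_dvd_of_pow_eq_one hj'
  have hk0 : k = 0 := by
    by_contra hne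
    have h3 : p ∣ 2 ^ j := (dvd_pow_self p hne).trans hdvd
    have h3r : p ∣ 2 := Nat.Prime.dvd_of_dvd_pow hp h3
    exact hp2 ((Nat.prime_dvd_prime_iff_eq hp Nat.prime_two).mp h3r)
  rw [hk0, pow_zero, orderOf_eq_one_iff] at hk
  have : g * d * g⁻¹ = d⁻¹ := eq_inv_of_mul_eq_one_right hk
  rw [this, hdi]

/-- if all products `d * d^g` lie in the normal subgroup `T` and the conjugates of `d` generate
`G`, then the derived subgroup of `G` lies in `T`. -/
theorem commutator_le_of_prod_mem {G : Type*} [Group G] (d : G) (hd : d * d = 1)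
    (hgen : Subgroup.closure (conjugatesOf d) = ⊤)
    (T : Subgroup G) [hTn : T.Normal] (hT : ∀ g : G, d * (g * d * g⁻¹) ∈ T) :
    commutator G ≤ T := by
  have hdi : d⁻¹ = d := inv_eq_of_mul_eq_one_right hd
  -- the quotient is generated by the image of `d`
  have hall : ∀ x : G, (QuotientGroup.mk x : G ⧸ T) ∈
      Subgroup.zpowers (QuotientGroup.mk d : G ⧸ T) := by
    intro x
    have hx : x ∈ Subgroup.closure (conjugatesOf d) := by rw [hgen]; trivial
    induction hx using Subgroup.closure_induction with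
    | mem y hy =>
      obtain ⟨g, rfl⟩ := isConj_iff.mp hy
      have : (QuotientGroup.mk (g * d * g⁻¹) : G ⧸ T) = QuotientGroup.mk d := by
        rw [eq_comm, QuotientGroup.eq]
        rw [hdi]; exact hT g
      rw [this]; exact Subgroup.mem_zpowers _
    | one => exact Subgroup.one_mem _
    | mul y z _ _ hy hz =>
      rw [QuotientGroup.mk_mul]; exact Subgroup.mul_mem _ hy hz
    | inv y _ hy =>
      rw [QuotientGroup.mk_inv]; exact Subgroup.inv_mem _ hy
  have hcomm : ∀ a b : G ⧸ T, a * b = b * a := by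
    intro a b
    obtain ⟨a, rfl⟩ := QuotientGroup.mk_surjective a
    obtain ⟨b, rfl⟩ := QuotientGroup.mk_surjective b
    obtain ⟨i, hi⟩ := Subgroup.mem_zpowers_iff.mp (hall a)
    obtain ⟨j, hj⟩ := Subgroup.mem_zpowers_iff.mp (hall b)
    rw [← hi, ← hj]
    exact (Commute.zpow_zpow (Commute.refl _) i j).eq
  rw [commutator_def, Subgroup.commutator_le]
  intro a _ b _
  rw [← QuotientGroup.eq_one_iff, commutatorElement_def]
  simp only [QuotientGroup.mk_mul, QuotientGroup.mk_inv]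
  rw [hcomm (a : G ⧸ T) (b : G ⧸ T)]
  group

/-- **Fischer's theorem on `p`-power products, modulo the `Z*`-theorem.** -/
theorem fischer_of_zstar {G : Type*} [Group G] [Finite G] (p : ℕ) (hp : p.Prime) (hodd : p ≠ 2)
    {D : Set G} (hinv : ∀ d ∈ D, orderOf d = 2) (hconj : ∃ d ∈ D, D = conjugatesOf d)
    (hgen : Subgroup.closure D = ⊤)
    (hprod : ∀ x ∈ D, ∀ y ∈ D, x ≠ y → ∃ k : ℕ, orderOf (x * y) = p ^ k)
    (hZ : ∀ (P : Sylow 2 G) (u : G), orderOf u = 2 → u ∈ P →
      (∀ g : G, g * u * g⁻¹ ∈ P → g * u * g⁻¹ = u) →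
      ∃ N : Subgroup G, N.Normal ∧ Odd (Nat.card N) ∧ ∀ g : G, u * g * u⁻¹ * g⁻¹ ∈ N) :
    Group.IsNilpotent ↥(commutator G) := by
  haveI : Fact (Nat.Prime 2) := ⟨Nat.prime_two⟩
  haveI : Fact p.Prime := ⟨hp⟩
  obtain ⟨d, hdD, hDeq⟩ := hconj
  have hd : orderOf d = 2 := hinv d hdD
  have hdd : d * d = 1 := by rw [← pow_two, ← hd, pow_orderOf_eq_one]
  have hprod' : ∀ g : G, ∃ k : ℕ, orderOf (d * (g * d * g⁻¹)) = p ^ k := by
    intro g
    by_cases h : d = g * d * g⁻¹
    · refine ⟨0, ?_⟩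
      rw [← h, hdd, orderOf_one, pow_zero]
    · apply hprod d hdD (g * d * g⁻¹) _ h
      rw [hDeq]
      exact isConj_iff.mpr ⟨g, rfl⟩
  have hp2 : IsPGroup 2 (Subgroup.zpowers d) := by
    apply IsPGroup.of_card (n := 1)
    rw [Nat.card_zpowers, hd, pow_one]
  obtain ⟨P, hP⟩ := hp2.exists_le_sylow
  have hdP : d ∈ P := hP (Subgroup.mem_zpowers d)
  obtain ⟨N, hNn, hNodd, hN⟩ := hZ P d hd hdP (isolated_of_prod d hd hp hodd hprod' P hdP)
  obtain ⟨T, hTn, hTp, hT⟩ := exists_normal_p d hdd hp hprod' N hNodd hN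
  have hle : commutator G ≤ T := by
    apply commutator_le_of_prod_mem d hdd _ T hT
    rw [← hDeq]; exact hgen
  haveI : Group.IsNilpotent ↥T := hTp.isNilpotent
  exact isNilpotent_of_ker_le_center (Subgroup.inclusion hle)
    (by
      rw [(MonoidHom.ker_eq_bot_iff _).mpr (Subgroup.inclusion_injective hle)]
      exact bot_le)

end Cfsg.Agent.Helper8.FischerOdd
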