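import Mathlib
import Cfsg.Agent.Lib.Helper16.UniqueInvolution
import Cfsg.Agent.S0201

/-!
# A unique involution in a Sylow `2`-subgroup (helper8)

`caseB1`: if `x` is the unique involution of a Sylow `2`-subgroup of `G` and `G` has no nontrivial
normal subgroup of odd order, then `x` is central (Burnside's transfer theorem in the cyclic case,
the Brauer--Suzuki theorem `S0201` in the generalized quaternion case).
-/

set_option autoImplicit false

namespace Cfsg.Agent.Helper8.FischerUnique

open scoped Pointwise

variable {G : Type*} [Group G]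

/-- a central element of order `2` lies in every Sylow `2`-subgroup. -/
theorem central_mem_sylow [Finite G] {z : G} (hz : z * z = 1) (hc : ∀ g : G, g * z = z * g)
    (S : Sylow 2 G) : z ∈ S := by
  haveI : Fact (Nat.Prime 2) := ⟨Nat.prime_two⟩
  have hp : IsPGroup 2 (Subgroup.zpowers z) := by
    intro a
    obtain ⟨a, ha⟩ := a
    obtain ⟨k, rfl⟩ := Subgroup.mem_zpowers_iff.mp ha
    refine ⟨1, ?_⟩
    apply Subtype.ext
    show (z ^ k) ^ 2 ^ 1 = 1
    rw [pow_one, ← zpow_natCast, ← zpow_mul, mul_comm, zpow_mul, zpow_natCast, pow_two, hz,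
      one_zpow]
  obtain ⟨S', hS'⟩ := hp.exists_le_sylow
  have hzS' : z ∈ S' := hS' (Subgroup.mem_zpowers z)
  obtain ⟨g, hg⟩ := MulAction.exists_smul_eq G S' S
  have h1 : MulAut.conj g • z ∈ MulAut.conj g • (S' : Subgroup G) :=
    Subgroup.smul_mem_pointwise_smul z _ _ hzS'
  have h2 : MulAut.conj g • z = z := by
    rw [MulAut.smul_def, MulAut.conj_apply, hc g]; group
  rw [h2, ← Sylow.pointwise_smul_def, ← Sylow.smul_def, hg] at h1
  exact h1

theorem caseB1 [Finite G] {x : G} (hx2 : orderOf x = 2)
    (hO : ∀ N : Subgroup G, N.Normal → Odd (Nat.card N) → N = ⊥) (S : Sylow 2 G)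
    (hxS : x ∈ S) (hu : ∀ t ∈ S, t * t = 1 → t = 1 ∨ t = x) : ∀ g : G, g * x = x * g := by
  haveI : Fact (Nat.Prime 2) := ⟨Nat.prime_two⟩
  have hx1 : x ≠ 1 := by
    intro h; rw [h, orderOf_one] at hx2; omega
  have hxx : x * x = 1 := by rw [← pow_two, ← hx2, pow_orderOf_eq_one]
  -- the cyclic case
  have hcyc_case : IsCyclic ↥(S : Subgroup G) → ∀ g : G, g * x = x * g := by
    intro hcyc
    have hdvd : 2 ∣ Nat.card G := hx2 ▸ orderOf_dvd_natCard x
    have hmf : (Nat.card G).minFac = 2 := (Nat.minFac_eq_two_iff _).mpr hdvd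
    have hcomp := IsCyclic.isComplement' hmf hcyc
    set N := (MonoidHom.transferSylow S (hcyc.normalizer_le_centralizer hmf)).ker with hN
    have hNodd : Odd (Nat.card N) := by
      rw [← hcomp.index_eq_card, ← Nat.not_even_iff_odd, even_iff_two_dvd]
      exact S.not_dvd_index
    have hNbot : N = ⊥ := hO N inferInstance hNodd
    rw [hNbot] at hcomp
    have hStop : (S : Subgroup G) = ⊤ := Subgroup.isComplement'_bot_left.mp hcomp
    intro g
    have hmem : g * x * g⁻¹ ∈ (S : Subgroup G) := by rw [hStop]; exact Subgroup.mem_top _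
    have hsq : (g * x * g⁻¹) * (g * x * g⁻¹) = 1 := by
      calc (g * x * g⁻¹) * (g * x * g⁻¹) = g * (x * x) * g⁻¹ := by group
        _ = 1 := by rw [hxx]; group
    rcases hu _ hmem hsq with h | h
    · exfalso
      apply hx1
      have : x = g⁻¹ * (g * x * g⁻¹) * g := by group
      rw [this, h]; group
    · calc g * x = (g * x * g⁻¹) * g := by group
        _ = x * g := by rw [h]
  have huniq : Cfsg.Agent.Helper16.UniqueOrderP 2 ↥(S : Subgroup G) := by
    intro a b ha hb
    have key : ∀ c : ↥(S : Subgroup G), orderOf c = 2 → (c : G) = x := by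
      intro c hc
      have hcc : (c : G) * (c : G) = 1 := by
        have : c ^ 2 = 1 := by
          have h := pow_orderOf_eq_one c
          rwa [hc] at h
        have := congrArg Subtype.val this
        simpa [pow_two] using this
      rcases hu _ c.2 hcc with h | h
      · exfalso
        have : c = 1 := Subtype.ext h
        rw [this, orderOf_one] at hc
        omega
      · exact h
    have : b = a := Subtype.ext ((key b hb).trans (key a ha).symm)
    rw [this]
    exact Subgroup.mem_zpowers a
  rcases Cfsg.Agent.Helper16.cyclic_or_quaternion_of_uniqueOrderP_two S.isPGroup' huniq with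
    hcyc | ⟨n, ⟨e⟩⟩
  · exact hcyc_case hcyc
  · rcases Nat.eq_zero_or_pos n with hn | hn
    · subst hn
      apply hcyc_case
      have e1 : ↥(S : Subgroup G) ≃* QuaternionGroup 1 := e
      haveI : IsCyclic (QuaternionGroup 1) := QuaternionGroup.quaternionGroup_one_isCyclic
      exact isCyclic_of_surjective e1.symm e1.symm.surjective
    · obtain ⟨m, rfl⟩ : ∃ m, n = m + 1 := ⟨n - 1, by omega⟩
      have hcard := Cfsg.Agent.S0201.result S m e hO
      have hne : Subgroup.center G ≠ ⊥ := by
        rw [← Subgroup.one_lt_card_iff_ne_bot, hcard]; norm_num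
      obtain ⟨z, hzc, hz1⟩ := (Subgroup.ne_bot_iff_exists_ne_one).mp hne |>.imp
        (fun z hz => hz) |> fun ⟨z, hz⟩ => (⟨(z : G), z.2, fun h => hz (Subtype.ext h)⟩ :
          ∃ z : G, z ∈ Subgroup.center G ∧ z ≠ 1)
      have hzz : z * z = 1 := by
        have h1 : (⟨z, hzc⟩ : Subgroup.center G) ^ Nat.card (Subgroup.center G) = 1 :=
          pow_card_eq_one'
        rw [hcard] at h1
        have := congrArg Subtype.val h1
        simpa [pow_two] using this
      have hzcomm : ∀ g : G, g * z = z * g := fun g => (Subgroup.mem_center_iff.mp hzc g)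
      have hzS : z ∈ S := central_mem_sylow hzz hzcomm S
      rcases hu z hzS hzz with h | h
      · exact absurd h hz1
      · rw [← h]; exact hzcomm

end Cfsg.Agent.Helper8.FischerUnique
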