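import Mathlib
import Cfsg.Agent.Lib.Helper8.FischerOdd
import Cfsg.Agent.Lib.Helper8.FischerCentral
import Cfsg.Agent.Lib.Helper8.FischerUnique

/-!
# Fischer's theorem on `p`-power products (helper8)

`fischer_main`: if `D` is a conjugation-invariant set of involutions of a finite group such that
all products of two members of `D` have `p`-power order (`p` an odd prime), then the subgroup
generated by these products is a `p`-group.  The proof is by induction on the order of the group;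
it uses the Brauer--Suzuki theorem (`S0201`) and Burnside's transfer theorem when a Sylow
`2`-subgroup has a unique involution, and a counting argument otherwise.
-/

set_option autoImplicit false

universe u

namespace Cfsg.Agent.Helper8.FischerMain

open Cfsg.Agent.Helper8.FischerMid Cfsg.Agent.Helper8.FischerCount
  Cfsg.Agent.Helper8.FischerFrame Cfsg.Agent.Helper8.FischerLocal
  Cfsg.Agent.Helper8.FischerCentral Cfsg.Agent.Helper8.FischerUnique

variable {G : Type u} [Group G]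

/-- no nontrivial normal subgroup of odd order: `x` is central. -/
theorem central_of_noOdd [Finite G] {p : ℕ} (hp : p.Prime) (hp2 : p ≠ 2) (IH : IHs p G) {x : G}
    (hD : Hyp p (conjugatesOf x)) (hgen : Subgroup.closure (conjugatesOf x) = ⊤)
    (hO : ∀ N : Subgroup G, N.Normal → Odd (Nat.card N) → N = ⊥) : ∀ g : G, g * x = x * g := by
  haveI : Fact (Nat.Prime 2) := ⟨Nat.prime_two⟩
  have hx : x ∈ conjugatesOf x := mem_conjugatesOf_self
  have hx2 : orderOf x = 2 := hD.inv x hx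
  have hxx : x * x = 1 := hD.mul_self hx
  have hxi : x⁻¹ = x := hD.inv_eq hx
  have hx1 : x ≠ 1 := hD.ne_one hx
  have hp2g : IsPGroup 2 (Subgroup.zpowers x) := by
    apply IsPGroup.of_card (n := 1)
    rw [Nat.card_zpowers, hx2, pow_one]
  obtain ⟨S, hS⟩ := hp2g.exists_le_sylow
  have hxS : x ∈ S := hS (Subgroup.mem_zpowers x)
  have hprod' : ∀ g : G, ∃ k : ℕ, orderOf (x * (g * x * g⁻¹)) = p ^ k :=
    fun g => hD.prod x hx _ (hD.conj g x hx)
  have hiso := Cfsg.Agent.Helper8.FischerOdd.isolated_of_prod x hx2 hp hp2 hprod' S hxS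
  by_cases hu : ∀ t ∈ S, t * t = 1 → t = 1 ∨ t = x
  · exact caseB1 hx2 hO S hxS hu
  push_neg at hu
  obtain ⟨t, htS, htt, ht1, htx⟩ := hu
  have hti : t⁻¹ = t := inv_eq_self_of_mul_self htt
  have hcomm : t * x = x * t := by
    have h := hiso t ((S : Subgroup G).mul_mem ((S : Subgroup G).mul_mem htS hxS)
      ((S : Subgroup G).inv_mem htS))
    calc t * x = (t * x * t⁻¹) * t := by group
      _ = x * t := by rw [h]
  by_cases h1 : ∀ g : G, t * g = g * t
  · exact caseE hp hp2 IH hD hO htt ht1 htx h1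
  by_cases h2 : ∀ g : G, (t * x) * g = g * (t * x)
  · have e1 : (t * x) * (t * x) = 1 := by
      calc (t * x) * (t * x) = t * (x * t) * x := by group
        _ = t * (t * x) * x := by rw [hcomm]
        _ = (t * t) * (x * x) := by group
        _ = 1 := by rw [htt, hxx, one_mul]
    have e2 : t * x ≠ 1 := by
      intro h
      apply htx
      have : t = x⁻¹ := eq_inv_of_mul_eq_one_left h
      rw [this, hxi]
    have e3 : t * x ≠ x := by
      intro h
      apply ht1
      exact mul_eq_right.mp h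
    exact caseE hp hp2 IH hD hO e1 e2 e3 h2
  push_neg at h1 h2
  exact caseF hp hp2 IH hD hgen hO htt hcomm h1 h2

/-- the conclusion of the `Z*`-theorem for `x`. -/
theorem lemmaZ [Finite G] {p : ℕ} (hp : p.Prime) (hp2 : p ≠ 2) (IH : IHs p G) {x : G}
    (hD : Hyp p (conjugatesOf x)) (hgen : Subgroup.closure (conjugatesOf x) = ⊤) :
    ∃ M : Subgroup G, M.Normal ∧ Odd (Nat.card M) ∧ ∀ g : G, x * g * x⁻¹ * g⁻¹ ∈ M := by
  haveI : Fact (Nat.Prime 2) := ⟨Nat.prime_two⟩
  haveI : Fact p.Prime := ⟨hp⟩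
  have hx : x ∈ conjugatesOf x := mem_conjugatesOf_self
  have hxi : x⁻¹ = x := hD.inv_eq hx
  by_cases hO : ∀ N : Subgroup G, N.Normal → Odd (Nat.card N) → N = ⊥
  · have hc := central_of_noOdd hp hp2 IH hD hgen hO
    refine ⟨⊥, inferInstance, by simp, fun g => ?_⟩
    rw [Subgroup.mem_bot]
    calc x * g * x⁻¹ * g⁻¹ = (x * g) * x⁻¹ * g⁻¹ := by group
      _ = (g * x) * x⁻¹ * g⁻¹ := by rw [hc g]
      _ = 1 := by group
  push_neg at hO
  obtain ⟨M₀, hM₀n, hM₀odd, hM₀bot⟩ := hO
  haveI := hM₀n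
  have hnot2 : ∀ a : G, a ∈ M₀ → orderOf a ≠ 2 := by
    intro a ha h2
    have hdvd : orderOf a ∣ Nat.card M₀ := by
      have := orderOf_dvd_natCard (⟨a, ha⟩ : M₀)
      rwa [← Subgroup.orderOf_coe] at this
    rw [h2] at hdvd
    exact (Nat.not_even_iff_odd.mpr hM₀odd) (even_iff_two_dvd.mpr hdvd)
  have hDK : ∀ a ∈ conjugatesOf x, a ∉ M₀ := fun a ha haM => hnot2 a haM (hD.inv a ha)
  have hq := quot_of_IH hp IH hD M₀ hM₀bot hDK
  have hqn : (Pi ((QuotientGroup.mk : G → G ⧸ M₀) '' conjugatesOf x)).Normal :=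
    Pi_normal (hD.quot hp M₀ hDK)
  set Mbar := Pi ((QuotientGroup.mk : G → G ⧸ M₀) '' conjugatesOf x) with hMbar
  refine ⟨Mbar.comap (QuotientGroup.mk' M₀), hqn.comap _, ?_, ?_⟩
  · rw [← Nat.not_even_iff_odd, even_iff_two_dvd]
    intro hdvd
    obtain ⟨m, hm⟩ := exists_prime_orderOf_dvd_card' (G := ↥(Mbar.comap (QuotientGroup.mk' M₀))) 2 hdvd
    have hmM : ((m : G) : G ⧸ M₀) ∈ Mbar := m.2
    have hm2 : orderOf (m : G) = 2 := by rw [Subgroup.orderOf_coe]; exact hm
    -- the image of `m` is trivial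
    obtain ⟨j, hj⟩ := hq ⟨_, hmM⟩
    have hj' : ((m : G) : G ⧸ M₀) ^ p ^ j = 1 := by
      have := congrArg Subtype.val hj
      simpa using this
    have hsq : ((m : G) : G ⧸ M₀) ^ 2 = 1 := by
      rw [← QuotientGroup.mk_pow, ← hm2, pow_orderOf_eq_one]; rfl
    have hone : ((m : G) : G ⧸ M₀) = 1 := by
      obtain ⟨i, hi⟩ := odd_pow hp hp2 j
      rw [hi, pow_succ, pow_mul, hsq, one_pow, one_mul] at hj'
      exact hj'
    exact hnot2 _ ((QuotientGroup.eq_one_iff _).mp hone) hm2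
  · intro g
    rw [Subgroup.mem_comap]
    have e : x * g * x⁻¹ * g⁻¹ = x * (g * x * g⁻¹) := by rw [hxi]; group
    rw [e]
    show ((x * (g * x * g⁻¹) : G) : G ⧸ M₀) ∈ Mbar
    rw [QuotientGroup.mk_mul]
    exact mul_mem_Pi ⟨x, hx, rfl⟩ ⟨g * x * g⁻¹, hD.conj g x hx, rfl⟩

theorem main_step [Finite G] {p : ℕ} (hp : p.Prime) (hp2 : p ≠ 2) (IH : IHs p G) {D : Set G}
    (hD : Hyp p D) : IsPGroup p (Pi D) := by
  rcases D.eq_empty_or_nonempty with h | ⟨d, hd⟩
  · have : Pi D = ⊥ := by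
      unfold Pi
      rw [Subgroup.closure_eq_bot_iff]
      rintro _ ⟨a, ha, -⟩
      rw [h] at ha
      exact absurd ha (Set.notMem_empty a)
    rw [this]
    exact IsPGroup.of_bot
  have hD₀ : Hyp p (conjugatesOf d) := hD.conjugatesOf hd
  have hdd : d * d = 1 := hD.mul_self hd
  have hd₀ : d ∈ conjugatesOf d := mem_conjugatesOf_self
  have key : ∃ T : Subgroup G, T.Normal ∧ IsPGroup p T ∧ ∀ g : G, d * (g * d * g⁻¹) ∈ T := by
    by_cases hgen : Subgroup.closure (conjugatesOf d) = ⊤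
    · obtain ⟨M, hMn, hModd, hM⟩ := lemmaZ hp hp2 IH hD₀ hgen
      haveI := hMn
      have hprod' : ∀ g : G, ∃ k : ℕ, orderOf (d * (g * d * g⁻¹)) = p ^ k :=
        fun g => hD.prod d hd _ (hD.conj g d hd)
      exact Cfsg.Agent.Helper8.FischerOdd.exists_normal_p d hdd hp hprod' M hModd hM
    · refine ⟨Pi (conjugatesOf d), Pi_normal hD₀, ?_, fun g => mul_mem_Pi hd₀ (hD₀.conj g d hd₀)⟩
      have h := sub_of_IH IH hD₀ (Subgroup.closure (conjugatesOf d)) hgen
      rwa [Set.inter_eq_left.mpr Subgroup.subset_closure] at h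
  obtain ⟨T, hTn, hTp, hT⟩ := key
  haveI := hTn
  exact hTp.to_le (Pi_le_of_mem hp hp2 hD hd T hT)

/-- **Fischer's theorem on `p`-power products.** -/
theorem fischer_main {p : ℕ} (hp : p.Prime) (hp2 : p ≠ 2) :
    ∀ (n : ℕ) (G : Type u) [Group G] [Finite G], Nat.card G = n →
      ∀ D : Set G, Hyp p D → IsPGroup p (Pi D) := by
  intro n
  induction n using Nat.strong_induction_on with
  | _ n ih =>
    intro G _ _ hn D hD
    apply main_step hp hp2 _ hD
    intro H _ _ hlt E hE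
    exact ih (Nat.card H) (hn ▸ hlt) H rfl E hE

/-- the statement in the form of `S1618`. -/
theorem fischer_nilpotent {G : Type u} [Group G] [Finite G] (p : ℕ) (hp : p.Prime) (hodd : p ≠ 2)
    {D : Set G} (hinv : ∀ d ∈ D, orderOf d = 2) (hconj : ∃ d ∈ D, D = conjugatesOf d)
    (hgen : Subgroup.closure D = ⊤)
    (hprod : ∀ x ∈ D, ∀ y ∈ D, x ≠ y → ∃ k : ℕ, orderOf (x * y) = p ^ k) :
    Group.IsNilpotent ↥(commutator G) := by
  haveI : Fact p.Prime := ⟨hp⟩
  obtain ⟨d, hdD, hDeq⟩ := hconj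
  have hdd : d * d = 1 := by rw [← pow_two, ← hinv d hdD, pow_orderOf_eq_one]
  have hD : Hyp p D := by
    refine ⟨hinv, ?_, ?_⟩
    · intro g a ha
      rw [hDeq] at ha ⊢
      obtain ⟨h, rfl⟩ := isConj_iff.mp ha
      exact isConj_iff.mpr ⟨g * h, by group⟩
    · intro a ha b hb
      by_cases hab : a = b
      · refine ⟨0, ?_⟩
        subst hab
        have : a * a = 1 := by rw [← pow_two, ← hinv a ha, pow_orderOf_eq_one]
        rw [this, orderOf_one, pow_zero]
      · exact hprod a ha b hb hab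
  have hP : IsPGroup p (Pi D) := fischer_main hp hodd (Nat.card G) G rfl D hD
  haveI : (Pi D).Normal := Pi_normal hD
  have hle : commutator G ≤ Pi D := by
    apply Cfsg.Agent.Helper8.FischerOdd.commutator_le_of_prod_mem d hdd _ (Pi D)
    · intro g
      exact mul_mem_Pi hdD (hD.conj g d hdD)
    · rw [← hDeq]; exact hgen
  haveI : Group.IsNilpotent ↥(Pi D) := hP.isNilpotent
  exact isNilpotent_of_ker_le_center (Subgroup.inclusion hle)
    (by
      rw [(MonoidHom.ker_eq_bot_iff _).mpr (Subgroup.inclusion_injective hle)]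
      exact bot_le)

end Cfsg.Agent.Helper8.FischerMain
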