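import Mathlib
import Cfsg.Prelude.Def_Solvable
import Cfsg.Agent.Lib.Helper8.FischerMain

/-!
# Fischer's theorem on `p`-power products: `p`-core form (helper8)

`prod_mem_pCore`: unconditional version (no `Z*`-theorem needed) of helper25's
`TT.prod_mem_pCore_of_ZStarAt`, for every odd prime `p`.
`exists_odd_normal`: the conclusion of the `Z*`-theorem for an involution all of whose products
with conjugates have `p`-power order.
-/

set_option autoImplicit false

namespace Cfsg.Agent.Helper8.FischerCore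

open Cfsg.Agent.Helper8.FischerFrame Cfsg.Agent.Helper8.FischerMain

theorem hyp_conjugatesOf {G : Type*} [Group G] {p : ℕ} (d : G) (hd : orderOf d = 2)
    (hprod : ∀ a ∈ conjugatesOf d, ∀ b ∈ conjugatesOf d, ∃ k : ℕ, orderOf (a * b) = p ^ k) :
    Hyp p (conjugatesOf d) := by
  refine ⟨?_, ?_, hprod⟩
  · intro a ha
    obtain ⟨g, rfl⟩ := isConj_iff.mp ha
    rw [← hd]
    exact orderOf_injective (MulAut.conj g).toMonoidHom (MulAut.conj g).injective d
  · intro g a ha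
    obtain ⟨h, rfl⟩ := isConj_iff.mp ha
    exact isConj_iff.mpr ⟨g * h, by group⟩

theorem prod_mem_pCore {G : Type*} [Group G] [Finite G] {p : ℕ} (hp : p.Prime) (hp2 : p ≠ 2)
    (d : G) (hd : orderOf d = 2)
    (hprod : ∀ a ∈ conjugatesOf d, ∀ b ∈ conjugatesOf d, ∃ k : ℕ, orderOf (a * b) = p ^ k) :
    ∀ a ∈ conjugatesOf d, ∀ b ∈ conjugatesOf d, a * b ∈ Cfsg.pCore p G := by
  have hD := hyp_conjugatesOf d hd hprod
  have hP : IsPGroup p (Pi (conjugatesOf d)) :=
    fischer_main hp hp2 (Nat.card G) G rfl _ hD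
  have hle : Pi (conjugatesOf d) ≤ Cfsg.pCore p G :=
    le_sSup ⟨Pi_normal hD, hP⟩
  intro a ha b hb
  exact hle (mul_mem_Pi ha hb)

theorem exists_odd_normal {G : Type*} [Group G] [Finite G] {p : ℕ} (hp : p.Prime) (hp2 : p ≠ 2)
    (d : G) (hd : orderOf d = 2)
    (hprod : ∀ a ∈ conjugatesOf d, ∀ b ∈ conjugatesOf d, ∃ k : ℕ, orderOf (a * b) = p ^ k) :
    ∃ N : Subgroup G, N.Normal ∧ IsPGroup p N ∧ Odd (Nat.card N) ∧
      ∀ g : G, d * g * d⁻¹ * g⁻¹ ∈ N := by
  haveI : Fact p.Prime := ⟨hp⟩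
  have hD := hyp_conjugatesOf d hd hprod
  have hP : IsPGroup p (Pi (conjugatesOf d)) :=
    fischer_main hp hp2 (Nat.card G) G rfl _ hD
  have hdm : d ∈ conjugatesOf d := mem_conjugatesOf_self
  refine ⟨Pi (conjugatesOf d), Pi_normal hD, hP, ?_, fun g => ?_⟩
  · obtain ⟨k, hk⟩ := IsPGroup.iff_card.mp hP
    rw [hk]; exact odd_pow hp hp2 k
  · have e : d * g * d⁻¹ * g⁻¹ = d * (g * d * g⁻¹) := by rw [hD.inv_eq hdm]; group
    rw [e]
    exact mul_mem_Pi hdm (hD.conj g d hdm)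

end Cfsg.Agent.Helper8.FischerCore
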