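import Mathlib
import Cfsg.Agent.Lib.Helper8.GRDefs
import Cfsg.Agent.Lib.Helper22.GRRHOCOMM

set_option autoImplicit false
set_option linter.unusedVariables false

namespace Cfsg.Agent.Helper8.GR

open Cfsg.Agent.Helper8.XS

/-- backup of piece GR-RHOSQ -/
theorem h8_rhosq {Q : Type*} [Group Q] {z : Q} (h : XQ z) (w : Q) (hw : w * w = z)
    (ρ : MulAut Q) (hρ : IsRho w ρ) : ρ * ρ = MulAut.conj w := by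
  ext x
  rw [MulAut.mul_apply, hρ x, hρ, MulAut.conj_apply]
  by_cases hx : x * w = w * x
  · rw [tw_comm hx, mul_one, tw_comm hx, mul_one, ← hx, mul_assoc, mul_inv_cancel, mul_one]
  · rw [tw_anti hx]
    have h1 : x * w * w ≠ w * (x * w) := by
      intro h1
      apply hx
      have : x * w * w = w * x * w := by rw [h1, mul_assoc]
      exact mul_right_cancel this
    rw [tw_anti h1]
    have h2 : x * w = z * (w * x) := (h.hcomm x w).resolve_left hx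
    have h3 : w * x = z * (x * w) := by
      rw [h2, ← mul_assoc, h.hzz, one_mul]
    rw [h3, mul_assoc x w w, hw, h.hcen x]
    simp only [mul_assoc, mul_inv_cancel, mul_one]

/-- backup of piece GR-ALPHA -/
theorem h8_alpha {Q : Type*} [Group Q] {z v₁ v₂ v₃ : Q} (h : XQ z) (t : Trip z v₁ v₂ v₃)
    (ρ₁ ρ₂ ρ₃ : MulAut Q) (h1 : IsRho v₁ ρ₁) (h2 : IsRho v₂ ρ₂) (h3 : IsRho v₃ ρ₃) :
    (ρ₁ * ρ₂ * ρ₃) * (ρ₁ * ρ₂ * ρ₃) = MulAut.conj (v₁ * v₂ * v₃) ∧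
    ∀ e : Q, (ρ₁ * ρ₂ * ρ₃) e = e * tw v₃ e * tw v₂ e * tw v₁ e := by
  have C12 : Commute ρ₁ ρ₂ := rhocomm h v₁ v₂ t.s1 t.s2 t.c12 ρ₁ ρ₂ h1 h2
  have C13 : Commute ρ₁ ρ₃ := rhocomm h v₁ v₃ t.s1 t.s3 t.c13 ρ₁ ρ₃ h1 h3
  have C23 : Commute ρ₂ ρ₃ := rhocomm h v₂ v₃ t.s2 t.s3 t.c23 ρ₂ ρ₃ h2 h3
  constructor
  · have e1 : (ρ₁ * ρ₂ * ρ₃) * (ρ₁ * ρ₂ * ρ₃) = (ρ₁ * ρ₁) * (ρ₂ * ρ₂) * (ρ₃ * ρ₃) := by
      have a1 : ρ₃ * (ρ₁ * ρ₂) = (ρ₁ * ρ₂) * ρ₃ := (C13.symm.mul_right C23.symm).eq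
      calc (ρ₁ * ρ₂ * ρ₃) * (ρ₁ * ρ₂ * ρ₃) = (ρ₁ * ρ₂) * (ρ₃ * (ρ₁ * ρ₂)) * ρ₃ := by
            simp only [mul_assoc]
        _ = (ρ₁ * ρ₂) * ((ρ₁ * ρ₂) * ρ₃) * ρ₃ := by rw [a1]
        _ = ρ₁ * (ρ₂ * ρ₁) * ρ₂ * (ρ₃ * ρ₃) := by simp only [mul_assoc]
        _ = ρ₁ * (ρ₁ * ρ₂) * ρ₂ * (ρ₃ * ρ₃) := by rw [C12.eq]
        _ = (ρ₁ * ρ₁) * (ρ₂ * ρ₂) * (ρ₃ * ρ₃) := by simp only [mul_assoc]
    rw [e1, h8_rhosq h v₁ t.s1 ρ₁ h1, h8_rhosq h v₂ t.s2 ρ₂ h2, h8_rhosq h v₃ t.s3 ρ₃ h3,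
      map_mul, map_mul]
  · intro e
    rw [MulAut.mul_apply, MulAut.mul_apply, h3 e, h2, h1]
    have e1 : tw v₃ e * v₂ = v₂ * tw v₃ e := (rhocomm_tw_comm v₃ e v₂ t.c23).symm
    have e2 : tw v₃ e * v₁ = v₁ * tw v₃ e := (rhocomm_tw_comm v₃ e v₁ t.c13).symm
    have e3 : tw v₂ e * v₁ = v₁ * tw v₂ e := (rhocomm_tw_comm v₂ e v₁ t.c12).symm
    rw [rhocomm_tw_mul v₂ e (tw v₃ e) e1, rhocomm_tw_mul v₁ (e * tw v₃ e) (tw v₂ e) e3,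
      rhocomm_tw_mul v₁ e (tw v₃ e) e2]

end Cfsg.Agent.Helper8.GR
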