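import Mathlib
import Cfsg.Agent.Lib.Helper8.GRDefs
import Cfsg.Agent.Lib.Helper8.GRALPHA8
import Cfsg.Agent.Lib.Helper21.GRTRIP4

set_option autoImplicit false
set_option linter.unusedVariables false

namespace Cfsg.Agent.Helper8.GR

open Cfsg.Agent.Helper8.XS

theorem h8c_conj_comm {Q : Type*} [Group Q] {g y : Q} (hg : g * y = y * g) : g * y * g⁻¹ = y := by
  rw [hg, mul_assoc, mul_inv_cancel, mul_one]

theorem h8c_conj_anti {Q : Type*} [Group Q] {z : Q} (h : XQ z) {g y : Q} (hg : g * y ≠ y * g) :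
    g * y * g⁻¹ = z * y := by
  have := (h.hcomm g y).resolve_left hg
  rw [this]
  simp only [mul_assoc, mul_inv_cancel, mul_one]

theorem h8c_conj_mul {Q : Type*} [Group Q] (a b y : Q) :
    (a * b) * y * (a * b)⁻¹ = a * (b * y * b⁻¹) * a⁻¹ := by
  group

theorem h8c_conj_z {Q : Type*} [Group Q] {z : Q} (h : XQ z) (a y : Q) :
    a * (z * y) * a⁻¹ = z * (a * y * a⁻¹) := by
  rw [← mul_assoc, h.hcen a, mul_assoc, mul_assoc, mul_assoc]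

/-- anticommuting with `a`, `b` and `a*b*c` (pairwise commuting `a b c`) forces anticommuting with `c` -/
theorem h8c_anti3 {Q : Type*} [Group Q] {z : Q} (h : XQ z) {e a b c : Q}
    (ha : e * a ≠ a * e) (hb : e * b ≠ b * e) (hc : e * c = c * e) : e * (a * b * c) = (a * b * c) * e := by
  have ea := (h.hcomm e a).resolve_left ha
  have eb := (h.hcomm e b).resolve_left hb
  calc e * (a * b * c) = (e * a) * b * c := by simp only [mul_assoc]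
    _ = z * (a * e) * b * c := by rw [ea]
    _ = z * a * (e * b) * c := by simp only [mul_assoc]
    _ = z * a * (z * (b * e)) * c := by rw [eb]
    _ = z * (a * z) * b * (e * c) := by simp only [mul_assoc]
    _ = z * (z * a) * b * (c * e) := by rw [h.hcen a, hc]
    _ = (z * z) * a * b * c * e := by simp only [mul_assoc]
    _ = (a * b * c) * e := by rw [h.hzz, one_mul]

/-- evaluating the commutation of the two lifts at the preimage of `f` -/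
theorem h8c_key {Q : Type*} [Group Q] (α₁ α₂ : MulAut Q) (HC : α₁ * α₂ = α₂ * α₁) (e₁ e₂ f : Q)
    (hc : (MulAut.conj e₁ * α₁) * (MulAut.conj e₂ * α₂) = (MulAut.conj e₂ * α₂) * (MulAut.conj e₁ * α₁)) :
    e₁ * (α₁ e₂ * f * (α₁ e₂)⁻¹) * e₁⁻¹ = e₂ * (α₂ e₁ * f * (α₂ e₁)⁻¹) * e₂⁻¹ := by
  set x₀ : Q := (α₁ * α₂)⁻¹ f with hx₀
  have hx1 : α₁ (α₂ x₀) = f := by
    rw [← MulAut.mul_apply, hx₀, MulAut.apply_inv_self]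
  have hx2 : α₂ (α₁ x₀) = f := by
    rw [← MulAut.mul_apply, ← HC, hx₀, MulAut.apply_inv_self]
  have key := DFunLike.congr_fun hc x₀
  simp only [MulAut.mul_apply, MulAut.conj_apply] at key
  rw [map_mul, map_mul, map_inv, hx1, map_mul α₂, map_mul α₂, map_inv, hx2] at key
  exact key

/-- backup of piece GR-COMMF -/
theorem h8_commf {Q : Type*} [Group Q] {z w₁ w₂ w₃ : Q} (h : XQ z) (t : Trip z w₁ w₂ w₃)
    (ρ₁ ρ₂ ρ₃ ρ₄ : MulAut Q) (h1 : IsRho w₁ ρ₁) (h2 : IsRho w₂ ρ₂) (h3 : IsRho w₃ ρ₃)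
    (h4 : IsRho (w₁ * w₂ * w₃) ρ₄) (e₁ e₂ : Q)
    (a1 : e₁ * w₁ ≠ w₁ * e₁ ∧ e₁ * w₂ ≠ w₂ * e₁ ∧ e₁ * w₃ ≠ w₃ * e₁)
    (a2 : e₂ * w₁ ≠ w₁ * e₂ ∧ e₂ * w₂ ≠ w₂ * e₂ ∧ e₂ * (w₁ * w₂ * w₃) ≠ (w₁ * w₂ * w₃) * e₂)
    (hc : (MulAut.conj e₁ * (ρ₁ * ρ₂ * ρ₃)) * (MulAut.conj e₂ * (ρ₁ * ρ₂ * ρ₄)) =
      (MulAut.conj e₂ * (ρ₁ * ρ₂ * ρ₄)) * (MulAut.conj e₁ * (ρ₁ * ρ₂ * ρ₃))) : False := by
  have t4 := trip4 h t
  have A1 := (h8_alpha h t ρ₁ ρ₂ ρ₃ h1 h2 h3).2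
  have A2 := (h8_alpha h t4 ρ₁ ρ₂ ρ₄ h1 h2 h4).2
  -- commutation of the two products
  have w34 : w₃ * (w₁ * w₂ * w₃) = (w₁ * w₂ * w₃) * w₃ := by
    rw [mul_assoc w₁ w₂ w₃, ← mul_assoc w₃ w₁, ← t.c13, mul_assoc w₁ w₃, ← mul_assoc w₃ w₂,
      ← t.c23, mul_assoc]
    simp only [mul_assoc]
  have C12 : Commute ρ₁ ρ₂ := rhocomm h w₁ w₂ t.s1 t.s2 t.c12 ρ₁ ρ₂ h1 h2
  have C13 : Commute ρ₁ ρ₃ := rhocomm h w₁ w₃ t.s1 t.s3 t.c13 ρ₁ ρ₃ h1 h3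
  have C14 : Commute ρ₁ ρ₄ := rhocomm h w₁ _ t.s1 t4.s3 t4.c13 ρ₁ ρ₄ h1 h4
  have C23 : Commute ρ₂ ρ₃ := rhocomm h w₂ w₃ t.s2 t.s3 t.c23 ρ₂ ρ₃ h2 h3
  have C24 : Commute ρ₂ ρ₄ := rhocomm h w₂ _ t.s2 t4.s3 t4.c23 ρ₂ ρ₄ h2 h4
  have C34 : Commute ρ₃ ρ₄ := rhocomm h w₃ _ t.s3 t4.s3 w34 ρ₃ ρ₄ h3 h4
  have H1 : Commute ρ₁ (ρ₁ * ρ₂ * ρ₄) := ((Commute.refl ρ₁).mul_right C12).mul_right C14
  have H2 : Commute ρ₂ (ρ₁ * ρ₂ * ρ₄) := (C12.symm.mul_right (Commute.refl ρ₂)).mul_right C24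
  have H3 : Commute ρ₃ (ρ₁ * ρ₂ * ρ₄) := (C13.symm.mul_right C23.symm).mul_right C34
  have HC : (ρ₁ * ρ₂ * ρ₃) * (ρ₁ * ρ₂ * ρ₄) = (ρ₁ * ρ₂ * ρ₄) * (ρ₁ * ρ₂ * ρ₃) :=
    ((H1.mul_left H2).mul_left H3).eq
  -- the anticommutation facts
  have e2w3 : e₂ * w₃ ≠ w₃ * e₂ := fun hcm => a2.2.2 (h8c_anti3 h a2.1 a2.2.1 hcm)
  have e1w4 : e₁ * (w₁ * w₂ * w₃) ≠ (w₁ * w₂ * w₃) * e₁ := by
    intro hcm
    have ea := (h.hcomm e₁ w₁).resolve_left a1.1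
    have eb := (h.hcomm e₁ w₂).resolve_left a1.2.1
    have ec := (h.hcomm e₁ w₃).resolve_left a1.2.2
    have : e₁ * (w₁ * w₂ * w₃) = z * ((w₁ * w₂ * w₃) * e₁) := by
      calc e₁ * (w₁ * w₂ * w₃) = (e₁ * w₁) * w₂ * w₃ := by simp only [mul_assoc]
        _ = z * (w₁ * e₁) * w₂ * w₃ := by rw [ea]
        _ = z * w₁ * (e₁ * w₂) * w₃ := by simp only [mul_assoc]
        _ = z * w₁ * (z * (w₂ * e₁)) * w₃ := by rw [eb]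
        _ = z * (w₁ * z) * w₂ * (e₁ * w₃) := by simp only [mul_assoc]
        _ = z * (z * w₁) * w₂ * (z * (w₃ * e₁)) := by rw [h.hcen w₁, ec]
        _ = (z * z) * w₁ * (w₂ * z) * w₃ * e₁ := by simp only [mul_assoc]
        _ = w₁ * (z * w₂) * w₃ * e₁ := by rw [h.hzz, one_mul, h.hcen w₂]
        _ = (w₁ * z) * w₂ * w₃ * e₁ := by simp only [mul_assoc]
        _ = z * ((w₁ * w₂ * w₃) * e₁) := by rw [h.hcen w₁]; simp only [mul_assoc]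
    rw [hcm] at this
    have h5 : (1 : Q) * ((w₁ * w₂ * w₃) * e₁) = z * ((w₁ * w₂ * w₃) * e₁) := by
      rw [one_mul]; exact this
    exact h.hz1 (mul_right_cancel h5).symm
  -- values of the two products at `e₂`, `e₁`
  have v1 : (ρ₁ * ρ₂ * ρ₃) e₂ = e₂ * w₃ * w₂ * w₁ := by
    rw [A1 e₂, tw_anti e2w3, tw_anti a2.2.1, tw_anti a2.1]
  have v2 : (ρ₁ * ρ₂ * ρ₄) e₁ = e₁ * (w₁ * w₂ * w₃) * w₂ * w₁ := by
    rw [A2 e₁, tw_anti e1w4, tw_anti a1.2.1, tw_anti a1.1]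
  obtain ⟨f, f1, f2, f3⟩ := t.i1
  have key := h8c_key _ _ HC e₁ e₂ f hc
  rw [v1, v2] at key
  -- key : e₁ * (P' * f * P'⁻¹) * e₁⁻¹ = e₂ * (R' * f * R'⁻¹) * e₂⁻¹
  have wf1 : w₁ * f ≠ f * w₁ := fun hh => f1 hh.symm
  have c1 : w₁ * f * w₁⁻¹ = z * f := h8c_conj_anti h wf1
  have c2 : w₂ * f * w₂⁻¹ = f := h8c_conj_comm f2.symm
  have c3 : w₃ * f * w₃⁻¹ = f := h8c_conj_comm f3.symm
  have c2z : w₂ * (z * f) * w₂⁻¹ = z * f := by rw [h8c_conj_z h, c2]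
  have c3z : w₃ * (z * f) * w₃⁻¹ = z * f := by rw [h8c_conj_z h, c3]
  have c4 : (w₁ * w₂ * w₃) * (z * f) * (w₁ * w₂ * w₃)⁻¹ = f := by
    rw [h8c_conj_mul, c3z, h8c_conj_mul, c2z, h8c_conj_z h, c1, ← mul_assoc, h.hzz, one_mul]
  have L : e₁ * (e₂ * w₃ * w₂ * w₁ * f * (e₂ * w₃ * w₂ * w₁)⁻¹) * e₁⁻¹ =
      z * ((e₁ * e₂) * f * (e₁ * e₂)⁻¹) := by
    rw [h8c_conj_mul (e₂ * w₃ * w₂) w₁, c1, h8c_conj_mul (e₂ * w₃) w₂, c2z, h8c_conj_mul e₂ w₃, c3z,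
      ← h8c_conj_mul, h8c_conj_z h]
  have R : e₂ * (e₁ * (w₁ * w₂ * w₃) * w₂ * w₁ * f * (e₁ * (w₁ * w₂ * w₃) * w₂ * w₁)⁻¹) * e₂⁻¹ =
      (e₂ * e₁) * f * (e₂ * e₁)⁻¹ := by
    rw [h8c_conj_mul (e₁ * (w₁ * w₂ * w₃) * w₂) w₁, c1, h8c_conj_mul (e₁ * (w₁ * w₂ * w₃)) w₂, c2z,
      h8c_conj_mul e₁ (w₁ * w₂ * w₃), c4, ← h8c_conj_mul]
  rw [L, R] at key
  have K : (e₁ * e₂) * f * (e₁ * e₂)⁻¹ = (e₂ * e₁) * f * (e₂ * e₁)⁻¹ := by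
    rcases h.hcomm e₁ e₂ with hk | hk
    · rw [hk]
    · rw [hk, h8c_conj_mul z (e₂ * e₁)]
      have : z * ((e₂ * e₁) * f * (e₂ * e₁)⁻¹) = ((e₂ * e₁) * f * (e₂ * e₁)⁻¹) * z :=
        (h.hcen _).symm
      rw [this, mul_assoc, mul_inv_cancel, mul_one]
  rw [K] at key
  have h5 : z * ((e₂ * e₁) * f * (e₂ * e₁)⁻¹) = 1 * ((e₂ * e₁) * f * (e₂ * e₁)⁻¹) := by
    rw [one_mul]; exact key
  exact h.hz1 (mul_right_cancel h5)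

end Cfsg.Agent.Helper8.GR
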