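import Mathlib
import Cfsg.Agent.Lib.Helper8.GRDefs

set_option autoImplicit false

namespace Cfsg.Agent.Helper8.GR

open Cfsg.Agent.Helper8.XS

/-- backup of piece GR-NONAB -/
theorem h8_nonab {Q : Type*} [Group Q] [Finite Q] {z : Q} (C : Subgroup Q) (h : XSp C z)
    (hc : 8 ≤ Nat.card C) : ∃ a ∈ C, ∃ b ∈ C, a * b ≠ b * a := by
  classical
  by_contra hcon
  push Not at hcon
  have hall : ∀ w ∈ C, w = 1 ∨ w = z := fun w hw =>
    h.hcenter w hw (fun x hx => hcon w hw x hx)
  have hsub : (C : Set Q) ⊆ ({1, z} : Finset Q) := by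
    intro w hw
    rcases hall w hw with h1 | h1 <;> simp [h1]
  have h1 : Nat.card C ≤ ({1, z} : Finset Q).card := by
    have := Nat.card_mono (Finset.finite_toSet ({1, z} : Finset Q)) hsub
    simpa using this
  have h2 : ({1, z} : Finset Q).card ≤ 2 := Finset.card_le_two
  omega

end Cfsg.Agent.Helper8.GR
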