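import Mathlib
import Cfsg.Agent.Lib.Helper8.GRDefs
import Cfsg.Agent.Lib.Helper8.GRNONAB8
import Cfsg.Agent.Lib.Helper8.GRCOMMF8
import Cfsg.Agent.Lib.Helper1.GRCENTXS
import Cfsg.Agent.Lib.Helper25.GRCENTCARD
import Cfsg.Agent.Lib.Helper19.GRORD4
import Cfsg.Agent.Lib.Helper4.GRWWWCore
import Cfsg.Agent.Lib.Helper21.GRTRIP4
import Cfsg.Agent.Lib.Helper15.GRRHO
import Cfsg.Agent.Lib.Helper18.GRALPHA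
import Cfsg.Agent.Lib.Helper22.GRRHOCOMM
import Cfsg.Agent.Lib.Helper22.GRCOMPL
import Cfsg.Agent.Lib.Helper7.GRSQ
import Cfsg.Agent.Lib.Helper5.GRTOP

/-!
Assembly for S3085: `Inn Q` has no complement in `Aut Q` for `Q` extraspecial of order at least `2^7`.
Pieces by helper1, helper4, helper5, helper7, helper15, helper18, helper19, helper21, helper22, helper25.
-/

set_option autoImplicit false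
set_option linter.unusedVariables false

namespace Cfsg.Agent.Helper8.GR

open Cfsg.Agent.Helper8.XS

/-- an independent triple exists (assembly of NONAB, CENTXS, CENTCARD, ORD4 through helper4's core) -/
theorem h8_www {Q : Type*} [Group Q] [Finite Q] {z : Q} (h : XQ z) (hcard : 128 ≤ Nat.card Q) :
    ∃ w₁ w₂ w₃ : Q, Trip z w₁ w₂ w₃ :=
  www_core h hcard (fun C hC hc => h8_nonab C hC hc)
    (fun C hC a b ha hb hab => centxs C hC a b ha hb hab)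
    (fun C hC a b ha hb hab => centcard C hC a b ha hb hab)
    (fun a b hab => ord4 h a b hab)

/-- the involutive-lift lemma (helper7's core with helper18's `alpha`) -/
theorem h8_sq {Q : Type*} [Group Q] {z v₁ v₂ v₃ : Q} (h : XQ z) (t : Trip z v₁ v₂ v₃)
    (ρ₁ ρ₂ ρ₃ : MulAut Q) (h1 : IsRho v₁ ρ₁) (h2 : IsRho v₂ ρ₂) (h3 : IsRho v₃ ρ₃) (e : Q)
    (he : (MulAut.conj e * (ρ₁ * ρ₂ * ρ₃)) * (MulAut.conj e * (ρ₁ * ρ₂ * ρ₃)) = 1) :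
    e * v₁ ≠ v₁ * e ∧ e * v₂ ≠ v₂ * e ∧ e * v₃ ≠ v₃ * e :=
  sq_core h t (ρ₁ * ρ₂ * ρ₃) (alpha h t ρ₁ ρ₂ ρ₃ h1 h2 h3).1 (alpha h t ρ₁ ρ₂ ρ₃ h1 h2 h3).2 e he

/-- the main theorem for `XQ` data -/
theorem h8_main {Q : Type*} [Group Q] [Finite Q] {z : Q} (h : XQ z) (hcard : 128 ≤ Nat.card Q)
    (L : Subgroup (MulAut Q)) : ¬ (Cfsg.Inn Q).IsComplement' L := by
  intro hL
  obtain ⟨w₁, w₂, w₃, t⟩ := h8_www h hcard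
  have t4 := trip4 h t
  obtain ⟨ρ₁, h1⟩ := rho h w₁ t.s1
  obtain ⟨ρ₂, h2⟩ := rho h w₂ t.s2
  obtain ⟨ρ₃, h3⟩ := rho h w₃ t.s3
  obtain ⟨ρ₄, h4⟩ := rho h (w₁ * w₂ * w₃) t4.s3
  have A1 := alpha h t ρ₁ ρ₂ ρ₃ h1 h2 h3
  have A2 := alpha h t4 ρ₁ ρ₂ ρ₄ h1 h2 h4
  have hin1 : (ρ₁ * ρ₂ * ρ₃) * (ρ₁ * ρ₂ * ρ₃) ∈ Cfsg.Inn Q := by
    rw [A1.1]; exact ⟨_, rfl⟩
  have hin2 : (ρ₁ * ρ₂ * ρ₄) * (ρ₁ * ρ₂ * ρ₄) ∈ Cfsg.Inn Q := by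
    rw [A2.1]; exact ⟨_, rfl⟩
  have w34 : w₃ * (w₁ * w₂ * w₃) = (w₁ * w₂ * w₃) * w₃ := by
    rw [mul_assoc w₁ w₂ w₃, ← mul_assoc w₃ w₁, ← t.c13, mul_assoc w₁ w₃, ← mul_assoc w₃ w₂,
      ← t.c23, mul_assoc]
    simp only [mul_assoc]
  have C12 : Commute ρ₁ ρ₂ := rhocomm h w₁ w₂ t.s1 t.s2 t.c12 ρ₁ ρ₂ h1 h2
  have C13 : Commute ρ₁ ρ₃ := rhocomm h w₁ w₃ t.s1 t.s3 t.c13 ρ₁ ρ₃ h1 h3
  have C14 : Commute ρ₁ ρ₄ := rhocomm h w₁ _ t.s1 t4.s3 t4.c13 ρ₁ ρ₄ h1 h4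
  have C23 : Commute ρ₂ ρ₃ := rhocomm h w₂ w₃ t.s2 t.s3 t.c23 ρ₂ ρ₃ h2 h3
  have C24 : Commute ρ₂ ρ₄ := rhocomm h w₂ _ t.s2 t4.s3 t4.c23 ρ₂ ρ₄ h2 h4
  have C34 : Commute ρ₃ ρ₄ := rhocomm h w₃ _ t.s3 t4.s3 w34 ρ₃ ρ₄ h3 h4
  have H1 : Commute ρ₁ (ρ₁ * ρ₂ * ρ₄) := ((Commute.refl ρ₁).mul_right C12).mul_right C14
  have H2 : Commute ρ₂ (ρ₁ * ρ₂ * ρ₄) := (C12.symm.mul_right (Commute.refl ρ₂)).mul_right C24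
  have H3 : Commute ρ₃ (ρ₁ * ρ₂ * ρ₄) := (C13.symm.mul_right C23.symm).mul_right C34
  have HC : Commute (ρ₁ * ρ₂ * ρ₃) (ρ₁ * ρ₂ * ρ₄) := (H1.mul_left H2).mul_left H3
  obtain ⟨n₁, ⟨e₁, rfl⟩, n₂, ⟨e₂, rfl⟩, q1, q2, q12⟩ :=
    compl (Cfsg.Inn Q) L hL (ρ₁ * ρ₂ * ρ₃) (ρ₁ * ρ₂ * ρ₄) hin1 hin2 HC
  have a1 := h8_sq h t ρ₁ ρ₂ ρ₃ h1 h2 h3 e₁ q1
  have a2 := h8_sq h t4 ρ₁ ρ₂ ρ₄ h1 h2 h4 e₂ q2
  exact h8_commf h t ρ₁ ρ₂ ρ₃ ρ₄ h1 h2 h3 h4 e₁ e₂ a1 a2 q12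

/-- The statement of S3085 (the hypothesis `hplus` is not needed). -/
theorem h8_final {Q : Type*} [Group Q] [Finite Q] (n : ℕ) (hn : 3 ≤ n)
    (hQ : Cfsg.IsExtraspecial 2 Q) (hcard : Nat.card Q = 2 ^ (2 * n + 1))
    (L : Subgroup (MulAut Q)) : ¬ (Cfsg.Inn Q).IsComplement' L := by
  obtain ⟨z, h⟩ := top hQ
  refine h8_main h ?_ L
  rw [hcard]
  calc 128 = 2 ^ 7 := by norm_num
    _ ≤ 2 ^ (2 * n + 1) := Nat.pow_le_pow_right (by norm_num) (by omega)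

end Cfsg.Agent.Helper8.GR
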