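import Mathlib
import Cfsg.Agent.Lib.Helper8.HallSnDefs
import Cfsg.Agent.Lib.Helper8.HallAnDefs
import Cfsg.Agent.S0144
import Cfsg.Agent.Lib.Helper7.HABurnAux
/-!
# HA-BURN: no transitive Hall {2,q}-subgroup of Alt in prime degree q ≥ 5 (helper8 plan `plans/HallSn_plan.md`, Theorem R)

Proof by helper7; the abstract part is in `Cfsg/Agent/Lib/Helper7/HABurnAux.lean`.
-/

set_option autoImplicit false
set_option linter.style.haveILetI false

namespace Cfsg.Agent.Helper8.HS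

open Equiv Cfsg

universe u

variable {Ω : Type u} [Fintype Ω] [DecidableEq Ω]

/-- There is no transitive Hall `π`-subgroup `M` of `Alt(Ω)` in prime degree `q ≥ 5` when `2 ∈ π` and
`2` is the only prime of `π` below `q`.  Proof: `|M| = 2^a q^b`, so `M` is solvable
(`Cfsg.Agent.S0144.result`); the last nontrivial term `A` of the derived series is abelian and normal,
hence transitive (prime degree), so `q ∣ |A|`; the Sylow `q`-subgroup `Q` of `A` (order `q`) is normal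
in `M` and regular; `M_α` acts faithfully on `Q` by conjugation, so it embeds in `Aut(C_q)`, which is
cyclic; but `M_α` is a Sylow 2-subgroup of `M`, hence of `Alt(Ω)` (`|M| = q |M_α|`, `q` odd), and it
contains a conjugate of the Klein four-group on 4 of the points.  (helper22's
`Lib/Helper22/PrimeDegree.lean` and `SharpSylow.lean` have facts on prime degree groups.) -/
theorem no_trans_altHall_two_q {π : Set ℕ} {M : Subgroup (Perm Ω)} (hM : IsAltHall π M)
    (htr : MulAction.IsPretransitive (↥M) Ω) (hq : (Fintype.card Ω).Prime)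
    (h5 : 5 ≤ Fintype.card Ω) (h2 : 2 ∈ π)
    (hπ : ∀ p : ℕ, p.Prime → p ∈ π → p < Fintype.card Ω → p = 2) : False := by
  obtain ⟨hMA, hMπ, hMidx⟩ := hM
  haveI : Fact (Fintype.card Ω).Prime := ⟨hq⟩
  haveI := htr
  -- the order of `M` is `2 ^ a * q`
  obtain ⟨m, hm, hqm⟩ := Cfsg.Agent.Helper22.PrimeDeg.exists_card_eq (H := ↥M) (α := Ω)
    (p := Fintype.card Ω) (Nat.card_eq_fintype_card)
  have hmpos : m ≠ 0 := by
    rintro rfl
    rw [mul_zero] at hm
    exact Nat.card_pos.ne' hm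
  have hdvdfact : Nat.card M ∣ (Fintype.card Ω).factorial := by
    have := Cfsg.Agent.Helper22.PrimeDeg.card_dvd_factorial (H := ↥M) (α := Ω)
    rwa [Nat.card_eq_fintype_card (α := Ω)] at this
  have hm2 : ∀ {d : ℕ}, d.Prime → d ∣ m → d = 2 := by
    intro d hd hdm
    have hdM : d ∣ Nat.card M := by rw [hm]; exact Dvd.dvd.mul_left hdm _
    have hdπ := hMπ d hd hdM
    have hdle : d ≤ Fintype.card Ω := (hd.dvd_factorial).mp (hdM.trans hdvdfact)
    have hdne : d ≠ Fintype.card Ω := by rintro rfl; exact hqm hdm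
    exact hπ d hd hdπ (lt_of_le_of_ne hdle hdne)
  have hmpow := Nat.eq_prime_pow_of_unique_prime_dvd hmpos hm2
  haveI : Group.IsSolvable ↥M :=
    Cfsg.Agent.S0144.result 2 (Fintype.card Ω) (m.primeFactorsList.length) 1 Nat.prime_two hq
      (by rw [hm, pow_one, mul_comm, ← hmpow])
  -- a Klein four-group in `Alt(Ω)`
  obtain ⟨ι⟩ : Nonempty (Fin 4 ↪ Ω) :=
    Function.Embedding.nonempty_of_card_le (by rw [Fintype.card_fin]; omega)
  have hsign : ∀ e : Perm (Fin 4), Perm.sign (Perm.viaEmbeddingHom ι e) = Perm.sign e := by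
    intro e
    rw [Perm.viaEmbeddingHom_apply]
    exact @Perm.sign_extendDomain (Fin 4) _ Ω _ _ _ e _ (fun a => Classical.propDecidable _)
      (Equiv.ofInjective ι.1 ι.2)
  have hinj := Perm.viaEmbeddingHom_injective ι
  obtain ⟨σ, hσdef⟩ : ∃ σ : Perm (Fin 4), σ = swap 0 1 * swap 2 3 := ⟨_, rfl⟩
  obtain ⟨τ, hτdef⟩ : ∃ τ : Perm (Fin 4), τ = swap 0 2 * swap 1 3 := ⟨_, rfl⟩
  have hσ2 : σ * σ = 1 := by rw [hσdef]; decide
  have hτ2 : τ * τ = 1 := by rw [hτdef]; decide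
  have hστ : σ * τ = τ * σ := by rw [hσdef, hτdef]; decide
  have hσ1 : σ ≠ 1 := by rw [hσdef]; decide
  have hτ1 : τ ≠ 1 := by rw [hτdef]; decide
  have hσneτ : σ ≠ τ := by rw [hσdef, hτdef]; decide
  have hσs : Perm.sign σ = 1 := by rw [hσdef]; decide
  have hτs : Perm.sign τ = 1 := by rw [hτdef]; decide
  have hsA : Perm.viaEmbeddingHom ι σ ∈ alternatingGroup Ω := by
    rw [Perm.mem_alternatingGroup, hsign, hσs]
  have htA : Perm.viaEmbeddingHom ι τ ∈ alternatingGroup Ω := by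
    rw [Perm.mem_alternatingGroup, hsign, hτs]
  obtain ⟨s₀, hs₀⟩ : ∃ s₀ : alternatingGroup Ω, s₀ = ⟨Perm.viaEmbeddingHom ι σ, hsA⟩ := ⟨_, rfl⟩
  obtain ⟨t₀, ht₀⟩ : ∃ t₀ : alternatingGroup Ω, t₀ = ⟨Perm.viaEmbeddingHom ι τ, htA⟩ := ⟨_, rfl⟩
  have hs₀2 : s₀ * s₀ = 1 := by
    rw [hs₀]; apply Subtype.ext
    show Perm.viaEmbeddingHom ι σ * Perm.viaEmbeddingHom ι σ = 1
    rw [← map_mul, hσ2, map_one]
  have ht₀2 : t₀ * t₀ = 1 := by
    rw [ht₀]; apply Subtype.ext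
    show Perm.viaEmbeddingHom ι τ * Perm.viaEmbeddingHom ι τ = 1
    rw [← map_mul, hτ2, map_one]
  have hs₀t₀ : s₀ * t₀ = t₀ * s₀ := by
    rw [hs₀, ht₀]; apply Subtype.ext
    show Perm.viaEmbeddingHom ι σ * Perm.viaEmbeddingHom ι τ =
      Perm.viaEmbeddingHom ι τ * Perm.viaEmbeddingHom ι σ
    rw [← map_mul, ← map_mul, hστ]
  have hs₀1 : s₀ ≠ 1 := by
    rw [hs₀]; intro e
    have := congrArg Subtype.val e
    exact hσ1 (hinj (by rw [map_one]; exact this))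
  have ht₀1 : t₀ ≠ 1 := by
    rw [ht₀]; intro e
    have := congrArg Subtype.val e
    exact hτ1 (hinj (by rw [map_one]; exact this))
  have hs₀net₀ : s₀ ≠ t₀ := by
    rw [hs₀, ht₀]; intro e
    have := congrArg Subtype.val e
    exact hσneτ (hinj this)
  -- conjugate it into `M` (fixed point of the 2-group on the cosets of `M`, odd in number)
  have hV := Cfsg.Agent.Helper7.HABurn.isPGroup_closure_pair hs₀2 ht₀2 hs₀t₀
  have hidx : ¬ 2 ∣ Nat.card ((alternatingGroup Ω) ⧸ M.subgroupOf (alternatingGroup Ω)) := by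
    rw [← Subgroup.index_eq_card]
    exact hMidx 2 Nat.prime_two h2
  haveI : Fact (Nat.Prime 2) := ⟨Nat.prime_two⟩
  obtain ⟨x, hx⟩ := hV.nonempty_fixed_point_of_prime_not_dvd_card
    ((alternatingGroup Ω) ⧸ M.subgroupOf (alternatingGroup Ω)) hidx
  obtain ⟨g, rfl⟩ := QuotientGroup.mk_surjective x
  have key : ∀ v ∈ Subgroup.closure ({s₀, t₀} : Set (alternatingGroup Ω)),
      ((g⁻¹ * v * g : alternatingGroup Ω) : Perm Ω) ∈ M := by
    intro v hv
    have h0 := hx ⟨v, hv⟩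
    have h1' : (((v * g : alternatingGroup Ω)) :
        (alternatingGroup Ω) ⧸ M.subgroupOf (alternatingGroup Ω)) = g := h0
    rw [QuotientGroup.eq, Subgroup.mem_subgroupOf] at h1'
    have h1 := h1'
    have h2 := M.inv_mem h1
    have e : (((v * g)⁻¹ * g : alternatingGroup Ω) : Perm Ω)⁻¹ =
        ((g⁻¹ * v * g : alternatingGroup Ω) : Perm Ω) := by
      have e0 : ((v * g)⁻¹ * g : alternatingGroup Ω)⁻¹ = g⁻¹ * v * g := by group
      rw [← Subgroup.coe_inv, e0]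
    rwa [e] at h2
  have hsM := key s₀ (Subgroup.subset_closure (by simp))
  have htM := key t₀ (Subgroup.subset_closure (by simp))
  -- the contradiction
  refine Cfsg.Agent.Helper7.HABurn.core_false (H := ↥M) (Ω := Ω) (q := Fintype.card Ω) rfl
    (by omega) (s := ⟨_, hsM⟩) (t := ⟨_, htM⟩) ?_ ?_ ?_ ?_ ?_ ?_
  · apply Subtype.ext
    show ((g⁻¹ * s₀ * g : alternatingGroup Ω) : Perm Ω) * ((g⁻¹ * s₀ * g : alternatingGroup Ω) : Perm Ω) = 1
    rw [← Subgroup.coe_mul]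
    have : g⁻¹ * s₀ * g * (g⁻¹ * s₀ * g) = g⁻¹ * (s₀ * s₀) * g := by group
    rw [this, hs₀2, mul_one, inv_mul_cancel]; rfl
  · apply Subtype.ext
    show ((g⁻¹ * t₀ * g : alternatingGroup Ω) : Perm Ω) * ((g⁻¹ * t₀ * g : alternatingGroup Ω) : Perm Ω) = 1
    rw [← Subgroup.coe_mul]
    have : g⁻¹ * t₀ * g * (g⁻¹ * t₀ * g) = g⁻¹ * (t₀ * t₀) * g := by group
    rw [this, ht₀2, mul_one, inv_mul_cancel]; rfl
  · apply Subtype.ext
    show ((g⁻¹ * s₀ * g : alternatingGroup Ω) : Perm Ω) * ((g⁻¹ * t₀ * g : alternatingGroup Ω) : Perm Ω) =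
      ((g⁻¹ * t₀ * g : alternatingGroup Ω) : Perm Ω) * ((g⁻¹ * s₀ * g : alternatingGroup Ω) : Perm Ω)
    rw [← Subgroup.coe_mul, ← Subgroup.coe_mul]
    congr 1
    have e1 : g⁻¹ * s₀ * g * (g⁻¹ * t₀ * g) = g⁻¹ * (s₀ * t₀) * g := by group
    have e2 : g⁻¹ * t₀ * g * (g⁻¹ * s₀ * g) = g⁻¹ * (t₀ * s₀) * g := by group
    rw [e1, e2, hs₀t₀]
  · intro e
    have e' : ((g⁻¹ * s₀ * g : alternatingGroup Ω) : Perm Ω) = 1 :=
      congrArg (fun z : ↥M => (z : Perm Ω)) e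
    apply hs₀1
    have e'' : g⁻¹ * s₀ * g = 1 := Subtype.ext e'
    have : s₀ = g * (g⁻¹ * s₀ * g) * g⁻¹ := by group
    rw [this, e'', mul_one, mul_inv_cancel]
  · intro e
    have e' : ((g⁻¹ * t₀ * g : alternatingGroup Ω) : Perm Ω) = 1 :=
      congrArg (fun z : ↥M => (z : Perm Ω)) e
    apply ht₀1
    have e'' : g⁻¹ * t₀ * g = 1 := Subtype.ext e'
    have : t₀ = g * (g⁻¹ * t₀ * g) * g⁻¹ := by group
    rw [this, e'', mul_one, mul_inv_cancel]
  · intro e
    have e' : ((g⁻¹ * s₀ * g : alternatingGroup Ω) : Perm Ω) =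
        ((g⁻¹ * t₀ * g : alternatingGroup Ω) : Perm Ω) := congrArg (fun z : ↥M => (z : Perm Ω)) e
    apply hs₀net₀
    have e'' : g⁻¹ * s₀ * g = g⁻¹ * t₀ * g := Subtype.ext e'
    have h1 : s₀ = g * (g⁻¹ * s₀ * g) * g⁻¹ := by group
    have h2 : t₀ = g * (g⁻¹ * t₀ * g) * g⁻¹ := by group
    rw [h1, h2, e'']

end Cfsg.Agent.Helper8.HS
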