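import Mathlib
import Cfsg.Agent.Lib.Helper8.HallSnDefs
import Cfsg.Agent.Lib.Helper8.HallAnDefs

/-!
# HA-EXT: a π-overgroup with an odd element is Hall in Sym (helper8 plan `plans/HallSn_plan.md`, Theorem R)
-/

set_option autoImplicit false
set_option linter.style.haveILetI false

namespace Cfsg.Agent.Helper8.HS

open Equiv Cfsg

universe u

variable {Ω : Type u} [Fintype Ω] [DecidableEq Ω]

/-- If a Hall `π`-subgroup `M` of `Alt(Ω)` lies in a `π`-subgroup `M₀` of `Sym(Ω)` that is not inside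
`Alt(Ω)`, then `M₀` is a Hall `π`-subgroup of `Sym(Ω)` and `M = M₀ ∩ Alt(Ω)`:
`M ≤ M₀ ∩ Alt`, the index `[M₀ ∩ Alt : M]` is a `π`-number dividing the `π'`-number `[Alt : M]`, so it
is 1; `[M₀ : M₀ ∩ Alt] = 2 = [Sym : Alt]` gives `[Sym : M₀] = [Alt : M]`. -/
theorem hall_of_altExt {π : Set ℕ} {M M₀ : Subgroup (Perm Ω)} (hM : IsAltHall π M) (hle : M ≤ M₀)
    (hπ : ∀ p : ℕ, p.Prime → p ∣ Nat.card M₀ → p ∈ π) (hodd : ¬ M₀ ≤ alternatingGroup Ω) :
    IsPiHall π M₀ ∧ M₀ ⊓ alternatingGroup Ω = M := by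
  obtain ⟨hMA, hMπ, hMidx⟩ := hM
  -- `Ω` is nontrivial
  haveI : Nontrivial Ω := by
    by_contra hnt
    rw [not_nontrivial_iff_subsingleton] at hnt
    apply hodd
    intro σ _
    have : σ = 1 := Subsingleton.elim _ _
    rw [this]
    exact one_mem _
  have hA2 : (alternatingGroup Ω).index = 2 := alternatingGroup.index_eq_two
  -- `M₀ ⊓ Alt = M`
  have hMN : M ≤ M₀ ⊓ alternatingGroup Ω := le_inf hle hMA
  have hNA : M₀ ⊓ alternatingGroup Ω ≤ alternatingGroup Ω := inf_le_right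
  have hmul := Subgroup.relIndex_mul_relIndex M (M₀ ⊓ alternatingGroup Ω) (alternatingGroup Ω) hMN hNA
  have h1 : M.relIndex (M₀ ⊓ alternatingGroup Ω) = 1 := by
    rw [Nat.eq_one_iff_not_exists_prime_dvd]
    intro p hp hdvd
    have hpπ : p ∈ π := by
      apply hπ p hp
      exact (hdvd.trans (Subgroup.relIndex_dvd_card _ _)).trans
        (Subgroup.card_dvd_of_le inf_le_left)
    apply hMidx p hp hpπ
    rw [← hmul]
    exact Dvd.dvd.mul_right hdvd _
  have hNM : M₀ ⊓ alternatingGroup Ω ≤ M := Subgroup.relIndex_eq_one.mp h1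
  have hN : M₀ ⊓ alternatingGroup Ω = M := le_antisymm hNM hMN
  refine ⟨⟨hπ, ?_⟩, hN⟩
  -- `[M₀ : M] = 2`
  have h2 : M.relIndex M₀ = 2 := by
    rw [← hN, Subgroup.inf_relIndex_left]
    have hd : (alternatingGroup Ω).relIndex M₀ ∣ 2 := by
      rw [← hA2]
      exact Subgroup.relIndex_dvd_index_of_normal _ _
    rcases (Nat.dvd_prime Nat.prime_two).mp hd with h | h
    · exact absurd (Subgroup.relIndex_eq_one.mp h) hodd
    · exact h
  have e1 : M.relIndex (alternatingGroup Ω) * 2 = M.index := by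
    rw [← hA2]
    exact Subgroup.relIndex_mul_index hMA
  have e2 : 2 * M₀.index = M.index := by
    rw [← h2]
    exact Subgroup.relIndex_mul_index hle
  have e3 : M₀.index = M.relIndex (alternatingGroup Ω) := by omega
  intro p hp hpπ
  rw [e3]
  exact hMidx p hp hpπ

end Cfsg.Agent.Helper8.HS
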