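import Mathlib
import Cfsg.Agent.Lib.Helper8.HallSnDefs
import Cfsg.Agent.Lib.Helper8.HallAnDefs

/-!
# HA-FIX: reduction to the complement of a fixed point (helper8 plan `plans/HallSn_plan.md`, Theorem R)
-/

set_option autoImplicit false

namespace Cfsg.Agent.Helper8.HS

open Equiv Cfsg

universe u

variable {Ω : Type u} [Fintype Ω] [DecidableEq Ω]

set_option linter.unusedSectionVars false

/-- a permutation fixing `ω` is the extension of its restriction to `Ω ∖ {ω}` -/
private theorem hafix_restrict (ω : Ω) (σ : Perm Ω) (hσ : σ ω = ω) :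
    ∃ τ : Perm {x // x ≠ ω}, Perm.ofSubtype τ = σ := by
  have h1 : ∀ x, σ x ≠ ω ↔ x ≠ ω := by
    intro x
    constructor
    · intro h e; apply h; rw [e, hσ]
    · intro h e; apply h; rw [← hσ] at e; exact σ.injective e
  refine ⟨σ.subtypePerm h1, Perm.ofSubtype_subtypePerm h1 ?_⟩
  intro x hx e
  apply hx
  rw [e, hσ]

private theorem hafix_map_eq {M : Subgroup (Perm Ω)} (ω : Ω) (hfix : ∀ σ ∈ M, σ ω = ω) :
    (resSub M (fun x => x ≠ ω)).map (Perm.ofSubtype : Perm {x // x ≠ ω} →* Perm Ω) = M := by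
  apply le_antisymm
  · rintro σ ⟨τ, hτ, rfl⟩
    exact hτ
  · intro σ hσ
    obtain ⟨τ, rfl⟩ := hafix_restrict ω σ (hfix σ hσ)
    exact ⟨τ, hσ, rfl⟩

/-- If `M` fixes `ω` then `M`, viewed on `Ω ∖ {ω}`, is a Hall `π`-subgroup of `Alt(Ω ∖ {ω})`
(`sign (ofSubtype τ) = sign τ`; `[Alt(Ω∖ω) : M']` divides `[Alt(Ω) : M]`). -/
theorem isAltHall_resSub_of_fixed {π : Set ℕ} {M : Subgroup (Perm Ω)} (hM : IsAltHall π M) (ω : Ω)
    (hfix : ∀ σ ∈ M, σ ω = ω) : IsAltHall π (resSub M (fun x => x ≠ ω)) := by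
  obtain ⟨h1, h2, h3⟩ := hM
  have hmap := hafix_map_eq ω hfix
  have hinj : Function.Injective (Perm.ofSubtype : Perm {x // x ≠ ω} →* Perm Ω) :=
    Perm.ofSubtype_injective
  refine ⟨?_, ?_, ?_⟩
  · intro τ hτ
    have := h1 hτ
    rw [Perm.mem_alternatingGroup, Perm.sign_ofSubtype] at this
    exact Perm.mem_alternatingGroup.2 this
  · intro p hp hdvd
    apply h2 p hp
    rw [← hmap, Subgroup.card_map_of_injective hinj]
    exact hdvd
  · intro p hp hpπ hdvd
    apply h3 p hp hpπ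
    have hA : (alternatingGroup {x // x ≠ ω}).map (Perm.ofSubtype : Perm {x // x ≠ ω} →* Perm Ω) ≤
        alternatingGroup Ω := by
      rintro σ ⟨τ, hτ, rfl⟩
      rw [Perm.mem_alternatingGroup, Perm.sign_ofSubtype]
      exact Perm.mem_alternatingGroup.1 hτ
    have hMA : M ≤ (alternatingGroup {x // x ≠ ω}).map
        (Perm.ofSubtype : Perm {x // x ≠ ω} →* Perm Ω) := by
      rw [← hmap]
      apply Subgroup.map_mono
      intro τ hτ
      have := h1 hτ
      rw [Perm.mem_alternatingGroup, Perm.sign_ofSubtype] at this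
      exact Perm.mem_alternatingGroup.2 this
    rw [← Subgroup.relIndex_mul_relIndex M _ _ hMA hA]
    apply Dvd.dvd.mul_right
    have := Subgroup.relIndex_map_map_of_injective (resSub M (fun x => x ≠ ω))
      (alternatingGroup {x // x ≠ ω}) hinj
    rw [hmap] at this
    rw [this]
    exact hdvd

/-- If `M` fixes `ω` and `M` on `Ω ∖ {ω}` extends to a `π`-group with an odd element, then so does
`M` (map the overgroup by `Perm.ofSubtype`, which is injective and preserves signs). -/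
theorem altExt_of_resSub {π : Set ℕ} {M : Subgroup (Perm Ω)} (ω : Ω)
    (hfix : ∀ σ ∈ M, σ ω = ω) (h : AltExt π (resSub M (fun x => x ≠ ω))) : AltExt π M := by
  obtain ⟨M₀, h1, h2, h3⟩ := h
  have hinj : Function.Injective (Perm.ofSubtype : Perm {x // x ≠ ω} →* Perm Ω) :=
    Perm.ofSubtype_injective
  refine ⟨M₀.map (Perm.ofSubtype : Perm {x // x ≠ ω} →* Perm Ω), ?_, ?_, ?_⟩
  · rw [← hafix_map_eq ω hfix]
    exact Subgroup.map_mono h1
  · intro p hp hdvd
    rw [Subgroup.card_map_of_injective hinj] at hdvd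
    exact h2 p hp hdvd
  · intro hle
    apply h3
    intro τ hτ
    have : Perm.ofSubtype τ ∈ alternatingGroup Ω := hle ⟨τ, hτ, rfl⟩
    rw [Perm.mem_alternatingGroup, Perm.sign_ofSubtype] at this
    exact Perm.mem_alternatingGroup.2 this

end Cfsg.Agent.Helper8.HS
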