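import Mathlib
import Cfsg.Agent.Lib.Helper8.HallSnDefs
import Cfsg.Agent.Lib.Helper8.HallAnDefs

/-!
# HA-INTRA: adjoining the restrictions to an invariant subset (helper8 plan `plans/HallSn_plan.md`, Theorem R)
-/

set_option autoImplicit false

namespace Cfsg.Agent.Helper8.HS

open Equiv Cfsg

universe u

variable {Ω : Type u} [Fintype Ω] [DecidableEq Ω]

/-- Let `M` be a `π`-subgroup of `Sym(Ω)` inside `Alt(Ω)`, `q` an `M`-invariant subset, and suppose
some `σ₀ ∈ M` restricts to an odd permutation of `q`.  Let `E` be the image of `M` under the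
homomorphism `σ ↦ ofSubtype (σ|q)`; it is a `π`-group normalized by `M`, so `M ⊔ E = M E` is a
`π`-group; it contains `M` and the odd permutation `ofSubtype (σ₀|q)`. -/
theorem altExt_of_odd_restriction {π : Set ℕ} {M : Subgroup (Perm Ω)}
    (hπ : ∀ p : ℕ, p.Prime → p ∣ Nat.card M → p ∈ π) (q : Ω → Prop) [DecidablePred q]
    (hq : ∀ σ ∈ M, ∀ x, q (σ x) ↔ q x) (σ₀ : Perm Ω) (hσ₀ : σ₀ ∈ M)
    (hodd : Perm.sign (σ₀.subtypePerm (hq σ₀ hσ₀)) = -1) : AltExt π M := by
  -- restriction homs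
  let r1 : M →* Perm {x // q x} :=
    { toFun := fun σ => (σ : Perm Ω).subtypePerm (hq σ σ.2)
      map_one' := by ext x; simp
      map_mul' := fun a b => by ext x; rfl }
  let r2 : M →* Perm {x // ¬ q x} :=
    { toFun := fun σ => (σ : Perm Ω).subtypePerm (fun x => not_congr (hq σ σ.2 x))
      map_one' := by ext x; simp
      map_mul' := fun a b => by ext x; rfl }
  let Ψ : M × M →* Perm Ω := (Perm.subtypeCongrHom q).comp (r1.prodMap r2)
  have hΨ : ∀ a b : M, Ψ (a, b) = Perm.subtypeCongr (r1 a) (r2 b) := fun a b => rfl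
  refine ⟨Ψ.range, ?_, ?_, ?_⟩
  · intro σ hσ
    refine ⟨(⟨σ, hσ⟩, ⟨σ, hσ⟩), ?_⟩
    rw [hΨ]
    ext x
    by_cases hx : q x
    · rw [Perm.subtypeCongr.left_apply _ _ hx]
      rfl
    · rw [Perm.subtypeCongr.right_apply _ _ hx]
      rfl
  · intro p hp hdvd
    have h1 : Nat.card Ψ.range ∣ Nat.card (M × M) := Subgroup.card_range_dvd Ψ
    rw [Nat.card_prod] at h1
    have := (Nat.Prime.dvd_mul hp).1 (hdvd.trans h1)
    exact hπ p hp (by tauto)
  · intro hle
    have hmem : Ψ (⟨σ₀, hσ₀⟩, 1) ∈ Ψ.range := ⟨_, rfl⟩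
    have h2 := hle hmem
    rw [Perm.mem_alternatingGroup, hΨ, Perm.sign_subtypeCongr, map_one, map_one, mul_one] at h2
    have h3 : r1 ⟨σ₀, hσ₀⟩ = σ₀.subtypePerm (hq σ₀ hσ₀) := rfl
    rw [h3, hodd] at h2
    exact absurd h2 (by decide)

end Cfsg.Agent.Helper8.HS
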