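import Mathlib
import Cfsg.Agent.Lib.Helper8.HallSnDefs
import Cfsg.Agent.Lib.Helper8.HallAnDefs

/-!
# HA-INTRB: some element has an odd restriction to an invariant subset (helper8 plan `plans/HallSn_plan.md`, Theorem R)
-/

set_option autoImplicit false

namespace Cfsg.Agent.Helper8.HS

open Equiv Cfsg

universe u

variable {Ω : Type u} [Fintype Ω] [DecidableEq Ω]

namespace IntrB

/-- The even permutations preserving `q`. -/
def stabAlt (q : Ω → Prop) : Subgroup (Perm Ω) where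
  carrier := {σ | σ ∈ alternatingGroup Ω ∧ ∀ x, q (σ x) ↔ q x}
  mul_mem' := by
    rintro σ τ ⟨hσ, hσq⟩ ⟨hτ, hτq⟩
    exact ⟨Subgroup.mul_mem _ hσ hτ, fun x => (hσq _).trans (hτq x)⟩
  one_mem' := ⟨Subgroup.one_mem _, fun x => Iff.rfl⟩
  inv_mem' := by
    rintro σ ⟨hσ, hσq⟩
    refine ⟨Subgroup.inv_mem _ hσ, fun x => ?_⟩
    have := hσq (σ⁻¹ x)
    rw [show σ (σ⁻¹ x) = x from σ.apply_symm_apply x] at this
    exact this.symm

/-- The even permutations preserving `q` with even restriction to `q`. -/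
def stabAltEven (q : Ω → Prop) [DecidablePred q] : Subgroup (Perm Ω) where
  carrier := {σ | σ ∈ alternatingGroup Ω ∧
    ∃ h : ∀ x, q (σ x) ↔ q x, Perm.sign (σ.subtypePerm h) = 1}
  mul_mem' := by
    rintro σ τ ⟨hσ, hσq, hσs⟩ ⟨hτ, hτq, hτs⟩
    refine ⟨Subgroup.mul_mem _ hσ hτ, fun x => (hσq _).trans (hτq x), ?_⟩
    rw [← Perm.subtypePerm_mul σ τ hσq hτq, map_mul, hσs, hτs, one_mul]
  one_mem' := ⟨Subgroup.one_mem _, fun x => Iff.rfl, by
    rw [Perm.subtypePerm_one]; exact map_one _⟩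
  inv_mem' := by
    rintro σ ⟨hσ, hσq, hσs⟩
    have hinv : ∀ x, q (σ⁻¹ x) ↔ q x := fun x => by
      have := hσq (σ⁻¹ x)
      rw [show σ (σ⁻¹ x) = x from σ.apply_symm_apply x] at this
      exact this.symm
    refine ⟨Subgroup.inv_mem _ hσ, hinv, ?_⟩
    have h1 : σ⁻¹.subtypePerm hinv * σ.subtypePerm hσq = 1 := by
      rw [Perm.subtypePerm_mul]
      simp only [inv_mul_cancel]
      exact Perm.subtypePerm_one _ _
    have h2 := congrArg Perm.sign h1
    rw [map_mul, hσs, mul_one, map_one] at h2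
    exact h2

end IntrB

open IntrB in
/-- Let `M` be a Hall `π`-subgroup of `Alt(Ω)` with `2 ∈ π`, and `q` an `M`-invariant subset with
at least two points inside and at least two outside.  Then some `σ ∈ M` restricts to an odd permutation
of `q`.  Otherwise `M` is in the kernel of the surjective sign-of-restriction homomorphism
`{σ ∈ Alt(Ω) | σ q = q} → {±1}` (a transposition inside `q` times one outside is in the source and has
sign `-1`), so `2 ∣ [Alt(Ω) : M]`. -/
theorem exists_odd_restriction {π : Set ℕ} (h2 : 2 ∈ π) {M : Subgroup (Perm Ω)}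
    (hM : IsAltHall π M) (q : Ω → Prop) [DecidablePred q]
    (hq : ∀ σ ∈ M, ∀ x, q (σ x) ↔ q x) (h1 : 2 ≤ Fintype.card {x // q x})
    (h2' : 2 ≤ Fintype.card {x // ¬ q x}) :
    ∃ σ : Perm Ω, ∃ hσ : σ ∈ M, Perm.sign (σ.subtypePerm (hq σ hσ)) = -1 := by
  by_contra hcon
  push Not at hcon
  have hM1 : ∀ σ (hσ : σ ∈ M), Perm.sign (σ.subtypePerm (hq σ hσ)) = 1 := fun σ hσ =>
    (Int.units_eq_one_or _).resolve_right (hcon σ hσ)
  have hMK : M ≤ stabAltEven q := fun σ hσ => ⟨hM.1 hσ, hq σ hσ, hM1 σ hσ⟩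
  have hKA : stabAltEven q ≤ stabAlt q := fun σ hσ => ⟨hσ.1, hσ.2.1⟩
  have hAalt : stabAlt q ≤ alternatingGroup Ω := fun σ hσ => hσ.1
  -- two points inside, two outside
  obtain ⟨a, b, hab⟩ := Fintype.exists_pair_of_one_lt_card (α := {x // q x}) (by omega)
  obtain ⟨c, d, hcd⟩ := Fintype.exists_pair_of_one_lt_card (α := {x // ¬ q x}) (by omega)
  have hab' : (a : Ω) ≠ b := fun h => hab (Subtype.ext h)
  have hcd' : (c : Ω) ≠ d := fun h => hcd (Subtype.ext h)
  set τ : Perm Ω := swap (a : Ω) b * swap (c : Ω) d with hτ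
  have hsw1 : ∀ x, q (swap (a : Ω) b x) ↔ q x := by
    intro x
    by_cases hxa : x = a
    · rw [hxa, swap_apply_left]; exact ⟨fun _ => a.2, fun _ => b.2⟩
    by_cases hxb : x = b
    · rw [hxb, swap_apply_right]; exact ⟨fun _ => b.2, fun _ => a.2⟩
    rw [swap_apply_of_ne_of_ne hxa hxb]
  have hsw2 : ∀ x, q (swap (c : Ω) d x) ↔ q x := by
    intro x
    by_cases hxa : x = c
    · rw [hxa, swap_apply_left]; exact ⟨fun h => absurd h d.2, fun h => absurd h c.2⟩
    by_cases hxb : x = d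
    · rw [hxb, swap_apply_right]; exact ⟨fun h => absurd h c.2, fun h => absurd h d.2⟩
    rw [swap_apply_of_ne_of_ne hxa hxb]
  have hτq : ∀ x, q (τ x) ↔ q x := fun x => (hsw1 _).trans (hsw2 x)
  have hτalt : τ ∈ alternatingGroup Ω := by
    rw [Perm.mem_alternatingGroup, hτ, map_mul, Perm.sign_swap hab', Perm.sign_swap hcd']
    rfl
  have hτA : τ ∈ stabAlt q := ⟨hτalt, hτq⟩
  have hτs : Perm.sign (τ.subtypePerm hτq) = -1 := by
    have e : τ.subtypePerm hτq = swap a b := by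
      ext x
      simp only [Perm.subtypePerm_apply, hτ, Perm.mul_apply]
      have hxc : (x : Ω) ≠ c := fun h => c.2 (h ▸ x.2)
      have hxd : (x : Ω) ≠ d := fun h => d.2 (h ▸ x.2)
      rw [swap_apply_of_ne_of_ne hxc hxd]
      by_cases hxa : x = a
      · rw [hxa, swap_apply_left, swap_apply_left]
      by_cases hxb : x = b
      · rw [hxb, swap_apply_right, swap_apply_right]
      rw [swap_apply_of_ne_of_ne hxa hxb,
        swap_apply_of_ne_of_ne (fun h => hxa (Subtype.ext h)) (fun h => hxb (Subtype.ext h))]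
    rw [e, Perm.sign_swap hab]
  have hidx : (stabAltEven q).relIndex (stabAlt q) = 2 := by
    rw [Subgroup.relIndex_eq_two_iff]
    refine ⟨τ, hτA, fun σ hσ => ?_⟩
    have hστq : ∀ x, q ((σ * τ) x) ↔ q x := fun x => (hσ.2 _).trans (hτq x)
    have hs : Perm.sign ((σ * τ).subtypePerm hστq) = - Perm.sign (σ.subtypePerm hσ.2) := by
      rw [← Perm.subtypePerm_mul σ τ hσ.2 hτq, map_mul, hτs, mul_neg, mul_one]
    have hστalt : σ * τ ∈ alternatingGroup Ω := Subgroup.mul_mem _ hσ.1 hτalt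
    rcases Int.units_eq_one_or (Perm.sign (σ.subtypePerm hσ.2)) with h | h
    · right
      refine ⟨⟨hσ.1, hσ.2, h⟩, ?_⟩
      rintro ⟨_, hh, hs'⟩
      rw [h] at hs
      rw [hs] at hs'
      exact absurd hs' (by decide)
    · left
      refine ⟨⟨hστalt, hστq, by rw [hs, h, neg_neg]⟩, ?_⟩
      rintro ⟨_, hh, hs'⟩
      rw [h] at hs'
      exact absurd hs' (by decide)
  have hdvd : 2 ∣ M.relIndex (alternatingGroup Ω) := by
    rw [← Subgroup.relIndex_mul_relIndex M (stabAltEven q) (alternatingGroup Ω) hMK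
      (hKA.trans hAalt),
      ← Subgroup.relIndex_mul_relIndex (stabAltEven q) (stabAlt q) (alternatingGroup Ω) hKA hAalt,
      hidx]
    exact Dvd.dvd.mul_left (Dvd.intro _ rfl) _
  exact hM.2.2 2 Nat.prime_two h2 hdvd

end Cfsg.Agent.Helper8.HS
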