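import Mathlib
import Cfsg.Agent.Lib.Helper8.HallSnDefs
import Cfsg.Agent.Lib.Helper8.HallAnDefs

/-!
# HA-JOR: 2-transitive with a 3-cycle; facts on the type 5 group (helper8 plan `plans/HallSn_plan.md`, Theorem R)
-/

set_option autoImplicit false
set_option linter.style.haveILetI false
set_option linter.unusedSectionVars false
set_option linter.unusedVariables false

namespace Cfsg.Agent.Helper8.HS

open Equiv Cfsg

universe u

variable {Ω : Type u} [Fintype Ω] [DecidableEq Ω]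

namespace JorA

/-- a swap of two points on the same side of `S` preserves `S` -/
theorem swap_pres {S : Finset Ω} {a b : Ω} (hab : a ∈ S ↔ b ∈ S) (z : Ω) :
    swap a b z ∈ S ↔ z ∈ S := by
  by_cases h1 : z = a
  · subst h1
    rw [swap_apply_left]
    exact hab.symm
  · by_cases h2 : z = b
    · subst h2
      rw [swap_apply_right]
      exact hab
    · rw [swap_apply_of_ne_of_ne h1 h2]

/-- a third point on the same side of `S` -/
theorem exists_third {T : Finset Ω} (hT : 3 ≤ T.card) {u v : Ω} (hu : u ∈ T) (hv : v ∈ T) :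
    ∃ z ∈ T, z ≠ u ∧ z ≠ v := by
  have h1 : 0 < ((T.erase u).erase v).card := by
    have h2 : (T.erase u).card = T.card - 1 := Finset.card_erase_of_mem hu
    have h3 : (T.erase u).card - 1 ≤ ((T.erase u).erase v).card := Finset.pred_card_le_card_erase
    omega
  obtain ⟨z, hz⟩ := Finset.card_pos.mp h1
  obtain ⟨hzv, hz1⟩ := Finset.mem_erase.mp hz
  obtain ⟨hzu, hzT⟩ := Finset.mem_erase.mp hz1
  exact ⟨z, hzT, hzu, hzv⟩

/-- even permutations preserving `S` are transitive on each side -/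
theorem same_side {S : Finset Ω} (hc : Fintype.card Ω = 8) (hS : S.card = 4) {u v : Ω}
    (huv : u ∈ S ↔ v ∈ S) :
    ∃ ρ : Perm Ω, Perm.sign ρ = 1 ∧ (∀ z, ρ z ∈ S ↔ z ∈ S) ∧ ρ u = v := by
  by_cases h : u = v
  · exact ⟨1, map_one _, fun z => Iff.rfl, by rw [h]; rfl⟩
  · -- a third point `w` on the same side
    have hw : ∃ w : Ω, (w ∈ S ↔ v ∈ S) ∧ w ≠ u ∧ w ≠ v := by
      by_cases hvS : v ∈ S
      · have huS : u ∈ S := huv.mpr hvS
        obtain ⟨w, hwS, hwu, hwv⟩ := exists_third (T := S) (by omega) huS hvS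
        exact ⟨w, ⟨fun _ => hvS, fun _ => hwS⟩, hwu, hwv⟩
      · have huS : u ∉ S := fun h' => hvS (huv.mp h')
        have hcc : Sᶜ.card = 4 := by rw [Finset.card_compl, hc, hS]
        obtain ⟨w, hwS, hwu, hwv⟩ := exists_third (T := Sᶜ) (by omega)
          (Finset.mem_compl.mpr huS) (Finset.mem_compl.mpr hvS)
        have hwS' : w ∉ S := Finset.mem_compl.mp hwS
        exact ⟨w, ⟨fun h' => absurd h' hwS', fun h' => absurd h' hvS⟩, hwu, hwv⟩
    obtain ⟨w, hwS, hwu, hwv⟩ := hw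
    refine ⟨swap u v * swap v w, ?_, ?_, ?_⟩
    · rw [map_mul, Perm.sign_swap h, Perm.sign_swap (Ne.symm hwv)]
      rfl
    · intro z
      rw [Perm.mul_apply, swap_pres huv, swap_pres hwS.symm]
    · rw [Perm.mul_apply, swap_apply_of_ne_of_ne h (Ne.symm hwu), swap_apply_left]

/-- an involution exchanging `S` and its complement -/
theorem exists_exch {S : Finset Ω} (hc : Fintype.card Ω = 8) (hS : S.card = 4) :
    ∃ τ : Perm Ω, ∀ z, τ z ∈ S ↔ z ∉ S := by
  have hcard : Fintype.card {z // z ∈ S} = Fintype.card {z // ¬ z ∈ S} := by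
    rw [Fintype.card_subtype_compl, Fintype.card_coe, hc, hS]
  let e : {z // z ∈ S} ≃ {z // ¬ z ∈ S} := Fintype.equivOfCardEq hcard
  let f : Ω → Ω := fun z => if h : z ∈ S then (e ⟨z, h⟩ : Ω) else (e.symm ⟨z, h⟩ : Ω)
  have hf1 : ∀ z (h : z ∈ S), f z = (e ⟨z, h⟩ : Ω) := fun z h => dif_pos h
  have hf2 : ∀ z (h : ¬ z ∈ S), f z = (e.symm ⟨z, h⟩ : Ω) := fun z h => dif_neg h
  have hinv : Function.Involutive f := by
    intro z
    by_cases h : z ∈ S
    · rw [hf1 z h, hf2 _ (e ⟨z, h⟩).2]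
      simp
    · rw [hf2 z h, hf1 _ (e.symm ⟨z, h⟩).2]
      simp
  refine ⟨hinv.toPerm f, ?_⟩
  intro z
  show f z ∈ S ↔ z ∉ S
  by_cases h : z ∈ S
  · rw [hf1 z h]
    exact ⟨fun h' => absurd h' (e ⟨z, h⟩).2, fun h' => absurd h h'⟩
  · rw [hf2 z h]
    exact ⟨fun _ => h, fun _ => (e.symm ⟨z, h⟩).2⟩

/-- an even permutation exchanging `S` and its complement -/
theorem exists_even_exch {S : Finset Ω} (hc : Fintype.card Ω = 8) (hS : S.card = 4) :
    ∃ τ : Perm Ω, Perm.sign τ = 1 ∧ ∀ z, τ z ∈ S ↔ z ∉ S := by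
  obtain ⟨τ, hτ⟩ := exists_exch hc hS
  rcases Int.units_eq_one_or (Perm.sign τ) with h | h
  · exact ⟨τ, h, hτ⟩
  · -- correct the sign by a swap inside `S`
    have h2 : 1 < S.card := by omega
    obtain ⟨a, ha, b, hb, hab⟩ := Finset.one_lt_card.mp h2
    refine ⟨τ * swap a b, ?_, ?_⟩
    · rw [map_mul, h, Perm.sign_swap hab]
      rfl
    · intro z
      rw [Perm.mul_apply, hτ, swap_pres ⟨fun _ => hb, fun _ => ha⟩]

end JorA

/-- A 2-transitive group containing a 3-cycle contains the alternating group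
(`MulAction.isPreprimitive_of_is_two_pretransitive`-type lemma +
`Equiv.Perm.alternatingGroup_le_of_isPreprimitive_of_isThreeCycle_mem`). -/
theorem alt_le_of_two_trans_of_threeCycle {M : Subgroup (Perm Ω)}
    (htr : MulAction.IsPretransitive (↥M) Ω) (α : Ω)
    (h2 : ∀ x y : Ω, x ≠ α → y ≠ α → ∃ σ ∈ M, σ α = α ∧ σ x = y) {g : Perm Ω}
    (hg : g ∈ M) (h3 : g.IsThreeCycle) : alternatingGroup Ω ≤ M := by
  classical
  have htr' : ∀ x : Ω, ∃ τ ∈ M, τ x = α := by
    intro x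
    obtain ⟨τ, hτ⟩ := htr.exists_smul_eq x α
    exact ⟨τ.1, τ.2, hτ⟩
  have h2t : ∀ a b x y : Ω, a ≠ b → x ≠ y → ∃ σ ∈ M, σ a = x ∧ σ b = y := by
    intro a b x y hab hxy
    obtain ⟨τ₁, hτ₁, h1⟩ := htr' a
    obtain ⟨τ₂, hτ₂, h2'⟩ := htr' x
    have hb : τ₁ b ≠ α := by
      intro h
      apply hab
      apply τ₁.injective
      rw [h1, h]
    have hy : τ₂ y ≠ α := by
      intro h
      apply hxy
      apply τ₂.injective
      rw [h2', h]
    obtain ⟨σ₀, hσ₀, hσα, hσb⟩ := h2 (τ₁ b) (τ₂ y) hb hy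
    refine ⟨τ₂⁻¹ * σ₀ * τ₁, M.mul_mem (M.mul_mem (M.inv_mem hτ₂) hσ₀) hτ₁, ?_, ?_⟩
    · simp only [Perm.mul_apply, h1, hσα]
      rw [Perm.inv_eq_iff_eq]
      exact h2'.symm
    · simp only [Perm.mul_apply, hσb]
      simp
  have h2p : MulAction.IsMultiplyPretransitive (↥M) Ω 2 := by
    rw [MulAction.is_two_pretransitive_iff]
    intro a b c d hab hcd
    obtain ⟨σ, hσ, h1, h2'⟩ := h2t a b c d hab hcd
    exact ⟨⟨σ, hσ⟩, h1, h2'⟩
  exact Perm.alternatingGroup_le_of_isPreprimitive_of_isThreeCycle_mem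
    (MulAction.isPreprimitive_of_is_two_pretransitive h2p) h3 hg

/-- The even permutations preserving a partition of 8 points into two 4-sets act transitively. -/
theorem T5_alt_trans {S : Finset Ω} (hc : Fintype.card Ω = 8) (hS : S.card = 4) (x y : Ω) :
    ∃ σ : Perm Ω, Perm.sign σ = 1 ∧
      ((∀ z, σ z ∈ S ↔ z ∈ S) ∨ (∀ z, σ z ∈ S ↔ z ∉ S)) ∧ σ x = y := by
  by_cases hxy : x ∈ S ↔ y ∈ S
  · obtain ⟨ρ, h1, h2, h3⟩ := JorA.same_side hc hS hxy
    exact ⟨ρ, h1, Or.inl h2, h3⟩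
  · obtain ⟨τ, hτ1, hτ2⟩ := JorA.exists_even_exch hc hS
    have hside : τ x ∈ S ↔ y ∈ S := by
      rw [hτ2 x]
      constructor
      · intro hx
        by_contra hy
        exact hxy ⟨fun h' => absurd h' hx, fun h' => absurd h' hy⟩
      · intro hy hx
        exact hxy ⟨fun _ => hy, fun _ => hx⟩
    obtain ⟨ρ, h1, h2, h3⟩ := JorA.same_side hc hS hside
    refine ⟨ρ * τ, ?_, Or.inr ?_, ?_⟩
    · rw [map_mul, h1, hτ1]
      rfl
    · intro z
      rw [Perm.mul_apply, h2, hτ2]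
    · rw [Perm.mul_apply, h3]

/-- There is a 3-cycle preserving a given 4-set. -/
theorem T5_exists_threeCycle {S : Finset Ω} (hS : S.card = 4) :
    ∃ g : Perm Ω, g.IsThreeCycle ∧ ∀ z, g z ∈ S ↔ z ∈ S := by
  have h2 : 1 < S.card := by omega
  obtain ⟨a, ha, b, hb, hab⟩ := Finset.one_lt_card.mp h2
  obtain ⟨c, hc, hca, hcb⟩ := JorA.exists_third (T := S) (by omega) ha hb
  refine ⟨swap a b * swap a c, Perm.isThreeCycle_swap_mul_swap_same hab (Ne.symm hca) (Ne.symm hcb), ?_⟩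
  intro z
  rw [Perm.mul_apply, JorA.swap_pres ⟨fun _ => hb, fun _ => ha⟩,
    JorA.swap_pres ⟨fun _ => hc, fun _ => ha⟩]

end Cfsg.Agent.Helper8.HS
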