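import Mathlib
import Cfsg.Agent.Lib.Helper8.HallSnDefs

/-!
# Point stabilizers of transitive Hall subgroups (piece HS-STAB, helper8 plan; proof by helper15)
-/

set_option autoImplicit false
set_option linter.style.haveILetI false

namespace Cfsg.Agent.Helper8.HS

open Equiv Cfsg

universe u

variable {Ω : Type u} [Fintype Ω] [DecidableEq Ω]

/-- the image of `resSub H (· ≠ α)` in `Perm Ω` is the stabilizer of `α` in `H` -/
theorem hsstab_map_eq (H : Subgroup (Perm Ω)) (α : Ω) :
    (MulAction.stabilizer (↥H) α).map H.subtype =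
      (resSub H (fun x => x ≠ α)).map (Perm.ofSubtype : Perm {x // x ≠ α} →* Perm Ω) := by
  ext σ
  constructor
  · rintro ⟨h, hh, rfl⟩
    have hfix : (h : Perm Ω) α = α := MulAction.mem_stabilizer_iff.mp hh
    have h₁ : ∀ x, (fun x => x ≠ α) ((h : Perm Ω) x) ↔ (fun x => x ≠ α) x := by
      intro x
      constructor
      · intro hx hxa
        apply hx
        rw [hxa, hfix]
      · intro hx hxa
        apply hx
        have : (h : Perm Ω) x = (h : Perm Ω) α := by rw [hxa, hfix]
        exact (h : Perm Ω).injective this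
    have h₂ : ∀ x, (h : Perm Ω) x ≠ x → (fun x => x ≠ α) x := by
      intro x hx hxa
      apply hx
      rw [hxa, hfix]
    have e : Perm.ofSubtype (Perm.subtypePerm (h : Perm Ω) h₁) = (h : Perm Ω) :=
      Perm.ofSubtype_subtypePerm h₁ h₂
    refine ⟨Perm.subtypePerm (h : Perm Ω) h₁, ?_, e⟩
    show Perm.subtypePerm (h : Perm Ω) h₁ ∈ resSub H (fun x => x ≠ α)
    rw [mem_resSub, e]
    exact h.2
  · rintro ⟨τ, hτ, rfl⟩
    have hmem : Perm.ofSubtype τ ∈ H := (mem_resSub H _ τ).mp hτ
    refine ⟨⟨Perm.ofSubtype τ, hmem⟩, ?_, rfl⟩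
    rw [SetLike.mem_coe, MulAction.mem_stabilizer_iff]
    show Perm.ofSubtype τ α = α
    exact Perm.ofSubtype_apply_of_not_mem τ (fun h => h rfl)

/-- If `H` is a transitive Hall `π`-subgroup of `Sym(Ω)` then the stabilizer of `α` in `H`, viewed
as a group of permutations of `Ω ∖ {α}`, is a Hall `π`-subgroup of `Sym(Ω ∖ {α})`:
`|H| = n |H_α|` and `n! = n (n-1)!`, so the two indices agree; `|H_α|` divides `|H|`. -/
theorem isPiHall_resSub_ne {π : Set ℕ} {H : Subgroup (Perm Ω)} (hH : IsPiHall π H)
    (htr : MulAction.IsPretransitive (↥H) Ω) (α : Ω) :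
    IsPiHall π (resSub H (fun x => x ≠ α)) := by
  classical
  set K : Subgroup (Perm {x // x ≠ α}) := resSub H (fun x => x ≠ α) with hK
  set A : Subgroup ↥H := MulAction.stabilizer (↥H) α with hA
  have hinj : Function.Injective (Perm.ofSubtype : Perm {x // x ≠ α} →* Perm Ω) :=
    Perm.ofSubtype_injective
  -- `|K| = |A|`
  have hKA : Nat.card K = Nat.card A := by
    rw [← Subgroup.card_map_of_injective hinj, ← hsstab_map_eq H α,
      Subgroup.card_map_of_injective (Subgroup.subtype_injective H)]
  -- `|A| * n = |H|`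
  have hAidx : A.index = Nat.card Ω := MulAction.index_stabilizer_of_transitive (↥H) α
  have hAH : Nat.card A * Nat.card Ω = Nat.card H := by
    rw [← hAidx]
    exact Subgroup.card_mul_index A
  have hKH : Nat.card K * Nat.card Ω = Nat.card H := by rw [hKA]; exact hAH
  -- factorials
  have hn : Nat.card Ω = Fintype.card Ω := Nat.card_eq_fintype_card
  have hn1 : Fintype.card {x // x ≠ α} + 1 = Fintype.card Ω := by
    have h1 : Fintype.card {x // ¬ x = α} = Fintype.card Ω - Fintype.card {x // x = α} :=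
      Fintype.card_subtype_compl _
    have h2 : Fintype.card {x // x = α} = 1 := Fintype.card_subtype_eq α
    have h3 : 0 < Fintype.card Ω := Fintype.card_pos_iff.mpr ⟨α⟩
    have h4 : Fintype.card {x // x ≠ α} = Fintype.card {x // ¬ x = α} := rfl
    omega
  have hPΩ : Nat.card (Perm Ω) = (Fintype.card Ω).factorial := by
    rw [Nat.card_eq_fintype_card, Fintype.card_perm]
  have hPΩ' : Nat.card (Perm {x // x ≠ α}) = (Fintype.card {x // x ≠ α}).factorial := by
    rw [Nat.card_eq_fintype_card, Fintype.card_perm]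
  have hfac : Nat.card (Perm {x // x ≠ α}) * Nat.card Ω = Nat.card (Perm Ω) := by
    rw [hPΩ, hPΩ', hn, ← hn1, Nat.factorial_succ, mul_comm]
  -- indices agree
  have hidx : K.index = H.index := by
    have e1 : Nat.card K * K.index = Nat.card (Perm {x // x ≠ α}) := Subgroup.card_mul_index K
    have e2 : Nat.card H * H.index = Nat.card (Perm Ω) := Subgroup.card_mul_index H
    have hHpos : 0 < Nat.card H := Nat.card_pos
    have e3 : Nat.card H * K.index = Nat.card H * H.index := by
      rw [e2, ← hfac, ← e1, ← hKH]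
      ring
    exact Nat.eq_of_mul_eq_mul_left hHpos e3
  refine ⟨?_, ?_⟩
  · intro p hp hpK
    apply hH.1 p hp
    rw [← hKH]
    exact Dvd.dvd.mul_right hpK _
  · intro p hp hpπ
    rw [hidx]
    exact hH.2 p hp hpπ

end Cfsg.Agent.Helper8.HS
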