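import Mathlib
import Cfsg.Agent.Lib.Helper8.HallSnDefs
import Cfsg.Agent.Lib.Helper8.HallAnDefs
import Cfsg.Agent.Lib.Helper8.HSStab

/-!
# HA-STAB: point stabilizers of transitive Hall subgroups of Alt (helper8 plan `plans/HallSn_plan.md`, Theorem R)
-/

set_option autoImplicit false
set_option linter.style.haveILetI false

namespace Cfsg.Agent.Helper8.HS

open Equiv Cfsg

universe u

variable {Ω : Type u} [Fintype Ω] [DecidableEq Ω]

/-- for a transitive `M`, the point stabilizer viewed on `Ω ∖ {α}` has the same index in `Sym(Ω ∖ {α})` as `M` in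
`Sym(Ω)`, and `|M_α| · |Ω| = |M|` -/
private theorem hastab_index_eq (M : Subgroup (Perm Ω)) (htr : MulAction.IsPretransitive (↥M) Ω) (α : Ω) :
    Nat.card (resSub M (fun x => x ≠ α)) * Nat.card Ω = Nat.card M ∧
      (resSub M (fun x => x ≠ α)).index = M.index := by
  classical
  have hinj : Function.Injective (Perm.ofSubtype : Perm {x // x ≠ α} →* Perm Ω) :=
    Perm.ofSubtype_injective
  have hKA : Nat.card (resSub M (fun x => x ≠ α)) = Nat.card (MulAction.stabilizer (↥M) α) := by
    rw [← Subgroup.card_map_of_injective hinj, ← hsstab_map_eq M α,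
      Subgroup.card_map_of_injective (Subgroup.subtype_injective M)]
  have hAidx : (MulAction.stabilizer (↥M) α).index = Nat.card Ω :=
    MulAction.index_stabilizer_of_transitive (↥M) α
  have hAH : Nat.card (MulAction.stabilizer (↥M) α) * Nat.card Ω = Nat.card M := by
    rw [← hAidx]
    exact Subgroup.card_mul_index _
  have hKH : Nat.card (resSub M (fun x => x ≠ α)) * Nat.card Ω = Nat.card M := by
    rw [hKA]; exact hAH
  refine ⟨hKH, ?_⟩
  have hn : Nat.card Ω = Fintype.card Ω := Nat.card_eq_fintype_card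
  have hn1 : Fintype.card {x // x ≠ α} + 1 = Fintype.card Ω := by
    have h1 : Fintype.card {x // ¬ x = α} = Fintype.card Ω - Fintype.card {x // x = α} :=
      Fintype.card_subtype_compl _
    have h2 : Fintype.card {x // x = α} = 1 := Fintype.card_subtype_eq α
    have h3 : 0 < Fintype.card Ω := Fintype.card_pos_iff.mpr ⟨α⟩
    have h4 : Fintype.card {x // x ≠ α} = Fintype.card {x // ¬ x = α} := rfl
    omega
  have hPΩ : Nat.card (Perm Ω) = (Fintype.card Ω).factorial := by
    rw [Nat.card_eq_fintype_card, Fintype.card_perm]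
  have hPΩ' : Nat.card (Perm {x // x ≠ α}) = (Fintype.card {x // x ≠ α}).factorial := by
    rw [Nat.card_eq_fintype_card, Fintype.card_perm]
  have hfac : Nat.card (Perm {x // x ≠ α}) * Nat.card Ω = Nat.card (Perm Ω) := by
    rw [hPΩ, hPΩ', hn, ← hn1, Nat.factorial_succ, mul_comm]
  have e1 : Nat.card (resSub M (fun x => x ≠ α)) * (resSub M (fun x => x ≠ α)).index =
      Nat.card (Perm {x // x ≠ α}) := Subgroup.card_mul_index _
  have e2 : Nat.card M * M.index = Nat.card (Perm Ω) := Subgroup.card_mul_index M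
  have hHpos : 0 < Nat.card M := Nat.card_pos
  have e3 : Nat.card M * (resSub M (fun x => x ≠ α)).index = Nat.card M * M.index := by
    rw [e2, ← hfac, ← e1, ← hKH]
    ring
  exact Nat.eq_of_mul_eq_mul_left hHpos e3

/-- The stabilizer of `α` in a transitive Hall `π`-subgroup `M` of `Alt(Ω)`, `|Ω| ≥ 3`, viewed on
`Ω ∖ {α}`, is a Hall `π`-subgroup of `Alt(Ω ∖ {α})`: `|M| = n |M_α|` and `|Alt(Ω)| = n |Alt(Ω∖α)|`. -/
theorem isAltHall_resSub_ne {π : Set ℕ} {M : Subgroup (Perm Ω)} (hM : IsAltHall π M)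
    (htr : MulAction.IsPretransitive (↥M) Ω) (hn : 3 ≤ Fintype.card Ω) (α : Ω) :
    IsAltHall π (resSub M (fun x => x ≠ α)) := by
  obtain ⟨hMA, hMπ, hMidx⟩ := hM
  obtain ⟨hKH, hidx⟩ := hastab_index_eq M htr α
  have hn1 : Fintype.card {x // x ≠ α} + 1 = Fintype.card Ω := by
    have h1 : Fintype.card {x // ¬ x = α} = Fintype.card Ω - Fintype.card {x // x = α} :=
      Fintype.card_subtype_compl _
    have h2 : Fintype.card {x // x = α} = 1 := Fintype.card_subtype_eq α
    have h4 : Fintype.card {x // x ≠ α} = Fintype.card {x // ¬ x = α} := rfl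
    omega
  haveI : Nontrivial Ω := Fintype.one_lt_card_iff_nontrivial.mp (by omega)
  haveI : Nontrivial {x // x ≠ α} := Fintype.one_lt_card_iff_nontrivial.mp (by omega)
  have hKA : resSub M (fun x => x ≠ α) ≤ alternatingGroup {x // x ≠ α} := by
    intro τ hτ
    have h1 : Perm.ofSubtype τ ∈ alternatingGroup Ω := hMA ((mem_resSub M _ τ).mp hτ)
    rw [Perm.mem_alternatingGroup, Perm.sign_ofSubtype] at h1
    exact Perm.mem_alternatingGroup.mpr h1
  refine ⟨hKA, ?_, ?_⟩
  · intro p hp hpK
    apply hMπ p hp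
    rw [← hKH]
    exact Dvd.dvd.mul_right hpK _
  · intro p hp hpπ
    have e1 : (resSub M (fun x => x ≠ α)).relIndex (alternatingGroup {x // x ≠ α}) * 2 =
        (resSub M (fun x => x ≠ α)).index := by
      rw [← alternatingGroup.index_eq_two (α := {x // x ≠ α})]
      exact Subgroup.relIndex_mul_index hKA
    have e2 : M.relIndex (alternatingGroup Ω) * 2 = M.index := by
      rw [← alternatingGroup.index_eq_two (α := Ω)]
      exact Subgroup.relIndex_mul_index hMA
    have e3 : (resSub M (fun x => x ≠ α)).relIndex (alternatingGroup {x // x ≠ α}) =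
        M.relIndex (alternatingGroup Ω) := by omega
    rw [e3]
    exact hMidx p hp hpπ

/-- A transitive subgroup of `Alt(Ω)` containing every even permutation that fixes `α` is `Alt(Ω)`. -/
theorem eq_alt_of_trans_of_stab {M : Subgroup (Perm Ω)} (hMA : M ≤ alternatingGroup Ω)
    (htr : MulAction.IsPretransitive (↥M) Ω) (α : Ω)
    (h : ∀ σ : Perm Ω, Perm.sign σ = 1 → σ α = α → σ ∈ M) : M = alternatingGroup Ω := by
  apply le_antisymm hMA
  intro τ hτ
  obtain ⟨m, hm⟩ := MulAction.exists_smul_eq (↥M) α (τ α)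
  have hm' : (m : Perm Ω) α = τ α := hm
  have hmA : Perm.sign (m : Perm Ω) = 1 := Perm.mem_alternatingGroup.mp (hMA m.2)
  have hτA : Perm.sign τ = 1 := Perm.mem_alternatingGroup.mp hτ
  have hmem : (m : Perm Ω)⁻¹ * τ ∈ M := by
    apply h
    · rw [map_mul, map_inv, hmA, hτA]
      simp
    · rw [Perm.mul_apply, ← hm']
      exact (m : Perm Ω).symm_apply_apply α
  have : τ = (m : Perm Ω) * ((m : Perm Ω)⁻¹ * τ) := by group
  rw [this]
  exact M.mul_mem m.2 hmem

end Cfsg.Agent.Helper8.HS
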