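import Mathlib
import Cfsg.Agent.Lib.Helper8.HallSnDefs
import Cfsg.Agent.Lib.Helper8.HallAnDefs

/-!
# HA-SYL: the case of a Sylow 2-subgroup (helper8 plan `plans/HallSn_plan.md`, Theorem R)
-/

set_option autoImplicit false
set_option linter.style.haveILetI false

namespace Cfsg.Agent.Helper8.HS

open Equiv Cfsg

universe u

variable {Ω : Type u} [Fintype Ω] [DecidableEq Ω]

/-- If `2` is the only prime of `π` up to `|Ω|`, a Hall `π`-subgroup `M` of `Alt(Ω)` is a Sylow
2-subgroup of `Alt(Ω)`; a Sylow 2-subgroup `M₀ ≥ M` of `Sym(Ω)` (`IsPGroup.exists_le_sylow`) has twice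
the order, so it is not inside `Alt(Ω)`. -/
theorem altExt_of_atMostOne {π : Set ℕ} (h2 : 2 ∈ π) (hn : 2 ≤ Fintype.card Ω)
    (h1 : AtMostOne π (Fintype.card Ω)) {M : Subgroup (Perm Ω)} (hM : IsAltHall π M) :
    AltExt π M := by
  obtain ⟨-, hMπ, -⟩ := hM
  haveI : Fact (Nat.Prime 2) := ⟨Nat.prime_two⟩
  haveI : Nontrivial Ω := Fintype.one_lt_card_iff_nontrivial.mp (by omega)
  -- `M` is a 2-group
  have hprime : ∀ {d : ℕ}, d.Prime → d ∣ Nat.card M → d = 2 := by
    intro d hd hdvd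
    have hdπ : d ∈ π := hMπ d hd hdvd
    have hdn : d ≤ Fintype.card Ω := by
      have h3 : d ∣ (Fintype.card Ω).factorial := by
        have h4 : Nat.card M ∣ Nat.card (Perm Ω) := Subgroup.card_subgroup_dvd_card M
        rw [Nat.card_eq_fintype_card (α := Perm Ω), Fintype.card_perm] at h4
        exact hdvd.trans h4
      exact (Nat.Prime.dvd_factorial hd).mp h3
    exact h1 d 2 ⟨hd, hdπ, hdn⟩ ⟨Nat.prime_two, h2, hn⟩
  have hcard : Nat.card M = 2 ^ (Nat.card M).primeFactorsList.length :=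
    Nat.eq_prime_pow_of_unique_prime_dvd Nat.card_pos.ne' hprime
  have hMp : IsPGroup 2 M := IsPGroup.of_card hcard
  obtain ⟨Q, hQ⟩ := hMp.exists_le_sylow
  refine ⟨(Q : Subgroup (Perm Ω)), hQ, ?_, ?_⟩
  · intro p hp hdvd
    obtain ⟨k, hk⟩ := IsPGroup.iff_card.mp Q.isPGroup'
    rw [hk] at hdvd
    have : p = 2 := (Nat.prime_dvd_prime_iff_eq hp Nat.prime_two).mp (hp.dvd_of_dvd_pow hdvd)
    rw [this]
    exact h2
  · intro hle
    apply Q.not_dvd_index
    rw [← Subgroup.relIndex_mul_index hle, alternatingGroup.index_eq_two]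
    exact Dvd.intro_left _ rfl

end Cfsg.Agent.Helper8.HS
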