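import Mathlib
import Cfsg.Agent.Lib.Helper8.HallSnDefs

/-!
# Transitive groups of degree 8 with point stabilizer `Sym(3) × Sym(4)` (piece HS-TR4)
-/

set_option autoImplicit false
set_option linter.unusedSectionVars false

namespace Cfsg.Agent.Helper8.HS

open Equiv Cfsg

universe u

variable {Ω : Type u} [Fintype Ω] [DecidableEq Ω]

namespace TR4

omit [Fintype Ω] [DecidableEq Ω] in
theorem apply_inv_self' (σ : Perm Ω) (x : Ω) : σ (σ⁻¹ x) = x := σ.apply_symm_apply x

omit [Fintype Ω] [DecidableEq Ω] in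
theorem inv_apply_self' (σ : Perm Ω) (x : Ω) : σ⁻¹ (σ x) = x := σ.symm_apply_apply x

/-- `σ` preserves `S` or exchanges `S` and its complement -/
def PE (S : Finset Ω) (σ : Perm Ω) : Prop :=
  (∀ x, σ x ∈ S ↔ x ∈ S) ∨ (∀ x, σ x ∈ S ↔ x ∉ S)

theorem PE_inv {S : Finset Ω} {σ : Perm Ω} (h : PE S σ) : PE S σ⁻¹ := by
  rcases h with h | h
  · left
    intro x
    have := h (σ⁻¹ x)
    rw [apply_inv_self'] at this
    exact this.symm
  · right
    intro x
    have := h (σ⁻¹ x)
    rw [apply_inv_self'] at this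
    constructor
    · intro h1 h2
      exact (this.mp h2) h1
    · intro h1
      by_contra h2
      exact h1 (this.mpr h2)

theorem PE_mul {S : Finset Ω} {σ τ : Perm Ω} (h1 : PE S σ) (h2 : PE S τ) : PE S (σ * τ) := by
  rcases h1 with h1 | h1 <;> rcases h2 with h2 | h2
  · left; intro x; rw [Perm.mul_apply, h1, h2]
  · right; intro x; rw [Perm.mul_apply, h1, h2]
  · right; intro x; rw [Perm.mul_apply, h1, h2]
  · left; intro x; rw [Perm.mul_apply, h1, h2, not_not]

/-- four distinct members of a finset with four elements -/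
theorem exists_four (s : Finset Ω) (h : s.card = 4) :
    ∃ a b c d, a ∈ s ∧ b ∈ s ∧ c ∈ s ∧ d ∈ s ∧ a ≠ b ∧ a ≠ c ∧ a ≠ d ∧ b ≠ c ∧ b ≠ d ∧ c ≠ d := by
  have hne : s.Nonempty := Finset.card_pos.mp (by omega)
  obtain ⟨a, ha⟩ := hne
  have h2 : 2 < (s.erase a).card := by
    rw [Finset.card_erase_of_mem ha]; omega
  obtain ⟨b, hb, c, hc, d, hd, hbc, hbd, hcd⟩ := Finset.two_lt_card.mp h2
  rw [Finset.mem_erase] at hb hc hd
  exact ⟨a, b, c, d, ha, hb.2, hc.2, hd.2, hb.1.symm, hc.1.symm, hd.1.symm, hbc, hbd, hcd⟩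

/-- a 5-cycle built from swaps in `H` forces `5 ∣ |H|` -/
theorem five_dvd {H : Subgroup (Perm Ω)} {p₁ p₂ p₃ p₄ p₅ : Ω}
    (hnd : [p₁, p₂, p₃, p₄, p₅].Nodup)
    (h12 : swap p₁ p₂ ∈ H) (h23 : swap p₂ p₃ ∈ H) (h34 : swap p₃ p₄ ∈ H) (h45 : swap p₄ p₅ ∈ H) :
    5 ∣ Nat.card H := by
  have hmem : List.formPerm [p₁, p₂, p₃, p₄, p₅] ∈ H := by
    simp only [List.formPerm_cons_cons, List.formPerm_singleton, mul_one]
    exact H.mul_mem h12 (H.mul_mem h23 (H.mul_mem h34 h45))
  have hpow : List.formPerm [p₁, p₂, p₃, p₄, p₅] ^ 5 = 1 := by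
    have := List.formPerm_pow_length_eq_one_of_nodup _ hnd
    simpa using this
  have hne : List.formPerm [p₁, p₂, p₃, p₄, p₅] ≠ 1 := by
    intro h1
    have h2 := List.formPerm_apply_head p₁ p₂ [p₃, p₄, p₅] hnd
    rw [h1, Perm.one_apply] at h2
    simp only [List.nodup_cons, List.mem_cons] at hnd
    exact hnd.1 (Or.inl h2)
  have : Fact (Nat.Prime 5) := ⟨by norm_num⟩
  have hord : orderOf (List.formPerm [p₁, p₂, p₃, p₄, p₅]) = 5 := orderOf_eq_prime hpow hne
  have h2 := orderOf_dvd_natCard (⟨_, hmem⟩ : H)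
  rw [Subgroup.orderOf_mk, hord] at h2
  exact h2

end TR4

open TR4

/-- Let `H` be transitive on 8 points, of order prime to 5, such that the stabilizer of `α` consists
of all the permutations fixing `α` and preserving the 3-set `S₀ ∌ α`.  Then `H` is the stabilizer of
a partition into two 4-sets.  (Paper proof: `plans/HallSn_plan.md`, TR4.) -/
theorem trans_T4 {H : Subgroup (Perm Ω)} (htr : MulAction.IsPretransitive (↥H) Ω)
    (hcard : Fintype.card Ω = 8) (α : Ω) (S₀ : Finset Ω) (hS₀ : S₀.card = 3) (hα : α ∉ S₀)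
    (hmem : ∀ σ : Perm Ω, σ α = α → (σ ∈ H ↔ ∀ x, σ x ∈ S₀ ↔ x ∈ S₀))
    (h5 : ¬ 5 ∣ Nat.card H) :
    ∃ S : Finset Ω, S.card = 4 ∧
      ∀ σ : Perm Ω, σ ∈ H ↔ ((∀ x, σ x ∈ S ↔ x ∈ S) ∨ (∀ x, σ x ∈ S ↔ x ∉ S)) := by
  classical
  obtain ⟨S, hSdef⟩ : ∃ S : Finset Ω, S = insert α S₀ := ⟨_, rfl⟩
  have hScard : S.card = 4 := by rw [hSdef, Finset.card_insert_of_notMem hα, hS₀]
  have memS : ∀ x, x ∈ S ↔ x = α ∨ x ∈ S₀ := by
    intro x; rw [hSdef, Finset.mem_insert]
  have hαS : α ∈ S := (memS α).mpr (Or.inl rfl)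
  have hTcard : Sᶜ.card = 4 := by rw [Finset.card_compl, hcard, hScard]
  -- Step A: permutations fixing `S` pointwise lie in `H`
  have stepA : ∀ σ : Perm Ω, (∀ x ∈ S, σ x = x) → σ ∈ H := by
    intro σ hσ
    rw [hmem σ (hσ α hαS)]
    intro x
    constructor
    · intro hx
      have h1 : σ (σ x) = σ x := hσ _ ((memS _).mpr (Or.inr hx))
      have h2 : σ x = x := σ.injective h1
      rw [← h2]; exact hx
    · intro hx
      rw [hσ x ((memS x).mpr (Or.inr hx))]; exact hx
  have swapT : ∀ a b : Ω, a ∉ S → b ∉ S → swap a b ∈ H := by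
    intro a b ha hb
    apply stepA
    intro x hx
    apply swap_apply_of_ne_of_ne
    · rintro rfl; exact ha hx
    · rintro rfl; exact hb hx
  -- Step B: conjugates of swaps
  have conjswap : ∀ (g : Perm Ω) (a b : Ω), g ∈ H → swap a b ∈ H → swap (g a) (g b) ∈ H := by
    intro g a b hg hab
    rw [swap_apply_apply]
    exact H.mul_mem (H.mul_mem hg hab) (H.inv_mem hg)
  -- Step C: the key claim
  have stepC : ∀ h ∈ H, ∀ x₀ y₀ : Ω, x₀ ∉ S → h x₀ ∉ S → y₀ ∉ S → h y₀ ∈ S → False := by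
    intro h hh x₀ y₀ hx₀ hhx₀ hy₀ hhy₀
    have hdc : swap (h x₀) (h y₀) ∈ H := conjswap h x₀ y₀ hh (swapT x₀ y₀ hx₀ hy₀)
    have hac : ∀ a : Ω, a ∉ S → swap a (h y₀) ∈ H := by
      intro a ha
      by_cases had : a = h x₀
      · rw [had]; exact hdc
      · have h1 := conjswap (swap a (h x₀)) (h x₀) (h y₀) (swapT a (h x₀) ha hhx₀) hdc
        rw [swap_apply_right, swap_apply_of_ne_of_ne] at h1
        · exact h1
        · rintro heq; exact ha (heq ▸ hhy₀)
        · rintro heq; exact hhx₀ (heq ▸ hhy₀)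
    obtain ⟨t₁, t₂, t₃, t₄, m₁, m₂, m₃, m₄, n12, n13, n14, n23, n24, n34⟩ := exists_four Sᶜ hTcard
    rw [Finset.mem_compl] at m₁ m₂ m₃ m₄
    have nc : ∀ t : Ω, t ∉ S → t ≠ h y₀ := by
      rintro t ht rfl; exact ht hhy₀
    apply h5
    apply five_dvd (p₁ := t₁) (p₂ := t₂) (p₃ := t₃) (p₄ := t₄) (p₅ := h y₀)
    · simp only [List.nodup_cons, List.mem_cons, List.not_mem_nil, or_false, not_or,
        List.nodup_nil, and_true, not_false_eq_true]
      exact ⟨⟨n12, n13, n14, nc t₁ m₁⟩, ⟨n23, n24, nc t₂ m₂⟩, ⟨n34, nc t₃ m₃⟩, nc t₄ m₄⟩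
    · exact swapT t₁ t₂ m₁ m₂
    · exact swapT t₂ t₃ m₂ m₃
    · exact swapT t₃ t₄ m₃ m₄
    · exact hac t₄ m₄
  -- Step D: elements of `H` preserve or exchange
  have stepD : ∀ h ∈ H, PE S h := by
    intro h hh
    by_cases hA : ∃ x, x ∉ S ∧ h x ∉ S
    · obtain ⟨x₀, hx₀, hhx₀⟩ := hA
      -- then no `y ∉ S` goes into `S`
      have hB : ∀ y, y ∉ S → h y ∉ S := by
        intro y hy hhy
        exact stepC h hh x₀ y hx₀ hhx₀ hy hhy
      left
      have himg : Sᶜ.image h = Sᶜ := by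
        apply Finset.eq_of_subset_of_card_le
        · intro z hz
          rw [Finset.mem_image] at hz
          obtain ⟨y, hy, rfl⟩ := hz
          rw [Finset.mem_compl] at hy ⊢
          exact hB y hy
        · rw [Finset.card_image_of_injective _ h.injective]
      intro x
      constructor
      · intro hx
        by_contra hxS
        exact hB x hxS hx
      · intro hx
        by_contra hhx
        have h1 : h x ∈ Sᶜ.image h := by rw [himg, Finset.mem_compl]; exact hhx
        rw [Finset.mem_image] at h1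
        obtain ⟨y, hy, hyx⟩ := h1
        rw [Finset.mem_compl] at hy
        exact hy (h.injective hyx ▸ hx)
    · push Not at hA
      right
      have himg : Sᶜ.image h = S := by
        apply Finset.eq_of_subset_of_card_le
        · intro z hz
          rw [Finset.mem_image] at hz
          obtain ⟨y, hy, rfl⟩ := hz
          rw [Finset.mem_compl] at hy
          exact hA y hy
        · rw [Finset.card_image_of_injective _ h.injective, hTcard, hScard]
      intro x
      constructor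
      · intro hx hxS
        have h1 : h x ∈ Sᶜ.image h := by rw [himg]; exact hx
        rw [Finset.mem_image] at h1
        obtain ⟨y, hy, hyx⟩ := h1
        rw [Finset.mem_compl] at hy
        exact hy (h.injective hyx ▸ hxS)
      · intro hx
        exact hA x hx
  refine ⟨S, hScard, fun w => ⟨fun hw => stepD w hw, fun hw => ?_⟩⟩
  -- Step E: the converse
  obtain ⟨⟨h, hh⟩, hhα⟩ := MulAction.exists_smul_eq (↥H) α (w α)
  have hhα' : h α = w α := hhα
  have hg : PE S (h⁻¹ * w) := PE_mul (PE_inv (stepD h hh)) hw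
  have hgα : (h⁻¹ * w) α = α := by
    rw [Perm.mul_apply, ← hhα', inv_apply_self']
  have hgS : ∀ x, (h⁻¹ * w) x ∈ S ↔ x ∈ S := by
    rcases hg with hg | hg
    · exact hg
    · exfalso
      have := (hg α).mp (by rw [hgα]; exact hαS)
      exact this hαS
  have hgH : h⁻¹ * w ∈ H := by
    rw [hmem _ hgα]
    intro x
    have hne : ∀ y, (h⁻¹ * w) y = α ↔ y = α := by
      intro y
      constructor
      · intro hy
        apply (h⁻¹ * w).injective
        rw [hy, hgα]
      · rintro rfl; exact hgα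
    have h1 := hgS x
    rw [memS, memS, hne] at h1
    constructor
    · intro hx
      have hxα : x ≠ α := by
        rintro rfl
        rw [hgα] at hx
        exact hα hx
      rcases h1.mp (Or.inr hx) with h2 | h2
      · exact absurd h2 hxα
      · exact h2
    · intro hx
      have hxα : x ≠ α := by
        rintro rfl
        exact hα hx
      rcases h1.mpr (Or.inr hx) with h2 | h2
      · exact absurd h2 hxα
      · exact h2
  have : w = h * (h⁻¹ * w) := by group
  rw [this]
  exact H.mul_mem hh hgH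

end Cfsg.Agent.Helper8.HS
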