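import Mathlib
import Cfsg.Agent.Lib.Helper8.HallSnDefs
import Cfsg.Agent.Lib.Helper8.HallAnDefs
import Cfsg.Agent.Lib.Helper8.HSTr4

/-!
# HA-TR4: the alternating version of trans_T4 (helper8 plan `plans/HallSn_plan.md`, Theorem R)
-/

set_option autoImplicit false

namespace Cfsg.Agent.Helper8.HS

open Equiv Cfsg

universe u

variable {Ω : Type u} [Fintype Ω] [DecidableEq Ω]

set_option linter.unusedSectionVars false
set_option linter.unusedVariables false

namespace TR4A

/-- a 5-cycle built from two 3-cycles in `H` sharing one point forces `5 ∣ |H|` -/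
theorem five_dvd_alt {H : Subgroup (Perm Ω)} {p₁ p₂ p₃ p₄ p₅ : Ω}
    (hnd : [p₁, p₂, p₃, p₄, p₅].Nodup)
    (h123 : swap p₁ p₂ * swap p₂ p₃ ∈ H) (h345 : swap p₃ p₄ * swap p₄ p₅ ∈ H) :
    5 ∣ Nat.card H := by
  have hmem : List.formPerm [p₁, p₂, p₃, p₄, p₅] ∈ H := by
    simp only [List.formPerm_cons_cons, List.formPerm_singleton, mul_one]
    have := H.mul_mem h123 h345
    simpa [mul_assoc] using this
  have hpow : List.formPerm [p₁, p₂, p₃, p₄, p₅] ^ 5 = 1 := by
    have := List.formPerm_pow_length_eq_one_of_nodup _ hnd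
    simpa using this
  have hne : List.formPerm [p₁, p₂, p₃, p₄, p₅] ≠ 1 := by
    intro h1
    have h2 := List.formPerm_apply_head p₁ p₂ [p₃, p₄, p₅] hnd
    rw [h1, Perm.one_apply] at h2
    simp only [List.nodup_cons, List.mem_cons] at hnd
    exact hnd.1 (Or.inl h2)
  have : Fact (Nat.Prime 5) := ⟨by norm_num⟩
  have hord : orderOf (List.formPerm [p₁, p₂, p₃, p₄, p₅]) = 5 := orderOf_eq_prime hpow hne
  have h2 := orderOf_dvd_natCard (⟨_, hmem⟩ : H)
  rw [Subgroup.orderOf_mk, hord] at h2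
  exact h2

/-- the 3-cycle `(x d e)` is even -/
theorem c3_sign {x d e : Ω} (hxd : x ≠ d) (hde : d ≠ e) :
    Perm.sign (Equiv.swap x d * Equiv.swap d e) = 1 := by
  rw [Perm.sign_mul, Perm.sign_swap hxd, Perm.sign_swap hde]
  rfl

theorem c3_fix {x d e y : Ω} (hyx : y ≠ x) (hyd : y ≠ d) (hye : y ≠ e) :
    (Equiv.swap x d * Equiv.swap d e) y = y := by
  rw [Perm.mul_apply, Equiv.swap_apply_of_ne_of_ne hyd hye, Equiv.swap_apply_of_ne_of_ne hyx hyd]

end TR4A

open TR4 TR4A

/-- Let `M ≤ Alt(Ω)` be transitive on 8 points, of order prime to 5, such that the stabilizer of `α`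
consists of all the even permutations fixing `α` and preserving the 3-set `S₀ ∌ α`.  Then `M` consists
of the even permutations preserving a partition into two 4-sets.  (As `trans_T4`: with `T` the 4-set
outside `S₀ ∪ {α}`, all 3-cycles on `T` lie in `M`; if `hT` meets `T` properly, a 3-cycle on `T` and one
on `hT` sharing exactly one point multiply to a 5-cycle.) -/
theorem trans_T4_alt {M : Subgroup (Perm Ω)} (hMA : M ≤ alternatingGroup Ω)
    (htr : MulAction.IsPretransitive (↥M) Ω)
    (hcard : Fintype.card Ω = 8) (α : Ω) (S₀ : Finset Ω) (hS₀ : S₀.card = 3) (hα : α ∉ S₀)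
    (hmem : ∀ σ : Perm Ω, Perm.sign σ = 1 → σ α = α → (σ ∈ M ↔ ∀ x, σ x ∈ S₀ ↔ x ∈ S₀))
    (h5 : ¬ 5 ∣ Nat.card M) :
    ∃ S : Finset Ω, S.card = 4 ∧
      ∀ σ : Perm Ω, Perm.sign σ = 1 →
        (σ ∈ M ↔ ((∀ x, σ x ∈ S ↔ x ∈ S) ∨ (∀ x, σ x ∈ S ↔ x ∉ S))) := by
  classical
  obtain ⟨S, hSdef⟩ : ∃ S : Finset Ω, S = insert α S₀ := ⟨_, rfl⟩
  have hScard : S.card = 4 := by rw [hSdef, Finset.card_insert_of_notMem hα, hS₀]
  have memS : ∀ x, x ∈ S ↔ x = α ∨ x ∈ S₀ := by
    intro x; rw [hSdef, Finset.mem_insert]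
  have hαS : α ∈ S := (memS α).mpr (Or.inl rfl)
  have hTcard : Sᶜ.card = 4 := by rw [Finset.card_compl, hcard, hScard]
  -- Step A: even permutations fixing `S` pointwise lie in `M`
  have stepA : ∀ σ : Perm Ω, Perm.sign σ = 1 → (∀ x ∈ S, σ x = x) → σ ∈ M := by
    intro σ hs hσ
    rw [hmem σ hs (hσ α hαS)]
    intro x
    constructor
    · intro hx
      have h1 : σ (σ x) = σ x := hσ _ ((memS _).mpr (Or.inr hx))
      have h2 : σ x = x := σ.injective h1
      rw [← h2]; exact hx
    · intro hx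
      rw [hσ x ((memS x).mpr (Or.inr hx))]; exact hx
  have c3T : ∀ a b c : Ω, a ∉ S → b ∉ S → c ∉ S → a ≠ b → b ≠ c → swap a b * swap b c ∈ M := by
    intro a b c ha hb hc hab hbc
    apply stepA _ (c3_sign hab hbc)
    intro x hx
    apply c3_fix
    · rintro rfl; exact ha hx
    · rintro rfl; exact hb hx
    · rintro rfl; exact hc hx
  -- Step C: the key claim
  have stepC : ∀ h ∈ M, ∀ x₀ y₀ : Ω, x₀ ∉ S → h x₀ ∉ S → y₀ ∉ S → h y₀ ∈ S → False := by
    intro h hh x₀ y₀ hx₀ hhx₀ hy₀ hhy₀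
    have hxy : x₀ ≠ y₀ := by rintro rfl; exact hhx₀ hhy₀
    obtain ⟨z, hz⟩ : (Sᶜ \ {x₀, y₀}).Nonempty := by
      apply Finset.card_pos.1
      have h1 := Finset.le_card_sdiff ({x₀, y₀} : Finset Ω) Sᶜ
      have h2 : ({x₀, y₀} : Finset Ω).card ≤ 2 := Finset.card_le_two
      omega
    rw [Finset.mem_sdiff, Finset.mem_compl, Finset.mem_insert, Finset.mem_singleton, not_or] at hz
    obtain ⟨hzS, hzx, hzy⟩ := hz
    have hcard2 : 1 < (Sᶜ \ {h x₀, h z}).card := by
      have h1 := Finset.le_card_sdiff ({h x₀, h z} : Finset Ω) Sᶜ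
      have h2 : ({h x₀, h z} : Finset Ω).card ≤ 2 := Finset.card_le_two
      omega
    obtain ⟨t₁, ht₁, t₂, ht₂, ht12⟩ := Finset.one_lt_card.1 hcard2
    rw [Finset.mem_sdiff, Finset.mem_compl, Finset.mem_insert, Finset.mem_singleton, not_or]
      at ht₁ ht₂
    obtain ⟨ht₁S, ht₁x, ht₁z⟩ := ht₁
    obtain ⟨ht₂S, ht₂x, ht₂z⟩ := ht₂
    have hconj : swap (h x₀) (h y₀) * swap (h y₀) (h z) ∈ M := by
      rw [swap_apply_apply, swap_apply_apply]
      have := M.mul_mem (M.mul_mem hh (c3T x₀ y₀ z hx₀ hy₀ hzS hxy (Ne.symm hzy))) (M.inv_mem hh)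
      convert this using 1
      group
    have nc : ∀ t : Ω, t ∉ S → t ≠ h y₀ := by
      rintro t ht rfl; exact ht hhy₀
    apply h5
    apply five_dvd_alt (p₁ := t₁) (p₂ := t₂) (p₃ := h x₀) (p₄ := h y₀) (p₅ := h z)
    · simp only [List.nodup_cons, List.mem_cons, List.not_mem_nil, or_false, not_or,
        List.nodup_nil, and_true, not_false_eq_true]
      refine ⟨⟨ht12, ht₁x, nc t₁ ht₁S, ht₁z⟩, ⟨ht₂x, nc t₂ ht₂S, ht₂z⟩, ⟨?_, ?_⟩, ?_⟩
      · exact fun e => hxy (h.injective e)
      · exact fun e => hzx (h.injective e).symm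
      · exact fun e => hzy (h.injective e).symm
    · exact c3T t₁ t₂ (h x₀) ht₁S ht₂S hhx₀ ht12 ht₂x
    · exact hconj
  -- Step D: elements of `M` preserve or exchange
  have stepD : ∀ h ∈ M, PE S h := by
    intro h hh
    by_cases hA : ∃ x, x ∉ S ∧ h x ∉ S
    · obtain ⟨x₀, hx₀, hhx₀⟩ := hA
      have hB : ∀ y, y ∉ S → h y ∉ S := by
        intro y hy hhy
        exact stepC h hh x₀ y hx₀ hhx₀ hy hhy
      left
      have himg : Sᶜ.image h = Sᶜ := by
        apply Finset.eq_of_subset_of_card_le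
        · intro z hz
          rw [Finset.mem_image] at hz
          obtain ⟨y, hy, rfl⟩ := hz
          rw [Finset.mem_compl] at hy ⊢
          exact hB y hy
        · rw [Finset.card_image_of_injective _ h.injective]
      intro x
      constructor
      · intro hx
        by_contra hxS
        exact hB x hxS hx
      · intro hx
        by_contra hhx
        have h1 : h x ∈ Sᶜ.image h := by rw [himg, Finset.mem_compl]; exact hhx
        rw [Finset.mem_image] at h1
        obtain ⟨y, hy, hyx⟩ := h1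
        rw [Finset.mem_compl] at hy
        exact hy (h.injective hyx ▸ hx)
    · push Not at hA
      right
      have himg : Sᶜ.image h = S := by
        apply Finset.eq_of_subset_of_card_le
        · intro z hz
          rw [Finset.mem_image] at hz
          obtain ⟨y, hy, rfl⟩ := hz
          rw [Finset.mem_compl] at hy
          exact hA y hy
        · rw [Finset.card_image_of_injective _ h.injective, hTcard, hScard]
      intro x
      constructor
      · intro hx hxS
        have h1 : h x ∈ Sᶜ.image h := by rw [himg]; exact hx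
        rw [Finset.mem_image] at h1
        obtain ⟨y, hy, hyx⟩ := h1
        rw [Finset.mem_compl] at hy
        exact hy (h.injective hyx ▸ hxS)
      · intro hx
        exact hA x hx
  refine ⟨S, hScard, fun w hws => ⟨fun hw => stepD w hw, fun hw => ?_⟩⟩
  -- Step E: the converse
  obtain ⟨⟨h, hh⟩, hhα⟩ := MulAction.exists_smul_eq (↥M) α (w α)
  have hhα' : h α = w α := hhα
  have hhs : Perm.sign h = 1 := Perm.mem_alternatingGroup.1 (hMA hh)
  have hg : PE S (h⁻¹ * w) := PE_mul (PE_inv (stepD h hh)) hw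
  have hgs : Perm.sign (h⁻¹ * w) = 1 := by
    rw [Perm.sign_mul, Perm.sign_inv, hhs, hws, mul_one]
  have hgα : (h⁻¹ * w) α = α := by
    rw [Perm.mul_apply, ← hhα', inv_apply_self']
  have hgS : ∀ x, (h⁻¹ * w) x ∈ S ↔ x ∈ S := by
    rcases hg with hg | hg
    · exact hg
    · exfalso
      have := (hg α).mp (by rw [hgα]; exact hαS)
      exact this hαS
  have hgH : h⁻¹ * w ∈ M := by
    rw [hmem _ hgs hgα]
    intro x
    have hne : ∀ y, (h⁻¹ * w) y = α ↔ y = α := by
      intro y
      constructor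
      · intro hy
        apply (h⁻¹ * w).injective
        rw [hy, hgα]
      · rintro rfl; exact hgα
    have h1 := hgS x
    rw [memS, memS, hne] at h1
    constructor
    · intro hx
      have hxα : x ≠ α := by
        rintro rfl
        rw [hgα] at hx
        exact hα hx
      rcases h1.mp (Or.inr hx) with h2 | h2
      · exact absurd h2 hxα
      · exact h2
    · intro hx
      have hxα : x ≠ α := by
        rintro rfl
        exact hα hx
      rcases h1.mpr (Or.inr hx) with h2 | h2
      · exact absurd h2 hxα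
      · exact h2
  have : w = h * (h⁻¹ * w) := by group
  rw [this]
  exact M.mul_mem hh hgH

end Cfsg.Agent.Helper8.HS
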