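import Mathlib
import Cfsg.Agent.Lib.Helper8.HallSnDefs

/-!
# Hall subgroups of `Sym(Ω)`: basic facts and transport lemmas (helper8)
-/

set_option autoImplicit false
set_option linter.unusedSectionVars false

namespace Cfsg.Agent.Helper8.HS

open Equiv Cfsg

universe u

variable {Ω : Type u} [Fintype Ω] [DecidableEq Ω]

theorem natCard_perm : Nat.card (Perm Ω) = (Fintype.card Ω).factorial := by
  rw [Nat.card_eq_fintype_card, Fintype.card_perm]

/-- A prime dividing the order of a subgroup of `Sym(Ω)` is at most `|Ω|`. -/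
theorem prime_le_of_dvd_card {H : Subgroup (Perm Ω)} {p : ℕ} (hp : p.Prime)
    (h : p ∣ Nat.card H) : p ≤ Fintype.card Ω := by
  have h1 : p ∣ (Fintype.card Ω).factorial := by
    rw [← natCard_perm]
    exact h.trans (Subgroup.card_subgroup_dvd_card H)
  exact (hp.dvd_factorial).mp h1

/-- A prime dividing the index of a subgroup of `Sym(Ω)` is at most `|Ω|`. -/
theorem prime_le_of_dvd_index {H : Subgroup (Perm Ω)} {p : ℕ} (hp : p.Prime)
    (h : p ∣ H.index) : p ≤ Fintype.card Ω := by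
  have h1 : p ∣ (Fintype.card Ω).factorial := by
    rw [← natCard_perm]
    exact h.trans (Subgroup.index_dvd_card H)
  exact (hp.dvd_factorial).mp h1

theorem eq_top_of_allIn {π : Set ℕ} {H : Subgroup (Perm Ω)} (hH : IsPiHall π H)
    (hall : AllIn π (Fintype.card Ω)) : H = ⊤ := by
  rw [← Subgroup.index_eq_one]
  by_contra hne
  obtain ⟨p, hp, hpd⟩ := Nat.exists_prime_and_dvd hne
  exact hH.2 p hp (hall p hp (prime_le_of_dvd_index hp hpd)) hpd

theorem allIn_of_top {π : Set ℕ} (hH : IsPiHall π (⊤ : Subgroup (Perm Ω))) :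
    AllIn π (Fintype.card Ω) := by
  intro p hp hpn
  apply hH.1 p hp
  rw [Subgroup.card_top, natCard_perm]
  exact (hp.dvd_factorial).mpr hpn

theorem concl_of_top {π : Set ℕ} {H : Subgroup (Perm Ω)} (hH : IsPiHall π H) (htop : H = ⊤) :
    Concl π H := by
  subst htop
  exact Or.inr (Or.inl ⟨allIn_of_top hH, rfl⟩)

/-- A prime of `π` dividing `|H|`... the converse direction: the primes dividing `|H|` lie in `π`. -/
theorem mem_of_dvd_card {π : Set ℕ} {H : Subgroup (Perm Ω)} (hH : IsPiHall π H) {p : ℕ}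
    (hp : p.Prime) (h : p ∣ Nat.card H) : p ∈ π := hH.1 p hp h

theorem not_atMostOne_iff {π : Set ℕ} {n : ℕ} :
    ¬ AtMostOne π n ↔ ∃ p q : ℕ, PiLe π n p ∧ PiLe π n q ∧ p ≠ q := by
  unfold AtMostOne
  push_neg
  constructor
  · rintro ⟨p, q, hp, hq, hne⟩
    exact ⟨p, q, hp, hq, hne⟩
  · rintro ⟨p, q, hp, hq, hne⟩
    exact ⟨p, q, hp, hq, hne⟩

theorem not_allIn_iff {π : Set ℕ} {n : ℕ} :
    ¬ AllIn π n ↔ ∃ r : ℕ, r.Prime ∧ r ≤ n ∧ r ∉ π := by
  unfold AllIn
  push_neg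
  rfl

section transport

variable (H : Subgroup (Perm Ω)) (q : Ω → Prop) [DecidablePred q]

/-- If `σ` preserves `q` and fixes every point outside `q`, then `σ ∈ H` iff its restriction lies
in `resSub H q`. -/
theorem mem_iff_subtypePerm_mem (σ : Perm Ω) (h₁ : ∀ x, q (σ x) ↔ q x)
    (h₂ : ∀ x, σ x ≠ x → q x) : σ ∈ H ↔ σ.subtypePerm h₁ ∈ resSub H q := by
  rw [mem_resSub, Perm.ofSubtype_subtypePerm h₁ h₂]

theorem ofSubtype_mem_of_mem_resSub {τ : Perm {x // q x}} (hτ : τ ∈ resSub H q) :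
    Perm.ofSubtype τ ∈ H := hτ

end transport

theorem fix_ne {α : Ω} {σ : Perm Ω} (hσ : σ α = α) : ∀ x, σ x ≠ α ↔ x ≠ α := by
  intro x
  constructor
  · intro h hx
    exact h (hx ▸ hσ)
  · intro h hx
    apply h
    apply σ.injective
    rw [hx, hσ]

theorem moved_ne {α : Ω} {σ : Perm Ω} (hσ : σ α = α) : ∀ x, σ x ≠ x → x ≠ α := by
  intro x hx hxa
  exact hx (hxa ▸ hσ)

/-- For `σ` fixing `α`: `σ ∈ H` iff the restriction of `σ` to `Ω ∖ {α}` lies in `resSub H (· ≠ α)`. -/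
theorem mem_iff_of_fix (H : Subgroup (Perm Ω)) {α : Ω} {σ : Perm Ω} (hσ : σ α = α) :
    σ ∈ H ↔ σ.subtypePerm (fix_ne hσ) ∈ resSub H (fun x => x ≠ α) :=
  mem_iff_subtypePerm_mem H (fun x => x ≠ α) σ (fix_ne hσ) (moved_ne hσ)

theorem card_ne (α : Ω) : Fintype.card {x // x ≠ α} = Fintype.card Ω - 1 := by
  rw [Fintype.card_subtype_compl, Fintype.card_subtype_eq]

/-- `ofSubtype τ` fixes `α` for `τ` a permutation of `Ω ∖ {α}`. -/
theorem ofSubtype_fix (α : Ω) (τ : Perm {x // x ≠ α}) : Perm.ofSubtype τ α = α :=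
  Perm.ofSubtype_apply_of_not_mem τ (by simp)

end Cfsg.Agent.Helper8.HS
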