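import Mathlib
import Cfsg.Agent.Lib.Helper8.HallSnDefs

/-!
# Hall subgroups of `Sym(Ω)` contain `p`-cycles (piece HS-CYC, helper8 plan; proof by helper25)
-/

set_option autoImplicit false
set_option linter.style.haveILetI false

namespace Cfsg.Agent.Helper8.HS

open Equiv Cfsg

universe u

variable {Ω : Type u} [Fintype Ω] [DecidableEq Ω]

/-- a cycle with support of any given size `2 ≤ p ≤ |Ω|` -/
private theorem hscyc_exists_cycle {p : ℕ} (hp2 : 2 ≤ p) (hpn : p ≤ Fintype.card Ω) :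
    ∃ c : Perm Ω, c.IsCycle ∧ c.support.card = p := by
  have h1 : p ≤ (Finset.univ : Finset Ω).card := by rw [Finset.card_univ]; exact hpn
  obtain ⟨t, -, ht⟩ := Finset.exists_subset_card_eq h1
  have hnd : t.toList.Nodup := t.nodup_toList
  have hlen : t.toList.length = p := by rw [Finset.length_toList, ht]
  refine ⟨t.toList.formPerm, List.isCycle_formPerm hnd (by omega), ?_⟩
  rw [List.support_formPerm_of_nodup _ hnd, Finset.toList_toFinset, ht]
  intro x hx
  rw [hx] at hlen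
  simp at hlen
  omega

/-- A Hall `π`-subgroup of `Sym(Ω)` contains a `p`-cycle for every prime `p ∈ π` with `p ≤ |Ω|`:
a Sylow `p`-subgroup of `H` is a Sylow `p`-subgroup of `Sym(Ω)` (no prime of `π` divides the index),
and by Sylow's theorem a conjugate of any given `p`-cycle lies in it. -/
theorem exists_cycle_mem {π : Set ℕ} {H : Subgroup (Perm Ω)} (hH : IsPiHall π H) {p : ℕ}
    (hp : p.Prime) (hpπ : p ∈ π) (hpn : p ≤ Fintype.card Ω) :
    ∃ g ∈ H, g.IsCycle ∧ g.support.card = p := by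
  haveI : Fact p.Prime := ⟨hp⟩
  obtain ⟨c, hc, hcp⟩ := hscyc_exists_cycle (Ω := Ω) hp.two_le hpn
  -- a Sylow `p`-subgroup of `H`, seen in `Perm Ω`, is a Sylow `p`-subgroup of `Perm Ω`
  obtain ⟨P₀⟩ := (inferInstance : Nonempty (Sylow p H))
  have hP1 : IsPGroup p ↥((P₀ : Subgroup H).map H.subtype) :=
    P₀.isPGroup'.map H.subtype
  have hP2 : ¬ p ∣ ((P₀ : Subgroup H).map H.subtype).index := by
    rw [Subgroup.index_map_subtype]
    intro hdvd
    rcases (Nat.Prime.dvd_mul hp).mp hdvd with h | h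
    · exact P₀.not_dvd_index h
    · exact hH.2 p hp hpπ h
  -- the cyclic group generated by `c` is a `p`-group
  have hc_ord : orderOf c = p := by rw [hc.orderOf, hcp]
  have hZ : IsPGroup p ↥(Subgroup.zpowers c) := by
    apply IsPGroup.of_card (n := 1)
    rw [Nat.card_zpowers, hc_ord, pow_one]
  obtain ⟨Q, hQ⟩ := hZ.exists_le_sylow
  obtain ⟨g, hg⟩ := MulAction.exists_smul_eq (Perm Ω) Q (hP1.toSylow hP2)
  have hcQ : c ∈ (Q : Subgroup (Perm Ω)) := hQ (Subgroup.mem_zpowers c)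
  have hmem : g * c * g⁻¹ ∈ ((hP1.toSylow hP2 : Sylow p (Perm Ω)) : Subgroup (Perm Ω)) := by
    rw [← hg, Sylow.coe_subgroup_smul, Subgroup.mem_pointwise_smul_iff_inv_smul_mem]
    have : (MulAut.conj g)⁻¹ • (g * c * g⁻¹) = c := by
      rw [← map_inv, MulAut.smul_def, MulAut.conj_apply]
      group
    rw [this]
    exact hcQ
  rw [IsPGroup.toSylow_coe] at hmem
  obtain ⟨x, -, hx⟩ := Subgroup.mem_map.mp hmem
  refine ⟨g * c * g⁻¹, ?_, hc.conj, ?_⟩
  · rw [← hx]
    exact x.2
  · rw [Perm.card_support_conj, hcp]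

end Cfsg.Agent.Helper8.HS
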