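import Mathlib

/-!
# A binomial coefficient lemma (piece HS-N2 of the Hall--Thompson plan, helper8)

If `2 ≤ d ≤ m` and no prime `p ≤ m` divides `(m+d).choose d` then `(m,d) = (4,3)`.
Paper proof: `plans/HallSn_plan.md`, Lemma N2.  Proved by helper1.
-/

set_option autoImplicit false

namespace Cfsg.Agent.Helper8.HS

private theorem n2_half (x p : ℕ) (hx : 2 ≤ x) (hnp : ¬ x.Prime) (hp : p.Prime) (hpx : p ∣ x) : 2 * p ≤ x := by
  obtain ⟨k, rfl⟩ := hpx
  have hk0 : k ≠ 0 := by rintro rfl; omega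
  have hk1 : k ≠ 1 := by rintro rfl; rw [mul_one] at hnp; exact hnp hp
  have : 2 ≤ k := by omega
  calc 2 * p = p * 2 := by ring
    _ ≤ p * k := Nat.mul_le_mul_left p this

private theorem n2_div12 (e : ℕ) (h : (e + 5) ∣ 12) : e = 1 ∨ e = 7 := by
  have hle := Nat.le_of_dvd (by norm_num) h
  have : e ≤ 7 := by omega
  interval_cases e
  all_goals first
    | (left; rfl)
    | (right; rfl)
    | (exfalso; revert h; decide)

theorem choose_prime_factor (m d : ℕ) (hd : 2 ≤ d) (hdm : d ≤ m)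
    (h : ∀ p : ℕ, p.Prime → p ≤ m → ¬ p ∣ (m + d).choose d) : m = 4 ∧ d = 3 := by
  obtain ⟨e, rfl⟩ : ∃ e, d = e + 2 := ⟨d - 2, by omega⟩
  set C := (m + (e + 2)).choose (e + 2) with hC
  have cop : ∀ x, (∀ p, p.Prime → p ∣ x → p ≤ m) → Nat.Coprime x C := fun x hx =>
    Nat.coprime_of_dvd (fun p hp hpx => h p hp (hx p hp hpx))
  have cop_le : ∀ x, x ≤ m → 0 < x → Nat.Coprime x C := fun x hxm hx0 =>
    cop x (fun p hp hpx => (Nat.le_of_dvd hx0 hpx).trans hxm)
  have cop_comp : ∀ x, 2 ≤ x → ¬ x.Prime → x ≤ 2 * m + 1 → Nat.Coprime x C := fun x hx2 hxp hxm =>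
    cop x (fun p hp hpx => by have := n2_half x p hx2 hxp hp hpx; omega)
  -- (1)
  have h1 : e + 2 < m := by
    rcases Nat.lt_or_ge (e + 2) m with h1 | h1
    · exact h1
    · exfalso
      have hdm' : e + 2 = m := le_antisymm hdm h1
      subst hdm'
      apply h 2 Nat.prime_two hd
      have := Nat.two_dvd_centralBinom_of_one_le (n := e + 2) (by omega)
      rwa [Nat.centralBinom_eq_two_mul_choose, two_mul] at this
  have hCm : (m + (e + 2)).choose m = C := by rw [hC]; exact Nat.choose_symm_add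
  -- (2)
  have h2 : (e + 3) ∣ m := by
    have e1 := Nat.add_one_mul_choose_eq (m + (e + 2)) (e + 2)
    rw [← hC] at e1
    have hdvd : (e + 3) ∣ (m + (e + 2) + 1) * C := ⟨(m + (e + 2) + 1).choose (e + 2 + 1), by
      rw [e1]; ring⟩
    have := (cop_le (e + 3) (by omega) (by omega)).dvd_of_dvd_mul_right hdvd
    rw [show m + (e + 2) + 1 = (e + 3) + m by ring] at this
    exact (Nat.dvd_add_right (dvd_refl (e + 3))).1 this
  -- (3)
  have h3 : (m + 1).Prime := by
    by_contra hnp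
    have e1 := Nat.add_one_mul_choose_eq (m + (e + 2)) m
    rw [hCm] at e1
    have hdvd : (m + 1) ∣ (m + (e + 2) + 1) * C := ⟨(m + (e + 2) + 1).choose (m + 1), by
      rw [e1]; ring⟩
    have := (cop_comp (m + 1) (by omega) hnp (by omega)).dvd_of_dvd_mul_right hdvd
    rw [show m + (e + 2) + 1 = (m + 1) + (e + 2) by ring] at this
    have h' : (m + 1) ∣ (e + 2) := (Nat.dvd_add_right (dvd_refl (m + 1))).1 this
    have := Nat.le_of_dvd (by omega) h'
    omega
  -- (4)
  have e4 := Nat.add_one_mul_choose_eq (m + e + 1) (e + 1)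
  rw [show m + e + 1 + 1 = m + (e + 2) by ring, show e + 1 + 1 = e + 2 by ring, ← hC] at e4
  have h4 : (m + (e + 2)).Prime := by
    by_contra hnp
    have hdvd : (m + (e + 2)) ∣ (e + 2) * C := ⟨(m + e + 1).choose (e + 1), by rw [e4]; ring⟩
    have h' := (cop_comp (m + (e + 2)) (by omega) hnp (by omega)).dvd_of_dvd_mul_right hdvd
    have := Nat.le_of_dvd (by omega) h'
    omega
  -- (5)
  have e5 := Nat.add_one_mul_choose_eq (m + e) e
  have hodd : Odd (m + (e + 2)) := h4.odd_of_ne_two (by omega)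
  have hnp5 : ¬ (m + e + 1).Prime := by
    intro hp
    have : Even (m + e + 1) := by
      obtain ⟨j, hj⟩ := hodd
      exact ⟨j, by omega⟩
    have := (hp.even_iff).1 this
    omega
  have h5 : (m + e + 1) ∣ (e + 2) * (e + 1) := by
    have hdvd : (m + e + 1) ∣ ((e + 2) * (e + 1)) * C := by
      have hh : (m + e + 1) * ((m + (e + 2)) * (m + e).choose e) = ((e + 2) * (e + 1)) * C := by
        calc (m + e + 1) * ((m + (e + 2)) * (m + e).choose e)
            = (m + (e + 2)) * ((m + e + 1) * (m + e).choose e) := by ring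
          _ = (m + (e + 2)) * ((m + e + 1).choose (e + 1) * (e + 1)) := by rw [e5]
          _ = ((m + (e + 2)) * (m + e + 1).choose (e + 1)) * (e + 1) := by ring
          _ = (C * (e + 2)) * (e + 1) := by rw [e4]
          _ = ((e + 2) * (e + 1)) * C := by ring
      exact ⟨_, hh.symm⟩
    exact (cop_comp (m + e + 1) (by omega) hnp5 (by omega)).dvd_of_dvd_mul_right hdvd
  obtain ⟨k, hk⟩ := h2
  have hk0 : 0 < k := by
    rcases Nat.eq_zero_or_pos k with rfl | hk0
    · omega
    · exact hk0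
  have hprod : m + e + 1 = Nat.gcd (m + e + 1) (e + 2) * Nat.gcd (m + e + 1) (e + 1) := by
    have hc : Nat.Coprime (e + 2) (e + 1) := by
      rw [show e + 2 = (e + 1) + 1 by ring]
      exact (Nat.coprime_self_add_left).2 (Nat.coprime_one_left _)
    rw [← Nat.Coprime.gcd_mul _ hc]
    exact (Nat.gcd_eq_left h5).symm
  have hg1 : Nat.gcd (m + e + 1) (e + 2) ∣ k - 1 := by
    have hd1 : Nat.gcd (m + e + 1) (e + 2) ∣ (k + 1) * (e + 2) + (k - 1) := by
      have : (k + 1) * (e + 2) + (k - 1) = m + e + 1 := by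
        rw [hk]
        have : k - 1 + 1 = k := by omega
        nlinarith
      rw [this]
      exact Nat.gcd_dvd_left _ _
    exact (Nat.dvd_add_right (Dvd.dvd.mul_left (Nat.gcd_dvd_right _ _) _)).1 hd1
  have hk1 : k = 1 := by
    by_contra hk1
    have hk2 : 2 ≤ k := by omega
    have l1 : Nat.gcd (m + e + 1) (e + 2) ≤ k - 1 := Nat.le_of_dvd (by omega) hg1
    have l2 : Nat.gcd (m + e + 1) (e + 1) ≤ e + 1 := Nat.le_of_dvd (by omega) (Nat.gcd_dvd_right _ _)
    have l3 : m + e + 1 ≤ (k - 1) * (e + 1) := by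
      rw [hprod]
      exact Nat.mul_le_mul l1 l2
    have l4 : (k - 1) * (e + 1) ≤ k * (e + 1) := Nat.mul_le_mul_right _ (by omega)
    have l5 : k * (e + 1) < (e + 3) * k := by nlinarith
    omega
  subst hk1
  rw [mul_one] at hk
  subst hk
  -- now m = e + 3
  have he_odd : Odd e := by
    have := h3.odd_of_ne_two (by omega)
    obtain ⟨j, hj⟩ := this
    exact ⟨j - 2, by omega⟩
  -- (7)
  have hnp7 : ¬ (e + 5).Prime := by
    intro hp
    have : Even (e + 5) := by
      obtain ⟨j, hj⟩ := he_odd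
      exact ⟨j + 3, by omega⟩
    have := (hp.even_iff).1 this
    omega
  have e6 := Nat.add_one_mul_choose_eq (e + 3 + (e + 2)) (e + 3)
  rw [hCm] at e6
  have e7 := Nat.add_one_mul_choose_eq (e + 3 + (e + 2) + 1) (e + 3 + 1)
  have h7 : (e + 5) ∣ 12 := by
    have hdvd : (e + 5) ∣ ((2 * e + 7) * (2 * e + 6)) * C := by
      have hh : (e + 5) * ((e + 3 + (e + 2) + 1 + 1).choose (e + 3 + 1 + 1) * (e + 4)) =
          ((2 * e + 7) * (2 * e + 6)) * C := by
        calc (e + 5) * ((e + 3 + (e + 2) + 1 + 1).choose (e + 3 + 1 + 1) * (e + 4))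
            = ((e + 3 + (e + 2) + 1 + 1).choose (e + 3 + 1 + 1) * (e + 3 + 1 + 1)) * (e + 4) := by ring
          _ = ((e + 3 + (e + 2) + 1 + 1) * (e + 3 + (e + 2) + 1).choose (e + 3 + 1)) * (e + 4) := by rw [e7]
          _ = (e + 3 + (e + 2) + 1 + 1) * ((e + 3 + (e + 2) + 1).choose (e + 3 + 1) * (e + 3 + 1)) := by ring
          _ = (e + 3 + (e + 2) + 1 + 1) * ((e + 3 + (e + 2) + 1) * C) := by rw [e6]
          _ = ((2 * e + 7) * (2 * e + 6)) * C := by ring
      exact ⟨_, hh.symm⟩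
    have h' := (cop_comp (e + 5) (by omega) hnp7 (by omega)).dvd_of_dvd_mul_right hdvd
    rw [show (2 * e + 7) * (2 * e + 6) = (e + 5) * (4 * e + 6) + 12 by ring] at h'
    exact (Nat.dvd_add_right (dvd_mul_right _ _)).1 h'
  rcases n2_div12 e h7 with rfl | rfl
  · exact ⟨rfl, rfl⟩
  · exfalso
    apply h 2 Nat.prime_two (by norm_num)
    rw [hC]
    decide

end Cfsg.Agent.Helper8.HS
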