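import Mathlib

/-!
# Small numerical facts for the Hall--Thompson classification (helper8)
-/

set_option autoImplicit false

namespace Cfsg.Agent.Helper8.HS

/-- `C(2m+1, m)` is even when `m + 1` is odd. -/
theorem two_dvd_choose_of_odd_succ (m : ℕ) (hm : 1 ≤ m) (hodd : ¬ 2 ∣ m + 1) :
    2 ∣ (2 * m + 1).choose m := by
  have h1 : (2 * m + 1) * (2 * m).choose m = (2 * m + 1).choose (m + 1) * (m + 1) :=
    Nat.add_one_mul_choose_eq (2 * m) m
  have h2 : 2 ∣ (2 * m).choose m := by
    have := Nat.two_dvd_centralBinom_of_one_le hm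
    rwa [Nat.centralBinom_eq_two_mul_choose] at this
  have h3 : 2 ∣ (2 * m + 1).choose (m + 1) * (m + 1) := by
    rw [← h1]
    exact Dvd.dvd.mul_left h2 _
  have h4 : 2 ∣ (2 * m + 1).choose (m + 1) := by
    rcases (Nat.Prime.dvd_mul Nat.prime_two).mp h3 with h | h
    · exact h
    · exact absurd h hodd
  rwa [Nat.choose_symm_half] at h4

/-- `3 ∣ C(8+d, 8)` for `1 ≤ d ≤ 8`. -/
theorem three_dvd_choose_eight (d : ℕ) (h1 : 1 ≤ d) (h8 : d ≤ 8) : 3 ∣ (8 + d).choose 8 := by
  interval_cases d <;> decide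

theorem two_dvd_choose_10_3 : 2 ∣ Nat.choose 10 3 := by decide

theorem two_dvd_choose_11_4 : 2 ∣ Nat.choose 11 4 := by decide

/-- A number `n ≥ 2` none of whose prime factors is `< n` is prime. -/
theorem prime_of_no_small_factor (n : ℕ) (hn : 2 ≤ n)
    (h : ∀ r : ℕ, r.Prime → r < n → ¬ r ∣ n) : n.Prime := by
  by_contra hnp
  have h1 : n.minFac.Prime := Nat.minFac_prime (by omega)
  have h2 : n.minFac ∣ n := Nat.minFac_dvd n
  have h3 : n.minFac < n := by
    have := Nat.minFac_le (by omega : 0 < n)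
    rcases lt_or_eq_of_le this with h | h
    · exact h
    · exact absurd (Nat.prime_def_minFac.mpr ⟨hn, h⟩) hnp
  exact h _ h1 h3 h2

end Cfsg.Agent.Helper8.HS
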