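import Mathlib
import Cfsg.Agent.Lib.Helper8.HallSnDefs

/-!
# Orbits of the groups of types 3, 4, 5 (piece HS-ORB, helper8 plan; proofs by helper13)
-/

set_option autoImplicit false

namespace Cfsg.Agent.Helper8.HS

open Equiv Cfsg

universe u

variable {Ω : Type u} [Fintype Ω] [DecidableEq Ω]

private theorem orb_smul_def (K : Subgroup (Perm Ω)) (k : ↥K) (x : Ω) :
    k • x = (k : Perm Ω) x := rfl

private theorem orb_exists_ne (h : 2 ≤ Fintype.card Ω) (ω : Ω) : ∃ x : Ω, x ≠ ω := by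
  by_contra hc
  push Not at hc
  have : Fintype.card Ω ≤ 1 := Fintype.card_le_one_iff.2 fun a b => by rw [hc a, hc b]
  omega

/-- A point stabilizer in prime degree is not transitive. -/
theorem not_trans_of_isT3 {π : Set ℕ} {K : Subgroup (Perm Ω)} (h : IsT3 π K) :
    ¬ MulAction.IsPretransitive (↥K) Ω := by
  obtain ⟨hp, -, ω, hω⟩ := h
  intro htr
  obtain ⟨x, hx⟩ := orb_exists_ne hp.two_le ω
  obtain ⟨k, hk⟩ := htr.exists_smul_eq ω x
  rw [orb_smul_def] at hk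
  exact hx (hk ▸ ((hω k).1 k.2).symm ▸ rfl)

/-- The stabilizer of a 3-subset of 7 points is not transitive. -/
theorem not_trans_of_isT4 {π : Set ℕ} {K : Subgroup (Perm Ω)} (h : IsT4 π K) :
    ¬ MulAction.IsPretransitive (↥K) Ω := by
  obtain ⟨h7, -, S, hS, hK⟩ := h
  intro htr
  have hne : S.Nonempty := by
    rw [← Finset.card_pos]; omega
  obtain ⟨x, hx⟩ := hne
  have hne' : ∃ y, y ∉ S := by
    by_contra hc
    push Not at hc
    have : S = Finset.univ := Finset.eq_univ_iff_forall.2 hc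
    rw [this, Finset.card_univ] at hS
    omega
  obtain ⟨y, hy⟩ := hne'
  obtain ⟨k, hk⟩ := htr.exists_smul_eq x y
  rw [orb_smul_def] at hk
  have := ((hK k).1 k.2 x).2 hx
  rw [hk] at this
  exact hy this

private theorem orb_swap_mem {S : Finset Ω} {a b : Ω} (hab : a ∈ S ↔ b ∈ S) (x : Ω) :
    (swap a b) x ∈ S ↔ x ∈ S := by
  by_cases hxa : x = a
  · subst hxa; rw [swap_apply_left]; exact hab.symm
  by_cases hxb : x = b
  · subst hxb; rw [swap_apply_right]; exact hab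
  rw [swap_apply_of_ne_of_ne hxa hxb]

/-- The stabilizer of a partition of 8 points into two 4-sets contains a transposition. -/
theorem exists_swap_of_isT5 {π : Set ℕ} {K : Subgroup (Perm Ω)} (h : IsT5 π K) :
    ∃ g ∈ K, g.IsSwap := by
  obtain ⟨h8, -, S, hS, hK⟩ := h
  have h1 : 1 < S.card := by omega
  obtain ⟨a, ha, b, hb, hab⟩ := Finset.one_lt_card.1 h1
  refine ⟨swap a b, (hK _).2 (Or.inl fun x => orb_swap_mem (by simp [ha, hb]) x), a, b, hab, rfl⟩

/-- The stabilizer of a partition of 8 points into two 4-sets is transitive. -/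
theorem trans_of_isT5 {π : Set ℕ} {K : Subgroup (Perm Ω)} (h : IsT5 π K) :
    MulAction.IsPretransitive (↥K) Ω := by
  obtain ⟨h8, -, S, hS, hK⟩ := h
  -- an element exchanging `S` and its complement
  have hcard : Fintype.card {x // x ∈ S} = Fintype.card {x // x ∉ S} := by
    rw [Fintype.card_subtype_compl, Fintype.card_coe, hS, h8]
  let e : {x // x ∈ S} ≃ {x // x ∉ S} := Fintype.equivOfCardEq hcard
  let σ : Perm Ω :=
    (Equiv.sumCompl (· ∈ S)).symm.trans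
      ((Equiv.sumCongr e e.symm).trans ((Equiv.sumComm _ _).trans (Equiv.sumCompl (· ∈ S))))
  have hσ1 : ∀ x (hx : x ∈ S), σ x = e ⟨x, hx⟩ := by
    intro x hx
    simp [σ, Equiv.sumCompl_symm_apply_of_pos (p := (· ∈ S)) hx]
  have hσ2 : ∀ x (hx : x ∉ S), σ x = e.symm ⟨x, hx⟩ := by
    intro x hx
    simp [σ, Equiv.sumCompl_symm_apply_of_neg (p := (· ∈ S)) hx]
  have hσK : σ ∈ K := by
    refine (hK σ).2 (Or.inr fun x => ?_)
    by_cases hx : x ∈ S
    · rw [hσ1 x hx]; exact iff_of_false (e ⟨x, hx⟩).2 (not_not.2 hx)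
    · rw [hσ2 x hx]; exact iff_of_true (e.symm ⟨x, hx⟩).2 hx
  have hswap : ∀ a b : Ω, (a ∈ S ↔ b ∈ S) → swap a b ∈ K := fun a b hab =>
    (hK _).2 (Or.inl fun x => orb_swap_mem hab x)
  have hsame : ∀ a b : Ω, (a ∈ S ↔ b ∈ S) → ∃ k : ↥K, k • a = b := fun a b hab =>
    ⟨⟨swap a b, hswap a b hab⟩, by rw [orb_smul_def]; exact swap_apply_left a b⟩
  have hflip : ∀ a : Ω, ∃ k : ↥K, ¬ ((k • a) ∈ S ↔ a ∈ S) := by
    intro a
    refine ⟨⟨σ, hσK⟩, ?_⟩
    rw [orb_smul_def]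
    by_cases ha : a ∈ S
    · show ¬ (σ a ∈ S ↔ a ∈ S)
      rw [hσ1 a ha]; exact fun hc => (e ⟨a, ha⟩).2 (hc.2 ha)
    · show ¬ (σ a ∈ S ↔ a ∈ S)
      rw [hσ2 a ha]; exact fun hc => ha (hc.1 (e.symm ⟨a, ha⟩).2)
  refine ⟨fun x y => ?_⟩
  by_cases hxy : x ∈ S ↔ y ∈ S
  · exact hsame x y hxy
  · obtain ⟨k, hk⟩ := hflip x
    have : (k • x) ∈ S ↔ y ∈ S := by tauto
    obtain ⟨k', hk'⟩ := hsame (k • x) y this
    exact ⟨k' * k, by rw [mul_smul, hk']⟩

/-- A point stabilizer has an orbit of size `|Ω| - 1`. -/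
theorem big_orbit_of_isT3 {π : Set ℕ} {K : Subgroup (Perm Ω)} (h : IsT3 π K) :
    ∃ x : Ω, Fintype.card Ω ≤ Nat.card (MulAction.orbit (↥K) x) + 1 := by
  obtain ⟨hp, -, ω, hω⟩ := h
  obtain ⟨x, hx⟩ := orb_exists_ne hp.two_le ω
  refine ⟨x, ?_⟩
  have hsub : ({ω}ᶜ : Set Ω) ⊆ MulAction.orbit (↥K) x := by
    intro y hy
    have hy' : y ≠ ω := hy
    have hmem : swap x y ∈ K := (hω _).2 (swap_apply_of_ne_of_ne hx.symm hy'.symm)
    exact ⟨⟨swap x y, hmem⟩, by
      show (⟨swap x y, hmem⟩ : ↥K) • x = y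
      rw [orb_smul_def]; exact swap_apply_left x y⟩
  have h1 : ({ω}ᶜ : Set Ω).ncard ≤ (MulAction.orbit (↥K) x).ncard :=
    Set.ncard_le_ncard hsub (Set.toFinite _)
  have h2 : ({ω}ᶜ : Set Ω).ncard + 1 = Fintype.card Ω := by
    have := Set.ncard_add_ncard_compl ({ω} : Set Ω)
    rw [Set.ncard_singleton, Nat.card_eq_fintype_card] at this
    omega
  rw [Nat.card_coe_set_eq]
  omega

end Cfsg.Agent.Helper8.HS
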