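import Mathlib
import Cfsg.Agent.Lib.Helper8.HallSnDefs

/-!
# Hall subgroups and invariant subsets (piece HS-SPLIT, helper8 plan; proof by helper19)
-/

set_option autoImplicit false
set_option linter.unusedSectionVars false
set_option linter.unusedVariables false
set_option linter.style.haveILetI false
set_option linter.unusedSimpArgs false

namespace Cfsg.Agent.Helper8.HS

open Equiv Cfsg

universe u

variable {Ω : Type u} [Fintype Ω] [DecidableEq Ω]

namespace Split

variable (q : Ω → Prop) [DecidablePred q]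

theorem congr_one (τ : Perm {x // q x}) :
    Perm.subtypeCongrHom q (τ, 1) = Perm.ofSubtype τ := by
  ext x
  by_cases hx : q x
  · show (Perm.subtypeCongr τ 1) x = _
    rw [Perm.subtypeCongr.left_apply _ _ hx, Perm.ofSubtype_apply_of_mem _ hx]
  · show (Perm.subtypeCongr τ 1) x = _
    rw [Perm.subtypeCongr.right_apply _ _ hx, Perm.ofSubtype_apply_of_not_mem _ hx]
    rfl

theorem congr_restrict (σ : Perm Ω) (h : ∀ x, q (σ x) ↔ q x) :
    Perm.subtypeCongrHom q (σ.subtypePerm h, σ.subtypePerm (fun x => not_congr (h x))) = σ := by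
  ext x
  by_cases hx : q x
  · show (Perm.subtypeCongr _ _) x = _
    rw [Perm.subtypeCongr.left_apply _ _ hx]
    rfl
  · show (Perm.subtypeCongr _ _) x = _
    rw [Perm.subtypeCongr.right_apply _ _ hx]
    rfl

/-- the index of the set stabilizer `Perm S × Perm Sᶜ` is the binomial coefficient -/
theorem index_range :
    (Perm.subtypeCongrHom q).range.index =
      (Fintype.card Ω).choose (Fintype.card {x // q x}) := by
  classical
  have h1 := Subgroup.card_mul_index (Perm.subtypeCongrHom q).range
  have h2 : Nat.card (Perm.subtypeCongrHom q).range =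
      (Fintype.card {x // q x}).factorial * (Fintype.card {x // ¬ q x}).factorial := by
    have := Nat.card_range_of_injective (Perm.subtypeCongrHom_injective q)
    rw [show Nat.card (Perm.subtypeCongrHom q).range =
      Nat.card (Set.range (Perm.subtypeCongrHom q)) from rfl, this, Nat.card_prod,
      Nat.card_eq_fintype_card, Nat.card_eq_fintype_card, Fintype.card_perm, Fintype.card_perm]
  have h3 : Nat.card (Perm Ω) = (Fintype.card Ω).factorial := by
    rw [Nat.card_eq_fintype_card, Fintype.card_perm]
  have h4 : Fintype.card {x // ¬ q x} = Fintype.card Ω - Fintype.card {x // q x} :=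
    Fintype.card_subtype_compl q
  have h5 : Fintype.card {x // q x} ≤ Fintype.card Ω := Fintype.card_subtype_le q
  set n := Fintype.card Ω
  set n₁ := Fintype.card {x // q x}
  set n₂ := Fintype.card {x // ¬ q x}
  have hn : n₂ + n₁ = n := by omega
  have h6 := Nat.add_choose_mul_factorial_mul_factorial n₂ n₁
  rw [hn] at h6
  rw [h2, h3] at h1
  have hpos : 0 < n₁.factorial * n₂.factorial :=
    Nat.mul_pos (Nat.factorial_pos _) (Nat.factorial_pos _)
  apply Nat.eq_of_mul_eq_mul_left hpos
  rw [h1, ← h6]
  ring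

end Split

/-- Let `H` be a Hall `π`-subgroup of `Sym(Ω)` and `q` an `H`-invariant subset.  Then the part of
`H` supported on `q` is a Hall `π`-subgroup of `Sym(q)`, no prime of `π` divides the binomial
coefficient `|Ω| choose |q|`, and the restriction to `q` of every element of `H`, extended by the
identity, lies in `H`.  (Paper proof: `plans/HallSn_plan.md`, SPLIT.) -/
theorem split_invariant {π : Set ℕ} {H : Subgroup (Perm Ω)} (hH : IsPiHall π H)
    (q : Ω → Prop) [DecidablePred q] (hq : ∀ σ ∈ H, ∀ x, q (σ x) ↔ q x) :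
    IsPiHall π (resSub H q) ∧
    (∀ p : ℕ, p.Prime → p ∈ π →
      ¬ p ∣ (Fintype.card Ω).choose (Fintype.card {x // q x})) ∧
    (∀ σ ∈ H, ∃ τ ∈ resSub H q, ∀ x : {x // q x}, ((τ x : {x // q x}) : Ω) = σ x) := by
  classical
  obtain ⟨hpi, hidx⟩ := hH
  set Φ := Perm.subtypeCongrHom q with hΦ
  have hΦinj : Function.Injective Φ := Perm.subtypeCongrHom_injective q
  -- `H` lies in the set stabilizer
  have hHK : H ≤ Φ.range := by
    intro σ hσ
    exact ⟨_, Split.congr_restrict q σ (hq σ hσ)⟩
  -- (2)
  have h2 : ∀ p : ℕ, p.Prime → p ∈ π →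
      ¬ p ∣ (Fintype.card Ω).choose (Fintype.card {x // q x}) := by
    intro p hp hpπ hdvd
    rw [← Split.index_range q] at hdvd
    exact hidx p hp hpπ (hdvd.trans (Subgroup.index_dvd_of_le hHK))
  -- the pull-back `H'` of `H` to the product
  set H' : Subgroup (Perm {x // q x} × Perm {x // ¬ q x}) := H.comap Φ with hH'
  have hH'idx : ∀ p : ℕ, p.Prime → p ∈ π → ¬ p ∣ H'.index := by
    intro p hp hpπ hdvd
    rw [hH', Subgroup.index_comap] at hdvd
    exact hidx p hp hpπ (hdvd.trans (Subgroup.relIndex_dvd_index_of_le hHK))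
  have hH'pi : ∀ p : ℕ, p.Prime → p ∣ Nat.card H' → p ∈ π := by
    intro p hp hdvd
    exact hpi p hp (hdvd.trans (Subgroup.card_comap_dvd_of_injective H Φ hΦinj))
  -- membership in `resSub`
  have hmem : ∀ τ : Perm {x // q x}, τ ∈ resSub H q ↔ (τ, (1 : Perm {x // ¬ q x})) ∈ H' := by
    intro τ
    rw [mem_resSub, hH', Subgroup.mem_comap, hΦ, Split.congr_one]
  -- the second projection restricted to `H'`
  set f : H' →* Perm {x // ¬ q x} := (MonoidHom.snd _ _).comp H'.subtype with hf
  -- `ker f ≃ resSub`
  have hker : Nat.card f.ker = Nat.card (resSub H q) := by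
    apply Nat.card_congr
    refine
      { toFun := fun x => ⟨x.1.1.1, ?_⟩
        invFun := fun τ => ⟨⟨(τ.1, 1), (hmem τ.1).1 τ.2⟩, ?_⟩
        left_inv := ?_
        right_inv := ?_ }
    · have hx : x.1.1.2 = 1 := x.2
      rw [hmem]
      have : (x.1.1.1, (1 : Perm {x // ¬ q x})) = x.1.1 := by
        rw [← hx]
      rw [this]
      exact x.1.2
    · show ((1 : Perm {x // ¬ q x})) = 1
      rfl
    · intro x
      have hx : x.1.1.2 = 1 := x.2
      apply Subtype.ext
      apply Subtype.ext
      show (x.1.1.1, (1 : Perm {x // ¬ q x})) = x.1.1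
      rw [← hx]
    · intro τ
      rfl
  -- counting
  have hc1 : Nat.card f.ker * Nat.card f.range = Nat.card H' := by
    rw [← Subgroup.index_ker]
    exact Subgroup.card_mul_index f.ker
  have hc2 := Subgroup.card_mul_index H'
  have hc3 := Subgroup.card_mul_index (resSub H q)
  have hc4 := Subgroup.card_mul_index f.range
  rw [Nat.card_prod] at hc2
  have hdiv : (resSub H q).index ∣ H'.index := by
    refine ⟨f.range.index, ?_⟩
    have hpos : 0 < Nat.card (resSub H q) * Nat.card f.range :=
      Nat.mul_pos Nat.card_pos Nat.card_pos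
    apply Nat.eq_of_mul_eq_mul_left hpos
    calc Nat.card (resSub H q) * Nat.card f.range * H'.index
        = Nat.card H' * H'.index := by rw [← hker, hc1]
      _ = Nat.card (Perm {x // q x}) * Nat.card (Perm {x // ¬ q x}) := hc2
      _ = (Nat.card (resSub H q) * (resSub H q).index) *
            (Nat.card f.range * f.range.index) := by rw [hc3, hc4]
      _ = Nat.card (resSub H q) * Nat.card f.range *
            ((resSub H q).index * f.range.index) := by ring
  -- (1)
  have h1 : IsPiHall π (resSub H q) := by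
    refine ⟨?_, ?_⟩
    · intro p hp hdvd
      exact hpi p hp (hdvd.trans
        (Subgroup.card_comap_dvd_of_injective H Perm.ofSubtype Perm.ofSubtype_injective))
    · intro p hp hpπ hdvd
      exact hH'idx p hp hpπ (hdvd.trans hdiv)
  refine ⟨h1, h2, ?_⟩
  -- (3)
  set R₁ : Subgroup (Perm {x // q x}) := H'.map (MonoidHom.fst _ _) with hR₁
  have hle : resSub H q ≤ R₁ := by
    intro τ hτ
    exact ⟨(τ, 1), (hmem τ).1 hτ, rfl⟩
  have hrel : (resSub H q).relIndex R₁ = 1 := by
    rw [Nat.eq_one_iff_not_exists_prime_dvd]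
    intro p hp hdvd
    have hpπ : p ∈ π := by
      apply hH'pi p hp
      exact (hdvd.trans (Subgroup.relIndex_dvd_card _ _)).trans (Subgroup.card_map_dvd _ _)
    exact h1.2 p hp hpπ (hdvd.trans (Subgroup.relIndex_dvd_index_of_le hle))
  have hR₁le : R₁ ≤ resSub H q := Subgroup.relIndex_eq_one.1 hrel
  intro σ hσ
  refine ⟨σ.subtypePerm (hq σ hσ), hR₁le ?_, ?_⟩
  · refine ⟨(σ.subtypePerm (hq σ hσ), σ.subtypePerm (fun x => not_congr (hq σ hσ x))), ?_, rfl⟩
    show Φ _ ∈ H
    rw [hΦ, Split.congr_restrict]
    exact hσ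
  · intro x
    rfl

end Cfsg.Agent.Helper8.HS
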