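import Mathlib
import Cfsg.Agent.Lib.Helper8.HallSnDefs
import Cfsg.Agent.Lib.Helper8.HSBasic
import Cfsg.Agent.Lib.Helper8.HSNum
import Cfsg.Agent.Lib.Helper8.HSN2
import Cfsg.Agent.Lib.Helper8.HSCyc
import Cfsg.Agent.Lib.Helper8.HSSplit
import Cfsg.Agent.Lib.Helper8.HSOrb

/-!
# Hall subgroups of `Sym(Ω)`: the intransitive case (helper8)
-/

set_option autoImplicit false
set_option linter.unusedSectionVars false

namespace Cfsg.Agent.Helper8.HS

open Equiv Cfsg

universe u

variable {Ω : Type u} [Fintype Ω] [DecidableEq Ω]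

/-- A permutation preserving `q` is the product of its two restrictions. -/
theorem perm_eq_mul_ofSubtype (q : Ω → Prop) [DecidablePred q] (σ : Perm Ω)
    (h₁ : ∀ x, q (σ x) ↔ q x) (h₂ : ∀ x, ¬ q (σ x) ↔ ¬ q x) :
    σ = Perm.ofSubtype (σ.subtypePerm h₁) *
      Perm.ofSubtype (σ.subtypePerm (p := fun x => ¬ q x) h₂) := by
  ext x
  rw [Perm.mul_apply]
  by_cases hx : q x
  · rw [Perm.ofSubtype_apply_of_not_mem (p := fun x => ¬ q x) _ (not_not.mpr hx),
      Perm.ofSubtype_apply_of_mem (p := q) _ hx, Perm.subtypePerm_apply]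
  · rw [Perm.ofSubtype_apply_of_mem (p := fun x => ¬ q x) _ hx, Perm.subtypePerm_apply]
    have : ¬ q (σ x) := (h₂ x).mpr hx
    rw [Perm.ofSubtype_apply_of_not_mem (p := q) _ this]

/-- The orbit of `x` under the part of `H` supported on `q` injects into the orbit under `H`. -/
theorem card_orbit_resSub_le (H : Subgroup (Perm Ω)) (q : Ω → Prop) [DecidablePred q]
    (x : {x // q x}) :
    Nat.card (MulAction.orbit (↥(resSub H q)) x) ≤ Nat.card (MulAction.orbit (↥H) (x : Ω)) := by
  classical
  apply Nat.card_le_card_of_injective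
    (fun y : MulAction.orbit (↥(resSub H q)) x =>
      (⟨((y : {x // q x}) : Ω), by
        obtain ⟨τ, hτ⟩ := y.2
        refine ⟨⟨Perm.ofSubtype (τ : Perm {x // q x}), τ.2⟩, ?_⟩
        have hτ' : (τ : Perm {x // q x}) x = (y : {x // q x}) := hτ
        show Perm.ofSubtype (τ : Perm {x // q x}) (x : Ω) = _
        rw [Perm.ofSubtype_apply_coe, hτ']⟩ : MulAction.orbit (↥H) (x : Ω)))
  intro y₁ y₂ h
  have h' : ((y₁ : {x // q x}) : Ω) = ((y₂ : {x // q x}) : Ω) := by
    have := congrArg Subtype.val h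
    exact this
  exact Subtype.ext (Subtype.ext h')

/-- For a transitive group all orbits are everything. -/
theorem card_orbit_of_trans {K : Subgroup (Perm Ω)} (htr : MulAction.IsPretransitive (↥K) Ω)
    (x : Ω) : Nat.card (MulAction.orbit (↥K) x) = Fintype.card Ω := by
  rw [MulAction.orbit_eq_univ, Nat.card_eq_fintype_card]
  simp

/-- The largest prime of `π` up to `n`. -/
theorem exists_max_piLe {π : Set ℕ} {n p : ℕ} (hp : PiLe π n p) :
    ∃ qs : ℕ, PiLe π n qs ∧ ∀ r : ℕ, PiLe π n r → r ≤ qs := by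
  classical
  let s : Finset ℕ := (Finset.range (n + 1)).filter (fun r => PiLe π n r)
  have hmem : ∀ r, r ∈ s ↔ PiLe π n r := by
    intro r
    simp only [s, Finset.mem_filter, Finset.mem_range]
    constructor
    · exact fun h => h.2
    · exact fun h => ⟨by have := h.2.2; omega, h⟩
  have hne : s.Nonempty := ⟨p, (hmem p).mpr hp⟩
  refine ⟨s.max' hne, (hmem _).mp (s.max'_mem hne), fun r hr => s.le_max' r ((hmem r).mpr hr)⟩

/-- Bound on the degree from `Concl` when `2, 3 ∈ π` and `5 ∉ π`. -/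
theorem card_le_eight_of_concl {π : Set ℕ} {K : Subgroup (Perm Ω)} (hc : Concl π K)
    (h2 : (2 : ℕ) ∈ π) (h3 : (3 : ℕ) ∈ π) (h5 : (5 : ℕ) ∉ π) : Fintype.card Ω ≤ 8 := by
  rcases hc with c1 | ⟨c2, -⟩ | c3 | c4 | c5
  · by_contra hlt
    have := c1 2 3 ⟨Nat.prime_two, h2, by omega⟩ ⟨Nat.prime_three, h3, by omega⟩
    omega
  · by_contra hlt
    exact h5 (c2 5 (by norm_num) (by omega))
  · by_contra hlt
    obtain ⟨-, hπ, -⟩ := c3
    exact h5 ((hπ 5 (by norm_num) (by omega)).mpr (by omega))
  · rw [c4.1]; omega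
  · rw [c5.1]

theorem top_isPretransitive {X : Type u} [DecidableEq X] {K : Subgroup (Perm X)} (h : K = ⊤) :
    MulAction.IsPretransitive (↥K) X := by
  constructor
  intro x y
  exact ⟨⟨swap x y, by rw [h]; trivial⟩, swap_apply_left x y⟩

/-- The core of the intransitive case: `q` is an `H`-orbit of maximal size, and it contains
at least `qs` points, `qs` the largest prime of `π` up to `|Ω|`. -/
theorem intr_core {π : Set ℕ} {H : Subgroup (Perm Ω)} (hH : IsPiHall π H)
    (IH : ∀ (Ω' : Type u) [Fintype Ω'] [DecidableEq Ω'], Fintype.card Ω' < Fintype.card Ω →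
        ∀ K : Subgroup (Perm Ω'), IsPiHall π K → Concl π K)
    (q : Ω → Prop) [DecidablePred q]
    (hq : ∀ σ ∈ H, ∀ x, q (σ x) ↔ q x)
    (hqtr : ∀ x y : Ω, q x → q y → ∃ σ ∈ H, σ x = y)
    (hmax : ∀ x : Ω, Nat.card (MulAction.orbit (↥H) x) ≤ Fintype.card {x // q x})
    (hlt : Fintype.card {x // q x} < Fintype.card Ω)
    {p₁ p₂ qs : ℕ} (hp₁ : PiLe π (Fintype.card Ω) p₁) (hp₂ : PiLe π (Fintype.card Ω) p₂)
    (hne : p₁ ≠ p₂)
    (hqsmax : ∀ r, PiLe π (Fintype.card Ω) r → r ≤ qs)
    (hqsm : qs ≤ Fintype.card {x // q x}) : Concl π H := by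
  classical
  have hmd : Fintype.card {x // q x} + Fintype.card {x // ¬ q x} = Fintype.card Ω := by
    rw [Fintype.card_subtype_compl]
    have := Fintype.card_subtype_le q
    omega
  obtain ⟨hH₁, hch, hdec₁⟩ := split_invariant hH q hq
  have hq' : ∀ σ ∈ H, ∀ x, ¬ q (σ x) ↔ ¬ q x := fun σ hσ x => not_congr (hq σ hσ x)
  obtain ⟨hH₂, -, -⟩ := split_invariant hH (fun x => ¬ q x) hq'
  have htr₁ : MulAction.IsPretransitive (↥(resSub H q)) {x // q x} := by
    constructor
    intro x y
    obtain ⟨σ, hσ, hσxy⟩ := hqtr x y x.2 y.2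
    obtain ⟨τ, hτ, hτσ⟩ := hdec₁ σ hσ
    refine ⟨⟨τ, hτ⟩, ?_⟩
    apply Subtype.ext
    show ((τ x : {x // q x}) : Ω) = y
    rw [hτσ x, hσxy]
  generalize hm : Fintype.card {x // q x} = m at *
  generalize hd : Fintype.card {x // ¬ q x} = d at *
  have hp₁m : p₁ ≤ m := (hqsmax p₁ hp₁).trans hqsm
  have hp₂m : p₂ ≤ m := (hqsmax p₂ hp₂).trans hqsm
  have hm3 : 3 ≤ m := by
    have := hp₁.1.two_le
    have := hp₂.1.two_le
    omega
  have hd1 : 1 ≤ d := by omega
  -- orbits of the second part are small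
  have horb₂ : ∀ x' : {x // ¬ q x},
      Nat.card (MulAction.orbit (↥(resSub H (fun x => ¬ q x))) x') ≤ m := fun x' =>
    (card_orbit_resSub_le H (fun x => ¬ q x) x').trans (hmax _)
  obtain ⟨x₀'⟩ : Nonempty {x // ¬ q x} := Fintype.card_pos_iff.mp (by omega)
  have hnotr₂ : m < d → ¬ MulAction.IsPretransitive (↥(resSub H (fun x => ¬ q x))) {x // ¬ q x} := by
    intro hlt' htr
    have := card_orbit_of_trans htr x₀'
    have := horb₂ x₀'
    omega
  have hc₁ := IH {x // q x} (by omega) (resSub H q) hH₁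
  rcases hc₁ with c1 | ⟨c2, c2top⟩ | c3 | c4 | c5
  · rw [hm] at c1
    exact absurd (c1 p₁ p₂ ⟨hp₁.1, hp₁.2.1, hp₁m⟩ ⟨hp₂.1, hp₂.2.1, hp₂m⟩) hne
  · -- the first part is the full symmetric group
    rw [hm] at c2
    have h2π : (2 : ℕ) ∈ π := c2 2 Nat.prime_two (by omega)
    by_cases hdm : d ≤ m
    · by_cases hd1' : d = 1
      · -- type 3
        subst hd1'
        have hprime : (Fintype.card Ω).Prime := by
          apply prime_of_no_small_factor _ (by omega)
          intro r hr hrn hdiv
          apply hch r hr (c2 r hr (by omega))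
          rw [← hmd, Nat.choose_succ_self_right]
          rwa [hmd]
        obtain ⟨ω', hω'⟩ := Fintype.card_eq_one_iff.mp hd
        have hqω : ∀ x : Ω, q x ↔ x ≠ (ω' : Ω) := by
          intro x
          constructor
          · intro hx hxe
            exact ω'.2 (hxe ▸ hx)
          · intro hx
            by_contra hqx
            exact hx (congrArg Subtype.val (hω' ⟨x, hqx⟩))
        refine Or.inr (Or.inr (Or.inl ⟨hprime, ?_, (ω' : Ω), ?_⟩))
        · intro r hr hrn
          constructor
          · intro hrπ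
            have := hqsmax r ⟨hr, hrπ, hrn⟩
            omega
          · intro hrlt
            exact c2 r hr (by omega)
        · intro σ
          constructor
          · intro hσ
            have h1 : ¬ q (σ (ω' : Ω)) := (hq' σ hσ _).mpr ω'.2
            exact congrArg Subtype.val (hω' ⟨σ (ω' : Ω), h1⟩)
          · intro hσ
            have h₁ : ∀ x, q (σ x) ↔ q x := by
              intro x
              rw [hqω, hqω]
              exact fix_ne hσ x
            have h₂ : ∀ x, σ x ≠ x → q x := by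
              intro x hx
              rw [hqω]
              exact moved_ne hσ x hx
            rw [mem_iff_subtypePerm_mem H q σ h₁ h₂, c2top]
            trivial
      · -- `2 ≤ d ≤ m`: type 4
        have hd2 : 2 ≤ d := by omega
        obtain ⟨hm4, hd3⟩ := choose_prime_factor m d hd2 hdm (fun r hr hrm => by
          have := hch r hr (c2 r hr hrm)
          rwa [← hmd, Nat.choose_symm_add] at this)
        subst hm4 hd3
        have hn7 : Fintype.card Ω = 7 := by omega
        have htop₂ : resSub H (fun x => ¬ q x) = ⊤ := by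
          apply eq_top_of_allIn hH₂
          intro r hr hr3
          rw [hd] at hr3
          exact c2 r hr (by omega)
        refine Or.inr (Or.inr (Or.inr (Or.inl ⟨hn7, ?_,
          Finset.univ.filter (fun x => ¬ q x), ?_, ?_⟩)))
        · intro r hr hr7
          constructor
          · intro hrπ
            have h1 := hqsmax r ⟨hr, hrπ, by omega⟩
            have h2 := hr.two_le
            have h4 : r ≠ 4 := fun h => by rw [h] at hr; exact absurd hr (by norm_num)
            omega
          · rintro (rfl | rfl)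
            · exact h2π
            · exact c2 3 Nat.prime_three (by omega)
        · rw [← Fintype.card_subtype, hd]
        · intro σ
          simp only [Finset.mem_filter, Finset.mem_univ, true_and]
          constructor
          · intro hσ x
            exact hq' σ hσ x
          · intro h
            have h₁ : ∀ x, q (σ x) ↔ q x := fun x => not_iff_not.mp (h x)
            rw [perm_eq_mul_ofSubtype q σ h₁ h]
            apply H.mul_mem
            · show σ.subtypePerm h₁ ∈ resSub H q
              rw [c2top]; trivial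
            · show σ.subtypePerm (p := fun x => ¬ q x) h ∈ resSub H (fun x => ¬ q x)
              rw [htop₂]; trivial
    · -- `d > m`
      exfalso
      have hmd' : m < d := by omega
      have hc₂ := IH {x // ¬ q x} (by omega) (resSub H (fun x => ¬ q x)) hH₂
      rcases hc₂ with e1 | ⟨-, e2top⟩ | e3 | e4 | e5
      · rw [hd] at e1
        exact absurd (e1 p₁ p₂ ⟨hp₁.1, hp₁.2.1, by omega⟩ ⟨hp₂.1, hp₂.2.1, by omega⟩) hne
      · exact hnotr₂ hmd' (top_isPretransitive e2top)
      · obtain ⟨x', hx'⟩ := big_orbit_of_isT3 e3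
        have hdprime : d.Prime := by
          have := e3.1
          rwa [hd] at this
        rw [hd] at hx'
        have := horb₂ x'
        have hdm1 : d = m + 1 := by omega
        have hodd : ¬ 2 ∣ m + 1 := by
          intro h2
          rw [← hdm1] at h2
          rcases (Nat.Prime.eq_one_or_self_of_dvd hdprime 2 h2) with h | h
          · omega
          · omega
        have h2d := two_dvd_choose_of_odd_succ m (by omega) hodd
        apply hch 2 Nat.prime_two h2π
        have hn : Fintype.card Ω = 2 * m + 1 := by omega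
        rw [hn]
        exact h2d
      · have hd7 : d = 7 := by
          have := e4.1
          omega
        have h5 : (5 : ℕ) ∉ π := by
          intro h
          have := (e4.2.1 5 (by norm_num) (by norm_num)).mp h
          omega
        have hm5 : m < 5 := by
          by_contra hge
          exact h5 (c2 5 (by norm_num) (by omega))
        have hm34 : m = 3 ∨ m = 4 := by omega
        apply hch 2 Nat.prime_two h2π
        rcases hm34 with rfl | rfl
        · have hn : Fintype.card Ω = 10 := by omega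
          rw [hn]
          exact two_dvd_choose_10_3
        · have hn : Fintype.card Ω = 11 := by omega
          rw [hn]
          exact two_dvd_choose_11_4
      · exact hnotr₂ hmd' (trans_of_isT5 e5)
  · exact absurd htr₁ (not_trans_of_isT3 c3)
  · exact absurd htr₁ (not_trans_of_isT4 c4)
  · -- the first part is of type 5
    exfalso
    obtain ⟨hm8, hπ8, -⟩ := c5
    rw [hm] at hm8
    subst hm8
    have h2π : (2 : ℕ) ∈ π := (hπ8 2 Nat.prime_two (by norm_num)).mpr (Or.inl rfl)
    have h3π : (3 : ℕ) ∈ π := (hπ8 3 Nat.prime_three (by norm_num)).mpr (Or.inr rfl)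
    have h5π : (5 : ℕ) ∉ π := by
      intro h
      have := (hπ8 5 (by norm_num) (by norm_num)).mp h
      omega
    have hc₂ := IH {x // ¬ q x} (by omega) (resSub H (fun x => ¬ q x)) hH₂
    have hd8 := card_le_eight_of_concl hc₂ h2π h3π h5π
    rw [hd] at hd8
    apply hch 3 Nat.prime_three h3π
    rw [← hmd]
    exact three_dvd_choose_eight d hd1 hd8

theorem intr_case {π : Set ℕ} {H : Subgroup (Perm Ω)} (hH : IsPiHall π H)
    (hntr : ¬ MulAction.IsPretransitive (↥H) Ω)
    (IH : ∀ (Ω' : Type u) [Fintype Ω'] [DecidableEq Ω'], Fintype.card Ω' < Fintype.card Ω →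
        ∀ K : Subgroup (Perm Ω'), IsPiHall π K → Concl π K) : Concl π H := by
  classical
  by_cases h1 : AtMostOne π (Fintype.card Ω)
  · exact Or.inl h1
  obtain ⟨p₁, p₂, hp₁, hp₂, hne⟩ := not_atMostOne_iff.mp h1
  obtain ⟨qs, hqs, hqsmax⟩ := exists_max_piLe hp₁
  obtain ⟨g, hgH, hgc, hgs⟩ := exists_cycle_mem hH hqs.1 hqs.2.1 hqs.2.2
  obtain ⟨x₀, hx₀⟩ : ∃ x₀, g x₀ ≠ x₀ := by
    obtain ⟨x₀, hx₀, -⟩ := hgc
    exact ⟨x₀, hx₀⟩
  obtain ⟨α, -, hα⟩ := Finset.exists_max_image Finset.univ
    (fun x : Ω => Nat.card (MulAction.orbit (↥H) x)) ⟨x₀, Finset.mem_univ _⟩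
  have hq : ∀ σ ∈ H, ∀ x, σ x ∈ MulAction.orbit (↥H) α ↔ x ∈ MulAction.orbit (↥H) α := by
    intro σ hσ x
    constructor
    · rintro ⟨h, hh⟩
      have hh' : h • α = σ x := hh
      refine ⟨⟨σ, hσ⟩⁻¹ * h, ?_⟩
      show (⟨σ, hσ⟩⁻¹ * h : ↥H) • α = x
      rw [mul_smul, hh']
      show (σ⁻¹ : Perm Ω) (σ x) = x
      simp
    · rintro ⟨h, hh⟩
      have hh' : h • α = x := hh
      refine ⟨⟨σ, hσ⟩ * h, ?_⟩
      show (⟨σ, hσ⟩ * h : ↥H) • α = σ x
      rw [mul_smul, hh']
      rfl
  have hqtr : ∀ x y : Ω, x ∈ MulAction.orbit (↥H) α → y ∈ MulAction.orbit (↥H) α →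
      ∃ σ ∈ H, σ x = y := by
    rintro x y ⟨h₁, hh₁⟩ ⟨h₂, hh₂⟩
    have hh₁' : h₁ • α = x := hh₁
    have hh₂' : h₂ • α = y := hh₂
    refine ⟨(h₂ * h₁⁻¹ : ↥H), (h₂ * h₁⁻¹).2, ?_⟩
    show (h₂ * h₁⁻¹) • x = y
    rw [← hh₁', mul_smul, inv_smul_smul, hh₂']
  have hcardq : Nat.card (MulAction.orbit (↥H) α) =
      Fintype.card {x // x ∈ MulAction.orbit (↥H) α} :=
    Nat.card_eq_fintype_card (α := {x // x ∈ MulAction.orbit (↥H) α})
  have hmax : ∀ x : Ω, Nat.card (MulAction.orbit (↥H) x) ≤
      Fintype.card {x // x ∈ MulAction.orbit (↥H) α} := by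
    intro x
    rw [← hcardq]
    exact hα x (Finset.mem_univ _)
  have hlt : Fintype.card {x // x ∈ MulAction.orbit (↥H) α} < Fintype.card Ω := by
    by_contra hge
    apply hntr
    have hall : ∀ x : Ω, x ∈ MulAction.orbit (↥H) α := by
      by_contra hex
      push Not at hex
      obtain ⟨x, hx⟩ := hex
      exact hge (Fintype.card_subtype_lt hx)
    constructor
    intro x y
    obtain ⟨σ, hσ, hσxy⟩ := hqtr x y (hall x) (hall y)
    exact ⟨⟨σ, hσ⟩, hσxy⟩
  have hqsm : qs ≤ Fintype.card {x // x ∈ MulAction.orbit (↥H) α} := by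
    refine le_trans ?_ (hmax x₀)
    rw [← hgs, Nat.card_coe_set_eq, ← Set.ncard_coe_finset]
    apply Set.ncard_le_ncard _ (Set.toFinite _)
    intro y hy
    have hy' : g y ≠ y := by simpa using hy
    obtain ⟨i, hi⟩ := hgc.sameCycle hx₀ hy'
    refine ⟨⟨g ^ i, H.zpow_mem hgH i⟩, ?_⟩
    exact hi
  exact intr_core hH IH (fun x => x ∈ MulAction.orbit (↥H) α) hq hqtr hmax hlt hp₁ hp₂ hne
    hqsmax hqsm

end Cfsg.Agent.Helper8.HS
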