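import Mathlib
import Cfsg.Agent.Lib.Helper8.HallSnDefs

/-!
# Consequences of Jordan's theorems (piece HS-JOR, helper8 plan)
-/

set_option autoImplicit false

namespace Cfsg.Agent.Helper8.HS

open Equiv Cfsg

universe u

variable {Ω : Type u} [Fintype Ω] [DecidableEq Ω]

/-- A transitive group of prime degree containing a cycle with a fixed point has even order
(it is primitive, `MulAction.IsPreprimitive.of_prime_card`; Jordan's criterion
`MulAction.IsPreprimitive.is_two_pretransitive` with `Equiv.Perm.isPretransitive_of_isCycle_mem` makes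
it 2-transitive; an element exchanging two points has even order). -/
theorem two_dvd_card_of_prime_degree {H : Subgroup (Perm Ω)}
    (htr : MulAction.IsPretransitive (↥H) Ω) (hn : (Fintype.card Ω).Prime) {g : Perm Ω}
    (hg : g ∈ H) (hgc : g.IsCycle) (hlt : g.support.card < Fintype.card Ω) :
    2 ∣ Nat.card H := by
  classical
  have hprim : MulAction.IsPreprimitive (↥H) Ω := by
    apply MulAction.IsPreprimitive.of_prime_card
    rwa [Nat.card_eq_fintype_card]
  have h2 : 2 ≤ g.support.card := hgc.two_le_card_support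
  have hsc : Set.ncard ((g.support : Set Ω)ᶜ) = (Fintype.card Ω - g.support.card - 1) + 1 := by
    have h1 : Set.ncard ((g.support : Set Ω)) + Set.ncard ((g.support : Set Ω)ᶜ) = Nat.card Ω :=
      Set.ncard_add_ncard_compl _
    rw [Set.ncard_coe_finset, Nat.card_eq_fintype_card] at h1
    omega
  have hsn' : (Fintype.card Ω - g.support.card - 1) + 2 < Nat.card Ω := by
    rw [Nat.card_eq_fintype_card]; omega
  have h2t : MulAction.IsMultiplyPretransitive (↥H) Ω 2 :=
    hprim.is_two_pretransitive hsc hsn' (Equiv.Perm.isPretransitive_of_isCycle_mem hgc hg)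
  rw [MulAction.is_two_pretransitive_iff] at h2t
  obtain ⟨a, ha⟩ := hgc.nonempty_support
  have hab : g a ≠ a := Perm.mem_support.mp ha
  obtain ⟨σ, hσ1, hσ2⟩ := h2t hab hab.symm
  -- σ swaps `g a` and `a`
  have key : ∀ k : ℕ, (σ ^ k) • a = a → Even k := by
    intro k
    induction k using Nat.strong_induction_on with
    | _ k ih =>
      intro hk
      rcases k with _ | _ | k
      · exact Even.zero
      · exfalso
        rw [pow_one, hσ2] at hk
        exact hab hk
      · have : (σ ^ k) • a = a := by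
          have e : σ ^ (k + 1 + 1) = σ ^ k * (σ * σ) := by
            rw [pow_succ, pow_succ, mul_assoc]
          rw [e, mul_smul, mul_smul, hσ2, hσ1] at hk
          exact hk
        have := ih k (by omega) this
        exact this.add (by decide : Even 2) |> fun h => by simpa [add_assoc] using h
  have hev : Even (orderOf σ) := key _ (by rw [pow_orderOf_eq_one, one_smul])
  exact (even_iff_two_dvd.mp hev).trans (orderOf_dvd_natCard σ)

/-- A transitive group of prime degree containing a transposition is the symmetric group. -/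
theorem eq_top_of_prime_degree_of_swap {H : Subgroup (Perm Ω)}
    (htr : MulAction.IsPretransitive (↥H) Ω) (hn : (Fintype.card Ω).Prime) {g : Perm Ω}
    (hg : g ∈ H) (hgs : g.IsSwap) : H = ⊤ := by
  have hprim : MulAction.IsPreprimitive (↥H) Ω := by
    apply MulAction.IsPreprimitive.of_prime_card
    rwa [Nat.card_eq_fintype_card]
  exact Equiv.Perm.subgroup_eq_top_of_isPreprimitive_of_isSwap_mem hprim g hgs hg

/-- A 2-transitive group containing a transposition is the symmetric group (all transpositions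
are conjugate under `H`, and they generate `Sym(Ω)`). -/
theorem eq_top_of_two_trans_of_swap {H : Subgroup (Perm Ω)}
    (htr : MulAction.IsPretransitive (↥H) Ω) (α : Ω)
    (h2 : ∀ x y : Ω, x ≠ α → y ≠ α → ∃ σ ∈ H, σ α = α ∧ σ x = y) {g : Perm Ω}
    (hg : g ∈ H) (hgs : g.IsSwap) : H = ⊤ := by
  classical
  -- transitivity in elementary form
  have htr' : ∀ x : Ω, ∃ τ ∈ H, τ x = α := by
    intro x
    obtain ⟨τ, hτ⟩ := htr.exists_smul_eq x α
    exact ⟨τ.1, τ.2, hτ⟩
  -- 2-transitivity
  have h2t : ∀ a b x y : Ω, a ≠ b → x ≠ y → ∃ σ ∈ H, σ a = x ∧ σ b = y := by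
    intro a b x y hab hxy
    obtain ⟨τ₁, hτ₁, h1⟩ := htr' a
    obtain ⟨τ₂, hτ₂, h2'⟩ := htr' x
    have hb : τ₁ b ≠ α := by
      intro h
      apply hab
      apply τ₁.injective
      rw [h1, h]
    have hy : τ₂ y ≠ α := by
      intro h
      apply hxy
      apply τ₂.injective
      rw [h2', h]
    obtain ⟨σ₀, hσ₀, hσα, hσb⟩ := h2 (τ₁ b) (τ₂ y) hb hy
    refine ⟨τ₂⁻¹ * σ₀ * τ₁, H.mul_mem (H.mul_mem (H.inv_mem hτ₂) hσ₀) hτ₁, ?_, ?_⟩
    · simp only [Perm.mul_apply, h1, hσα]
      rw [Perm.inv_eq_iff_eq]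
      exact h2'.symm
    · simp only [Perm.mul_apply, hσb]
      simp
  obtain ⟨a, b, hab, rfl⟩ := hgs
  rw [eq_top_iff, ← Equiv.Perm.closure_isSwap, Subgroup.closure_le]
  rintro s ⟨x, y, hxy, rfl⟩
  obtain ⟨σ, hσ, hσa, hσb⟩ := h2t a b x y hab hxy
  have : swap x y = σ * swap a b * σ⁻¹ := by
    rw [← hσa, ← hσb]
    exact Equiv.swap_apply_apply σ a b
  rw [SetLike.mem_coe, this]
  exact H.mul_mem (H.mul_mem hσ hg) (H.inv_mem hσ)

end Cfsg.Agent.Helper8.HS
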