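import Mathlib
import Cfsg.Agent.Lib.Helper8.HallSnDefs

/-!
# A transitive group whose point stabilizer is a two-point stabilizer of `Sym(Ω)` (piece HS-TR3)
-/

set_option autoImplicit false

namespace Cfsg.Agent.Helper8.HS

open Equiv Cfsg

universe u

variable {Ω : Type u} [Fintype Ω] [DecidableEq Ω]

omit [Fintype Ω] [DecidableEq Ω] in
/-- Conjugating the stabilizer condition by an element of `H`. -/
theorem TR3.tr3_conj {H : Subgroup (Perm Ω)} (α β : Ω)
    (hmem : ∀ σ : Perm Ω, σ α = α → (σ ∈ H ↔ σ β = β)) (k : Perm Ω) (hk : k ∈ H)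
    (σ : Perm Ω) (hσ : σ (k α) = k α) : σ ∈ H ↔ σ (k β) = k β := by
  have h1 : (k⁻¹ * σ * k) α = α := by
    simp [Perm.mul_apply, hσ]
  have h2 := hmem (k⁻¹ * σ * k) h1
  have h3 : (k⁻¹ * σ * k ∈ H) ↔ σ ∈ H := by
    constructor
    · intro h
      have : k * (k⁻¹ * σ * k) * k⁻¹ ∈ H := H.mul_mem (H.mul_mem hk h) (H.inv_mem hk)
      simpa [mul_assoc] using this
    · intro h
      exact H.mul_mem (H.mul_mem (H.inv_mem hk) h) hk
  rw [← h3, h2]
  simp only [Perm.mul_apply]
  constructor
  · intro h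
    have := congrArg k h
    simpa using this
  · intro h
    rw [h]; simp

/-- A point outside a finset of at most four points. -/
theorem TR3.tr3_exists_notMem (hcard : 5 ≤ Fintype.card Ω) (s : Finset Ω) (hs : s.card ≤ 4) :
    ∃ x : Ω, x ∉ s := by
  by_contra hcon
  push Not at hcon
  have : Finset.univ ⊆ s := fun x _ => hcon x
  have h2 := Finset.card_le_card this
  rw [Finset.card_univ] at h2
  omega

/-- There is no transitive group `H` on at least 5 points in which the stabilizer of `α` consists of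
all the permutations fixing both `α` and `β`.  (Paper proof: `plans/HallSn_plan.md`, TR3.) -/
theorem no_trans_T3 {H : Subgroup (Perm Ω)} (htr : MulAction.IsPretransitive (↥H) Ω)
    (hcard : 5 ≤ Fintype.card Ω) (α β : Ω) (hβα : β ≠ α)
    (hmem : ∀ σ : Perm Ω, σ α = α → (σ ∈ H ↔ σ β = β)) : False := by
  classical
  -- a third point
  obtain ⟨γ, hγ⟩ := TR3.tr3_exists_notMem hcard ({α, β} : Finset Ω)
    (by
      have := Finset.card_insert_le α ({β} : Finset Ω)
      simp at this
      omega)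
  have hγα : γ ≠ α := by
    intro h; apply hγ; simp [h]
  have hγβ : γ ≠ β := by
    intro h; apply hγ; simp [h]
  obtain ⟨h, hh⟩ := MulAction.exists_smul_eq (↥H) α γ
  have hhα : (h : Perm Ω) α = γ := hh
  have key := TR3.tr3_conj α β hmem (h : Perm Ω) h.2
  rw [hhα] at key
  set γ' : Ω := (h : Perm Ω) β with hγ'
  have hγ'γ : γ' ≠ γ := by
    intro e
    apply hβα
    apply (h : Perm Ω).injective
    rw [hhα]; exact e
  by_cases c1 : γ' = α
  · -- case 2
    obtain ⟨δ, hδ⟩ := TR3.tr3_exists_notMem hcard ({α, β, γ} : Finset Ω)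
      (by
        have h1 := Finset.card_insert_le α ({β, γ} : Finset Ω)
        have h2 := Finset.card_insert_le β ({γ} : Finset Ω)
        simp at h1 h2
        omega)
    simp only [Finset.mem_insert, Finset.mem_singleton, not_or] at hδ
    obtain ⟨hδα, hδβ, hδγ⟩ := hδ
    have hσγ : (Equiv.swap β δ) γ = γ := Equiv.swap_apply_of_ne_of_ne hγβ (Ne.symm hδγ)
    have hσα : (Equiv.swap β δ) α = α := Equiv.swap_apply_of_ne_of_ne (Ne.symm hβα) (Ne.symm hδα)
    have hσH : Equiv.swap β δ ∈ H := (key _ hσγ).2 (by rw [c1]; exact hσα)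
    have := (hmem _ hσα).1 hσH
    rw [Equiv.swap_apply_left] at this
    exact hδβ this
  by_cases c2 : γ' = β
  · -- case 3
    obtain ⟨k, hk⟩ := MulAction.exists_smul_eq (↥H) β α
    have hkβ : (k : Perm Ω) β = α := hk
    have key2 := TR3.tr3_conj α β hmem (k : Perm Ω) k.2
    rw [hkβ] at key2
    set ε : Ω := (k : Perm Ω) α with hε
    have hεα : ε ≠ α := by
      intro e
      apply hβα
      apply (k : Perm Ω).injective
      rw [hkβ]; exact e.symm
    obtain ⟨δ, hδ⟩ := TR3.tr3_exists_notMem hcard ({α, β, γ, ε} : Finset Ω)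
      (by
        have h1 := Finset.card_insert_le α ({β, γ, ε} : Finset Ω)
        have h2 := Finset.card_insert_le β ({γ, ε} : Finset Ω)
        have h3 := Finset.card_insert_le γ ({ε} : Finset Ω)
        simp at h1 h2 h3
        omega)
    simp only [Finset.mem_insert, Finset.mem_singleton, not_or] at hδ
    obtain ⟨hδα, hδβ, hδγ, hδε⟩ := hδ
    have hσγ : (Equiv.swap α δ) γ = γ := Equiv.swap_apply_of_ne_of_ne hγα (Ne.symm hδγ)
    have hσβ : (Equiv.swap α δ) β = β := Equiv.swap_apply_of_ne_of_ne hβα (Ne.symm hδβ)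
    have hσε : (Equiv.swap α δ) ε = ε := Equiv.swap_apply_of_ne_of_ne hεα (Ne.symm hδε)
    have hσH : Equiv.swap α δ ∈ H := (key _ hσγ).2 (by rw [c2]; exact hσβ)
    have := (key2 _ hσε).1 hσH
    rw [Equiv.swap_apply_left] at this
    exact hδα this
  · -- case 1
    obtain ⟨δ, hδ⟩ := TR3.tr3_exists_notMem hcard ({α, β, γ, γ'} : Finset Ω)
      (by
        have h1 := Finset.card_insert_le α ({β, γ, γ'} : Finset Ω)
        have h2 := Finset.card_insert_le β ({γ, γ'} : Finset Ω)
        have h3 := Finset.card_insert_le γ ({γ'} : Finset Ω)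
        simp at h1 h2 h3
        omega)
    simp only [Finset.mem_insert, Finset.mem_singleton, not_or] at hδ
    obtain ⟨hδα, hδβ, hδγ, hδγ'⟩ := hδ
    have hτα : (Equiv.swap γ' δ) α = α := Equiv.swap_apply_of_ne_of_ne (Ne.symm c1) (Ne.symm hδα)
    have hτβ : (Equiv.swap γ' δ) β = β := Equiv.swap_apply_of_ne_of_ne (Ne.symm c2) (Ne.symm hδβ)
    have hτγ : (Equiv.swap γ' δ) γ = γ := Equiv.swap_apply_of_ne_of_ne (Ne.symm hγ'γ) (Ne.symm hδγ)
    have hτH : Equiv.swap γ' δ ∈ H := (hmem _ hτα).2 hτβ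
    have := (key _ hτγ).1 hτH
    rw [Equiv.swap_apply_left] at this
    exact hδγ' this

end Cfsg.Agent.Helper8.HS
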