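import Mathlib
import Cfsg.Agent.Lib.Helper8.HallSnDefs
import Cfsg.Agent.Lib.Helper8.HSBasic
import Cfsg.Agent.Lib.Helper8.HSCyc
import Cfsg.Agent.Lib.Helper8.HSStab
import Cfsg.Agent.Lib.Helper8.HSJor
import Cfsg.Agent.Lib.Helper8.HSTr3
import Cfsg.Agent.Lib.Helper8.HSTr4
import Cfsg.Agent.Lib.Helper8.HSOrb

/-!
# Hall subgroups of `Sym(Ω)`: the transitive case (helper8)
-/

set_option autoImplicit false
set_option linter.unusedSectionVars false

namespace Cfsg.Agent.Helper8.HS

open Equiv Cfsg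

universe u

variable {Ω : Type u} [Fintype Ω] [DecidableEq Ω]

/-- A transitive group whose point stabilizer is the full symmetric group of the other points is the
full symmetric group. -/
theorem eq_top_of_trans_of_resSub_top {H : Subgroup (Perm Ω)}
    (htr : MulAction.IsPretransitive (↥H) Ω) (α : Ω)
    (hK : resSub H (fun x => x ≠ α) = ⊤) : H = ⊤ := by
  rw [eq_top_iff]
  intro g _
  obtain ⟨h, hh⟩ := MulAction.exists_smul_eq (↥H) α (g α)
  have hh' : (h : Perm Ω) α = g α := hh
  have hfix : ((h : Perm Ω)⁻¹ * g) α = α := by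
    rw [Perm.mul_apply, ← hh']
    simp
  have hmem : (h : Perm Ω)⁻¹ * g ∈ H := by
    rw [mem_iff_of_fix H hfix, hK]
    exact Subgroup.mem_top _
  have : g = (h : Perm Ω) * ((h : Perm Ω)⁻¹ * g) := by group
  rw [this]
  exact H.mul_mem h.2 hmem

/-- Two distinct primes up to `n` force `3 ≤ n`. -/
theorem three_le_of_two_primes {π : Set ℕ} {n p q : ℕ} (hp : PiLe π n p) (hq : PiLe π n q)
    (hpq : p ≠ q) : 3 ≤ n := by
  have h2p := hp.1.two_le
  have h2q := hq.1.two_le
  have := hp.2.2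
  have := hq.2.2
  omega

theorem trans_case {π : Set ℕ} {H : Subgroup (Perm Ω)} (hH : IsPiHall π H)
    (htr : MulAction.IsPretransitive (↥H) Ω)
    (IH : ∀ (Ω' : Type u) [Fintype Ω'] [DecidableEq Ω'], Fintype.card Ω' < Fintype.card Ω →
        ∀ K : Subgroup (Perm Ω'), IsPiHall π K → Concl π K) : Concl π H := by
  classical
  by_cases h1 : AtMostOne π (Fintype.card Ω)
  · exact Or.inl h1
  obtain ⟨p, q, hp, hq, hpq⟩ := not_atMostOne_iff.mp h1
  have hn3 : 3 ≤ Fintype.card Ω := three_le_of_two_primes hp hq hpq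
  obtain ⟨α⟩ : Nonempty Ω := Fintype.card_pos_iff.mp (by omega)
  have hK : IsPiHall π (resSub H (fun x => x ≠ α)) := isPiHall_resSub_ne hH htr α
  have hcard' : Fintype.card {x // x ≠ α} = Fintype.card Ω - 1 := card_ne α
  have hc := IH {x // x ≠ α} (by omega) (resSub H (fun x => x ≠ α)) hK
  rcases hc with c1 | ⟨-, c2⟩ | c3 | c4 | c5
  · -- at most one prime of `π` below `n`: then `n` is a prime of `π`
    rw [hcard'] at c1
    obtain ⟨p', hp'P, hp'π, hp'lt, hnP, hnπ⟩ : ∃ p' : ℕ, p'.Prime ∧ p' ∈ π ∧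
        p' < Fintype.card Ω ∧ (Fintype.card Ω).Prime ∧ Fintype.card Ω ∈ π := by
      by_cases hpn : p = Fintype.card Ω
      · by_cases hqn : q = Fintype.card Ω
        · exact absurd (hpn.trans hqn.symm) hpq
        · refine ⟨q, hq.1, hq.2.1, lt_of_le_of_ne hq.2.2 hqn, hpn ▸ hp.1, hpn ▸ hp.2.1⟩
      · by_cases hqn : q = Fintype.card Ω
        · refine ⟨p, hp.1, hp.2.1, lt_of_le_of_ne hp.2.2 hpn, hqn ▸ hq.1, hqn ▸ hq.2.1⟩
        · exfalso
          apply hpq
          apply c1 p q
          · exact ⟨hp.1, hp.2.1, by have := hp.2.2; omega⟩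
          · exact ⟨hq.1, hq.2.1, by have := hq.2.2; omega⟩
    obtain ⟨g, hgH, hgc, hgs⟩ := exists_cycle_mem hH hp'P hp'π hp'lt.le
    have h2 : 2 ∣ Nat.card H := two_dvd_card_of_prime_degree htr hnP hgH hgc (by omega)
    have h2π : (2 : ℕ) ∈ π := hH.1 2 Nat.prime_two h2
    have hp'2 : p' = 2 := by
      apply c1 p' 2
      · exact ⟨hp'P, hp'π, by omega⟩
      · exact ⟨Nat.prime_two, h2π, by omega⟩
    have hswap : g.IsSwap := Perm.card_support_eq_two.mp (hgs.trans hp'2)
    exact concl_of_top hH (eq_top_of_prime_degree_of_swap htr hnP hgH hswap)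
  · -- the stabilizer is everything
    exact concl_of_top hH (eq_top_of_trans_of_resSub_top htr α c2)
  · -- type 3: impossible
    exfalso
    obtain ⟨hprime, hπ', ω, hω⟩ := c3
    rw [hcard'] at hprime hπ'
    have h5 : 5 ≤ Fintype.card Ω := by
      by_contra hlt
      have hp3 : p = 2 ∨ p = 3 := by
        have := hp.1.two_le
        have := hp.2.2
        have h4 : p ≠ 4 := fun h => by rw [h] at hp; exact absurd hp.1 (by norm_num)
        omega
      have hq3 : q = 2 ∨ q = 3 := by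
        have := hq.1.two_le
        have := hq.2.2
        have h4 : q ≠ 4 := fun h => by rw [h] at hq; exact absurd hq.1 (by norm_num)
        omega
      have h2π : (2 : ℕ) ∈ π := by
        rcases hp3 with rfl | rfl
        · exact hp.2.1
        · rcases hq3 with rfl | rfl
          · exact hq.2.1
          · exact absurd rfl hpq
      have h3π : (3 : ℕ) ∈ π := by
        rcases hp3 with rfl | rfl
        · rcases hq3 with rfl | rfl
          · exact absurd rfl hpq
          · exact hq.2.1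
        · exact hp.2.1
      have h3n : 3 ≤ Fintype.card Ω := hn3
      have hn34 : Fintype.card Ω = 3 ∨ Fintype.card Ω = 4 := by omega
      rcases hn34 with h | h
      · have := (hπ' 2 Nat.prime_two (by omega)).mp h2π
        omega
      · have := (hπ' 3 Nat.prime_three (by omega)).mp h3π
        omega
    refine no_trans_T3 htr h5 α (ω : Ω) ω.2 ?_
    intro σ hσ
    rw [mem_iff_of_fix H hσ, hω, Subtype.ext_iff, Perm.subtypePerm_apply]
  · -- type 4: `H` is of type 5
    obtain ⟨hc7, hπ', S', hS'3, hS'⟩ := c4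
    have hn8 : Fintype.card Ω = 8 := by omega
    set S₀ : Finset Ω := S'.map (Function.Embedding.subtype _) with hS₀
    have hS₀3 : S₀.card = 3 := by rw [hS₀, Finset.card_map, hS'3]
    have hmemS₀ : ∀ x : Ω, x ∈ S₀ ↔ ∃ h : x ≠ α, (⟨x, h⟩ : {x // x ≠ α}) ∈ S' := by
      intro x
      rw [hS₀, Finset.mem_map]
      constructor
      · rintro ⟨y, hy, rfl⟩
        exact ⟨y.2, hy⟩
      · rintro ⟨h, hx⟩
        exact ⟨⟨x, h⟩, hx, rfl⟩
    have hαS₀ : α ∉ S₀ := by
      rw [hmemS₀]
      rintro ⟨h, -⟩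
      exact h rfl
    have hmem : ∀ σ : Perm Ω, σ α = α → (σ ∈ H ↔ ∀ x, σ x ∈ S₀ ↔ x ∈ S₀) := by
      intro σ hσ
      rw [mem_iff_of_fix H hσ, hS']
      constructor
      · intro h x
        by_cases hx : x = α
        · subst hx
          rw [hσ]
        · have := h ⟨x, hx⟩
          rw [Perm.subtypePerm_apply] at this
          rw [hmemS₀, hmemS₀]
          constructor
          · rintro ⟨h1, h2⟩
            exact ⟨hx, this.mp h2⟩
          · rintro ⟨h1, h2⟩
            exact ⟨(fix_ne hσ x).mpr hx, this.mpr h2⟩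
      · intro h y
        rw [Perm.subtypePerm_apply]
        have := h (y : Ω)
        rw [hmemS₀, hmemS₀] at this
        constructor
        · intro h2
          obtain ⟨h3, h4⟩ := this.mp ⟨(fix_ne hσ y).mpr y.2, h2⟩
          exact h4
        · intro h2
          obtain ⟨h3, h4⟩ := this.mpr ⟨y.2, h2⟩
          exact h4
    have h5 : ¬ 5 ∣ Nat.card H := by
      intro h
      have := (hπ' 5 (by norm_num) (by norm_num)).mp (hH.1 5 (by norm_num) h)
      omega
    obtain ⟨S, hS4, hS⟩ := trans_T4 htr hn8 α S₀ hS₀3 hαS₀ hmem h5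
    refine Or.inr (Or.inr (Or.inr (Or.inr ⟨hn8, ?_, S, hS4, hS⟩)))
    intro r hr hr8
    have hr7 : r ≤ 7 := by
      have : r ≠ 8 := fun h => by rw [h] at hr; exact absurd hr (by norm_num)
      omega
    exact hπ' r hr hr7
  · -- type 5: `H` is 2-transitive and contains a transposition
    have htrK := trans_of_isT5 c5
    obtain ⟨g', hg'K, hg'swap⟩ := exists_swap_of_isT5 c5
    have h2 : ∀ x y : Ω, x ≠ α → y ≠ α → ∃ σ ∈ H, σ α = α ∧ σ x = y := by
      intro x y hx hy
      obtain ⟨τ, hτ⟩ := MulAction.exists_smul_eq (↥(resSub H (fun x => x ≠ α)))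
        (⟨x, hx⟩ : {x // x ≠ α}) ⟨y, hy⟩
      refine ⟨Perm.ofSubtype (τ : Perm {x // x ≠ α}), τ.2, ofSubtype_fix α _, ?_⟩
      have hτ' : (τ : Perm {x // x ≠ α}) ⟨x, hx⟩ = ⟨y, hy⟩ := hτ
      rw [Perm.ofSubtype_apply_of_mem (p := fun x => x ≠ α) (τ : Perm {x // x ≠ α}) hx, hτ']
    have hgswap : (Perm.ofSubtype g').IsSwap := Perm.IsSwap.of_subtype_isSwap hg'swap
    exact concl_of_top hH (eq_top_of_two_trans_of_swap htr α h2 hg'K hgswap)

end Cfsg.Agent.Helper8.HS
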