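import Mathlib
import Cfsg.Agent.Lib.Helper8.HallSnDefs
import Cfsg.Agent.Lib.Helper8.HSBasic
import Cfsg.Agent.Lib.Helper8.HSTrans
import Cfsg.Agent.Lib.Helper8.HSIntr

/-!
# Hall subgroups of `Sym(Ω)`: the classification (helper8)
-/

set_option autoImplicit false
set_option linter.unusedSectionVars false

namespace Cfsg.Agent.Helper8.HS

open Equiv Cfsg

universe u

theorem hall_classify_aux (π : Set ℕ) : ∀ (n : ℕ) (Ω : Type u) [Fintype Ω] [DecidableEq Ω],
    Fintype.card Ω = n → ∀ H : Subgroup (Perm Ω), IsPiHall π H → Concl π H := by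
  intro n
  induction n using Nat.strong_induction_on with
  | _ n ih =>
    intro Ω _ _ hn H hH
    have IH : ∀ (Ω' : Type u) [Fintype Ω'] [DecidableEq Ω'],
        Fintype.card Ω' < Fintype.card Ω →
        ∀ K : Subgroup (Perm Ω'), IsPiHall π K → Concl π K := by
      intro Ω' _ _ hlt K hK
      exact ih (Fintype.card Ω') (hn ▸ hlt) Ω' rfl K hK
    by_cases htr : MulAction.IsPretransitive (↥H) Ω
    · exact trans_case hH htr IH
    · exact intr_case hH htr IH

/-- **Hall--Thompson**: the Hall `π`-subgroups of `Sym(Ω)`. -/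
theorem hall_classify {Ω : Type u} [Fintype Ω] [DecidableEq Ω] {π : Set ℕ}
    {H : Subgroup (Perm Ω)} (hH : IsPiHall π H) : Concl π H :=
  hall_classify_aux π (Fintype.card Ω) Ω rfl H hH

end Cfsg.Agent.Helper8.HS
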