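import Mathlib
import Cfsg.Agent.Lib.Helper8.HallSnDefs
import Cfsg.Agent.Lib.Helper8.HallAnDefs
import Cfsg.Agent.Lib.Helper8.HSBasic
import Cfsg.Agent.Lib.Helper8.HSTrans
import Cfsg.Agent.Lib.Helper8.HSMain
import Cfsg.Agent.Lib.Helper8.HAExt
import Cfsg.Agent.Lib.Helper8.HASyl
import Cfsg.Agent.Lib.Helper8.HAFix
import Cfsg.Agent.Lib.Helper8.HAIntrA
import Cfsg.Agent.Lib.Helper8.HAIntrB
import Cfsg.Agent.Lib.Helper8.HAStab
import Cfsg.Agent.Lib.Helper8.HABurn
import Cfsg.Agent.Lib.Helper8.HATr3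
import Cfsg.Agent.Lib.Helper8.HATr4
import Cfsg.Agent.Lib.Helper8.HAJor
import Cfsg.Agent.Lib.Helper7.HSExAux

/-!
# Hall subgroups of `Alt(Ω)` extend to Hall subgroups of `Sym(Ω)` (Theorem R, helper8)
-/

set_option autoImplicit false
set_option linter.unusedSectionVars false

namespace Cfsg.Agent.Helper8.HS

open Equiv Cfsg

universe u

variable {Ω : Type u} [Fintype Ω] [DecidableEq Ω]

/-- The symmetric group on at least two points is not inside the alternating group. -/
theorem top_not_le_alt (hn : 2 ≤ Fintype.card Ω) :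
    ¬ (⊤ : Subgroup (Perm Ω)) ≤ alternatingGroup Ω := by
  intro h
  obtain ⟨a, b, hab⟩ := Fintype.exists_pair_of_one_lt_card (by omega : 1 < Fintype.card Ω)
  have h1 : swap a b ∈ alternatingGroup Ω := h (Subgroup.mem_top _)
  rw [Perm.mem_alternatingGroup, Perm.sign_swap hab] at h1
  exact absurd h1 (by decide)

/-- If `M = Alt(Ω)` is a `π`-group and `2 ∈ π`, then `Sym(Ω)` is a `π`-group. -/
theorem altExt_of_eq_alt {π : Set ℕ} (h2 : 2 ∈ π) (hn : 2 ≤ Fintype.card Ω)
    {M : Subgroup (Perm Ω)} (hM : IsAltHall π M) (h : M = alternatingGroup Ω) : AltExt π M := by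
  have : Nontrivial Ω := Fintype.one_lt_card_iff_nontrivial.mp (by omega)
  refine ⟨⊤, le_top, ?_, top_not_le_alt hn⟩
  intro p hp hdvd
  rw [Subgroup.card_top, ← two_mul_nat_card_alternatingGroup, ← h] at hdvd
  rcases (Nat.Prime.dvd_mul hp).mp hdvd with h' | h'
  · rw [(Nat.prime_dvd_prime_iff_eq hp Nat.prime_two).mp h']
    exact h2
  · exact hM.2.1 p hp h'

/-- For an even permutation fixing `α`, membership in `M` can be tested in an overgroup `M₀'` of the
point stabilizer whose even part is the point stabilizer. -/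
theorem mem_iff_of_fix_alt {M : Subgroup (Perm Ω)} {α : Ω} {M₀' : Subgroup (Perm {x // x ≠ α})}
    (hinf : M₀' ⊓ alternatingGroup {x // x ≠ α} = resSub M (fun x => x ≠ α))
    {σ : Perm Ω} (hs : Perm.sign σ = 1) (hσ : σ α = α) :
    σ ∈ M ↔ σ.subtypePerm (fix_ne hσ) ∈ M₀' := by
  rw [mem_iff_of_fix M hσ, ← hinf, Subgroup.mem_inf, Perm.mem_alternatingGroup]
  constructor
  · exact fun h => h.1
  · intro h
    refine ⟨h, ?_⟩
    rw [Perm.sign_subtypePerm σ (fix_ne hσ) (moved_ne hσ), hs]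

/-- The transitive case of Theorem R. -/
theorem alt_trans_case {π : Set ℕ} (h2 : 2 ∈ π) {M : Subgroup (Perm Ω)} (hM : IsAltHall π M)
    (htr : MulAction.IsPretransitive (↥M) Ω)
    (h1 : ¬ AtMostOne π (Fintype.card Ω))
    (IH : ∀ (Ω' : Type u) [Fintype Ω'] [DecidableEq Ω'], Fintype.card Ω' < Fintype.card Ω →
        2 ≤ Fintype.card Ω' → ∀ M' : Subgroup (Perm Ω'), IsAltHall π M' → AltExt π M') :
    AltExt π M := by
  classical
  obtain ⟨p, q, hp, hq, hpq⟩ := not_atMostOne_iff.mp h1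
  have hn3 : 3 ≤ Fintype.card Ω := three_le_of_two_primes hp hq hpq
  obtain ⟨α⟩ : Nonempty Ω := Fintype.card_pos_iff.mp (by omega)
  have hM' : IsAltHall π (resSub M (fun x => x ≠ α)) := isAltHall_resSub_ne hM htr hn3 α
  have hcard' : Fintype.card {x // x ≠ α} = Fintype.card Ω - 1 := card_ne α
  obtain ⟨M₀', hle', hπ', hodd'⟩ := IH {x // x ≠ α} (by omega) (by omega) _ hM'
  obtain ⟨hHall', hinf'⟩ := hall_of_altExt hM' hle' hπ' hodd'
  have hc := hall_classify hHall'
  rcases hc with c1 | ⟨-, c2⟩ | c3 | c4 | c5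
  · -- at most one prime of `π` below `n`: then `n` is a prime of `π`
    rw [hcard'] at c1
    have hsmall : ∀ r : ℕ, r.Prime → r ∈ π → r < Fintype.card Ω → r = 2 := by
      intro r hr hrπ hrn
      exact c1 r 2 ⟨hr, hrπ, by omega⟩ ⟨Nat.prime_two, h2, by omega⟩
    obtain ⟨hnP, hnπ⟩ : (Fintype.card Ω).Prime ∧ Fintype.card Ω ∈ π := by
      by_cases hpn : p = Fintype.card Ω
      · exact ⟨hpn ▸ hp.1, hpn ▸ hp.2.1⟩
      · by_cases hqn : q = Fintype.card Ω
        · exact ⟨hqn ▸ hq.1, hqn ▸ hq.2.1⟩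
        · exfalso
          apply hpq
          rw [hsmall p hp.1 hp.2.1 (lt_of_le_of_ne hp.2.2 hpn),
            hsmall q hq.1 hq.2.1 (lt_of_le_of_ne hq.2.2 hqn)]
    by_cases hn3' : Fintype.card Ω = 3
    · refine ⟨⊤, le_top, ?_, top_not_le_alt (by omega)⟩
      intro r hr hdvd
      rw [Subgroup.card_top, natCard_perm, hr.dvd_factorial, hn3'] at hdvd
      have h2r := hr.two_le
      have hr23 : r = 2 ∨ r = 3 := by omega
      rcases hr23 with rfl | rfl
      · exact h2
      · rw [hn3'] at hnπ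
        exact hnπ
    · exfalso
      have h4 : Fintype.card Ω ≠ 4 := fun h => by
        rw [h] at hnP
        exact absurd hnP (by norm_num)
      exact no_trans_altHall_two_q hM htr hnP (by omega) h2 hsmall
  · -- the stabilizer is the full alternating group
    apply altExt_of_eq_alt h2 (by omega) hM
    apply eq_alt_of_trans_of_stab hM.1 htr α
    intro σ hs hσ
    rw [mem_iff_of_fix_alt hinf' hs hσ, c2]
    trivial
  · -- type 3: impossible
    exfalso
    obtain ⟨hprime, hπc, ω, hω⟩ := c3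
    rw [hcard'] at hprime hπc
    have h6 : 6 ≤ Fintype.card Ω := by
      by_contra hlt
      have hn345 : Fintype.card Ω = 3 ∨ Fintype.card Ω = 4 ∨ Fintype.card Ω = 5 := by omega
      rcases hn345 with h | h | h
      · have := (hπc 2 Nat.prime_two (by omega)).mp h2
        omega
      · -- `n = 4`: the primes of `π` up to 4 are among 2, 3 and `3 ∉ π`
        have h3 : (3 : ℕ) ∉ π := fun h3 => by
          have := (hπc 3 Nat.prime_three (by omega)).mp h3
          omega
        have hp23 : p = 2 := by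
          have := hp.1.two_le
          have := hp.2.2
          have h4 : p ≠ 4 := fun h => by rw [h] at hp; exact absurd hp.1 (by norm_num)
          have h3' : p ≠ 3 := fun h => h3 (h ▸ hp.2.1)
          omega
        have hq23 : q = 2 := by
          have := hq.1.two_le
          have := hq.2.2
          have h4 : q ≠ 4 := fun h => by rw [h] at hq; exact absurd hq.1 (by norm_num)
          have h3' : q ≠ 3 := fun h => h3 (h ▸ hq.2.1)
          omega
        exact hpq (hp23.trans hq23.symm)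
      · rw [h] at hprime
        exact absurd hprime (by norm_num)
    refine no_trans_T3_alt hM.1 htr h6 α (ω : Ω) ω.2 ?_
    intro σ hs hσ
    rw [mem_iff_of_fix_alt hinf' hs hσ, hω, Subtype.ext_iff, Perm.subtypePerm_apply]
  · -- type 4: `M` is the even part of a group of type 5
    obtain ⟨hc7, hπc, S', hS'3, hS'⟩ := c4
    have hn8 : Fintype.card Ω = 8 := by omega
    set S₀ : Finset Ω := S'.map (Function.Embedding.subtype _) with hS₀
    have hS₀3 : S₀.card = 3 := by rw [hS₀, Finset.card_map, hS'3]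
    have hmemS₀ : ∀ x : Ω, x ∈ S₀ ↔ ∃ h : x ≠ α, (⟨x, h⟩ : {x // x ≠ α}) ∈ S' := by
      intro x
      rw [hS₀, Finset.mem_map]
      constructor
      · rintro ⟨y, hy, rfl⟩
        exact ⟨y.2, hy⟩
      · rintro ⟨h, hx⟩
        exact ⟨⟨x, h⟩, hx, rfl⟩
    have hαS₀ : α ∉ S₀ := by
      rw [hmemS₀]
      rintro ⟨h, -⟩
      exact h rfl
    have hmem : ∀ σ : Perm Ω, Perm.sign σ = 1 → σ α = α →
        (σ ∈ M ↔ ∀ x, σ x ∈ S₀ ↔ x ∈ S₀) := by
      intro σ hs hσ
      rw [mem_iff_of_fix_alt hinf' hs hσ, hS']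
      constructor
      · intro h x
        by_cases hx : x = α
        · subst hx
          rw [hσ]
        · have := h ⟨x, hx⟩
          rw [Perm.subtypePerm_apply] at this
          rw [hmemS₀, hmemS₀]
          constructor
          · rintro ⟨h1, h2⟩
            exact ⟨hx, this.mp h2⟩
          · rintro ⟨h1, h2⟩
            exact ⟨(fix_ne hσ x).mpr hx, this.mpr h2⟩
      · intro h y
        rw [Perm.subtypePerm_apply]
        have := h (y : Ω)
        rw [hmemS₀, hmemS₀] at this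
        constructor
        · intro h2
          obtain ⟨h3, h4⟩ := this.mp ⟨(fix_ne hσ y).mpr y.2, h2⟩
          exact h4
        · intro h2
          obtain ⟨h3, h4⟩ := this.mpr ⟨y.2, h2⟩
          exact h4
    have h5 : ¬ 5 ∣ Nat.card M := by
      intro h
      have := (hπc 5 (by norm_num) (by norm_num)).mp (hM.2.1 5 (by norm_num) h)
      omega
    obtain ⟨S, hS4, hS⟩ := trans_T4_alt hM.1 htr hn8 α S₀ hS₀3 hαS₀ hmem h5
    refine ⟨Cfsg.Agent.Helper7.HSEx.partStab S, ?_, ?_, ?_⟩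
    · intro σ hσ
      rw [Cfsg.Agent.Helper7.HSEx.mem_partStab]
      exact (hS σ (Perm.mem_alternatingGroup.mp (hM.1 hσ))).mp hσ
    · intro r hr hdvd
      have hne : S.Nonempty := by
        rw [← Finset.card_pos]; omega
      rw [Cfsg.Agent.Helper7.HSEx.card_partStab S (by omega) hne,
        Cfsg.Agent.Helper7.HSEx.card_setStab, hS4, hn8] at hdvd
      have h1152 : 2 * (Nat.factorial 4 * Nat.factorial (8 - 4)) = 2 ^ 7 * 3 ^ 2 := by decide
      rw [h1152] at hdvd
      rcases (Nat.Prime.dvd_mul hr).mp hdvd with h | h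
      · have := (Nat.prime_dvd_prime_iff_eq hr Nat.prime_two).mp (hr.dvd_of_dvd_pow h)
        rw [this]; exact h2
      · have := (Nat.prime_dvd_prime_iff_eq hr Nat.prime_three).mp (hr.dvd_of_dvd_pow h)
        rw [this]
        exact (hπc 3 Nat.prime_three (by norm_num)).mpr (Or.inr rfl)
    · intro hle
      obtain ⟨a, b, b', hb', hne'⟩ : ∃ a ∈ S, ∃ b ∈ S, a ≠ b := Finset.one_lt_card.mp (by omega)
      have hsw : swap a b' ∈ Cfsg.Agent.Helper7.HSEx.partStab S := by
        rw [Cfsg.Agent.Helper7.HSEx.mem_partStab]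
        left
        intro x
        by_cases hxa : x = a
        · subst hxa
          rw [swap_apply_left]
          exact ⟨fun _ => b, fun _ => hb'⟩
        · by_cases hxb : x = b'
          · subst hxb
            rw [swap_apply_right]
            exact ⟨fun _ => hb', fun _ => b⟩
          · rw [swap_apply_of_ne_of_ne hxa hxb]
      have := hle hsw
      rw [Perm.mem_alternatingGroup, Perm.sign_swap hne'] at this
      exact absurd this (by decide)
  · -- type 5: `M` is 2-transitive and contains a 3-cycle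
    obtain ⟨hc8, hπc, S', hS'4, hS'⟩ := c5
    have hn9 : Fintype.card Ω = 9 := by omega
    have hmemM : ∀ τ : Perm {x // x ≠ α}, Perm.sign τ = 1 → τ ∈ M₀' → Perm.ofSubtype τ ∈ M := by
      intro τ hs hτ
      have : τ ∈ M₀' ⊓ alternatingGroup {x // x ≠ α} :=
        Subgroup.mem_inf.mpr ⟨hτ, Perm.mem_alternatingGroup.mpr hs⟩
      rw [hinf'] at this
      exact this
    have h2t : ∀ x y : Ω, x ≠ α → y ≠ α → ∃ σ ∈ M, σ α = α ∧ σ x = y := by
      intro x y hx hy
      obtain ⟨τ, hτs, hτS, hτxy⟩ := T5_alt_trans (S := S') hc8 hS'4 ⟨x, hx⟩ ⟨y, hy⟩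
      refine ⟨Perm.ofSubtype τ, hmemM τ hτs ((hS' τ).mpr hτS), ofSubtype_fix α _, ?_⟩
      rw [Perm.ofSubtype_apply_of_mem (p := fun x => x ≠ α) τ hx, hτxy]
    obtain ⟨g', hg'3, hg'S⟩ := T5_exists_threeCycle (S := S') hS'4
    have hg'M : Perm.ofSubtype g' ∈ M := hmemM g' hg'3.sign ((hS' g').mpr (Or.inl hg'S))
    have hg3 : (Perm.ofSubtype g').IsThreeCycle := by
      unfold Perm.IsThreeCycle at hg'3 ⊢
      rw [Perm.cycleType_ofSubtype, hg'3]
    have hle := alt_le_of_two_trans_of_threeCycle htr α h2t hg'M hg3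
    exact altExt_of_eq_alt h2 (by omega) hM (le_antisymm hM.1 hle)

theorem orbit_invariant (M : Subgroup (Perm Ω)) (α : Ω) :
    ∀ σ ∈ M, ∀ x, σ x ∈ MulAction.orbit (↥M) α ↔ x ∈ MulAction.orbit (↥M) α := by
  intro σ hσ x
  constructor
  · rintro ⟨h, hh⟩
    have hh' : h • α = σ x := hh
    refine ⟨⟨σ, hσ⟩⁻¹ * h, ?_⟩
    show (⟨σ, hσ⟩⁻¹ * h : ↥M) • α = x
    rw [mul_smul, hh']
    show (σ⁻¹ : Perm Ω) (σ x) = x
    simp
  · rintro ⟨h, hh⟩
    have hh' : h • α = x := hh
    refine ⟨⟨σ, hσ⟩ * h, ?_⟩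
    show (⟨σ, hσ⟩ * h : ↥M) • α = σ x
    rw [mul_smul, hh']
    rfl

theorem alt_hall_extend_aux (π : Set ℕ) (h2 : 2 ∈ π) :
    ∀ (n : ℕ) (Ω : Type u) [Fintype Ω] [DecidableEq Ω], Fintype.card Ω = n → 2 ≤ n →
      ∀ M : Subgroup (Perm Ω), IsAltHall π M → AltExt π M := by
  intro n
  induction n using Nat.strong_induction_on with
  | _ n ih =>
    intro Ω _ _ hn hn2 M hM
    classical
    have IH : ∀ (Ω' : Type u) [Fintype Ω'] [DecidableEq Ω'],
        Fintype.card Ω' < Fintype.card Ω → 2 ≤ Fintype.card Ω' →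
        ∀ M' : Subgroup (Perm Ω'), IsAltHall π M' → AltExt π M' := by
      intro Ω' _ _ hlt h2' M' hM'
      exact ih (Fintype.card Ω') (hn ▸ hlt) Ω' rfl h2' M' hM'
    by_cases h1 : AtMostOne π (Fintype.card Ω)
    · exact altExt_of_atMostOne h2 (by omega) h1 hM
    obtain ⟨p, q, hp, hq, hpq⟩ := not_atMostOne_iff.mp h1
    have hn3 : 3 ≤ Fintype.card Ω := three_le_of_two_primes hp hq hpq
    by_cases hfix : ∃ ω : Ω, ∀ σ ∈ M, σ ω = ω
    · obtain ⟨ω, hω⟩ := hfix
      have hM' := isAltHall_resSub_of_fixed hM ω hω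
      have hcard' : Fintype.card {x // x ≠ ω} = Fintype.card Ω - 1 := card_ne ω
      exact altExt_of_resSub ω hω (IH {x // x ≠ ω} (by omega) (by omega) _ hM')
    push Not at hfix
    by_cases htr : MulAction.IsPretransitive (↥M) Ω
    · exact alt_trans_case h2 hM htr h1 IH
    · -- intransitive without fixed points
      obtain ⟨α⟩ : Nonempty Ω := Fintype.card_pos_iff.mp (by omega)
      have hq' := orbit_invariant M α
      have hc1 : 2 ≤ Fintype.card {x // x ∈ MulAction.orbit (↥M) α} := by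
        obtain ⟨σ, hσ, hσα⟩ := hfix α
        have hα : α ∈ MulAction.orbit (↥M) α := MulAction.mem_orbit_self α
        have hσα' : σ α ∈ MulAction.orbit (↥M) α := (hq' σ hσ α).mpr hα
        have : 1 < Fintype.card {x // x ∈ MulAction.orbit (↥M) α} :=
          Fintype.one_lt_card_iff.mpr ⟨⟨σ α, hσα'⟩, ⟨α, hα⟩, fun h => hσα (congrArg Subtype.val h)⟩
        omega
      have hc2 : 2 ≤ Fintype.card {x // ¬ x ∈ MulAction.orbit (↥M) α} := by
        obtain ⟨x, hx⟩ : ∃ x : Ω, x ∉ MulAction.orbit (↥M) α := by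
          by_contra hall
          push Not at hall
          apply htr
          constructor
          intro x y
          obtain ⟨h₁, hh₁⟩ := hall x
          obtain ⟨h₂, hh₂⟩ := hall y
          have hh₁' : h₁ • α = x := hh₁
          have hh₂' : h₂ • α = y := hh₂
          refine ⟨h₂ * h₁⁻¹, ?_⟩
          rw [← hh₁', mul_smul, inv_smul_smul, hh₂']
        obtain ⟨σ, hσ, hσx⟩ := hfix x
        have hσx' : σ x ∉ MulAction.orbit (↥M) α := fun h => hx ((hq' σ hσ x).mp h)
        have : 1 < Fintype.card {x // ¬ x ∈ MulAction.orbit (↥M) α} :=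
          Fintype.one_lt_card_iff.mpr ⟨⟨σ x, hσx'⟩, ⟨x, hx⟩, fun h => hσx (congrArg Subtype.val h)⟩
        omega
      obtain ⟨σ₀, hσ₀, hodd⟩ := exists_odd_restriction h2 hM
        (fun x => x ∈ MulAction.orbit (↥M) α) hq' hc1 hc2
      exact altExt_of_odd_restriction hM.2.1 (fun x => x ∈ MulAction.orbit (↥M) α) hq' σ₀ hσ₀ hodd

/-- **Theorem R**: a Hall `π`-subgroup of `Alt(Ω)`, `2 ∈ π`, `|Ω| ≥ 2`, lies in a `π`-subgroup of
`Sym(Ω)` that is not inside `Alt(Ω)`. -/
theorem alt_hall_extend {π : Set ℕ} (h2 : 2 ∈ π) (hn : 2 ≤ Fintype.card Ω)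
    {M : Subgroup (Perm Ω)} (hM : IsAltHall π M) : AltExt π M :=
  alt_hall_extend_aux π h2 (Fintype.card Ω) Ω rfl hn M hM

/-- A Hall `π`-subgroup of `Alt(Ω)`, `2 ∈ π`, `|Ω| ≥ 2`, is the even part of a Hall `π`-subgroup of
`Sym(Ω)` that contains an odd permutation. -/
theorem exists_hall_sym_of_alt {π : Set ℕ} (h2 : 2 ∈ π) (hn : 2 ≤ Fintype.card Ω)
    {M : Subgroup (Perm Ω)} (hM : IsAltHall π M) :
    ∃ M₀ : Subgroup (Perm Ω), IsPiHall π M₀ ∧ M₀ ⊓ alternatingGroup Ω = M ∧
      ¬ M₀ ≤ alternatingGroup Ω := by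
  obtain ⟨M₀, hle, hπ, hodd⟩ := alt_hall_extend h2 hn hM
  obtain ⟨h1, h2'⟩ := hall_of_altExt hM hle hπ hodd
  exact ⟨M₀, h1, h2', hodd⟩

end Cfsg.Agent.Helper8.HS
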