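import Mathlib
import Cfsg.Agent.Lib.Helper8.HallSnDefs
import Cfsg.Agent.Lib.Helper8.HallAnDefs

/-!
# HA-TR3: the alternating version of no_trans_T3 (helper8 plan `plans/HallSn_plan.md`, Theorem R)
-/

set_option autoImplicit false

namespace Cfsg.Agent.Helper8.HS

open Equiv Cfsg

universe u

variable {Ω : Type u} [Fintype Ω] [DecidableEq Ω]

set_option linter.unusedSectionVars false
set_option linter.unusedVariables false

/-- Conjugating the (even) stabilizer condition by an element of `M`. -/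
theorem TR3A.conj {M : Subgroup (Perm Ω)} (α β : Ω)
    (hmem : ∀ σ : Perm Ω, Perm.sign σ = 1 → σ α = α → (σ ∈ M ↔ σ β = β)) (k : Perm Ω) (hk : k ∈ M)
    (σ : Perm Ω) (hs : Perm.sign σ = 1) (hσ : σ (k α) = k α) : σ ∈ M ↔ σ (k β) = k β := by
  have h1 : (k⁻¹ * σ * k) α = α := by
    simp [Perm.mul_apply, hσ]
  have hs' : Perm.sign (k⁻¹ * σ * k) = 1 := by
    rw [Perm.sign_mul, Perm.sign_mul, Perm.sign_inv, hs, mul_one, Int.units_mul_self]
  have h2 := hmem (k⁻¹ * σ * k) hs' h1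
  have h3 : (k⁻¹ * σ * k ∈ M) ↔ σ ∈ M := by
    constructor
    · intro h
      have : k * (k⁻¹ * σ * k) * k⁻¹ ∈ M := M.mul_mem (M.mul_mem hk h) (M.inv_mem hk)
      simpa [mul_assoc] using this
    · intro h
      exact M.mul_mem (M.mul_mem (M.inv_mem hk) h) hk
  rw [← h3, h2]
  simp only [Perm.mul_apply]
  constructor
  · intro h
    have := congrArg k h
    simpa using this
  · intro h
    rw [h]; simp

/-- Two distinct points outside a finset of at most four points. -/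
theorem TR3A.exists_two (hcard : 6 ≤ Fintype.card Ω) (s : Finset Ω) (hs : s.card ≤ 4) :
    ∃ x y : Ω, x ∉ s ∧ y ∉ s ∧ x ≠ y := by
  have h1 : 1 < sᶜ.card := by
    rw [Finset.card_compl]; omega
  obtain ⟨x, hx, y, hy, hxy⟩ := Finset.one_lt_card.1 h1
  exact ⟨x, y, Finset.mem_compl.1 hx, Finset.mem_compl.1 hy, hxy⟩

/-- the 3-cycle `(x d e)` is even -/
theorem TR3A.c3_sign {x d e : Ω} (hxd : x ≠ d) (hde : d ≠ e) :
    Perm.sign (Equiv.swap x d * Equiv.swap d e) = 1 := by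
  rw [Perm.sign_mul, Perm.sign_swap hxd, Perm.sign_swap hde]
  rfl

theorem TR3A.c3_left {x d e : Ω} (hxd : x ≠ d) (hxe : x ≠ e) :
    (Equiv.swap x d * Equiv.swap d e) x = d := by
  rw [Perm.mul_apply, Equiv.swap_apply_of_ne_of_ne hxd hxe, Equiv.swap_apply_left]

theorem TR3A.c3_fix {x d e y : Ω} (hyx : y ≠ x) (hyd : y ≠ d) (hye : y ≠ e) :
    (Equiv.swap x d * Equiv.swap d e) y = y := by
  rw [Perm.mul_apply, Equiv.swap_apply_of_ne_of_ne hyd hye, Equiv.swap_apply_of_ne_of_ne hyx hyd]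

/-- There is no transitive subgroup `M` of `Alt(Ω)`, `|Ω| ≥ 6`, in which the stabilizer of `α`
consists of all the even permutations fixing both `α` and `β`.  (As `no_trans_T3`, with 3-cycles
`(γ' δ ε)` in place of the transpositions; paper proof in the plan, HA-TR3.) -/
theorem no_trans_T3_alt {M : Subgroup (Perm Ω)} (hMA : M ≤ alternatingGroup Ω)
    (htr : MulAction.IsPretransitive (↥M) Ω) (hcard : 6 ≤ Fintype.card Ω) (α β : Ω) (hβα : β ≠ α)
    (hmem : ∀ σ : Perm Ω, Perm.sign σ = 1 → σ α = α → (σ ∈ M ↔ σ β = β)) : False := by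
  classical
  have card2 : ({α, β} : Finset Ω).card ≤ 4 := by
    have := Finset.card_insert_le α ({β} : Finset Ω)
    simp at this
    omega
  obtain ⟨γ, -, hγ, -, -⟩ := TR3A.exists_two hcard ({α, β} : Finset Ω) card2
  have hγα : γ ≠ α := by
    intro h; apply hγ; simp [h]
  have hγβ : γ ≠ β := by
    intro h; apply hγ; simp [h]
  obtain ⟨h, hh⟩ := MulAction.exists_smul_eq (↥M) α γ
  have hhα : (h : Perm Ω) α = γ := hh
  have key := TR3A.conj α β hmem (h : Perm Ω) h.2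
  rw [hhα] at key
  set γ' : Ω := (h : Perm Ω) β with hγ'
  have hγ'γ : γ' ≠ γ := by
    intro e
    apply hβα
    apply (h : Perm Ω).injective
    rw [hhα]; exact e
  by_cases c1 : γ' = α
  · -- case 2
    obtain ⟨δ, ε, hδ, hε, hδε⟩ := TR3A.exists_two hcard ({α, β, γ} : Finset Ω)
      (by
        have h1 := Finset.card_insert_le α ({β, γ} : Finset Ω)
        have h2 := Finset.card_insert_le β ({γ} : Finset Ω)
        simp at h1 h2
        omega)
    simp only [Finset.mem_insert, Finset.mem_singleton, not_or] at hδ hε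
    obtain ⟨hδα, hδβ, hδγ⟩ := hδ
    obtain ⟨hεα, hεβ, hεγ⟩ := hε
    have hs := TR3A.c3_sign (Ne.symm hδβ) hδε
    have hσγ := TR3A.c3_fix (x := β) (d := δ) (e := ε) hγβ (Ne.symm hδγ) (Ne.symm hεγ)
    have hσα := TR3A.c3_fix (x := β) (d := δ) (e := ε) (Ne.symm hβα) (Ne.symm hδα) (Ne.symm hεα)
    have hσH : Equiv.swap β δ * Equiv.swap δ ε ∈ M := (key _ hs hσγ).2 (by rw [c1]; exact hσα)
    have := (hmem _ hs hσα).1 hσH
    rw [TR3A.c3_left (Ne.symm hδβ) (Ne.symm hεβ)] at this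
    exact hδβ this
  by_cases c2 : γ' = β
  · -- case 3
    obtain ⟨k, hk⟩ := MulAction.exists_smul_eq (↥M) β α
    have hkβ : (k : Perm Ω) β = α := hk
    have key2 := TR3A.conj α β hmem (k : Perm Ω) k.2
    rw [hkβ] at key2
    set ε' : Ω := (k : Perm Ω) α with hε'
    have hε'α : ε' ≠ α := by
      intro e
      apply hβα
      apply (k : Perm Ω).injective
      rw [hkβ]; exact e.symm
    obtain ⟨δ, ε, hδ, hε, hδε⟩ := TR3A.exists_two hcard ({α, β, γ, ε'} : Finset Ω)
      (by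
        have h1 := Finset.card_insert_le α ({β, γ, ε'} : Finset Ω)
        have h2 := Finset.card_insert_le β ({γ, ε'} : Finset Ω)
        have h3 := Finset.card_insert_le γ ({ε'} : Finset Ω)
        simp at h1 h2 h3
        omega)
    simp only [Finset.mem_insert, Finset.mem_singleton, not_or] at hδ hε
    obtain ⟨hδα, hδβ, hδγ, hδε'⟩ := hδ
    obtain ⟨hεα, hεβ, hεγ, hεε'⟩ := hε
    have hs := TR3A.c3_sign (Ne.symm hδα) hδε
    have hσγ := TR3A.c3_fix (x := α) (d := δ) (e := ε) hγα (Ne.symm hδγ) (Ne.symm hεγ)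
    have hσβ := TR3A.c3_fix (x := α) (d := δ) (e := ε) hβα (Ne.symm hδβ) (Ne.symm hεβ)
    have hσε := TR3A.c3_fix (x := α) (d := δ) (e := ε) hε'α (Ne.symm hδε') (Ne.symm hεε')
    have hσH : Equiv.swap α δ * Equiv.swap δ ε ∈ M := (key _ hs hσγ).2 (by rw [c2]; exact hσβ)
    have := (key2 _ hs hσε).1 hσH
    rw [TR3A.c3_left (Ne.symm hδα) (Ne.symm hεα)] at this
    exact hδα this
  · -- case 1
    obtain ⟨δ, ε, hδ, hε, hδε⟩ := TR3A.exists_two hcard ({α, β, γ, γ'} : Finset Ω)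
      (by
        have h1 := Finset.card_insert_le α ({β, γ, γ'} : Finset Ω)
        have h2 := Finset.card_insert_le β ({γ, γ'} : Finset Ω)
        have h3 := Finset.card_insert_le γ ({γ'} : Finset Ω)
        simp at h1 h2 h3
        omega)
    simp only [Finset.mem_insert, Finset.mem_singleton, not_or] at hδ hε
    obtain ⟨hδα, hδβ, hδγ, hδγ'⟩ := hδ
    obtain ⟨hεα, hεβ, hεγ, hεγ'⟩ := hε
    have hs := TR3A.c3_sign (Ne.symm hδγ') hδε
    have hτα := TR3A.c3_fix (x := γ') (d := δ) (e := ε) (Ne.symm c1) (Ne.symm hδα) (Ne.symm hεα)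
    have hτβ := TR3A.c3_fix (x := γ') (d := δ) (e := ε) (Ne.symm c2) (Ne.symm hδβ) (Ne.symm hεβ)
    have hτγ := TR3A.c3_fix (x := γ') (d := δ) (e := ε) (Ne.symm hγ'γ) (Ne.symm hδγ) (Ne.symm hεγ)
    have hτH : Equiv.swap γ' δ * Equiv.swap δ ε ∈ M := (hmem _ hs hτα).2 hτβ
    have := (key _ hs hτγ).1 hτH
    rw [TR3A.c3_left (Ne.symm hδγ') (Ne.symm hεγ')] at this
    exact hδγ' this

end Cfsg.Agent.Helper8.HS
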