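import Mathlib
import Cfsg.Agent.Lib.Helper8.HallSnDefs
import Cfsg.Agent.Lib.Helper8.HallAnDefs

/-!
# HC-GEN: two generic facts on Hall subgroups (helper8 plan `plans/HallSn_plan.md`)
-/

set_option autoImplicit false
set_option linter.style.haveILetI false

namespace Cfsg.Agent.Helper8.HS

open Equiv Cfsg
open scoped Pointwise

universe u

namespace HCGen

theorem card_subgroupOf {G : Type*} [Group G] (H N : Subgroup G) :
    Nat.card (H.subgroupOf N) = Nat.card ↥(H ⊓ N) := by
  rw [← Subgroup.subgroupOf_map_subtype,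
    Subgroup.card_map_of_injective (Subgroup.subtype_injective N)]

theorem relIndex_mul_card_inf {G : Type*} [Group G] (H N : Subgroup G) :
    H.relIndex N * Nat.card ↥(H ⊓ N) = Nat.card N := by
  rw [← card_subgroupOf, mul_comm]
  exact Subgroup.card_mul_index (H.subgroupOf N)

theorem relIndex_mul_card_of_le {G : Type*} [Group G] {H L : Subgroup G} (h : H ≤ L) :
    H.relIndex L * Nat.card H = Nat.card L := by
  have := relIndex_mul_card_inf H L
  rwa [inf_of_le_left h] at this

/-- `[N : H ∩ N] = [H N : H]` for a normal subgroup `N` of a finite group -/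
theorem relIndex_eq_relIndex_sup {G : Type*} [Group G] [Finite G] (H N : Subgroup G) [N.Normal] :
    H.relIndex N = H.relIndex (H ⊔ N) := by
  have e1 : N.relIndex H * Nat.card ↥(N ⊓ H) = Nat.card H := relIndex_mul_card_inf N H
  have e2 : H.relIndex N * Nat.card ↥(H ⊓ N) = Nat.card N := relIndex_mul_card_inf H N
  have e3 : N.relIndex (H ⊔ N) * Nat.card N = Nat.card ↥(H ⊔ N) :=
    relIndex_mul_card_of_le le_sup_right
  have e4 : H.relIndex (H ⊔ N) * Nat.card H = Nat.card ↥(H ⊔ N) :=
    relIndex_mul_card_of_le le_sup_left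
  have e5 : N.relIndex (H ⊔ N) = N.relIndex H := Subgroup.relIndex_sup_right H N
  rw [inf_comm] at e1
  have hpos : 0 < Nat.card H := Nat.card_pos
  have key : Nat.card H * H.relIndex N = Nat.card H * H.relIndex (H ⊔ N) := by
    calc Nat.card H * H.relIndex N
        = N.relIndex H * (H.relIndex N * Nat.card ↥(H ⊓ N)) := by rw [← e1]; ring
      _ = N.relIndex (H ⊔ N) * Nat.card N := by rw [e2, e5]
      _ = Nat.card H * H.relIndex (H ⊔ N) := by rw [e3, ← e4]; ring
  exact Nat.eq_of_mul_eq_mul_left hpos key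

end HCGen

/-- The intersection of a Hall `π`-subgroup with a normal subgroup `N` is a Hall `π`-subgroup of `N`:
`[N : H ∩ N] = [H N : H]` divides `[G : H]`. -/
theorem isPiHall_subgroupOf_normal {G : Type*} [Group G] [Finite G] {π : Set ℕ} {H : Subgroup G}
    (N : Subgroup G) [N.Normal] (hH : IsPiHall π H) : IsPiHall π (H.subgroupOf N) := by
  refine ⟨?_, ?_⟩
  · intro p hp hdvd
    apply hH.1 p hp
    rw [HCGen.card_subgroupOf] at hdvd
    exact hdvd.trans (Subgroup.card_dvd_of_le inf_le_left)
  · intro p hp hpπ hdvd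
    apply hH.2 p hp hpπ
    have h1 : (H.subgroupOf N).index = H.relIndex N := rfl
    rw [h1, HCGen.relIndex_eq_relIndex_sup] at hdvd
    exact hdvd.trans (Subgroup.relIndex_dvd_index_of_le le_sup_left)

/-- If at most one prime of `π` divides `|G|`, the Hall `π`-subgroups are Sylow subgroups (or
trivial), hence conjugate. -/
theorem conj_of_atMostOne_dvd {G : Type*} [Group G] [Finite G] {π : Set ℕ}
    (h : ∀ p q : ℕ, p.Prime → q.Prime → p ∈ π → q ∈ π → p ∣ Nat.card G → q ∣ Nat.card G → p = q)
    {H K : Subgroup G} (hH : IsPiHall π H) (hK : IsPiHall π K) :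
    ∃ g : G, K = H.map (MulAut.conj g).toMonoidHom := by
  by_cases hex : ∃ p : ℕ, p.Prime ∧ p ∈ π ∧ p ∣ Nat.card G
  · obtain ⟨p, hp, hpπ, hpG⟩ := hex
    haveI : Fact p.Prime := ⟨hp⟩
    have hpow : ∀ L : Subgroup G, IsPiHall π L → IsPGroup p L := by
      intro L hL
      have hprime : ∀ {d : ℕ}, d.Prime → d ∣ Nat.card L → d = p := by
        intro d hd hdvd
        exact h d p hd hp (hL.1 d hd hdvd) hpπ (hdvd.trans (Subgroup.card_subgroup_dvd_card L)) hpG
      exact IsPGroup.of_card
        (Nat.eq_prime_pow_of_unique_prime_dvd Nat.card_pos.ne' hprime)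
    have hH1 := hpow H hH
    have hK1 := hpow K hK
    have hH2 : ¬ p ∣ H.index := hH.2 p hp hpπ
    have hK2 : ¬ p ∣ K.index := hK.2 p hp hpπ
    obtain ⟨g, hg⟩ := MulAction.exists_smul_eq G (hH1.toSylow hH2) (hK1.toSylow hK2)
    have hcoe : MulAut.conj g • H = K := by
      have := congrArg (fun P : Sylow p G => (P : Subgroup G)) hg
      simp only [Sylow.coe_subgroup_smul, IsPGroup.toSylow_coe] at this
      exact this
    refine ⟨g, ?_⟩
    ext x
    rw [← hcoe, Subgroup.mem_pointwise_smul_iff_inv_smul_mem, Subgroup.mem_map]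
    constructor
    · intro hx
      refine ⟨(MulAut.conj g)⁻¹ • x, hx, ?_⟩
      show MulAut.conj g ((MulAut.conj g)⁻¹ • x) = x
      rw [MulAut.smul_def, MulAut.apply_inv_self]
    · rintro ⟨y, hy, rfl⟩
      have : (MulAut.conj g)⁻¹ • ((MulAut.conj g).toMonoidHom y) = y := by
        show (MulAut.conj g)⁻¹ (MulAut.conj g y) = y
        rw [MulAut.inv_apply_self]
      rw [this]
      exact hy
  · have hone : ∀ L : Subgroup G, IsPiHall π L → L = ⊥ := by
      intro L hL
      rw [← Subgroup.card_eq_one, Nat.eq_one_iff_not_exists_prime_dvd]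
      intro d hd hdvd
      exact hex ⟨d, hd, hL.1 d hd hdvd, hdvd.trans (Subgroup.card_subgroup_dvd_card L)⟩
    refine ⟨1, ?_⟩
    rw [hone H hH, hone K hK, Subgroup.map_bot]

end Cfsg.Agent.Helper8.HS
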