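import Mathlib
import Cfsg.Agent.Lib.Helper8.HallSnDefs
import Cfsg.Agent.Lib.Helper8.HallAnDefs

/-!
# HC-T345: the groups of a given type are conjugate (helper8 plan `plans/HallSn_plan.md`)
-/

set_option autoImplicit false

namespace Cfsg.Agent.Helper8.HS

open Equiv Cfsg

universe u

variable {Ω : Type u} [Fintype Ω] [DecidableEq Ω]

namespace T345

omit [Fintype Ω] [DecidableEq Ω] in
theorem mem_map_conj {H : Subgroup (Perm Ω)} {g σ : Perm Ω} :
    σ ∈ H.map (MulAut.conj g).toMonoidHom ↔ g⁻¹ * σ * g ∈ H := by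
  rw [Subgroup.mem_map_equiv]
  simp [MulAut.conj_symm_apply]

/-- a permutation carrying the finset `S` onto the finset `S'` of the same size -/
theorem exists_perm_finset (S S' : Finset Ω) (h : S.card = S'.card) :
    ∃ g : Perm Ω, ∀ x, g x ∈ S' ↔ x ∈ S := by
  have hc : Fintype.card {x // x ∈ S} = Fintype.card {x // x ∈ S'} := by
    rw [Fintype.card_coe, Fintype.card_coe, h]
  let e : {x // x ∈ S} ≃ {x // x ∈ S'} := Fintype.equivOfCardEq hc
  refine ⟨e.extendSubtype, fun x => ?_⟩
  constructor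
  · intro hx
    by_contra hxS
    exact e.extendSubtype_not_mem x hxS hx
  · intro hx
    exact e.extendSubtype_mem x hx

omit [Fintype Ω] [DecidableEq Ω] in
theorem t345_conj_apply (g σ : Perm Ω) (x : Ω) : (g⁻¹ * σ * g) x = g⁻¹ (σ (g x)) := rfl

omit [Fintype Ω] [DecidableEq Ω] in
theorem inv_mem_iff {S S' : Finset Ω} {g : Perm Ω} (hg : ∀ x, g x ∈ S' ↔ x ∈ S) (u : Ω) :
    g⁻¹ u ∈ S ↔ u ∈ S' := by
  rw [← hg (g⁻¹ u)]
  simp

end T345

open T345

/-- Two point stabilizers are conjugate. -/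
theorem conj_of_isT3 {π : Set ℕ} {H K : Subgroup (Perm Ω)} (hH : IsT3 π H) (hK : IsT3 π K) :
    ∃ g : Perm Ω, K = H.map (MulAut.conj g).toMonoidHom := by
  obtain ⟨_, _, ω, hω⟩ := hH
  obtain ⟨_, _, ω', hω'⟩ := hK
  refine ⟨swap ω ω', ?_⟩
  ext σ
  rw [mem_map_conj, hω, hω', t345_conj_apply, swap_apply_left, swap_inv]
  constructor
  · intro h
    rw [h, swap_apply_right]
  · intro h
    have h2 := congrArg (swap ω ω') h
    rw [swap_apply_self, swap_apply_left] at h2
    exact h2

/-- The stabilizers of two 3-sets are conjugate. -/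
theorem conj_of_isT4 {π : Set ℕ} {H K : Subgroup (Perm Ω)} (hH : IsT4 π H) (hK : IsT4 π K) :
    ∃ g : Perm Ω, K = H.map (MulAut.conj g).toMonoidHom := by
  obtain ⟨_, _, S, hS, hHS⟩ := hH
  obtain ⟨_, _, S', hS', hKS⟩ := hK
  obtain ⟨g, hg⟩ := exists_perm_finset S S' (by rw [hS, hS'])
  refine ⟨g, ?_⟩
  ext σ
  rw [mem_map_conj, hHS, hKS]
  apply Iff.symm
  constructor
  · intro h x
    have := h (g⁻¹ x)
    rw [t345_conj_apply, inv_mem_iff hg, inv_mem_iff hg] at this
    simpa using this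
  · intro h x
    rw [t345_conj_apply, inv_mem_iff hg, h (g x), hg]

/-- The stabilizers of two partitions into two 4-sets are conjugate. -/
theorem conj_of_isT5 {π : Set ℕ} {H K : Subgroup (Perm Ω)} (hH : IsT5 π H) (hK : IsT5 π K) :
    ∃ g : Perm Ω, K = H.map (MulAut.conj g).toMonoidHom := by
  obtain ⟨_, _, S, hS, hHS⟩ := hH
  obtain ⟨_, _, S', hS', hKS⟩ := hK
  obtain ⟨g, hg⟩ := exists_perm_finset S S' (by rw [hS, hS'])
  refine ⟨g, ?_⟩
  ext σ
  rw [mem_map_conj, hHS, hKS]
  apply Iff.symm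
  constructor
  · rintro (h | h)
    · left
      intro x
      have := h (g⁻¹ x)
      rw [t345_conj_apply, inv_mem_iff hg, inv_mem_iff hg] at this
      simpa using this
    · right
      intro x
      have := h (g⁻¹ x)
      rw [t345_conj_apply, inv_mem_iff hg, inv_mem_iff hg] at this
      simpa using this
  · rintro (h | h)
    · left
      intro x
      rw [t345_conj_apply, inv_mem_iff hg, h (g x), hg]
    · right
      intro x
      rw [t345_conj_apply, inv_mem_iff hg, h (g x), hg]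

end Cfsg.Agent.Helper8.HS
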