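import Mathlib
import Cfsg.Agent.Lib.Helper8.HallSnDefs
import Cfsg.Agent.Lib.Helper8.HallAnDefs

/-!
# HC-TRANSP: transport between subgroups of the group Alt and of Sym (helper8 plan `plans/HallSn_plan.md`)
-/

set_option autoImplicit false
set_option linter.style.haveILetI false

namespace Cfsg.Agent.Helper8.HS

open Equiv Cfsg

universe u

variable {Ω : Type u} [Fintype Ω] [DecidableEq Ω]

/-- Hall subgroups of the group `Alt(Ω)` versus `IsAltHall` for subgroups of `Sym(Ω)`. -/
theorem isAltHall_map_subtype {π : Set ℕ} (M : Subgroup ↥(alternatingGroup Ω)) :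
    IsPiHall π M ↔ IsAltHall π (M.map (alternatingGroup Ω).subtype) := by
  have hcard : Nat.card (M.map (alternatingGroup Ω).subtype) = Nat.card M :=
    Subgroup.card_map_of_injective (Subgroup.subtype_injective _)
  have hidx : (M.map (alternatingGroup Ω).subtype).relIndex (alternatingGroup Ω) = M.index := by
    unfold Subgroup.relIndex Subgroup.subgroupOf
    rw [Subgroup.comap_map_eq_self_of_injective (Subgroup.subtype_injective _)]
  unfold IsPiHall IsAltHall
  rw [hcard, hidx]
  constructor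
  · rintro ⟨h1, h2⟩
    exact ⟨Subgroup.map_subtype_le M, h1, h2⟩
  · rintro ⟨-, h1, h2⟩
    exact ⟨h1, h2⟩

theorem isPiHall_subgroupOf_of_isAltHall {π : Set ℕ} {M : Subgroup (Perm Ω)}
    (hM : IsAltHall π M) : IsPiHall π (M.subgroupOf (alternatingGroup Ω)) := by
  obtain ⟨hMA, h1, h2⟩ := hM
  have hcard : Nat.card (M.subgroupOf (alternatingGroup Ω)) = Nat.card M := by
    rw [← Subgroup.card_map_of_injective (Subgroup.subtype_injective (alternatingGroup Ω)),
      Subgroup.subgroupOf_map_subtype, inf_of_le_left hMA]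
  refine ⟨?_, ?_⟩
  · intro p hp hdvd
    rw [hcard] at hdvd
    exact h1 p hp hdvd
  · intro p hp hpπ hdvd
    exact h2 p hp hpπ hdvd

/-- If `2 ∉ π`, or if `|Ω| ≤ 1`, a Hall `π`-subgroup of `Alt(Ω)` is a Hall `π`-subgroup of `Sym(Ω)`
(`[Sym : Alt] ≤ 2`). -/
theorem isPiHall_of_isAltHall {π : Set ℕ} (h2 : 2 ∉ π ∨ Fintype.card Ω ≤ 1)
    {M : Subgroup (Perm Ω)} (hM : IsAltHall π M) : IsPiHall π M := by
  obtain ⟨hMA, h1, h3⟩ := hM
  refine ⟨h1, ?_⟩
  intro p hp hpπ hdvd
  rw [← Subgroup.relIndex_mul_index hMA] at hdvd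
  rcases (Nat.Prime.dvd_mul hp).mp hdvd with h | h
  · exact h3 p hp hpπ h
  · by_cases hnt : Nontrivial Ω
    · rw [alternatingGroup.index_eq_two] at h
      have hp2 : p = 2 := (Nat.prime_dvd_prime_iff_eq hp Nat.prime_two).mp h
      rcases h2 with h2 | h2
      · exact h2 (hp2 ▸ hpπ)
      · have := Fintype.one_lt_card_iff_nontrivial.mpr hnt
        omega
    · rw [not_nontrivial_iff_subsingleton] at hnt
      have htop : alternatingGroup Ω = ⊤ := by
        rw [eq_top_iff]
        intro σ _
        have : σ = 1 := Subsingleton.elim _ _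
        rw [this]
        exact one_mem _
      rw [htop, Subgroup.index_top] at h
      exact hp.one_lt.ne' (Nat.dvd_one.mp h)

end Cfsg.Agent.Helper8.HS
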