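import Mathlib
import Cfsg.Agent.Lib.Helper8.HallSnDefs
import Cfsg.Agent.Lib.Helper8.HallAnDefs
import Cfsg.Agent.Lib.Helper8.HSBasic
import Cfsg.Agent.Lib.Helper8.HSMain
import Cfsg.Agent.Lib.Helper8.HAMain
import Cfsg.Agent.Lib.Helper8.HCGen
import Cfsg.Agent.Lib.Helper8.HCT345
import Cfsg.Agent.Lib.Helper8.HCTransp

/-!
# Conjugacy of the Hall subgroups of `Sym(Ω)` and `Alt(Ω)` (helper8)
-/

set_option autoImplicit false
set_option linter.unusedSectionVars false

namespace Cfsg.Agent.Helper8.HS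

open Equiv Cfsg

universe u

variable {Ω : Type u} [Fintype Ω] [DecidableEq Ω]

/-- Any two Hall `π`-subgroups of `Sym(Ω)` are conjugate. -/
theorem conj_hall_sym {π : Set ℕ} {H K : Subgroup (Perm Ω)} (hH : IsPiHall π H)
    (hK : IsPiHall π K) : ∃ g : Perm Ω, K = H.map (MulAut.conj g).toMonoidHom := by
  by_cases h1 : AtMostOne π (Fintype.card Ω)
  · apply conj_of_atMostOne_dvd _ hH hK
    intro p q hp hq hpπ hqπ hpd hqd
    rw [natCard_perm, hp.dvd_factorial] at hpd
    rw [natCard_perm, hq.dvd_factorial] at hqd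
    exact h1 p q ⟨hp, hpπ, hpd⟩ ⟨hq, hqπ, hqd⟩
  by_cases h2 : AllIn π (Fintype.card Ω)
  · refine ⟨1, ?_⟩
    rw [eq_top_of_allIn hH h2, eq_top_of_allIn hK h2]
    exact (Subgroup.map_top_of_surjective _ (MulAut.conj (1 : Perm Ω)).surjective).symm
  have cH := hall_classify hH
  have cK := hall_classify hK
  rcases cH with c | ⟨c, -⟩ | cH3 | cH4 | cH5
  · exact absurd c h1
  · exact absurd c h2
  · rcases cK with c | ⟨c, -⟩ | cK3 | cK4 | cK5
    · exact absurd c h1
    · exact absurd c h2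
    · exact conj_of_isT3 cH3 cK3
    · exfalso
      obtain ⟨-, hπ3, -⟩ := cH3
      obtain ⟨h7, hπ4, -⟩ := cK4
      rw [h7] at hπ3
      have h5 : (5 : ℕ) ∈ π := (hπ3 5 (by norm_num) (by norm_num)).mpr (by norm_num)
      have := (hπ4 5 (by norm_num) (by norm_num)).mp h5
      omega
    · exfalso
      obtain ⟨hp, -, -⟩ := cH3
      rw [cK5.1] at hp
      exact absurd hp (by norm_num)
  · rcases cK with c | ⟨c, -⟩ | cK3 | cK4 | cK5
    · exact absurd c h1
    · exact absurd c h2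
    · exfalso
      obtain ⟨-, hπ3, -⟩ := cK3
      obtain ⟨h7, hπ4, -⟩ := cH4
      rw [h7] at hπ3
      have h5 : (5 : ℕ) ∈ π := (hπ3 5 (by norm_num) (by norm_num)).mpr (by norm_num)
      have := (hπ4 5 (by norm_num) (by norm_num)).mp h5
      omega
    · exact conj_of_isT4 cH4 cK4
    · exfalso
      have := cH4.1
      have := cK5.1
      omega
  · rcases cK with c | ⟨c, -⟩ | cK3 | cK4 | cK5
    · exact absurd c h1
    · exact absurd c h2
    · exfalso
      obtain ⟨hp, -, -⟩ := cK3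
      rw [cH5.1] at hp
      exact absurd hp (by norm_num)
    · exfalso
      have := cH5.1
      have := cK4.1
      omega
    · exact conj_of_isT5 cH5 cK5

/-- If `Sym(Ω)` has Hall `π`-subgroups and at least two primes of `π` are at most `|Ω|`, then
`2 ∈ π`. -/
theorem two_mem_of_hall {π : Set ℕ} {H : Subgroup (Perm Ω)} (hH : IsPiHall π H)
    (h1 : ¬ AtMostOne π (Fintype.card Ω)) : (2 : ℕ) ∈ π := by
  obtain ⟨p, q, hp, hq, hpq⟩ := not_atMostOne_iff.mp h1
  have hn3 : 3 ≤ Fintype.card Ω := three_le_of_two_primes hp hq hpq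
  rcases hall_classify hH with c | ⟨c, -⟩ | c3 | c4 | c5
  · exact absurd c h1
  · exact c 2 Nat.prime_two (by omega)
  · exact (c3.2.1 2 Nat.prime_two (by omega)).mpr (by omega)
  · exact (c4.2.1 2 Nat.prime_two (by norm_num)).mpr (Or.inl rfl)
  · exact (c5.2.1 2 Nat.prime_two (by norm_num)).mpr (Or.inl rfl)

/-- A Hall `π`-subgroup of `Alt(Ω)` is the even part of a Hall `π`-subgroup of `Sym(Ω)`. -/
theorem exists_hall_sym {π : Set ℕ} {M : Subgroup (Perm Ω)} (hM : IsAltHall π M) :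
    ∃ M₀ : Subgroup (Perm Ω), IsPiHall π M₀ ∧ M₀ ⊓ alternatingGroup Ω = M := by
  by_cases h : 2 ∉ π ∨ Fintype.card Ω ≤ 1
  · exact ⟨M, isPiHall_of_isAltHall h hM, inf_eq_left.mpr hM.1⟩
  · push Not at h
    obtain ⟨M₀, hM₀, hinf, -⟩ := exists_hall_sym_of_alt h.1 (by omega) hM
    exact ⟨M₀, hM₀, hinf⟩

theorem map_conj_of_mem {G : Type*} [Group G] {H : Subgroup G} {t : G} (ht : t ∈ H) :
    H.map (MulAut.conj t).toMonoidHom = H := by
  ext x
  rw [Subgroup.mem_map]
  constructor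
  · rintro ⟨y, hy, rfl⟩
    show t * y * t⁻¹ ∈ H
    exact H.mul_mem (H.mul_mem ht hy) (H.inv_mem ht)
  · intro hx
    refine ⟨t⁻¹ * x * t, H.mul_mem (H.mul_mem (H.inv_mem ht) hx) ht, ?_⟩
    show t * (t⁻¹ * x * t) * t⁻¹ = x
    group

theorem map_conj_of_normal {G : Type*} [Group G] (N : Subgroup G) [hN : N.Normal] (t : G) :
    N.map (MulAut.conj t).toMonoidHom = N := by
  ext x
  rw [Subgroup.mem_map]
  constructor
  · rintro ⟨y, hy, rfl⟩
    exact hN.conj_mem y hy t
  · intro hx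
    refine ⟨t⁻¹ * x * t, ?_, ?_⟩
    · have := hN.conj_mem x hx t⁻¹
      rwa [inv_inv] at this
    · show t * (t⁻¹ * x * t) * t⁻¹ = x
      group

/-- Any two Hall `π`-subgroups of `Alt(Ω)` are conjugate in `Alt(Ω)`. -/
theorem conj_hall_alt {π : Set ℕ} {M M' : Subgroup ↥(alternatingGroup Ω)} (hM : IsPiHall π M)
    (hM' : IsPiHall π M') :
    ∃ g : ↥(alternatingGroup Ω), M' = M.map (MulAut.conj g).toMonoidHom := by
  by_cases h1 : AtMostOne π (Fintype.card Ω)
  · apply conj_of_atMostOne_dvd _ hM hM'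
    intro p q hp hq hpπ hqπ hpd hqd
    have hpd' : p ∣ Nat.card (Perm Ω) := hpd.trans (Subgroup.card_subgroup_dvd_card _)
    have hqd' : q ∣ Nat.card (Perm Ω) := hqd.trans (Subgroup.card_subgroup_dvd_card _)
    rw [natCard_perm, hp.dvd_factorial] at hpd'
    rw [natCard_perm, hq.dvd_factorial] at hqd'
    exact h1 p q ⟨hp, hpπ, hpd'⟩ ⟨hq, hqπ, hqd'⟩
  obtain ⟨p, q, hp, hq, hpq⟩ := not_atMostOne_iff.mp h1
  have hn3 : 3 ≤ Fintype.card Ω := three_le_of_two_primes hp hq hpq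
  have hM₁ := (isAltHall_map_subtype M).mp hM
  have hM₁' := (isAltHall_map_subtype M').mp hM'
  have h2 : (2 : ℕ) ∈ π := by
    by_contra h2
    exact h2 (two_mem_of_hall (isPiHall_of_isAltHall (Or.inl h2) hM₁) h1)
  obtain ⟨M₀, hM₀, hinf, hodd⟩ := exists_hall_sym_of_alt h2 (by omega) hM₁
  obtain ⟨M₀', hM₀', hinf', -⟩ := exists_hall_sym_of_alt h2 (by omega) hM₁'
  obtain ⟨g, hg⟩ := conj_hall_sym hM₀ hM₀'
  -- make the conjugating element even
  obtain ⟨g', hg's, hg'⟩ : ∃ g' : Perm Ω, Perm.sign g' = 1 ∧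
      M₀' = M₀.map (MulAut.conj g').toMonoidHom := by
    by_cases hs : Perm.sign g = 1
    · exact ⟨g, hs, hg⟩
    · obtain ⟨t, htM, htA⟩ := SetLike.not_le_iff_exists.mp hodd
      rw [Perm.mem_alternatingGroup] at htA
      have hs' : Perm.sign g = -1 := (Int.units_eq_one_or _).resolve_left hs
      have ht' : Perm.sign t = -1 := (Int.units_eq_one_or _).resolve_left htA
      refine ⟨g * t, by rw [Perm.sign_mul, hs', ht']; decide, ?_⟩
      rw [hg]
      conv_lhs => rw [← map_conj_of_mem htM]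
      rw [Subgroup.map_map]
      congr 1
  have hg'A : g' ∈ alternatingGroup Ω := Perm.mem_alternatingGroup.mpr hg's
  refine ⟨⟨g', hg'A⟩, ?_⟩
  apply Subgroup.map_injective (Subgroup.subtype_injective (alternatingGroup Ω))
  rw [Subgroup.map_map]
  have hcomm : (alternatingGroup Ω).subtype.comp (MulAut.conj (⟨g', hg'A⟩ :
      ↥(alternatingGroup Ω))).toMonoidHom =
      (MulAut.conj g').toMonoidHom.comp (alternatingGroup Ω).subtype := by
    ext x
    rfl
  rw [hcomm, ← Subgroup.map_map, ← hinf, ← hinf', hg',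
    Subgroup.map_inf _ _ _ (MulAut.conj g').injective]
  congr 1
  exact (map_conj_of_normal (alternatingGroup Ω) g').symm

end Cfsg.Agent.Helper8.HS
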