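import Mathlib
import Cfsg.Agent.Lib.Helper8.HallSnDefs
import Cfsg.Agent.Lib.Helper8.HallAnDefs
import Cfsg.Agent.Lib.Helper17.HallAll4
/-!
# HD-GEN: generic facts on the property D_π (helper8 plan `plans/HallSn_plan.md`)
-/

set_option autoImplicit false
set_option linter.style.haveILetI false

namespace Cfsg.Agent.Helper8.HS

open Equiv Cfsg
open scoped Pointwise

universe u

/-- If at most one prime of `π` divides `|G|`, the maximal `π`-subgroups are the Sylow subgroups (or
trivial), hence conjugate. (See also `Cfsg.Agent.Helper17.HallAll.dpi_of_small`.) -/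
theorem dpi_of_atMostOne_dvd {G : Type u} [Group G] [Finite G] {π : Set ℕ}
    (h : ∀ p q : ℕ, p.Prime → q.Prime → p ∈ π → q ∈ π → p ∣ Nat.card G → q ∣ Nat.card G → p = q) :
    IsDPiGroup π G := by
  intro H K hH hK
  by_cases hex : ∃ p : ℕ, p.Prime ∧ p ∈ π ∧ p ∣ Nat.card G
  · obtain ⟨p, hp, hpπ, hpG⟩ := hex
    haveI : Fact p.Prime := ⟨hp⟩
    have hiff : ∀ L : Subgroup G, IsPiSubgroup π L ↔ IsPGroup p L := by
      intro L
      constructor
      · intro hL
        have hprime : ∀ {d : ℕ}, d.Prime → d ∣ Nat.card L → d = p := by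
          intro d hd hdvd
          exact h d p hd hp (hL d hd hdvd) hpπ (hdvd.trans (Subgroup.card_subgroup_dvd_card L)) hpG
        exact IsPGroup.of_card (Nat.eq_prime_pow_of_unique_prime_dvd Nat.card_pos.ne' hprime)
      · intro hL d hd hdd
        obtain ⟨k, hk⟩ := IsPGroup.exists_card_eq hL
        rw [hk] at hdd
        have := (Nat.prime_dvd_prime_iff_eq hd hp).1 (hd.dvd_of_dvd_pow hdd)
        rw [this]
        exact hpπ
    have syl : ∀ L : Subgroup G, Maximal (IsPiSubgroup π) L →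
        ∃ P : Sylow p G, (P : Subgroup G) = L := by
      intro L hL
      have hLp : IsPGroup p L := (hiff L).1 hL.prop
      obtain ⟨P, hP⟩ := hLp.exists_le_sylow
      have hle : (P : Subgroup G) ≤ L :=
        hL.le_of_ge ((hiff (P : Subgroup G)).2 P.isPGroup') hP
      exact ⟨P, le_antisymm hle hP⟩
    obtain ⟨P, rfl⟩ := syl H hH
    obtain ⟨Q, rfl⟩ := syl K hK
    obtain ⟨g, hg⟩ := MulAction.exists_smul_eq G P Q
    refine ⟨g, ?_⟩
    rw [← hg, Sylow.coe_subgroup_smul, Cfsg.Agent.Helper17.HallAll.conj_smul_eq_map]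
  · have triv : ∀ L : Subgroup G, IsPiSubgroup π L → L = ⊥ := by
      intro L hL
      rw [← Subgroup.card_eq_one]
      by_contra hne
      obtain ⟨p, hp, hpd⟩ := Nat.exists_prime_and_dvd hne
      exact hex ⟨p, hp, hL p hp hpd, hpd.trans (Subgroup.card_subgroup_dvd_card L)⟩
    rw [triv H hH.prop, triv K hK.prop]
    exact ⟨1, (Subgroup.map_bot _).symm⟩

/-- If every prime dividing `|G|` lies in `π`, the only maximal `π`-subgroup is `G`. -/
theorem dpi_of_all_dvd {G : Type u} [Group G] [Finite G] {π : Set ℕ}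
    (h : ∀ p : ℕ, p.Prime → p ∣ Nat.card G → p ∈ π) : IsDPiGroup π G := by
  intro H K hH hK
  have htop : IsPiSubgroup π (⊤ : Subgroup G) := by
    intro p hp hd
    rw [Subgroup.card_top] at hd
    exact h p hp hd
  have top : ∀ L : Subgroup G, Maximal (IsPiSubgroup π) L → L = ⊤ :=
    fun L hL => top_le_iff.1 (hL.le_of_ge htop le_top)
  rw [top H hH, top K hK]
  refine ⟨1, ?_⟩
  rw [map_one]
  exact (Subgroup.map_id _).symm

/-- In a finite group whose maximal `π`-subgroups are conjugate there is a Hall `π`-subgroup, and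
every `π`-subgroup lies in a conjugate of it.
(See `Cfsg.Agent.Helper17.HallAll.epi_of_dpi` in `Lib/Helper17/HallAll4.lean`.) -/
theorem exists_hall_of_dpi {G : Type u} [Group G] [Finite G] {π : Set ℕ} (h : IsDPiGroup π G) :
    ∃ H : Subgroup G, IsPiHall π H ∧ ∀ X : Subgroup G, IsPiSubgroup π X →
      ∃ g : G, X ≤ H.map (MulAut.conj g).toMonoidHom := by
  obtain ⟨H, hH⟩ := Cfsg.Agent.Helper17.HallAll.epi_of_dpi h
  have hmax : Maximal (IsPiSubgroup π) H := by
    refine ⟨hH.1, ?_⟩
    intro Y hY hle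
    have h1 : H.relIndex Y = 1 := by
      rw [Nat.eq_one_iff_not_exists_prime_dvd]
      intro p hp hdvd
      have hpπ : p ∈ π := hY p hp (hdvd.trans (Subgroup.relIndex_dvd_card H Y))
      have h2 : H.relIndex Y ∣ H.index := by
        have := Subgroup.relIndex_mul_index hle
        exact Dvd.intro _ this
      exact hH.2 p hp hpπ (hdvd.trans h2)
    exact Subgroup.relIndex_eq_one.mp h1
  refine ⟨H, hH, ?_⟩
  intro X hX
  obtain ⟨N, hXN, hN⟩ := Finite.exists_le_maximal hX
  obtain ⟨g, hg⟩ := h H N hmax hN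
  exact ⟨g, hg ▸ hXN⟩

end Cfsg.Agent.Helper8.HS
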