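import Mathlib
import Cfsg.Agent.Lib.Helper8.HallSnDefs
import Cfsg.Agent.Lib.Helper8.HallAnDefs
import Cfsg.Agent.Lib.Helper7.HSExAux
import Cfsg.Agent.Lib.Helper15.HDX3
import Cfsg.Agent.Lib.Helper24.HDX5
import Cfsg.Agent.Lib.Helper2.HDX4
/-!
# HD-X: π-subgroups of Alt(n) not contained in a Hall subgroup (helper8 plan `plans/HallSn_plan.md`)
-/

set_option autoImplicit false

namespace Cfsg.Agent.Helper8.HS

open Equiv Cfsg

universe u

/-- For `n ≥ 5` there is a subgroup `X` of `Alt(n)` without a common fixed point all of whose prime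
divisors are at most `n - 2`: the even permutations preserving the 2-set `{0,1}`.  Its order divides
`2! (n-2)!` (`Cfsg.Agent.Helper7.HSEx.card_setStab`); it contains `(0 1)(2 3)` and the 3-cycles on
points outside `{0,1}`. -/
theorem exists_X3 (n : ℕ) (hn : 5 ≤ n) :
    ∃ X : Subgroup (Perm (Fin n)), X ≤ alternatingGroup (Fin n) ∧
      (∀ p : ℕ, p.Prime → p ∣ Nat.card X → p + 2 ≤ n) ∧ ∀ ω : Fin n, ∃ σ ∈ X, σ ω ≠ ω :=
  Cfsg.Agent.Helper15.HDX3.exists_X3 n hn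

/-- A `{2,3}`-subgroup of `Alt(7)` preserving no 3-set: e.g. the even permutations fixing `6` and
preserving or exchanging `{0,1,2}`, `{3,4,5}` (order 36; it is transitive on `{0,…,5}`: it contains
`(0 1 2)`, `(3 4 5)` and `(0 3 1 4)(2 5)`), or `Alt(4)` acting on the 6 edges of a tetrahedron
(12 explicit permutations). -/
theorem exists_X4 :
    ∃ X : Subgroup (Perm (Fin 7)), X ≤ alternatingGroup (Fin 7) ∧
      (∀ p : ℕ, p.Prime → p ∣ Nat.card X → p = 2 ∨ p = 3) ∧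
      ∀ S : Finset (Fin 7), S.card = 3 → ∃ σ ∈ X, ¬ (∀ x, σ x ∈ S ↔ x ∈ S) :=
  X4.exists_X4

/-- A `{2,3}`-subgroup of `Alt(8)` preserving no partition into two 4-sets:
`⟨(0 1 2), (3 4 5), (0 1)(6 7)⟩` of order 18 (the 3-cycles force the partition to be
`{0,1,2,6} | {3,4,5,7}` or `{0,1,2,7} | {3,4,5,6}`, and `(0 1)(6 7)` exchanges these two). -/
theorem exists_X5 :
    ∃ X : Subgroup (Perm (Fin 8)), X ≤ alternatingGroup (Fin 8) ∧
      (∀ p : ℕ, p.Prime → p ∣ Nat.card X → p = 2 ∨ p = 3) ∧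
      ∀ S : Finset (Fin 8), S.card = 4 →
        ∃ σ ∈ X, ¬ ((∀ x, σ x ∈ S ↔ x ∈ S) ∨ (∀ x, σ x ∈ S ↔ x ∉ S)) :=
  X5.exists_X5

end Cfsg.Agent.Helper8.HS
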