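import Mathlib
import Cfsg.Agent.Lib.Helper8.HallSnDefs
import Cfsg.Agent.Lib.Helper8.HallAnDefs
import Cfsg.Agent.Lib.Helper8.HSBasic
import Cfsg.Agent.Lib.Helper8.HSMain
import Cfsg.Agent.Lib.Helper8.HAMain
import Cfsg.Agent.Lib.Helper8.HCMain
import Cfsg.Agent.Lib.Helper8.HDGen
import Cfsg.Agent.Lib.Helper8.HDX

/-!
# The property `D_π` for alternating groups (helper8)
-/

set_option autoImplicit false
set_option linter.unusedSectionVars false

namespace Cfsg.Agent.Helper8.HS

open Equiv Cfsg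

universe u

variable {Ω : Type u} [Fintype Ω] [DecidableEq Ω]

/-- For `|Ω| ≥ 4` the primes dividing `|Alt(Ω)|` are the primes up to `|Ω|`. -/
theorem prime_dvd_card_alt_iff (hn : 4 ≤ Fintype.card Ω) {r : ℕ} (hr : r.Prime) :
    r ∣ Nat.card (alternatingGroup Ω) ↔ r ≤ Fintype.card Ω := by
  have : Nontrivial Ω := Fintype.one_lt_card_iff_nontrivial.mp (by omega)
  have h2 : 2 * Nat.card (alternatingGroup Ω) = (Fintype.card Ω).factorial := by
    rw [two_mul_nat_card_alternatingGroup, natCard_perm]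
  constructor
  · intro h
    have : r ∣ (Fintype.card Ω).factorial := by
      rw [← h2]
      exact Dvd.dvd.mul_left h 2
    exact (hr.dvd_factorial).mp this
  · intro h
    have h1 : r ∣ 2 * Nat.card (alternatingGroup Ω) := by
      rw [h2]
      exact (hr.dvd_factorial).mpr h
    by_cases hr2 : r = 2
    · subst hr2
      have h4 : 4 ∣ (Fintype.card Ω).factorial :=
        (by decide : 4 ∣ Nat.factorial 4).trans (Nat.factorial_dvd_factorial hn)
      rw [← h2] at h4
      obtain ⟨k, hk⟩ := h4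
      exact ⟨k, by omega⟩
    · rcases (Nat.Prime.dvd_mul hr).mp h1 with h' | h'
      · exact absurd ((Nat.prime_dvd_prime_iff_eq hr Nat.prime_two).mp h') hr2
      · exact h'

/-- Elements of a subgroup `X ≤ Alt(Ω)` that lies, as a subgroup of the group `Alt(Ω)`, in a
conjugate of `M`, are conjugates of elements of `M`. -/
theorem exists_conj_of_le {M : Subgroup ↥(alternatingGroup Ω)} {X : Subgroup (Perm Ω)}
    {g : ↥(alternatingGroup Ω)}
    (hle : X.subgroupOf (alternatingGroup Ω) ≤ M.map (MulAut.conj g).toMonoidHom)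
    (hXA : X ≤ alternatingGroup Ω) {σ : Perm Ω} (hσ : σ ∈ X) :
    ∃ m : Perm Ω, m ∈ M.map (alternatingGroup Ω).subtype ∧
      σ = (g : Perm Ω) * m * (g : Perm Ω)⁻¹ := by
  have h1 : (⟨σ, hXA hσ⟩ : ↥(alternatingGroup Ω)) ∈ X.subgroupOf (alternatingGroup Ω) := by
    rw [Subgroup.mem_subgroupOf]
    exact hσ
  obtain ⟨m, hm, hmσ⟩ := Subgroup.mem_map.mp (hle h1)
  refine ⟨(m : Perm Ω), Subgroup.mem_map.mpr ⟨m, hm, rfl⟩, ?_⟩
  have := congrArg Subtype.val hmσ
  exact this.symm

theorem card_subgroupOf_of_le {G : Type*} [Group G] {X A : Subgroup G} (h : X ≤ A) :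
    Nat.card (X.subgroupOf A) = Nat.card X :=
  Nat.card_congr (Subgroup.subgroupOfEquivOfLe h).toEquiv

/-- For `n ≥ 5`, if `Alt(n)` has the property `D_π` then at most one prime of `π` is at most `n`, or
all of them lie in `π`. -/
theorem not_dpi_alt {n : ℕ} (hn : 5 ≤ n) {π : Set ℕ}
    (hD : IsDPiGroup π ↥(alternatingGroup (Fin n)))
    (h1 : ¬ AtMostOne π n) (h2 : ¬ AllIn π n) : False := by
  have hcard : Fintype.card (Fin n) = n := Fintype.card_fin n
  obtain ⟨M, hM, hsub⟩ := exists_hall_of_dpi hD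
  have hM₁ := (isAltHall_map_subtype M).mp hM
  have h1' : ¬ AtMostOne π (Fintype.card (Fin n)) := by rwa [hcard]
  have h2π : (2 : ℕ) ∈ π := by
    by_contra h2π
    exact h2π (two_mem_of_hall (isPiHall_of_isAltHall (Or.inl h2π) hM₁) h1')
  obtain ⟨M₀, hM₀, hinf, -⟩ := exists_hall_sym_of_alt h2π (by omega) hM₁
  have hM₁le : M.map (alternatingGroup (Fin n)).subtype ≤ M₀ := by
    rw [← hinf]
    exact inf_le_left
  rcases hall_classify hM₀ with c | ⟨c, -⟩ | c3 | c4 | c5
  · exact h1' c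
  · rw [hcard] at c
    exact h2 c
  · -- type 3
    obtain ⟨-, hπc, ω, hω⟩ := c3
    rw [hcard] at hπc
    obtain ⟨X, hXA, hXπ, hXfix⟩ := exists_X3 n hn
    have hXπ' : IsPiSubgroup π (X.subgroupOf (alternatingGroup (Fin n))) := by
      intro p hp hdvd
      rw [card_subgroupOf_of_le hXA] at hdvd
      have := hXπ p hp hdvd
      exact (hπc p hp (by omega)).mpr (by omega)
    obtain ⟨g, hg⟩ := hsub _ hXπ'
    obtain ⟨σ, hσX, hσ⟩ := hXfix ((g : Perm (Fin n)) ω)
    obtain ⟨m, hm, rfl⟩ := exists_conj_of_le hg hXA hσX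
    apply hσ
    have hmω : m ω = ω := (hω m).mp (hM₁le hm)
    simp [Perm.mul_apply, hmω]
  · -- type 4
    obtain ⟨hc7, hπc, S, hS3, hS⟩ := c4
    rw [hcard] at hc7
    subst hc7
    obtain ⟨X, hXA, hXπ, hXS⟩ := exists_X4
    have hXπ' : IsPiSubgroup π (X.subgroupOf (alternatingGroup (Fin 7))) := by
      intro p hp hdvd
      rw [card_subgroupOf_of_le hXA] at hdvd
      have h23 := hXπ p hp hdvd
      have hp7 : p ≤ 7 := by rcases h23 with rfl | rfl <;> norm_num
      exact (hπc p hp hp7).mpr h23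
    obtain ⟨g, hg⟩ := hsub _ hXπ'
    obtain ⟨σ, hσX, hσ⟩ := hXS (S.map (g : Perm (Fin 7)).toEmbedding) (by rw [Finset.card_map, hS3])
    obtain ⟨m, hm, rfl⟩ := exists_conj_of_le hg hXA hσX
    apply hσ
    have hmS := (hS m).mp (hM₁le hm)
    intro x
    simp only [Finset.mem_map_equiv, Perm.mul_apply]
    have := hmS ((g : Perm (Fin 7))⁻¹ x)
    simpa using this
  · -- type 5
    obtain ⟨hc8, hπc, S, hS4, hS⟩ := c5
    rw [hcard] at hc8
    subst hc8
    obtain ⟨X, hXA, hXπ, hXS⟩ := exists_X5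
    have hXπ' : IsPiSubgroup π (X.subgroupOf (alternatingGroup (Fin 8))) := by
      intro p hp hdvd
      rw [card_subgroupOf_of_le hXA] at hdvd
      have h23 := hXπ p hp hdvd
      have hp8 : p ≤ 8 := by rcases h23 with rfl | rfl <;> norm_num
      exact (hπc p hp hp8).mpr h23
    obtain ⟨g, hg⟩ := hsub _ hXπ'
    obtain ⟨σ, hσX, hσ⟩ := hXS (S.map (g : Perm (Fin 8)).toEmbedding) (by rw [Finset.card_map, hS4])
    obtain ⟨m, hm, rfl⟩ := exists_conj_of_le hg hXA hσX
    apply hσ
    have hmS := (hS m).mp (hM₁le hm)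
    rcases hmS with hmS | hmS
    · left
      intro x
      simp only [Finset.mem_map_equiv, Perm.mul_apply]
      have := hmS ((g : Perm (Fin 8))⁻¹ x)
      simpa using this
    · right
      intro x
      simp only [Finset.mem_map_equiv, Perm.mul_apply]
      have := hmS ((g : Perm (Fin 8))⁻¹ x)
      simpa using this

end Cfsg.Agent.Helper8.HS
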