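import Mathlib
import Cfsg.Agent.Lib.Helper8.HHLin5

/-!
# The Hall–Higman type bound: the tight case (helper8 library)
-/

set_option autoImplicit false
set_option linter.unusedSectionVars false

namespace Cfsg.Agent.Helper8.HHLin

open Module Cfsg.Agent.Helper8.FrobLin

section Tight

variable {F : Type*} [Field F] [IsAlgClosed F] {G : Type*} [Group G] [Finite G]
  {V : Type*} [AddCommGroup V] [Module F V] [FiniteDimensional F V]
  (ρ : Representation F G V) (M N : Subgroup G) [M.Normal] [N.Normal]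

attribute [local instance] dualAct

/-- the numerical facts behind `hh_bound` -/
theorem hh_facts (E : Subgroup G) (hNM : N ≤ M)
    (hcomm : ∀ a ∈ M, ∀ b ∈ M, a * b * a⁻¹ * b⁻¹ ∈ N)
    (lam : ↥N →* Fˣ) (hlam : ∀ (z : ↥N) (v : V), ρ (z : G) v = ((lam z : Fˣ) : F) • v)
    (hnd : ∀ g ∈ M, (∀ y ∈ M, ρ (y * g * y⁻¹ * g⁻¹) = 1) → g ∈ N)
    (hfpf : ∀ e ∈ E, e ≠ 1 → ∀ m ∈ M, e * m * e⁻¹ * m⁻¹ ∈ N → m ∈ N)
    (hab : ∀ a ∈ E, ∀ b ∈ E, a * b = b * a)
    (hcharM : (Nat.card ↥M : F) ≠ 0) (hcharE : (Nat.card ↥E : F) ≠ 0)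
    (hfix : fixedBy ρ E = ⊥) (hV : 0 < finrank F V) :
    (finrank F V * finrank F V + Nat.card ↥E *
        finrank F ↥(fixedBy (Representation.linHom ρ ρ) M ⊓ fixedBy (Representation.linHom ρ ρ) E) =
      finrank F (fixedBy (Representation.linHom ρ ρ) M) +
        Nat.card ↥E * finrank F (fixedBy (Representation.linHom ρ ρ) E)) ∧
    finrank F V * finrank F V ≤
      (Nat.card ↥E - 1) * finrank F (fixedBy (Representation.linHom ρ ρ) E) ∧
    Nat.card ↥M * finrank F (fixedBy (Representation.linHom ρ ρ) M) ≤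
      Nat.card ↥N * (finrank F V * finrank F V) ∧
    1 ≤ finrank F (fixedBy (Representation.linHom ρ ρ) M) := by
  classical
  set ρA : Representation F G (V →ₗ[F] V) := Representation.linHom ρ ρ with hρA
  have hinv : ∀ g : G, ρ g * ρ g⁻¹ = 1 := fun g => by rw [← map_mul, mul_inv_cancel, map_one]
  have hinv' : ∀ g : G, ρ g⁻¹ * ρ g = 1 := fun g => by rw [← map_mul, inv_mul_cancel, map_one]
  have hρA_apply : ∀ (g : G) (T : V →ₗ[F] V), ρA g T = ρ g * T * ρ g⁻¹ := by
    intro g T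
    rw [hρA, Representation.linHom_apply]
    rfl
  -- (1) `N` acts trivially on `End V`
  have hAN : fixedBy ρA N = ⊤ := by
    rw [eq_top_iff]
    intro T _
    rw [mem_fixedBy]
    intro z hz
    rw [hρA_apply]
    have h2 := rho_scalar ρ N lam hlam ⟨z, hz⟩
    have h3 := rho_scalar ρ N lam hlam ⟨z⁻¹, N.inv_mem hz⟩
    simp only at h2 h3
    have h4 : lam ⟨z⁻¹, N.inv_mem hz⟩ = (lam ⟨z, hz⟩)⁻¹ := by
      rw [← map_inv]; rfl
    rw [h2, h3, h4, smul_mul_assoc, one_mul, mul_smul_comm, mul_one, smul_smul, ← Units.val_mul,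
      inv_mul_cancel, Units.val_one, one_smul]
  -- (2) the fixed point formula
  have core := core_rel ρA M N E hNM hcomm hfpf hcharM
  rw [hAN, top_inf_eq, finrank_top, Module.finrank_linearMap] at core
  -- (4)
  have hD := abelian_commutant_bound ρ E hab hcharE hfix
  rw [sq] at hD
  -- (5)
  have he : 1 ≤ finrank F (fixedBy ρA M) := by
    rw [Submodule.one_le_finrank_iff]
    intro hbot
    have h1 : (1 : V →ₗ[F] V) ∈ fixedBy ρA M := by
      rw [mem_fixedBy]
      intro m _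
      rw [hρA_apply, mul_one, hinv]
    rw [hbot, Submodule.mem_bot] at h1
    haveI : Nontrivial V := Module.finrank_pos_iff.mp hV
    obtain ⟨v, hv⟩ := exists_ne (0 : V)
    apply hv
    have := LinearMap.congr_fun h1 v
    exact this
  -- (6) the weight spaces of `End V`
  have hm : Nat.card ↥M * finrank F (fixedBy ρA M) ≤
      Nat.card ↥N * (finrank F V * finrank F V) := by
    letI : Fintype ↥M := Fintype.ofFinite _
    letI : Fintype ((↥M ⧸ N.subgroupOf M) →* Fˣ) := Fintype.ofFinite _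
    set P : ((↥M ⧸ N.subgroupOf M) →* Fˣ) → ((V →ₗ[F] V) →ₗ[F] (V →ₗ[F] V)) :=
      fun χ => wproj ρA M N χ with hP
    have horth : ∀ χ χ' : (↥M ⧸ N.subgroupOf M) →* Fˣ, ∀ T : V →ₗ[F] V,
        P χ (P χ' T) = if χ = χ' then P χ T else 0 :=
      fun χ χ' T => wproj_orth ρA M N hcharM χ χ' T
    have hsum := finrank_range_sum_of_orth P horth
    rw [range_sum_wproj ρA M N hNM hcomm hcharM, hAN, finrank_top,
      Module.finrank_linearMap] at hsum
    set Θ : ↥M →* ((↥M ⧸ N.subgroupOf M) →* Fˣ) := qcharHom ρ M N hcomm lam hlam hV with hΘ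
    have hge : ∀ g : ↥M, finrank F (fixedBy ρA M) ≤ finrank F (LinearMap.range (P (Θ g))) := by
      intro g
      have hmem : ∀ T : ↥(fixedBy ρA M),
          (LinearMap.mulLeft F (ρ (g : G))).domRestrict (fixedBy ρA M) T ∈
            LinearMap.range (P (Θ g)) := by
        intro T
        show ρ (g : G) * (T : V →ₗ[F] V) ∈ LinearMap.range (wproj ρA M N (Θ g))
        rw [mem_range_wproj ρA M N hcharM]
        intro m
        have hT := (mem_fixedBy ρA M _).mp T.2 m m.2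
        rw [hρA_apply] at hT
        rw [hρA_apply, hΘ, qcharHom_apply, qchar_mk]
        have h1 : ρ (m : G) * (ρ (g : G) * (T : V →ₗ[F] V)) * ρ (m : G)⁻¹ =
            (ρ (m : G) * ρ (g : G) * ρ (m : G)⁻¹) * (ρ (m : G) * (T : V →ₗ[F] V) * ρ (m : G)⁻¹) := by
          have : ρ (m : G) * ρ (g : G) * ρ (m : G)⁻¹ * (ρ (m : G) * (T : V →ₗ[F] V) * ρ (m : G)⁻¹)
              = ρ (m : G) * ρ (g : G) * (ρ (m : G)⁻¹ * ρ (m : G)) * (T : V →ₗ[F] V) * ρ (m : G)⁻¹ := by
            simp only [mul_assoc]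
          rw [this, hinv', mul_one]
          simp only [mul_assoc]
        rw [h1, hT, ← map_mul, ← map_mul, rho_conj ρ M N hcomm lam hlam m g, smul_mul_assoc]
      let Φ : ↥(fixedBy ρA M) →ₗ[F] ↥(LinearMap.range (P (Θ g))) :=
        LinearMap.codRestrict _ ((LinearMap.mulLeft F (ρ (g : G))).domRestrict (fixedBy ρA M)) hmem
      have hinj : Function.Injective Φ := by
        intro T T' h
        have h1 : ρ (g : G) * (T : V →ₗ[F] V) = ρ (g : G) * (T' : V →ₗ[F] V) :=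
          congrArg Subtype.val h
        apply Subtype.ext
        calc (T : V →ₗ[F] V) = ρ (g : G)⁻¹ * (ρ (g : G) * (T : V →ₗ[F] V)) := by
              rw [← mul_assoc, hinv', one_mul]
          _ = ρ (g : G)⁻¹ * (ρ (g : G) * (T' : V →ₗ[F] V)) := by rw [h1]
          _ = (T' : V →ₗ[F] V) := by rw [← mul_assoc, hinv', one_mul]
      exact LinearMap.finrank_le_finrank_of_injective hinj
    have hker : Θ.ker ≤ N.subgroupOf M := by
      intro g hg
      rw [MonoidHom.mem_ker] at hg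
      rw [Subgroup.mem_subgroupOf]
      apply hnd (g : G) g.2
      intro y hy
      have h1 : kp M N hcomm lam ⟨y, hy⟩ g = 1 := by
        have := DFunLike.congr_fun hg (QuotientGroup.mk (⟨y, hy⟩ : ↥M))
        rw [hΘ, qcharHom_apply, qchar_mk, MonoidHom.one_apply] at this
        exact this
      have h2 := rho_conj ρ M N hcomm lam hlam ⟨y, hy⟩ g
      rw [h1, Units.val_one, one_smul] at h2
      rw [map_mul, h2, hinv]
    -- counting
    have hcard1 : Nat.card ↥M = Nat.card ↥Θ.range * Nat.card ↥Θ.ker := by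
      rw [Subgroup.card_eq_card_quotient_mul_card_subgroup Θ.ker,
        Nat.card_congr (QuotientGroup.quotientKerEquivRange Θ).toEquiv]
    have hcard2 : Nat.card ↥Θ.ker ≤ Nat.card ↥N := by
      have := Subgroup.card_le_of_le hker
      rwa [Nat.card_congr (Subgroup.subgroupOfEquivOfLe hNM).toEquiv] at this
    set R : Finset ((↥M ⧸ N.subgroupOf M) →* Fˣ) :=
      Finset.univ.filter (fun χ => χ ∈ Θ.range) with hR
    have hRcard : R.card = Nat.card ↥Θ.range := by
      rw [hR, ← Fintype.card_subtype, ← Nat.card_eq_fintype_card]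
    have hsumR : R.card * finrank F (fixedBy ρA M) ≤
        ∑ χ ∈ R, finrank F (LinearMap.range (P χ)) := by
      rw [← smul_eq_mul]
      apply Finset.card_nsmul_le_sum
      intro χ hχ
      rw [hR, Finset.mem_filter] at hχ
      obtain ⟨g, rfl⟩ := hχ.2
      exact hge g
    have hsumle : ∑ χ ∈ R, finrank F (LinearMap.range (P χ)) ≤ finrank F V * finrank F V := by
      rw [hsum]
      exact Finset.sum_le_sum_of_subset (Finset.subset_univ _)
    calc Nat.card ↥M * finrank F (fixedBy ρA M)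
        = Nat.card ↥Θ.ker * (R.card * finrank F (fixedBy ρA M)) := by
          rw [hcard1, hRcard]; ring
      _ ≤ Nat.card ↥N * (finrank F V * finrank F V) :=
          Nat.mul_le_mul hcard2 (hsumR.trans hsumle)
  exact ⟨core, hD, hm, he⟩


theorem hh_tight_arith (n2 r c e2 D m z : ℕ) (hr : 1 ≤ r) (hcore : n2 + r * c = e2 + r * D)
    (hc : c ≤ e2) (hD : n2 ≤ (r - 1) * D) (hm : m * e2 ≤ z * n2) (he : 1 ≤ e2)
    (hz : 0 < z) (hm0 : 0 < m) (ht : m = (r - 1) ^ 2 * z) : c = e2 := by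
  obtain ⟨s, rfl⟩ : ∃ s, r = s + 1 := ⟨r - 1, by omega⟩
  simp only [Nat.add_sub_cancel] at hD ht
  by_contra hne
  have hc1 : c + 1 ≤ e2 := by omega
  have hs : 0 < s := by
    rcases Nat.eq_zero_or_pos s with h | h
    · subst h; simp at ht; omega
    · exact h
  subst ht
  have h1 : s ^ 2 * e2 ≤ n2 := by
    have : z * (s ^ 2 * e2) ≤ z * n2 := by nlinarith
    exact Nat.le_of_mul_le_mul_left this hz
  have h2 : (s + 1) * n2 ≤ s * (n2 + (s + 1) * c - e2) + s * e2 - s * e2 + 0 := by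
    have : (s + 1) * D = n2 + (s + 1) * c - e2 := by omega
    rw [Nat.add_sub_cancel, add_zero, ← this]
    nlinarith
  have hge : e2 ≤ n2 + (s + 1) * c := by omega
  have h3 : (s + 1) * n2 + s * e2 ≤ s * (n2 + (s + 1) * c) := by
    have h4 : s * (n2 + (s + 1) * c - e2) + s * e2 = s * (n2 + (s + 1) * c) := by
      rw [← Nat.mul_add, Nat.sub_add_cancel hge]
    rw [Nat.add_sub_cancel, add_zero] at h2
    omega
  nlinarith

/-- **Tight case of the Hall–Higman type bound**: if `|M : N| = (|E| - 1)^2` then everything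
commuting with `ρ M` commutes with `ρ E`. -/
theorem hh_tight (E : Subgroup G) (hNM : N ≤ M)
    (hcomm : ∀ a ∈ M, ∀ b ∈ M, a * b * a⁻¹ * b⁻¹ ∈ N)
    (lam : ↥N →* Fˣ) (hlam : ∀ (z : ↥N) (v : V), ρ (z : G) v = ((lam z : Fˣ) : F) • v)
    (hnd : ∀ g ∈ M, (∀ y ∈ M, ρ (y * g * y⁻¹ * g⁻¹) = 1) → g ∈ N)
    (hfpf : ∀ e ∈ E, e ≠ 1 → ∀ m ∈ M, e * m * e⁻¹ * m⁻¹ ∈ N → m ∈ N)
    (hab : ∀ a ∈ E, ∀ b ∈ E, a * b = b * a)
    (hcharM : (Nat.card ↥M : F) ≠ 0) (hcharE : (Nat.card ↥E : F) ≠ 0)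
    (hfix : fixedBy ρ E = ⊥) (hV : 0 < finrank F V)
    (ht : Nat.card ↥M = (Nat.card ↥E - 1) ^ 2 * Nat.card ↥N) :
    fixedBy (Representation.linHom ρ ρ) M ≤ fixedBy (Representation.linHom ρ ρ) E := by
  obtain ⟨core, hD, hm, he⟩ :=
    hh_facts ρ M N E hNM hcomm lam hlam hnd hfpf hab hcharM hcharE hfix hV
  have hc : finrank F ↥(fixedBy (Representation.linHom ρ ρ) M ⊓
      fixedBy (Representation.linHom ρ ρ) E) ≤ finrank F (fixedBy (Representation.linHom ρ ρ) M) :=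
    Submodule.finrank_mono inf_le_left
  have heq := hh_tight_arith _ _ _ _ _ _ _ Nat.card_pos core hc hD hm he Nat.card_pos
    Nat.card_pos ht
  have h1 : fixedBy (Representation.linHom ρ ρ) M ⊓ fixedBy (Representation.linHom ρ ρ) E =
      fixedBy (Representation.linHom ρ ρ) M :=
    Submodule.eq_of_le_of_finrank_eq inf_le_left heq
  rw [← h1]
  exact inf_le_right

/-- operator form of `hh_tight` -/
theorem hh_tight_comm (E : Subgroup G) (hNM : N ≤ M)
    (hcomm : ∀ a ∈ M, ∀ b ∈ M, a * b * a⁻¹ * b⁻¹ ∈ N)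
    (lam : ↥N →* Fˣ) (hlam : ∀ (z : ↥N) (v : V), ρ (z : G) v = ((lam z : Fˣ) : F) • v)
    (hnd : ∀ g ∈ M, (∀ y ∈ M, ρ (y * g * y⁻¹ * g⁻¹) = 1) → g ∈ N)
    (hfpf : ∀ e ∈ E, e ≠ 1 → ∀ m ∈ M, e * m * e⁻¹ * m⁻¹ ∈ N → m ∈ N)
    (hab : ∀ a ∈ E, ∀ b ∈ E, a * b = b * a)
    (hcharM : (Nat.card ↥M : F) ≠ 0) (hcharE : (Nat.card ↥E : F) ≠ 0)
    (hfix : fixedBy ρ E = ⊥) (hV : 0 < finrank F V)
    (ht : Nat.card ↥M = (Nat.card ↥E - 1) ^ 2 * Nat.card ↥N)
    (T : V →ₗ[F] V) (hT : ∀ m ∈ M, ρ m * T = T * ρ m) :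
    ∀ e ∈ E, ρ e * T = T * ρ e := by
  have hle := hh_tight ρ M N E hNM hcomm lam hlam hnd hfpf hab hcharM hcharE hfix hV ht
  have hinv' : ∀ g : G, ρ g⁻¹ * ρ g = 1 := fun g => by rw [← map_mul, inv_mul_cancel, map_one]
  have hinv : ∀ g : G, ρ g * ρ g⁻¹ = 1 := fun g => by rw [← map_mul, mul_inv_cancel, map_one]
  have hmem : T ∈ fixedBy (Representation.linHom ρ ρ) M := by
    rw [mem_fixedBy]
    intro m hm
    rw [Representation.linHom_apply]
    show ρ m * T * ρ m⁻¹ = T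
    rw [hT m hm, mul_assoc, hinv, mul_one]
  have h2 := (mem_fixedBy _ E T).mp (hle hmem)
  intro e he
  have h3 := h2 e he
  rw [Representation.linHom_apply] at h3
  have h4 : ρ e * T * ρ e⁻¹ = T := h3
  calc ρ e * T = ρ e * T * (ρ e⁻¹ * ρ e) := by rw [hinv', mul_one]
    _ = (ρ e * T * ρ e⁻¹) * ρ e := by simp only [mul_assoc]
    _ = T * ρ e := by rw [h4]

end Tight

end Cfsg.Agent.Helper8.HHLin
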