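import Mathlib

/-!
# S3313 piece GAUSS (helper8): the Gauss sum of an "extraspecial group of order 32"
-/

set_option autoImplicit false

namespace Cfsg.Agent.Helper8.HJ

namespace Gauss

variable {Q : Type*} [Group Q]

/-- the sign `+1` if `x^2 = 1`, `-1` otherwise -/
noncomputable def sgn (x : Q) : ℤ := by
  classical exact if x * x = 1 then 1 else -1

/-- the sign `+1` if `x y = y x`, `-1` otherwise -/
noncomputable def bet (x y : Q) : ℤ := by
  classical exact if x * y = y * x then 1 else -1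

theorem sgn_of_sq {x : Q} (h : x * x = 1) : sgn x = 1 := by
  classical
  unfold sgn; rw [if_pos h]

theorem sgn_of_not_sq {x : Q} (h : x * x ≠ 1) : sgn x = -1 := by
  classical
  unfold sgn; rw [if_neg h]

theorem bet_of_comm {x y : Q} (h : x * y = y * x) : bet x y = 1 := by
  classical
  unfold bet; rw [if_pos h]

theorem bet_of_not_comm {x y : Q} (h : x * y ≠ y * x) : bet x y = -1 := by
  classical
  unfold bet; rw [if_neg h]

theorem bet_sq (x y : Q) : bet x y * bet x y = 1 := by
  classical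
  unfold bet; split_ifs <;> norm_num

/-- `x` commutes with `x⁻¹ * w` iff it commutes with `w` -/
theorem bet_shift (x w : Q) : bet x (x⁻¹ * w) = bet x w := by
  classical
  have : x * (x⁻¹ * w) = x⁻¹ * w * x ↔ x * w = w * x := by
    constructor
    · intro h
      have h1 : w = x⁻¹ * w * x := by simpa using h
      calc x * w = x * (x⁻¹ * w * x) := by rw [← h1]
        _ = w * x := by group
    · intro h
      calc x * (x⁻¹ * w) = w := by group
        _ = x⁻¹ * (x * w) := by group
        _ = x⁻¹ * (w * x) := by rw [h]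
        _ = x⁻¹ * w * x := by group
  unfold bet
  by_cases h : x * w = w * x
  · rw [if_pos h, if_pos (this.mpr h)]
  · rw [if_neg h, if_neg (fun h' => h (this.mp h'))]

variable (z : Q) (hz1 : z ≠ 1) (hzz : z * z = 1) (hzc : ∀ x : Q, x * z = z * x)
  (hcomm : ∀ x y : Q, x * y * x⁻¹ * y⁻¹ = 1 ∨ x * y * x⁻¹ * y⁻¹ = z)
  (hsq : ∀ x : Q, x * x = 1 ∨ x * x = z)

include hz1 hzz hzc hcomm hsq in
theorem sgn_mul (x y : Q) : sgn (x * y) = sgn x * sgn y * bet x y := by
  classical
  -- (x y)^2 = x^2 * c * y^2 with c = x⁻¹ y x y⁻¹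
  have hkey : (x * y) * (x * y) = (x * x) * (x⁻¹ * y * x⁻¹⁻¹ * y⁻¹) * (y * y) := by group
  have hc : x⁻¹ * y * x⁻¹⁻¹ * y⁻¹ = 1 ↔ x * y = y * x := by
    constructor
    · intro h
      have h1 : x⁻¹ * y * x = y := by
        have := congrArg (fun g => g * y) h
        simpa [mul_assoc] using this
      calc x * y = x * (x⁻¹ * y * x) := by rw [h1]
        _ = y * x := by group
    · intro h
      calc x⁻¹ * y * x⁻¹⁻¹ * y⁻¹ = x⁻¹ * (y * x) * y⁻¹ := by group
        _ = x⁻¹ * (x * y) * y⁻¹ := by rw [h]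
        _ = 1 := by group
  have hz1' : z * z * z ≠ 1 := by rw [hzz, one_mul]; exact hz1
  have sx1 : x * x = 1 → sgn x = 1 := fun h => sgn_of_sq h
  have sxz : x * x = z → sgn x = -1 := fun h => sgn_of_not_sq (by rw [h]; exact hz1)
  have sy1 : y * y = 1 → sgn y = 1 := fun h => sgn_of_sq h
  have syz : y * y = z → sgn y = -1 := fun h => sgn_of_not_sq (by rw [h]; exact hz1)
  have sb1 : x⁻¹ * y * x⁻¹⁻¹ * y⁻¹ = 1 → bet x y = 1 := fun h => bet_of_comm (hc.mp h)
  have sbz : x⁻¹ * y * x⁻¹⁻¹ * y⁻¹ = z → bet x y = -1 := fun h =>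
    bet_of_not_comm (fun h' => hz1 (by rw [← h]; exact hc.mpr h'))
  have p1 : (x * y) * (x * y) = 1 → sgn (x * y) = 1 := fun h => sgn_of_sq h
  have pz : (x * y) * (x * y) ≠ 1 → sgn (x * y) = -1 := fun h => sgn_of_not_sq h
  rcases hsq x with hx | hx <;> rcases hsq y with hy | hy <;>
    rcases hcomm x⁻¹ y with hcc | hcc
  · rw [sx1 hx, sy1 hy, sb1 hcc, p1 (by rw [hkey, hx, hy, hcc]; group)]
    norm_num
  · rw [sx1 hx, sy1 hy, sbz hcc, pz (by rw [hkey, hx, hy, hcc]; simpa using hz1)]
    norm_num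
  · rw [sx1 hx, syz hy, sb1 hcc, pz (by rw [hkey, hx, hy, hcc]; simpa using hz1)]
    norm_num
  · rw [sx1 hx, syz hy, sbz hcc, p1 (by rw [hkey, hx, hy, hcc]; simpa using hzz)]
    norm_num
  · rw [sxz hx, sy1 hy, sb1 hcc, pz (by rw [hkey, hx, hy, hcc]; simpa using hz1)]
    norm_num
  · rw [sxz hx, sy1 hy, sbz hcc, p1 (by rw [hkey, hx, hy, hcc]; simpa using hzz)]
    norm_num
  · rw [sxz hx, syz hy, sb1 hcc, p1 (by rw [hkey, hx, hy, hcc]; simpa using hzz)]
    norm_num
  · rw [sxz hx, syz hy, sbz hcc, pz (by rw [hkey, hx, hy, hcc]; exact hz1')]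
    norm_num

include hz1 hzz hzc hcomm in
theorem bet_mul (x y w : Q) : bet (x * y) w = bet x w * bet y w := by
  classical
  have hkey : (x * y) * w * (x * y)⁻¹ * w⁻¹ = x * (y * w * y⁻¹ * w⁻¹) * x⁻¹ * (x * w * x⁻¹ * w⁻¹) := by
    group
  have hc : ∀ a : Q, a * w * a⁻¹ * w⁻¹ = 1 ↔ a * w = w * a := by
    intro a
    constructor
    · intro h
      have h1 : a * w * a⁻¹ = w := by
        have := congrArg (fun g => g * w) h
        simpa [mul_assoc] using this
      calc a * w = a * w * a⁻¹ * a := by group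
        _ = w * a := by rw [h1]
    · intro h
      calc a * w * a⁻¹ * w⁻¹ = (a * w) * a⁻¹ * w⁻¹ := by group
        _ = (w * a) * a⁻¹ * w⁻¹ := by rw [h]
        _ = 1 := by group
  rcases hcomm x w with h1 | h1 <;> rcases hcomm y w with h2 | h2
  · rw [bet_of_comm ((hc x).mp h1), bet_of_comm ((hc y).mp h2),
      bet_of_comm ((hc (x * y)).mp (by rw [hkey, h1, h2]; group))]
    norm_num
  · have hy : y * w ≠ w * y := fun h => hz1 (by rw [← h2]; exact (hc y).mpr h)
    have hxy : x * y * w ≠ w * (x * y) := by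
      intro h
      have := (hc (x * y)).mpr h
      rw [hkey, h1, h2] at this
      apply hz1
      have h3 : x * z * x⁻¹ = z := by rw [hzc x]; group
      simpa [h3] using this
    rw [bet_of_comm ((hc x).mp h1), bet_of_not_comm hy, bet_of_not_comm hxy]
    norm_num
  · have hx : x * w ≠ w * x := fun h => hz1 (by rw [← h1]; exact (hc x).mpr h)
    have hxy : x * y * w ≠ w * (x * y) := by
      intro h
      have := (hc (x * y)).mpr h
      rw [hkey, h1, h2] at this
      apply hz1
      simpa using this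
    rw [bet_of_not_comm hx, bet_of_comm ((hc y).mp h2), bet_of_not_comm hxy]
    norm_num
  · have hx : x * w ≠ w * x := fun h => hz1 (by rw [← h1]; exact (hc x).mpr h)
    have hy : y * w ≠ w * y := fun h => hz1 (by rw [← h2]; exact (hc y).mpr h)
    have hxy : x * y * w = w * (x * y) := by
      apply (hc (x * y)).mp
      rw [hkey, h1, h2]
      have h3 : x * z * x⁻¹ = z := by rw [hzc x]; group
      rw [h3, hzz]
    rw [bet_of_not_comm hx, bet_of_not_comm hy, bet_of_comm hxy]
    norm_num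

include hz1 hzz hzc hcomm in
theorem sum_bet [Fintype Q] (w : Q) (hw : ∃ x0 : Q, x0 * w ≠ w * x0) : ∑ x : Q, bet x w = 0 := by
  classical
  obtain ⟨x0, hx0⟩ := hw
  have h1 : ∑ x : Q, bet x w = ∑ x : Q, bet (x0 * x) w :=
    (Fintype.sum_equiv (Equiv.mulLeft x0) _ _ (fun x => rfl)).symm
  have h2 : ∑ x : Q, bet (x0 * x) w = - ∑ x : Q, bet x w := by
    rw [← Finset.sum_neg_distrib]
    refine Finset.sum_congr rfl (fun x _ => ?_)
    rw [bet_mul z hz1 hzz hzc hcomm, bet_of_not_comm hx0]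
    ring
  linarith

end Gauss

open Gauss in
/-- PIECE GAUSS (generic, Mathlib only).  `Q` a finite group of order 32, `z` a central involution,
`Z(Q) = {1, z}`, all commutators and squares in `{1, z}`: then `#{x | x^2 = 1}` is 12 or 20. -/
theorem gauss {Q : Type*} [Group Q] [Finite Q] (z : Q) (hz1 : z ≠ 1) (hzz : z * z = 1)
    (hzc : ∀ x : Q, x * z = z * x) (hcard : Nat.card Q = 32)
    (hcenter : ∀ w : Q, (∀ x : Q, x * w = w * x) → w = 1 ∨ w = z)
    (hcomm : ∀ x y : Q, x * y * x⁻¹ * y⁻¹ = 1 ∨ x * y * x⁻¹ * y⁻¹ = z)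
    (hsq : ∀ x : Q, x * x = 1 ∨ x * x = z) :
    Nat.card {x : Q // x * x = 1} = 12 ∨ Nat.card {x : Q // x * x = 1} = 20 := by
  classical
  haveI : Fintype Q := Fintype.ofFinite Q
  have hcardF : Fintype.card Q = 32 := by rw [← Nat.card_eq_fintype_card]; exact hcard
  set S : ℤ := ∑ x : Q, sgn x with hS
  -- S * S = 64
  have hSS : S * S = 64 := by
    have e1 : S * S = ∑ x : Q, ∑ y : Q, sgn x * sgn y := by
      rw [hS, Finset.sum_mul_sum]
    have e2 : ∀ x y : Q, sgn x * sgn y = sgn (x * y) * bet x y := by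
      intro x y
      rw [sgn_mul z hz1 hzz hzc hcomm hsq x y, mul_assoc, bet_sq, mul_one]
    have e3 : ∀ x : Q, ∑ y : Q, sgn x * sgn y = ∑ w : Q, sgn w * bet x w := by
      intro x
      have : ∑ y : Q, sgn x * sgn y = ∑ y : Q, sgn (x * y) * bet x (x⁻¹ * (x * y)) := by
        refine Finset.sum_congr rfl (fun y _ => ?_)
        rw [e2 x y, inv_mul_cancel_left]
      rw [this]
      rw [Fintype.sum_equiv (Equiv.mulLeft x) (fun y => sgn (x * y) * bet x (x⁻¹ * (x * y)))
        (fun w => sgn w * bet x (x⁻¹ * w)) (fun y => rfl)]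
      refine Finset.sum_congr rfl (fun w _ => ?_)
      rw [bet_shift]
    have e4 : S * S = ∑ w : Q, sgn w * ∑ x : Q, bet x w := by
      rw [e1]
      rw [Finset.sum_congr rfl (fun x _ => e3 x)]
      rw [Finset.sum_comm]
      refine Finset.sum_congr rfl (fun w _ => ?_)
      rw [Finset.mul_sum]
    have e5 : ∀ w : Q, w ≠ 1 → w ≠ z → sgn w * ∑ x : Q, bet x w = 0 := by
      intro w hw1 hwz
      have : ∃ x0 : Q, x0 * w ≠ w * x0 := by
        by_contra hcon
        rw [not_exists] at hcon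
        rcases hcenter w (fun x => not_not.mp (hcon x)) with h | h
        · exact hw1 h
        · exact hwz h
      rw [sum_bet z hz1 hzz hzc hcomm w this, mul_zero]
    have e6 : ∀ w : Q, (∀ x : Q, x * w = w * x) → ∑ x : Q, bet x w = 32 := by
      intro w hw
      rw [Finset.sum_congr rfl (fun x _ => bet_of_comm (hw x))]
      simp [hcardF]
    rw [e4]
    have hsplit : ∑ w : Q, sgn w * ∑ x : Q, bet x w
        = ∑ w ∈ ({1, z} : Finset Q), sgn w * ∑ x : Q, bet x w := by
      symm
      apply Finset.sum_subset (Finset.subset_univ _)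
      intro w _ hw
      rw [Finset.mem_insert, Finset.mem_singleton, not_or] at hw
      exact e5 w hw.1 hw.2
    rw [hsplit, Finset.sum_pair (Ne.symm hz1)]
    rw [e6 1 (fun x => by rw [mul_one, one_mul]), e6 z hzc,
      sgn_of_sq (by rw [mul_one] : (1 : Q) * 1 = 1), sgn_of_sq hzz]
    norm_num
  -- S = 2 n - 32
  set n : ℕ := Nat.card {x : Q // x * x = 1} with hn
  have hnF : n = (Finset.univ.filter (fun x : Q => x * x = 1)).card := by
    rw [hn, Nat.card_eq_fintype_card, Fintype.card_subtype]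
  have hSn : S = 2 * (n : ℤ) - 32 := by
    have h1 : ∀ x : Q, sgn x = 2 * (if x * x = 1 then (1 : ℤ) else 0) - 1 := by
      intro x
      by_cases h : x * x = 1
      · rw [sgn_of_sq h, if_pos h]; norm_num
      · rw [sgn_of_not_sq h, if_neg h]; norm_num
    rw [hS, Finset.sum_congr rfl (fun x _ => h1 x), Finset.sum_sub_distrib, ← Finset.mul_sum,
      Finset.sum_boole, hnF]
    simp [hcardF]
  have h64 : (2 * (n : ℤ) - 32) * (2 * (n : ℤ) - 32) = 64 := by rw [← hSn]; exact hSS
  have h8 : (2 * (n : ℤ) - 32 - 8) * (2 * (n : ℤ) - 32 + 8) = 0 := by nlinarith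
  rcases mul_eq_zero.mp h8 with h | h
  · right; omega
  · left; omega

end Cfsg.Agent.Helper8.HJ
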