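import Mathlib
import Cfsg.Agent.Lib.Helper8.HJDefs

/-!
# S3313 piece NOE8 (helper8): `Q` contains no elementary abelian subgroup of order 8
-/

set_option autoImplicit false

namespace Cfsg.Agent.Helper8.HJ

namespace NOE8

variable {G : Type*} [Group G]

/-- the `f`-conjugates of `a`, indexed by `ZMod 5` -/
def cj (f a : G) (i : ZMod 5) : G := f ^ i.val * a * (f ^ i.val)⁻¹

theorem pow_val_natCast (f : G) (hf : orderOf f = 5) (n : ℕ) : f ^ ((n : ZMod 5).val) = f ^ n := by
  rw [ZMod.val_natCast, ← hf]
  exact pow_mod_orderOf f n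

theorem cj_zero (f a : G) : cj f a 0 = a := by
  unfold cj
  simp

/-- conjugating `cj f a i` by `f ^ j.val` gives `cj f a (i + j)` -/
theorem cj_conj (f a : G) (hf : orderOf f = 5) (i j : ZMod 5) :
    f ^ j.val * cj f a i * (f ^ j.val)⁻¹ = cj f a (i + j) := by
  have h : f ^ (i + j).val = f ^ j.val * f ^ i.val := by
    have h1 : ((j.val + i.val : ℕ) : ZMod 5) = i + j := by
      push_cast
      rw [ZMod.natCast_zmod_val, ZMod.natCast_zmod_val, add_comm]
    rw [← h1, pow_val_natCast f hf, pow_add]
  unfold cj
  rw [h]
  group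

theorem conj_comm {x y : G} (g : G) (h : x * y = y * x) :
    (g * x * g⁻¹) * (g * y * g⁻¹) = (g * y * g⁻¹) * (g * x * g⁻¹) := by
  calc (g * x * g⁻¹) * (g * y * g⁻¹) = g * (x * y) * g⁻¹ := by group
    _ = g * (y * x) * g⁻¹ := by rw [h]
    _ = (g * y * g⁻¹) * (g * x * g⁻¹) := by group

theorem zmod5_inv : ∀ d : ZMod 5, d ≠ 0 → ∃ m : Fin 5, d.val * m.val % 5 = 1 := by
  decide

/-- a power of `f` prime to 5 that commutes with `x` forces `f` to commute with `x` -/
theorem comm_of_pow_comm (f x : G) (hf : orderOf f = 5) (d : ZMod 5) (hd : d ≠ 0)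
    (h : f ^ d.val * x = x * f ^ d.val) : f * x = x * f := by
  obtain ⟨m, hm⟩ := zmod5_inv d hd
  have h1 : (f ^ d.val) ^ m.val = f := by
    rw [← pow_mul, ← pow_mod_orderOf, hf, hm, pow_one]
  have h2 : Commute ((f ^ d.val) ^ m.val) x := Commute.pow_left h m.val
  rw [h1] at h2
  exact h2

theorem zmod5_cover : ∀ i m : ZMod 5, i ≠ 0 → m ≠ 0 → m ≠ i → ∀ d : ZMod 5,
    d = 0 ∨ d = i ∨ d = -i ∨ d = m ∨ d = -m ∨ d = m - i ∨ d = i - m := by
  decide

theorem zmod5_two : ∀ i j : ZMod 5, i + (i - j) = j → i = j := by
  decide

end NOE8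

open NOE8 in
/-- PIECE NOE8.  Two commuting involutions `a, a'` of `Q`, both `≠ z`, satisfy `a' = a` or `a' = a z`. -/
theorem no_e8 {G : Type*} [Group G] [Finite G] {z : G} {Q K : Subgroup G} (c : ZCfg z Q K)
    (h11 : Nat.card {a : G // a ∈ Q ∧ orderOf a = 2} = 11)
    (f : G) (hfK : f ∈ K) (hf : orderOf f = 5)
    (hfive : ∀ x ∈ Q, f * x = x * f → x = 1 ∨ x = z)
    (habel : ∀ A : Subgroup G, A ≤ Q → (∀ x ∈ A, ∀ y ∈ A, x * y = y * x) → Nat.card A ≤ 8)
    (a a' : G) (ha : a ∈ Q) (ha' : a' ∈ Q) (hoa : orderOf a = 2) (hoa' : orderOf a' = 2)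
    (haz : a ≠ z) (haz' : a' ≠ z) (hcomm : a * a' = a' * a) : a' = a ∨ a' = a * z := by
  classical
  -- basic facts on z
  have hz1 : z ≠ 1 := by
    intro h
    have := c.hz
    rw [h, orderOf_one] at this
    omega
  have hzz : z * z = 1 := by
    have := pow_orderOf_eq_one z
    rw [c.hz, pow_two] at this
    exact this
  have hzc : ∀ x ∈ Q, x * z = z * x := by
    intro x hx
    have := c.hQC hx
    rw [Subgroup.mem_centralizer_iff] at this
    exact (this z rfl).symm
  have hfC : f ∈ Subgroup.centralizer ({z} : Set G) := c.hKC hfK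
  have hfz : ∀ n : ℕ, f ^ n * z * (f ^ n)⁻¹ = z := by
    intro n
    have h1 : f ^ n ∈ Subgroup.centralizer ({z} : Set G) := Subgroup.pow_mem _ hfC n
    rw [Subgroup.mem_centralizer_iff] at h1
    have h2 := h1 z rfl
    calc f ^ n * z * (f ^ n)⁻¹ = (z * f ^ n) * (f ^ n)⁻¹ := by rw [h2]
      _ = z := by group
  have haa : a * a = 1 := by
    have := pow_orderOf_eq_one a
    rw [hoa, pow_two] at this
    exact this
  have ha1 : a ≠ 1 := by
    intro h
    rw [h, orderOf_one] at hoa
    omega
  set A : ZMod 5 → G := cj f a with hA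
  have hA0 : A 0 = a := cj_zero f a
  have hAconj : ∀ i j : ZMod 5, f ^ j.val * A i * (f ^ j.val)⁻¹ = A (i + j) :=
    fun i j => cj_conj f a hf i j
  have hAQ : ∀ i, A i ∈ Q := by
    intro i
    exact c.hnorm _ (Subgroup.pow_mem _ hfC _) a ha
  have hAA : ∀ i, A i * A i = 1 := by
    intro i
    calc A i * A i = f ^ i.val * (a * a) * (f ^ i.val)⁻¹ := by rw [hA]; unfold cj; group
      _ = 1 := by rw [haa]; group
  have hA1 : ∀ i, A i ≠ 1 := by
    intro i h
    apply ha1
    have : f ^ i.val * a * (f ^ i.val)⁻¹ = 1 := h
    calc a = (f ^ i.val)⁻¹ * (f ^ i.val * a * (f ^ i.val)⁻¹) * f ^ i.val := by group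
      _ = 1 := by rw [this]; group
  have hAz : ∀ i, A i ≠ z := by
    intro i h
    apply haz
    have h1 : f ^ i.val * a * (f ^ i.val)⁻¹ = z := h
    have h2 := hfz i.val
    calc a = (f ^ i.val)⁻¹ * (f ^ i.val * a * (f ^ i.val)⁻¹) * f ^ i.val := by group
      _ = (f ^ i.val)⁻¹ * (f ^ i.val * z * (f ^ i.val)⁻¹) * f ^ i.val := by rw [h1, h2]
      _ = z := by group
  have hAzc : ∀ i, A i * z = z * A i := fun i => hzc _ (hAQ i)
  -- injectivity
  have hAinj : ∀ i j, A i = A j → i = j := by
    intro i j hij
    by_contra hne
    have hd : j - i ≠ 0 := sub_ne_zero.mpr (Ne.symm hne)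
    have h1 : f ^ (j - i).val * A i * (f ^ (j - i).val)⁻¹ = A i := by
      rw [hAconj, add_sub_cancel, hij]
    have h2 : f ^ (j - i).val * A i = A i * f ^ (j - i).val := by
      calc f ^ (j - i).val * A i = (f ^ (j - i).val * A i * (f ^ (j - i).val)⁻¹) * f ^ (j - i).val := by
            group
        _ = A i * f ^ (j - i).val := by rw [h1]
    have h3 := comm_of_pow_comm f (A i) hf (j - i) hd h2
    rcases hfive (A i) (hAQ i) h3 with h | h
    · exact hA1 i h
    · exact hAz i h
  -- A i ≠ A j * z
  have hAne : ∀ i j, A i ≠ A j * z := by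
    intro i j hij
    have h1 : A (i + (i - j)) = A (j + (i - j)) * z := by
      rw [← hAconj i (i - j), ← hAconj j (i - j), hij]
      have := hfz (i - j).val
      calc f ^ (i - j).val * (A j * z) * (f ^ (i - j).val)⁻¹
          = (f ^ (i - j).val * A j * (f ^ (i - j).val)⁻¹) * (f ^ (i - j).val * z * (f ^ (i - j).val)⁻¹) := by
            group
        _ = (f ^ (i - j).val * A j * (f ^ (i - j).val)⁻¹) * z := by rw [this]
    have h2 : j + (i - j) = i := by ring
    rw [h2, hij, mul_assoc, hzz, mul_one] at h1
    have h3 := zmod5_two i j (hAinj _ _ h1)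
    rw [h3] at hij
    apply hz1
    calc z = (A j)⁻¹ * (A j * z) := by group
      _ = (A j)⁻¹ * A j := by rw [← hij]
      _ = 1 := by group
  -- the eleven involutions
  let T := {x : G // x ∈ Q ∧ orderOf x = 2}
  have ho2 : ∀ x : G, x * x = 1 → x ≠ 1 → orderOf x = 2 := by
    intro x hxx hx1
    exact orderOf_eq_prime (by rw [pow_two]; exact hxx) hx1
  have hAzz : ∀ i, (A i * z) * (A i * z) = 1 := by
    intro i
    calc (A i * z) * (A i * z) = A i * (z * A i) * z := by group
      _ = A i * (A i * z) * z := by rw [hAzc]
      _ = (A i * A i) * (z * z) := by group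
      _ = 1 := by rw [hAA, hzz, one_mul]
  have hAz1 : ∀ i, A i * z ≠ 1 := by
    intro i h
    apply hAz i
    calc A i = A i * z * z := by rw [mul_assoc, hzz, mul_one]
      _ = z := by rw [h, one_mul]
  let g : Option (ZMod 5 × Bool) → T := fun o =>
    match o with
    | none => ⟨z, c.hzQ, c.hz⟩
    | some (i, false) => ⟨A i, hAQ i, ho2 _ (hAA i) (hA1 i)⟩
    | some (i, true) => ⟨A i * z, Q.mul_mem (hAQ i) c.hzQ, ho2 _ (hAzz i) (hAz1 i)⟩
  have hginj : Function.Injective g := by
    intro o1 o2 h
    have hv : (g o1 : G) = (g o2 : G) := congrArg Subtype.val h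
    match o1, o2, hv with
    | none, none, _ => rfl
    | none, some (i, false), hv => exact absurd hv.symm (hAz i)
    | none, some (i, true), hv =>
        exfalso
        apply hA1 i
        have hv' : z = A i * z := hv
        calc A i = A i * z * z := by rw [mul_assoc, hzz, mul_one]
          _ = z * z := by rw [← hv']
          _ = 1 := hzz
    | some (i, false), none, hv => exact absurd hv (hAz i)
    | some (i, true), none, hv =>
        exfalso
        apply hA1 i
        have hv' : A i * z = z := hv
        calc A i = A i * z * z := by rw [mul_assoc, hzz, mul_one]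
          _ = z * z := by rw [hv']
          _ = 1 := hzz
    | some (i, false), some (j, false), hv =>
        have : i = j := hAinj i j hv
        rw [this]
    | some (i, false), some (j, true), hv => exact absurd hv (hAne i j)
    | some (i, true), some (j, false), hv => exact absurd hv.symm (hAne j i)
    | some (i, true), some (j, true), hv =>
        have hv' : A i * z = A j * z := hv
        have : i = j := hAinj i j (mul_right_cancel hv')
        rw [this]
  have : Finite T := inferInstance
  letI : Fintype T := Fintype.ofFinite T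
  have hcardT : Fintype.card T = 11 := by
    rw [← Nat.card_eq_fintype_card]; exact h11
  have hgbij : Function.Bijective g := by
    rw [Fintype.bijective_iff_injective_and_card]
    refine ⟨hginj, ?_⟩
    rw [hcardT]
    simp [ZMod.card]
  -- every involution of Q is z, A i or A i * z
  have hcases : ∀ x : G, x ∈ Q → orderOf x = 2 → x = z ∨ ∃ i, x = A i ∨ x = A i * z := by
    intro x hx hox
    obtain ⟨o, ho⟩ := hgbij.2 ⟨x, hx, hox⟩
    have hv : (g o : G) = x := congrArg Subtype.val ho
    match o, hv with
    | none, hv => exact Or.inl hv.symm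
    | some (i, false), hv => exact Or.inr ⟨i, Or.inl hv.symm⟩
    | some (i, true), hv => exact Or.inr ⟨i, Or.inr hv.symm⟩
  -- the case analysis for a'
  rcases hcases a' ha' hoa' with h | ⟨i, hi⟩
  · exact absurd h haz'
  by_cases hi0 : i = 0
  · rw [hi0, hA0] at hi
    exact hi
  exfalso
  -- a commutes with A i
  have hcAi : a * A i = A i * a := by
    rcases hi with h | h
    · rw [← h]; exact hcomm
    · rw [h] at hcomm
      have h1 : a * A i * z = A i * a * z := by
        calc a * A i * z = a * (A i * z) := by group
          _ = A i * z * a := hcomm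
          _ = A i * (z * a) := by group
          _ = A i * (a * z) := by rw [hzc a ha]
          _ = A i * a * z := by group
      exact mul_right_cancel h1
  -- translation
  have htrans : ∀ d : ZMod 5, a * A d = A d * a → ∀ j, A j * A (j + d) = A (j + d) * A j := by
    intro d hd j
    have := conj_comm (f ^ j.val) hd
    rw [← hA0] at this
    rw [hAconj, hAconj, zero_add, add_comm d j] at this
    exact this
  have hsymm : ∀ d : ZMod 5, a * A d = A d * a → a * A (-d) = A (-d) * a := by
    intro d hd
    have := htrans d hd (-d)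
    rw [neg_add_cancel, hA0] at this
    exact this.symm
  have hback : ∀ j k : ZMod 5, A j * A k = A k * A j → a * A (k - j) = A (k - j) * a := by
    intro j k h
    have := conj_comm (f ^ (-j).val) h
    rw [hAconj, hAconj, add_neg_cancel, hA0, ← sub_eq_add_neg] at this
    exact this
  -- b = a * A i
  have hai : a ≠ A i := by
    intro h
    rw [← hA0] at h
    exact hi0 (hAinj _ _ h).symm
  have hbQ : a * A i ∈ Q := Q.mul_mem ha (hAQ i)
  have hbb : (a * A i) * (a * A i) = 1 := by
    calc (a * A i) * (a * A i) = a * (A i * a) * A i := by group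
      _ = a * (a * A i) * A i := by rw [hcAi]
      _ = (a * a) * (A i * A i) := by group
      _ = 1 := by rw [haa, hAA, one_mul]
  have hb1 : a * A i ≠ 1 := by
    intro h
    apply hai
    calc a = a * (A i * A i) := by rw [hAA, mul_one]
      _ = (a * A i) * A i := by group
      _ = A i := by rw [h, one_mul]
  have hbz : a * A i ≠ z := by
    intro h
    apply hAne i 0
    rw [hA0]
    calc A i = (a * a) * A i := by rw [haa, one_mul]
      _ = a * (a * A i) := by group
      _ = a * z := by rw [h]
  rcases hcases (a * A i) hbQ (ho2 _ hbb hb1) with h | ⟨m, hm⟩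
  · exact hbz h
  -- A m commutes with a and with A i
  have hAm_a : a * A m = A m * a := by
    rcases hm with h | h
    · rw [← h]
      calc a * (a * A i) = a * (A i * a) := by rw [hcAi]
        _ = (a * A i) * a := by group
    · have h' : A m = a * A i * z := by
        calc A m = A m * (z * z) := by rw [hzz, mul_one]
          _ = (A m * z) * z := by group
          _ = a * A i * z := by rw [← h]
      rw [h']
      calc a * (a * A i * z) = a * (A i * a) * z := by rw [hcAi]; group
        _ = a * A i * (a * z) := by group
        _ = a * A i * (z * a) := by rw [hzc a ha]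
        _ = a * A i * z * a := by group
  have hAm_Ai : A i * A m = A m * A i := by
    rcases hm with h | h
    · rw [← h]
      calc A i * (a * A i) = (A i * a) * A i := by group
        _ = (a * A i) * A i := by rw [hcAi]
    · have h' : A m = a * A i * z := by
        calc A m = A m * (z * z) := by rw [hzz, mul_one]
          _ = (A m * z) * z := by group
          _ = a * A i * z := by rw [← h]
      rw [h']
      calc A i * (a * A i * z) = (A i * a) * A i * z := by group
        _ = (a * A i) * A i * z := by rw [hcAi]
        _ = a * A i * (A i * z) := by group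
        _ = a * A i * (z * A i) := by rw [hAzc]
        _ = a * A i * z * A i := by group
  have hm0 : m ≠ 0 := by
    intro h0
    rw [h0, hA0] at hm
    rcases hm with h | h
    · apply hA1 i
      calc A i = (a * a) * A i := by rw [haa, one_mul]
        _ = a * (a * A i) := by group
        _ = a * a := by rw [h]
        _ = 1 := haa
    · apply hAz i
      calc A i = (a * a) * A i := by rw [haa, one_mul]
        _ = a * (a * A i) := by group
        _ = a * (a * z) := by rw [h]
        _ = (a * a) * z := by group
        _ = z := by rw [haa, one_mul]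
  have hmi : m ≠ i := by
    intro h0
    rw [h0] at hm
    rcases hm with h | h
    · apply ha1
      calc a = (a * A i) * (A i)⁻¹ := by group
        _ = A i * (A i)⁻¹ := by rw [h]
        _ = 1 := by group
    · apply haz
      have h1 : a * A i = z * A i := by rw [h, hAzc]
      exact mul_right_cancel h1
  -- all d commute
  have hall : ∀ d : ZMod 5, a * A d = A d * a := by
    intro d
    have h_i := hcAi
    have h_m := hAm_a
    have h_mi := hback i m hAm_Ai
    rcases zmod5_cover i m hi0 hm0 hmi d with h | h | h | h | h | h | h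
    · rw [h, hA0]
    · rw [h]; exact h_i
    · rw [h]; exact hsymm i h_i
    · rw [h]; exact h_m
    · rw [h]; exact hsymm m h_m
    · rw [h]; exact h_mi
    · rw [h]
      have := hsymm (m - i) h_mi
      rwa [neg_sub] at this
  have hpair : ∀ j k : ZMod 5, A j * A k = A k * A j := by
    intro j k
    have := htrans (k - j) (hall (k - j)) j
    rwa [add_sub_cancel] at this
  -- the abelian subgroup
  set S : Set G := {x | x = z ∨ ∃ i, x = A i} with hS
  have hSQ : S ⊆ Q := by
    intro x hx
    rcases hx with h | ⟨i, h⟩
    · rw [h]; exact c.hzQ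
    · rw [h]; exact hAQ i
  have hScomm : ∀ x ∈ S, ∀ y ∈ S, x * y = y * x := by
    intro x hx y hy
    rcases hx with h | ⟨i, h⟩ <;> rcases hy with h' | ⟨j, h'⟩
    · rw [h, h']
    · rw [h, h']; exact (hAzc j).symm
    · rw [h, h']; exact hAzc i
    · rw [h, h']; exact hpair i j
  set E : Subgroup G := Subgroup.closure S with hE
  have hEQ : E ≤ Q := (Subgroup.closure_le Q).mpr hSQ
  have hEcomm : ∀ x ∈ E, ∀ y ∈ E, x * y = y * x := by
    intro x hx y hy
    have hle : E ≤ Subgroup.centralizer (E : Set G) := by
      rw [hE]
      rw [Subgroup.closure_le]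
      intro s hs
      rw [SetLike.mem_coe, Subgroup.mem_centralizer_iff]
      intro w hw
      have hle2 : Subgroup.closure S ≤ Subgroup.centralizer ({s} : Set G) := by
        rw [Subgroup.closure_le]
        intro u hu
        rw [SetLike.mem_coe, Subgroup.mem_centralizer_iff]
        intro v hv
        rw [Set.mem_singleton_iff] at hv
        rw [hv]
        exact hScomm s hs u hu
      have := hle2 hw
      rw [Subgroup.mem_centralizer_iff] at this
      exact (this s rfl).symm
    have := hle hx
    rw [Subgroup.mem_centralizer_iff] at this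
    exact (this y hy).symm
  have hcardE := habel E hEQ hEcomm
  -- E contains 1 and the eleven involutions
  have hTE : ∀ x : T, (x : G) ∈ E := by
    intro x
    rcases hcases x x.2.1 x.2.2 with h | ⟨i, h | h⟩
    · rw [h]; exact Subgroup.subset_closure (Or.inl rfl)
    · rw [h]; exact Subgroup.subset_closure (Or.inr ⟨i, rfl⟩)
    · rw [h]
      exact E.mul_mem (Subgroup.subset_closure (Or.inr ⟨i, rfl⟩)) (Subgroup.subset_closure (Or.inl rfl))
  let ι : Option T → E := fun o =>
    match o with
    | none => 1
    | some x => ⟨x, hTE x⟩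
  have hιinj : Function.Injective ι := by
    intro o1 o2 h
    have hv : (ι o1 : G) = (ι o2 : G) := congrArg Subtype.val h
    match o1, o2, hv with
    | none, none, _ => rfl
    | none, some x, hv =>
        exfalso
        have hx := x.2.2
        have hv' : (1 : G) = (x : G) := hv
        rw [← hv', orderOf_one] at hx
        omega
    | some x, none, hv =>
        exfalso
        have hx := x.2.2
        have hv' : (x : G) = 1 := hv
        rw [hv', orderOf_one] at hx
        omega
    | some x, some y, hv =>
        have : x = y := Subtype.ext hv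
        rw [this]
  have h12 : Nat.card (Option T) ≤ Nat.card E := Nat.card_le_card_of_injective ι hιinj
  have h12' : Nat.card (Option T) = 12 := by
    rw [Nat.card_eq_fintype_card, Fintype.card_option, hcardT]
  omega

end Cfsg.Agent.Helper8.HJ
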