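import Mathlib
import Cfsg.Agent.Lib.Helper8.HJDefs
import Cfsg.Agent.Lib.Helper8.HJGAUSS
import Cfsg.Agent.Lib.Helper8.HJNOE8
import Cfsg.Agent.Lib.Helper1.HJCARDC
import Cfsg.Agent.Lib.Helper1.HJCARDT
import Cfsg.Agent.Lib.Helper22.HJA5CENT
import Cfsg.Agent.Lib.Helper22.HJA5CNT
import Cfsg.Agent.Lib.Helper24.HJRT
import Cfsg.Agent.Lib.Helper24.HJRZ
import Cfsg.Agent.Lib.Helper28.HJQS
import Cfsg.Agent.Lib.Helper28.HJQX
import Cfsg.Agent.Lib.Helper28.HJTHOMPSON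
import Cfsg.Agent.Lib.Helper4.HJABEL
import Cfsg.Agent.Lib.Helper4.HJFIVE
import Cfsg.Agent.Lib.Helper4.HJINV11
import Cfsg.Agent.Lib.Helper6.HJNV
import Cfsg.Agent.Lib.Helper6.HJV1
import Cfsg.Agent.Lib.Helper9.HJA5FIVE
import Cfsg.Agent.Lib.Helper9.HJA5INV
import Cfsg.Agent.Lib.Helper9.HJJ120

set_option autoImplicit false

namespace Cfsg.Agent.Helper8.HJ

open Cfsg

/-- PIECE GAUSS applied to the subgroup `Q` of a `ZCfg`. -/
theorem asm_gauss_Q {G : Type*} [Group G] [Finite G] {z : G} {Q K : Subgroup G} (c : ZCfg z Q K) :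
    Nat.card {x : Q // x * x = 1} = 12 ∨ Nat.card {x : Q // x * x = 1} = 20 := by
  have hz1 : z ≠ 1 := by
    intro h
    have := c.hz
    rw [h, orderOf_one] at this
    omega
  have hzz : z * z = 1 := by
    have := pow_orderOf_eq_one z
    rw [c.hz, pow_two] at this
    exact this
  have hzc : ∀ x ∈ Q, x * z = z * x := by
    intro x hx
    have := c.hQC hx
    rw [Subgroup.mem_centralizer_iff] at this
    exact (this z rfl).symm
  refine gauss (Q := ↥Q) ⟨z, c.hzQ⟩ ?_ ?_ ?_ c.hcard ?_ ?_ ?_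
  · intro h
    exact hz1 (congrArg Subtype.val h)
  · exact Subtype.ext hzz
  · intro x
    exact Subtype.ext (hzc x x.2)
  · intro w hw
    rcases c.hcenter w w.2 (fun x hx => congrArg Subtype.val (hw ⟨x, hx⟩)) with h | h
    · exact Or.inl (Subtype.ext h)
    · exact Or.inr (Subtype.ext h)
  · intro x y
    rcases c.hcomm x x.2 y y.2 with h | h
    · exact Or.inl (Subtype.ext h)
    · exact Or.inr (Subtype.ext h)
  · intro x
    rcases c.hsq x x.2 with h | h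
    · exact Or.inl (Subtype.ext h)
    · exact Or.inr (Subtype.ext h)

/-- S3313, assembled. -/
theorem main {G : Type*} [Group G] [Finite G]
    (z t : G) (hz : orderOf z = 2) (ht : orderOf t = 2)
    (hzt : ¬ IsConj z t) (hcl : ∀ x : G, orderOf x = 2 → IsConj x z ∨ IsConj x t)
    (hex : Cfsg.IsExtraspecial 2 ↥(Cfsg.generalizedFittingSubgroup ↥(Subgroup.centralizer ({z} : Set G))))
    (hQ : Nat.card ↥(Cfsg.pCore 2 ↥(Subgroup.centralizer ({z} : Set G))) = 32)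
    (K : Subgroup G) (hK : Nonempty (↥K ≃* alternatingGroup (Fin 5)))
    (hKC : K ⊔ (Cfsg.pCore 2 ↥(Subgroup.centralizer ({z} : Set G))).map (Subgroup.centralizer ({z} : Set G)).subtype = Subgroup.centralizer ({z} : Set G))
    (hKQ : K ⊓ (Cfsg.pCore 2 ↥(Subgroup.centralizer ({z} : Set G))).map (Subgroup.centralizer ({z} : Set G)).subtype = ⊥)
    (hQz : ∀ x ∈ (Cfsg.pCore 2 ↥(Subgroup.centralizer ({z} : Set G))).map (Subgroup.centralizer ({z} : Set G)).subtype, orderOf x = 2 → IsConj x z)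
    (hCz : ∀ x ∈ Subgroup.centralizer ({z} : Set G), orderOf x = 2 →
      x ∉ (Cfsg.pCore 2 ↥(Subgroup.centralizer ({z} : Set G))).map (Subgroup.centralizer ({z} : Set G)).subtype → IsConj x t)
    (V B : Subgroup G) (hVB : Cfsg.IsInternalDirectProduct V B (Subgroup.centralizer ({t} : Set G)))
    (hV : Nat.card ↥V = 4) (hV2 : ∀ v ∈ V, v ^ 2 = 1) (htV : t ∈ V) (hB : Nonempty (↥B ≃* alternatingGroup (Fin 5)))
    (hBz : ∀ x ∈ B, orderOf x = 2 → IsConj x z)
    (hCt : ∀ x ∈ Subgroup.centralizer ({t} : Set G), orderOf x = 2 → x ∉ B → IsConj x t) :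
    Nat.card G = 604800 := by
  obtain ⟨hF, hzQ, hcen, hcom, hsq⟩ := qx z hz hex
  obtain ⟨hQC, hKCle, hsup, hinf, hnorm, hself⟩ := qs z hz hF K hKC hKQ
  have hcardQ : Nat.card ↥(Qs z) = 32 := by
    rw [← hQ]
    exact Nat.card_congr
      ((Cfsg.pCore 2 ↥(Subgroup.centralizer ({z} : Set G))).equivMapOfInjective _
        (Subgroup.subtype_injective _)).symm.toEquiv
  have c : ZCfg z (Qs z) K :=
    ⟨hz, hQC, hKCle, hsup, hinf, hnorm, hcardQ, hzQ, hcen, hcom, hsq, hself, hK⟩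
  have d : TCfg z t (Qs z) V B := ⟨ht, hzt, hQz, hCz, hVB, hV, hV2, htV, hB, hBz, hCt⟩
  obtain ⟨eK⟩ := hK
  obtain ⟨eB⟩ := hB
  have hC := card_C c
  have hD := card_D d
  obtain ⟨⟨f0, hf0⟩, -, -⟩ := a5_misc eK
  obtain ⟨-, -, hordB⟩ := a5_misc eB
  have hf0' : orderOf (f0 : G) = 5 := by
    rw [← hf0]
    exact Subgroup.orderOf_coe f0
  have hrt := r_t hz d hordB (a5_count eB)
  have hv1 := fun (v : G) (hvC : v ∈ Subgroup.centralizer ({z} : Set G)) (hvQ : v ∉ Qs z)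
      (hv : orderOf v = 2) =>
    v_one c d (fun x hx => a5_cent_invol eB x hx) v hvC hvQ hv
  have hfive := five c (f0 : G) f0.2 hf0'
  have h11 := card_invol_Q c (asm_gauss_Q c) (f0 : G) f0.2 hf0' hfive
  have hnoe8 : ∀ a a' : G, a ∈ Qs z → a' ∈ Qs z → orderOf a = 2 → orderOf a' = 2 → a ≠ z → a' ≠ z →
      a * a' = a' * a → a' = a ∨ a' = a * z :=
    fun a a' ha ha' hoa hoa' haz haz' hcm =>
      no_e8 c h11 (f0 : G) f0.2 hf0' hfive (fun A hA hab => abel c A hA hab) a a' ha ha' hoa hoa'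
        haz haz' hcm
  have hN := fun (v : G) (hvC : v ∈ Subgroup.centralizer ({z} : Set G)) (hvQ : v ∉ Qs z)
      (hv : orderOf v = 2) =>
    n_v c h11 hnoe8 v hvC hvQ hv (hv1 v hvC hvQ hv).2.1 (hv1 v hvC hvQ hv).2.2
  have hJ := card_J c hC (a5_card_invol eK) (fun v hvC hvQ hv => (hv1 v hvC hvQ hv).1)
    (fun v hvC hvQ hv => (hv1 v hvC hvQ hv).2.1)
  have hrz := r_z c d hJ hN
  have hth := thompson z t hz ht hzt hcl
  rw [hC, hD, hrz, hrt] at hth
  exact hth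

end Cfsg.Agent.Helper8.HJ
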