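import Mathlib
import Cfsg.Agent.Lib.Helper8.HallSnDefs
import Cfsg.Agent.Lib.Helper7.HSExAux

/-!
# The groups of types 3, 4, 5 exist and are Hall subgroups (piece HS-EX, helper8 plan; proofs by helper7)
-/

set_option autoImplicit false

namespace Cfsg.Agent.Helper8.HS

open Equiv Cfsg

universe u

variable {Ω : Type u} [Fintype Ω] [DecidableEq Ω]

/-- A point stabilizer in prime degree `n` has index `n` and order `(n-1)!`. -/
theorem isPiHall_of_isT3 {π : Set ℕ} {H : Subgroup (Perm Ω)} (h : IsT3 π H) : IsPiHall π H := by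
  obtain ⟨hn, hπ, ω, hmem⟩ := h
  have hH : H = MulAction.stabilizer (Perm Ω) ω := by
    ext σ
    rw [hmem, MulAction.mem_stabilizer_iff, Perm.smul_def]
  have hidx : H.index = Fintype.card Ω := by
    rw [hH, MulAction.index_stabilizer_of_transitive, Nat.card_eq_fintype_card]
  have hpos : 0 < Fintype.card Ω := hn.pos
  have hcard : Nat.card H = (Fintype.card Ω - 1).factorial := by
    have h1 := Subgroup.card_mul_index H
    rw [hidx, Nat.card_perm, Nat.card_eq_fintype_card (α := Ω)] at h1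
    have h2 : (Fintype.card Ω).factorial = (Fintype.card Ω - 1).factorial * Fintype.card Ω := by
      obtain ⟨k, hk⟩ : ∃ k, Fintype.card Ω = k + 1 := ⟨Fintype.card Ω - 1, by omega⟩
      rw [hk, Nat.factorial_succ, Nat.add_sub_cancel, mul_comm]
    rw [h2] at h1
    exact Nat.eq_of_mul_eq_mul_right hpos h1
  refine Cfsg.Agent.Helper7.HSEx.isPiHall_of_card hcard hidx ?_ ?_
  · intro p hp hdvd
    rw [hp.dvd_factorial] at hdvd
    exact (hπ p hp (by omega)).mpr (by omega)
  · intro p hp hpπ hdvd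
    have hpn : p = Fintype.card Ω := (Nat.prime_dvd_prime_iff_eq hp hn).mp hdvd
    have := (hπ p hp (by omega)).mp hpπ
    omega

/-- The stabilizer of a 3-subset of 7 points has order `144` and index `35`. -/
theorem isPiHall_of_isT4 {π : Set ℕ} {H : Subgroup (Perm Ω)} (h : IsT4 π H) : IsPiHall π H := by
  obtain ⟨hn, hπ, S, hS, hmem⟩ := h
  have hH : H = Cfsg.Agent.Helper7.HSEx.setStab S := by
    ext σ
    rw [hmem, Cfsg.Agent.Helper7.HSEx.mem_setStab]
  have hcard : Nat.card H = 144 := by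
    rw [hH, Cfsg.Agent.Helper7.HSEx.card_setStab, hS, hn]
    decide
  have hidx : H.index = 35 := by
    refine Cfsg.Agent.Helper7.HSEx.index_of_card hcard (by norm_num) ?_
    rw [hn]
    decide
  refine Cfsg.Agent.Helper7.HSEx.isPiHall_of_card hcard hidx ?_ ?_
  · intro p hp hdvd
    have h144 : (144 : ℕ) = 2 ^ 4 * 3 ^ 2 := by norm_num
    rw [h144] at hdvd
    rcases (Nat.Prime.dvd_mul hp).mp hdvd with h2 | h3
    · have := (Nat.prime_dvd_prime_iff_eq hp Nat.prime_two).mp (hp.dvd_of_dvd_pow h2)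
      exact (hπ p hp (by omega)).mpr (Or.inl this)
    · have := (Nat.prime_dvd_prime_iff_eq hp Nat.prime_three).mp (hp.dvd_of_dvd_pow h3)
      exact (hπ p hp (by omega)).mpr (Or.inr this)
  · intro p hp hpπ hdvd
    have h35 : (35 : ℕ) = 5 * 7 := by norm_num
    rw [h35] at hdvd
    rcases (Nat.Prime.dvd_mul hp).mp hdvd with h5 | h7
    · have := (Nat.prime_dvd_prime_iff_eq hp Nat.prime_five).mp h5
      have := (hπ p hp (by omega)).mp hpπ
      omega
    · have := (Nat.prime_dvd_prime_iff_eq hp (by norm_num : Nat.Prime 7)).mp h7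
      have := (hπ p hp (by omega)).mp hpπ
      omega

/-- The stabilizer of a partition of 8 points into two 4-sets has order `1152` and index `35`. -/
theorem isPiHall_of_isT5 {π : Set ℕ} {H : Subgroup (Perm Ω)} (h : IsT5 π H) : IsPiHall π H := by
  obtain ⟨hn, hπ, S, hS, hmem⟩ := h
  have hH : H = Cfsg.Agent.Helper7.HSEx.partStab S := by
    ext σ
    rw [hmem, Cfsg.Agent.Helper7.HSEx.mem_partStab]
  have hcard : Nat.card H = 1152 := by
    rw [hH, Cfsg.Agent.Helper7.HSEx.card_partStab S (by omega)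
      (Finset.card_pos.mp (by omega)), Cfsg.Agent.Helper7.HSEx.card_setStab, hS, hn]
    decide
  have hidx : H.index = 35 := by
    refine Cfsg.Agent.Helper7.HSEx.index_of_card hcard (by norm_num) ?_
    rw [hn]
    decide
  refine Cfsg.Agent.Helper7.HSEx.isPiHall_of_card hcard hidx ?_ ?_
  · intro p hp hdvd
    have h1152 : (1152 : ℕ) = 2 ^ 7 * 3 ^ 2 := by norm_num
    rw [h1152] at hdvd
    rcases (Nat.Prime.dvd_mul hp).mp hdvd with h2 | h3
    · have := (Nat.prime_dvd_prime_iff_eq hp Nat.prime_two).mp (hp.dvd_of_dvd_pow h2)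
      exact (hπ p hp (by omega)).mpr (Or.inl this)
    · have := (Nat.prime_dvd_prime_iff_eq hp Nat.prime_three).mp (hp.dvd_of_dvd_pow h3)
      exact (hπ p hp (by omega)).mpr (Or.inr this)
  · intro p hp hpπ hdvd
    have h35 : (35 : ℕ) = 5 * 7 := by norm_num
    rw [h35] at hdvd
    rcases (Nat.Prime.dvd_mul hp).mp hdvd with h5 | h7
    · have := (Nat.prime_dvd_prime_iff_eq hp Nat.prime_five).mp h5
      have := (hπ p hp (by omega)).mp hpπ
      omega
    · have := (Nat.prime_dvd_prime_iff_eq hp (by norm_num : Nat.Prime 7)).mp h7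
      have := (hπ p hp (by omega)).mp hpπ
      omega

theorem exists_isT3 (π : Set ℕ) (hn : (Fintype.card Ω).Prime)
    (hπ : ∀ p : ℕ, p.Prime → p ≤ Fintype.card Ω → (p ∈ π ↔ p < Fintype.card Ω)) :
    ∃ H : Subgroup (Perm Ω), IsT3 π H := by
  have hpos : 0 < Fintype.card Ω := hn.pos
  obtain ⟨ω⟩ : Nonempty Ω := Fintype.card_pos_iff.mp hpos
  refine ⟨MulAction.stabilizer (Perm Ω) ω, hn, hπ, ω, fun σ => ?_⟩
  rw [MulAction.mem_stabilizer_iff, Perm.smul_def]

theorem exists_isT4 (π : Set ℕ) (hn : Fintype.card Ω = 7)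
    (hπ : ∀ p : ℕ, p.Prime → p ≤ 7 → (p ∈ π ↔ (p = 2 ∨ p = 3))) :
    ∃ H : Subgroup (Perm Ω), IsT4 π H := by
  obtain ⟨S, -, hS⟩ := Finset.exists_subset_card_eq (s := (Finset.univ : Finset Ω)) (n := 3)
    (by rw [Finset.card_univ, hn]; norm_num)
  exact ⟨Cfsg.Agent.Helper7.HSEx.setStab S, hn, hπ, S, hS, fun σ => Iff.rfl⟩

theorem exists_isT5 (π : Set ℕ) (hn : Fintype.card Ω = 8)
    (hπ : ∀ p : ℕ, p.Prime → p ≤ 8 → (p ∈ π ↔ (p = 2 ∨ p = 3))) :
    ∃ H : Subgroup (Perm Ω), IsT5 π H := by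
  obtain ⟨S, -, hS⟩ := Finset.exists_subset_card_eq (s := (Finset.univ : Finset Ω)) (n := 4)
    (by rw [Finset.card_univ, hn]; norm_num)
  exact ⟨Cfsg.Agent.Helper7.HSEx.partStab S, hn, hπ, S, hS, fun σ => Iff.rfl⟩

end Cfsg.Agent.Helper8.HS
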