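import Mathlib
import Cfsg.Prelude.Def_CaseTheorems
import Cfsg.Agent.Lib.Helper8.HTCNT
import Cfsg.Agent.Lib.Helper16.CyclicTwo
import Cfsg.Agent.Lib.Helper16.NormalFourA

/-!
# Half-transitive linear `2`-groups: the quasi-dihedral case (helper8)
-/

set_option autoImplicit false

namespace Cfsg.Agent.Helper8.HT

open Cfsg.Agent.Helper16

/-- Group-theoretic facts about a quasi-dihedral group, in the form needed by `count_index_two`. -/
theorem quasiDihedral_facts {G : Type*} [Group G] [Finite G] {n : ℕ} (hn3 : 3 ≤ n)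
    (hcard : Nat.card G = 2 ^ (n + 1)) {x y : G} (hxo : orderOf x = 2 ^ n) (hyo : orderOf y = 2)
    (hyx : y * x * y⁻¹ = x ^ (2 ^ (n - 1) - 1)) :
    (Subgroup.zpowers x).index = 2 ∧ x ^ 2 ^ (n - 1) ∈ Subgroup.center G ∧
      orderOf (x ^ 2 ^ (n - 1)) = 2 ∧
      (∀ g ∈ Subgroup.zpowers x, g ≠ 1 → ∃ k : ℕ, g ^ k = x ^ 2 ^ (n - 1)) ∧
      (∀ t : G, t ∉ Subgroup.zpowers x → t ^ 2 = 1 →
        ∃ g : G, g * t * g⁻¹ = t * x ^ 2 ^ (n - 1)) ∧
      (∃ t : G, t ∉ Subgroup.zpowers x ∧ t ^ 2 = 1) ∧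
      Nat.card {t : G | t ∉ Subgroup.zpowers x ∧ t ^ 2 = 1} = 2 ^ (n - 1) := by
  classical
  haveI : Fintype G := Fintype.ofFinite G
  set R := Subgroup.zpowers x with hR
  set z := x ^ 2 ^ (n - 1) with hz
  set m := 2 ^ (n - 1) - 1 with hm
  have hn1 : 1 ≤ n := by omega
  have hpow : 2 ^ (n - 1) * 2 = 2 ^ n := by
    rw [← pow_succ]; congr 1; omega
  have hpos : 0 < 2 ^ (n - 1) := by positivity
  have h4le : 4 ≤ 2 ^ (n - 1) := by
    have : 2 ^ 2 ≤ 2 ^ (n - 1) := Nat.pow_le_pow_right (by norm_num) (by omega)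
    simpa using this
  have hm1 : m + 1 = 2 ^ (n - 1) := by omega
  have hmodd : Odd m := by
    have : Even (2 ^ (n - 1)) := (Nat.even_pow.2 ⟨even_two, by omega⟩)
    rcases this with ⟨r, hr⟩
    exact ⟨r - 1, by omega⟩
  have hz2 : z ^ 2 = 1 := pow_half_sq hn1 hxo
  have hz1 : z ≠ 1 := pow_half_ne_one hn1 hxo
  have hzo : orderOf z = 2 := orderOf_eq_prime hz2 hz1
  have hzR : z ∈ R := Subgroup.pow_mem _ (Subgroup.mem_zpowers x) _
  have hxR : x ∈ R := Subgroup.mem_zpowers x
  have hy2 : y ^ 2 = 1 := by rw [← hyo]; exact pow_orderOf_eq_one y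
  have hyy : y * y = 1 := by rw [← pow_two]; exact hy2
  have hyinv : y⁻¹ = y := inv_eq_of_mul_eq_one_left hyy
  -- index
  have hRcard : Nat.card R = 2 ^ n := by rw [hR, Nat.card_zpowers, hxo]
  have hidx : R.index = 2 := by
    have h1 := Subgroup.card_mul_index R
    rw [hRcard, hcard, pow_succ] at h1
    exact Nat.eq_of_mul_eq_mul_left (by positivity) h1
  have hG2 : IsPGroup 2 G := IsPGroup.of_card hcard
  -- commutation inside `R`
  have hRcomm : ∀ r ∈ R, ∀ s ∈ R, r * s = s * r := by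
    intro r hr s hs
    obtain ⟨i, rfl⟩ := Subgroup.mem_zpowers_iff.1 hr
    obtain ⟨j, rfl⟩ := Subgroup.mem_zpowers_iff.1 hs
    rw [← zpow_add, ← zpow_add, add_comm]
  -- conjugation of powers of `x` by `y`
  have hconjpow : ∀ s : ℕ, y * x ^ s * y⁻¹ = (x ^ s) ^ m := by
    intro s
    rw [conj_pow_eq hyx s, ← pow_mul, ← pow_mul, mul_comm]
  have hconjR : ∀ r ∈ R, y * r * y⁻¹ = r ^ m := by
    intro r hr
    obtain ⟨s, -, rfl⟩ := mem_zpowers_exists_nat (by positivity) hxo hr
    exact hconjpow s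
  -- `y ∉ R`
  have hyR : y ∉ R := by
    intro hy
    have h1 : y * x * y⁻¹ = x := by
      rw [hRcomm y hy x hxR, mul_inv_cancel_right]
    rw [h1] at hyx
    have h2 : x ^ 1 = x ^ m := by rw [pow_one]; exact hyx
    have h3 : 1 ≡ m [MOD 2 ^ n] := by rw [← hxo]; exact pow_eq_pow_iff_modEq.1 h2
    have h4 : m < 2 ^ n := by omega
    have h5 : 1 < 2 ^ n := by omega
    rw [Nat.ModEq, Nat.mod_eq_of_lt h4, Nat.mod_eq_of_lt h5] at h3
    omega
  -- decomposition of elements outside `R`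
  have hdecomp : ∀ t : G, t ∉ R → ∃ r ∈ R, t = r * y := by
    intro t ht
    have hyinvR : y⁻¹ ∉ R := by rw [hyinv]; exact hyR
    have h1 : t * y⁻¹ ∈ R :=
      (Subgroup.mul_mem_iff_of_index_two hidx).2 ⟨fun h => (ht h).elim, fun h => (hyinvR h).elim⟩
    exact ⟨t * y⁻¹, h1, by rw [inv_mul_cancel_right]⟩
  -- `z` is central
  have hyz : y * z * y⁻¹ = z := by
    rw [hconjR z hzR]
    exact sq_eq_one_pow_odd hz2 hmodd
  have hyz' : y * z = z * y := by
    calc y * z = y * z * y⁻¹ * y := by group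
      _ = z * y := by rw [hyz]
  have hzc : z ∈ Subgroup.center G := by
    rw [Subgroup.mem_center_iff]
    intro g
    by_cases hg : g ∈ R
    · exact hRcomm g hg z hzR
    · obtain ⟨r, hr, rfl⟩ := hdecomp g hg
      rw [mul_assoc, hyz', ← mul_assoc, hRcomm r hr z hzR, mul_assoc]
  have hzcomm : ∀ g : G, g * z = z * g := fun g => Subgroup.mem_center_iff.1 hzc g
  -- powers reaching `z`
  have hRz : ∀ g ∈ R, g ≠ 1 → ∃ k : ℕ, g ^ k = z := by
    intro g hg hg1
    obtain ⟨j, hj⟩ := IsPGroup.iff_orderOf.1 hG2 g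
    have hj1 : 1 ≤ j := by
      by_contra h0
      have : j = 0 := by omega
      rw [this, pow_zero, orderOf_eq_one_iff] at hj
      exact hg1 hj
    refine ⟨2 ^ (j - 1), ?_⟩
    exact NormalFour.involution_unique x _ _ (Subgroup.pow_mem _ hg _) hzR (pow_half_sq hj1 hj) hz2
      (pow_half_ne_one hj1 hj) hz1
  -- squares and conjugates of elements outside `R`
  have hsqout : ∀ t : G, t ∉ R → t ^ 2 = 1 ∨ t ^ 2 = z := by
    intro t ht
    obtain ⟨r, hr, rfl⟩ := hdecomp t ht
    have h1 : (r * y) ^ 2 = r * (y * r * y⁻¹) := by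
      rw [pow_two]
      calc r * y * (r * y) = r * (y * r * y⁻¹) * (y * y) := by group
        _ = r * (y * r * y⁻¹) := by rw [hyy, mul_one]
    rw [h1, hconjR r hr, ← pow_succ', hm1]
    obtain ⟨s, -, rfl⟩ := mem_zpowers_exists_nat (by positivity) hxo hr
    rw [← pow_mul, mul_comm, pow_mul]
    exact sq_eq_one_pow hz2 s
  have hconjout : ∀ t : G, t ∉ R → t * x * t⁻¹ = x ^ m := by
    intro t ht
    obtain ⟨r, hr, rfl⟩ := hdecomp t ht
    have h1 : r * y * x * (r * y)⁻¹ = r * (y * x * y⁻¹) * r⁻¹ := by group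
    rw [h1, hyx, hRcomm r hr _ (Subgroup.pow_mem _ hxR _), mul_inv_cancel_right]
  have hxt : ∀ t : G, t ∉ R → (x * t) ^ 2 = z * t ^ 2 := by
    intro t ht
    have h1 : (x * t) ^ 2 = x * (t * x * t⁻¹) * t ^ 2 := by
      rw [pow_two, pow_two]; group
    rw [h1, hconjout t ht, ← pow_succ', hm1]
  -- the conjugating element
  have hn2 : n - 2 + 1 = n - 1 := by omega
  set c := x ^ 2 ^ (n - 2) with hc
  have hcR : c ∈ R := Subgroup.pow_mem _ hxR _
  have hc2 : c ^ 2 = z := by
    rw [hc, ← pow_mul, ← pow_succ, hn2]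
  have hcm : c ^ m = c⁻¹ := by
    rw [eq_inv_iff_mul_eq_one, ← pow_succ, hm1]
    have : 2 ^ (n - 1) = 2 * 2 ^ (n - 2) := by rw [← pow_succ', hn2]
    rw [this, pow_mul, hc2]
    exact sq_eq_one_pow_even hz2 (Nat.even_pow.2 ⟨even_two, by omega⟩)
  have hcy : c * y * c⁻¹ = y * z := by
    have h1 : y * c * y⁻¹ = c⁻¹ := by rw [hconjR c hcR, hcm]
    have h2 : y * c = c⁻¹ * y := by
      calc y * c = y * c * y⁻¹ * y := by group
        _ = c⁻¹ * y := by rw [h1]
    have h3 : c * y * c = y := by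
      calc c * y * c = c * (y * c) := by rw [mul_assoc]
        _ = c * (c⁻¹ * y) := by rw [h2]
        _ = y := by group
    have h4 : c * y = y * c⁻¹ := by
      calc c * y = c * y * c * c⁻¹ := by group
        _ = y * c⁻¹ := by rw [h3]
    have hzinv : z⁻¹ = z := inv_eq_of_mul_eq_one_left (by rw [← pow_two]; exact hz2)
    calc c * y * c⁻¹ = y * c⁻¹ * c⁻¹ := by rw [h4]
      _ = y * (c ^ 2)⁻¹ := by rw [pow_two, mul_inv_rev, mul_assoc]
      _ = y * z := by rw [hc2, hzinv]
  have hconj : ∀ t : G, t ∉ R → t ^ 2 = 1 → ∃ g : G, g * t * g⁻¹ = t * z := by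
    intro t ht _
    obtain ⟨r, hr, rfl⟩ := hdecomp t ht
    refine ⟨c, ?_⟩
    calc c * (r * y) * c⁻¹ = c * r * (y * c⁻¹) := by group
      _ = r * c * (y * c⁻¹) := by rw [hRcomm c hcR r hr]
      _ = r * (c * y * c⁻¹) := by group
      _ = r * y * z := by rw [hcy, mul_assoc]
  -- the count
  have hcount : Nat.card {t : G | t ∉ R ∧ t ^ 2 = 1} = 2 ^ (n - 1) := by
    set Tf : Finset G := Finset.univ.filter (fun t => t ∉ R ∧ t ^ 2 = 1) with hTf
    set Uf : Finset G := Finset.univ.filter (fun t => t ∉ R ∧ t ^ 2 ≠ 1) with hUf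
    have hcardT : Nat.card {t : G | t ∉ R ∧ t ^ 2 = 1} = Tf.card := by
      rw [Nat.card_eq_fintype_card]
      exact Fintype.card_subtype _
    have hTU : Tf.card = Uf.card := by
      apply Finset.card_bij (fun t _ => x * t)
      · intro t ht
        rw [hTf, Finset.mem_filter] at ht
        rw [hUf, Finset.mem_filter]
        refine ⟨Finset.mem_univ _, ?_, ?_⟩
        · intro h
          exact ht.2.1 ((Subgroup.mul_mem_cancel_left R hxR).1 h)
        · rw [hxt t ht.2.1, ht.2.2, mul_one]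
          exact hz1
      · intro t _ t' _ h
        exact mul_left_cancel h
      · intro u hu
        rw [hUf, Finset.mem_filter] at hu
        have hx1u : x⁻¹ * u ∉ R := by
          intro h
          exact hu.2.1 ((Subgroup.mul_mem_cancel_left R (R.inv_mem hxR)).1 h)
        refine ⟨x⁻¹ * u, ?_, by group⟩
        rw [hTf, Finset.mem_filter]
        refine ⟨Finset.mem_univ _, hx1u, ?_⟩
        have h1 := hxt (x⁻¹ * u) hx1u
        rw [mul_inv_cancel_left] at h1
        have hu2 : u ^ 2 = z := (hsqout u hu.2.1).resolve_left hu.2.2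
        rw [hu2] at h1
        rcases hsqout (x⁻¹ * u) hx1u with h | h
        · exact h
        · rw [h, ← pow_two, hz2] at h1
          exact (hz1 h1).elim
    have hunion : Tf.card + Uf.card = 2 ^ n := by
      have hdisj : Disjoint Tf Uf := by
        rw [Finset.disjoint_left]
        intro t ht hu
        rw [hTf, Finset.mem_filter] at ht
        rw [hUf, Finset.mem_filter] at hu
        exact hu.2.2 ht.2.2
      have hun : Tf ∪ Uf = Finset.univ.filter (fun t => t ∉ R) := by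
        ext t
        simp only [hTf, hUf, Finset.mem_union, Finset.mem_filter, Finset.mem_univ, true_and]
        tauto
      rw [← Finset.card_union_of_disjoint hdisj, hun]
      have h1 : (Finset.univ.filter (fun t => t ∉ R)).card =
          Fintype.card G - (Finset.univ.filter (fun t => t ∈ R)).card := by
        rw [Finset.filter_not, Finset.card_sdiff_of_subset (Finset.filter_subset _ _),
          Finset.card_univ]
      have h2 : (Finset.univ.filter (fun t => t ∈ R)).card = 2 ^ n := by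
        rw [← hRcard, Nat.card_eq_fintype_card]
        exact (Fintype.card_subtype _).symm
      rw [h1, h2, ← Nat.card_eq_fintype_card, hcard, pow_succ]
      omega
    rw [hcardT]
    omega
  exact ⟨hidx, hzc, hzo, hRz, hconj, ⟨y, hyR, hy2⟩, hcount⟩

variable {q : ℕ} [Fact q.Prime] {V : Type*} [AddCommGroup V] [Module (ZMod q) V] [Finite V]
  {G : Type*} [Group G] [Finite G] (ρ : G →* (V ≃ₗ[ZMod q] V))

/-- PIECE HTQD. -/
theorem quasiDihedral_case [Nontrivial V] (hρ : Function.Injective ρ) (hhalf : Half ρ)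
    (hq2 : q ≠ 2) (hG : Cfsg.IsQuasiDihedral G) :
    Nat.card V = q ^ 2 ∧ ∃ m : ℕ, q = 2 ^ m - 1 ∧ Nat.card G = 2 ^ (m + 2) := by
  have hq : q.Prime := Fact.out
  obtain ⟨n, hn3, hcard, x, y, hxo, hyo, hyx⟩ := hG
  obtain ⟨hidx, hzc, hzo, hRz, hconj, hne, hcount⟩ := quasiDihedral_facts hn3 hcard hxo hyo hyx
  obtain ⟨d, hd1, hV, hT⟩ := count_index_two ρ hρ hhalf hq2 _ hidx hzc hzo hRz hconj hne
  rw [hcount] at hT
  have hd : d = 1 :=
    Cfsg.Agent.Helper20.PowSubOne.mersenne_pow q (n - 1) d hq (by omega) hT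
  subst hd
  rw [pow_one] at hV hT
  refine ⟨hV, n - 1, by omega, ?_⟩
  rw [hcard]
  congr 1
  omega

end Cfsg.Agent.Helper8.HT
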