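import Mathlib
import Cfsg.Agent.Lib.Helper8.InvTI

/-!
# The class multiplication relation for an inverting involution (helper8)
-/

set_option autoImplicit false
set_option linter.unusedVariables false
set_option linter.unusedSectionVars false
set_option linter.style.haveILetI false

namespace Cfsg.Agent.Helper8.InvTI

open Cfsg Cfsg.Agent.Helper24 Cfsg.Agent.Helper5 Cfsg.Agent.Helper8
open Cfsg.Agent.Helper5.PrimeTI
open scoped ComplexConjugate

universe u

section Rel

variable {G : Type u} [Group G] [Fintype G]

/-- a nonlinear irreducible character of a simple group is faithful -/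
theorem eq_one_of_char_eq [IsSimpleGroup G] {χ : G → ℂ} (hχ : IsIrrCharacter G χ)
    (hd : 2 ≤ charDegree χ) {s : G} (hs : χ s = χ 1) : s = 1 := by
  have hc := isCharacter_of_isIrrCharacter hχ
  have hn := charKer_normal hc
  rcases hn.eq_bot_or_eq_top with h | h
  · have : s ∈ charKer hc := (mem_charKer hc s).mpr hs
    rw [h] at this
    exact Subgroup.mem_bot.mp this
  · exfalso
    have hall : ∀ g : G, χ g = (charDegree χ : ℂ) := by
      intro g
      have : g ∈ charKer hc := by rw [h]; trivial
      rw [(mem_charKer hc g).mp this, irr_one_eq_charDegree hχ]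
    have ho := irr_orthogonality hχ hχ
    rw [if_pos rfl] at ho
    unfold classInner at ho
    have hcard : (Nat.card G : ℂ) ≠ 0 := by exact_mod_cast (Nat.card_pos (α := G)).ne'
    have h1 : ∑ g : G, χ g * conj (χ g) = (Nat.card G : ℂ) * ((charDegree χ : ℂ) * (charDegree χ : ℂ)) := by
      rw [Finset.sum_congr rfl (fun g _ => by rw [hall g, Complex.conj_natCast]),
        Finset.sum_const, Finset.card_univ, nsmul_eq_mul, Nat.card_eq_fintype_card]
    rw [h1, ← mul_assoc, inv_mul_cancel₀ hcard, one_mul] at ho
    have h2 : charDegree χ * charDegree χ = 1 := by exact_mod_cast ho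
    nlinarith

variable [Fintype (IrrCharacter G)]

/-- the class multiplication relation for an involution inverting a self-centralizing element of
odd prime order, and its vanishing for the other classes of involutions -/
theorem class_count (P : Subgroup G) {p : ℕ} (hp : p.Prime) (hp2 : p ≠ 2)
    (hcard : Nat.card P = p) (hcent : Subgroup.centralizer (P : Set G) ≤ P) {x t : G}
    (hx : x ∈ P) (hx1 : x ≠ 1) (ht : t * t = 1) (hinv : t * x * t⁻¹ = x⁻¹) :
    ((p : ℂ) * (Nat.card (Subgroup.centralizer ({t} : Set G)) : ℂ) ^ 2 =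
      (Nat.card G : ℂ) *
        ∑ χ : IrrCharacter G, (χ : G → ℂ) t ^ 2 * conj ((χ : G → ℂ) x) / (χ : G → ℂ) 1) ∧
    ∀ s : G, s * s = 1 → ¬ IsConj s t →
      ∑ χ : IrrCharacter G, (χ : G → ℂ) s ^ 2 * conj ((χ : G → ℂ) x) / (χ : G → ℂ) 1 = 0 := by
  have hxp : x ^ p = 1 := by
    have h1 : (⟨x, hx⟩ : P) ^ Nat.card P = 1 := pow_card_eq_one'
    rw [hcard] at h1
    have := congrArg Subtype.val h1
    simpa using this
  haveI : Fact p.Prime := ⟨hp⟩
  have hox : orderOf x = p := orderOf_eq_prime hxp hx1
  have hC : ∀ g : G, g * x = x * g → g ∈ Subgroup.zpowers x := by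
    intro g hg
    have hgc : g ∈ Subgroup.centralizer ({x} : Set G) := by
      rw [Subgroup.mem_centralizer_iff]
      intro z hz
      rw [Set.mem_singleton_iff] at hz
      rw [hz]
      exact hg.symm
    have hgP : g ∈ P := centralizer_singleton_le P hp hcard hcent x hx hx1 hgc
    obtain ⟨n, hn⟩ := exists_pow P hp hcard hx hx1 hgP
    rw [hn]
    exact Subgroup.pow_mem _ (Subgroup.mem_zpowers x) n
  have hcx : Nat.card (Subgroup.centralizer ({x} : Set G)) = p := by
    have : Subgroup.centralizer ({x} : Set G) = P := by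
      apply le_antisymm (centralizer_singleton_le P hp hcard hcent x hx hx1)
      intro g hg
      rw [Subgroup.mem_centralizer_iff]
      intro z hz
      rw [Set.mem_singleton_iff] at hz
      rw [hz]
      exact comm_of_prime P hp hcard x hx g hg
    rw [this, hcard]
  constructor
  · have h := ClassRel.class_rel t x
    rw [hcx, Cfsg.Agent.Helper20.InvCount.card_isConj_mul hp hp2 hox hC ht hinv] at h
    rw [← h]
    push_cast
    ring
  · intro s hs hnc
    have h := ClassRel.class_rel s x
    have hempty : Nat.card {y : G // IsConj (s * (y * s * y⁻¹)) x} = 0 := by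
      haveI : IsEmpty {y : G // IsConj (s * (y * s * y⁻¹)) x} := by
        constructor
        intro y
        exact hnc (Cfsg.Agent.Helper20.InvCount.isConj_of_isConj_mul hp hp2 hox hC ht hinv hs y.2)
      exact Nat.card_of_isEmpty
    rw [hempty] at h
    have hcard0 : (Nat.card G : ℂ) ≠ 0 := by exact_mod_cast (Nat.card_pos (α := G)).ne'
    have h0 : (Nat.card G : ℂ) *
        ∑ χ : IrrCharacter G, (χ : G → ℂ) s ^ 2 * conj ((χ : G → ℂ) x) / (χ : G → ℂ) 1 = 0 := by
      rw [← h]; simp
    rcases mul_eq_zero.mp h0 with h' | h'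
    · exact absurd h' hcard0
    · exact h'

end Rel

end Cfsg.Agent.Helper8.InvTI
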