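import Mathlib
import Cfsg.Agent.Lib.Helper8.InvTI2

/-!
# Self-centralizing Sylow subgroups of prime order with normalizer of index two in simple groups:
the centralizer of an involution (helper8)
-/

set_option autoImplicit false
set_option linter.unusedVariables false
set_option linter.unusedSectionVars false
set_option linter.style.haveILetI false

namespace Cfsg.Agent.Helper8.InvTI

open Cfsg Cfsg.Agent.Helper24 Cfsg.Agent.Helper5 Cfsg.Agent.Helper8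
open Cfsg.Agent.Helper5.PrimeTI
open scoped ComplexConjugate

universe u

set_option maxHeartbeats 1600000 in
theorem e2_main {G : Type u} [Group G] [Fintype G] [IsSimpleGroup G] [Fintype (IrrCharacter G)]
    (hG : ∃ x y : G, x * y ≠ y * x) (P : Subgroup G) {p t : ℕ} (hp : p.Prime)
    (hcard : Nat.card P = p) (hcent : Subgroup.centralizer (P : Set G) ≤ P)
    (hidx : (P.subgroupOf (Subgroup.normalizer (P : Set G))).index = 2)
    (het : 2 * t + 1 = p) (ht : 2 ≤ t) :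
    ∃ (n d : ℕ) (a₀ ε : ℤ), (a₀ = 1 ∨ a₀ = -1) ∧ (ε = 1 ∨ ε = -1) ∧ 2 ≤ n ∧
      n ∣ Nat.card G ∧ d ∣ Nat.card G ∧ 0 < d ∧
      ((n : ℤ) ≡ a₀ [ZMOD p]) ∧ ((d : ℤ) ≡ 2 * ε [ZMOD p]) ∧ 1 + (n : ℤ) * a₀ = d * ε ∧
      ∃ (τ : G) (j : ℕ), τ * τ = 1 ∧ τ ≠ 1 ∧ j ≤ n ∧
        ((p : ℤ) * n * d) * (Nat.card (Subgroup.centralizer ({τ} : Set G)) : ℤ) ^ 2 =
          (Nat.card G : ℤ) * (a₀ * ε * 4 * (j : ℤ) ^ 2) ∧
        ∀ s : G, s * s = 1 → s ≠ 1 → IsConj s τ := by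
  classical
  have hperf := commutator_eq_top_of_simple (G := G) hG
  have hp2 : p ≠ 2 := by omega
  obtain ⟨X, d, a₀, ε, ha₀, hε, hXne, hdd, hdpos, hnmod, hdmod, hrel, hSig⟩ :=
    TI2.e2_data P hp hcard hcent hidx het ht hperf
  set n := charDegree (X : G → ℂ) with hn
  have hnpos : 0 < n := charDegree_pos X.2
  have hn2 : 2 ≤ n := by
    by_contra hcon
    have h1 : n = 1 := by omega
    exact hXne (linear_trivial hperf X.2 h1)
  have hN2 : 2 ∣ Nat.card (Subgroup.normalizer (P : Set G)) := by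
    have := Subgroup.card_mul_index (P.subgroupOf (Subgroup.normalizer (P : Set G)))
    rw [hidx] at this
    exact ⟨_, by rw [← this, mul_comm]⟩
  obtain ⟨τ, hττ, hτ1, hτinv⟩ := exists_inverting_involution P hp hp2 hcard hcent hN2
  obtain ⟨x, hxP, hx1⟩ : ∃ x ∈ P, x ≠ 1 := by
    have h1 : 1 < Nat.card P := by rw [hcard]; exact hp.one_lt
    haveI : Nontrivial P := Finite.one_lt_card_iff_nontrivial.mp h1
    obtain ⟨y, hy⟩ := exists_ne (1 : P)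
    exact ⟨y.1, y.2, fun h => hy (Subtype.ext h)⟩
  obtain ⟨hcount, hzero⟩ := class_count P hp hp2 hcard hcent hxP hx1 hττ (hτinv x hxP)
  -- the algebra
  have hN0 : (n : ℂ) ≠ 0 := by exact_mod_cast hnpos.ne'
  have hD0 : (d : ℂ) ≠ 0 := by exact_mod_cast hdpos.ne'
  have hA : (a₀ : ℂ) * a₀ = 1 := by
    rcases ha₀ with h | h <;> rw [h] <;> norm_num
  have hE : (ε : ℂ) * ε = 1 := by
    rcases hε with h | h <;> rw [h] <;> norm_num
  have hrelC : (1 : ℂ) + (n : ℂ) * a₀ = d * ε := by exact_mod_cast hrel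
  have hD : (d : ℂ) = ε * (1 + (n : ℂ) * a₀) := by
    linear_combination (-(ε : ℂ)) * hrelC + (-(d : ℂ)) * hE
  have key : ∀ J : ℂ, (n : ℂ) * d * (1 + a₀ * ((n : ℂ) - 2 * J) ^ 2 / (n : ℂ) -
      ε * (1 + a₀ * ((n : ℂ) - 2 * J)) ^ 2 / (d : ℂ)) = a₀ * ε * 4 * J ^ 2 := by
    intro J
    have h1 : (n : ℂ) * d * (1 + a₀ * ((n : ℂ) - 2 * J) ^ 2 / (n : ℂ) -
        ε * (1 + a₀ * ((n : ℂ) - 2 * J)) ^ 2 / (d : ℂ)) =
        (n : ℂ) * d + a₀ * d * ((n : ℂ) - 2 * J) ^ 2 -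
          ε * n * (1 + a₀ * ((n : ℂ) - 2 * J)) ^ 2 := by
      field_simp
    rw [h1, hD]
    ring
  have hsinv : ∀ s : G, s * s = 1 → ∃ j : ℕ, j ≤ n ∧
      (n : ℂ) * d * (∑ χ : IrrCharacter G,
        (χ : G → ℂ) s ^ 2 * conj ((χ : G → ℂ) x) / (χ : G → ℂ) 1) = a₀ * ε * 4 * (j : ℂ) ^ 2 ∧
      (X : G → ℂ) s = (n : ℂ) - 2 * (j : ℂ) := by
    intro s hs
    obtain ⟨j, hj, hXs⟩ := char_involution (isCharacter_of_isIrrCharacter X.2) hs
    refine ⟨j, hj, ?_, hXs⟩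
    rw [hSig s (no_conj_of_involution P hp hp2 hcard hs) x hxP hx1, hXs]
    exact key j
  refine ⟨n, d, a₀, ε, ha₀, hε, hn2, charDegree_dvd_card X.2, hdd, hdpos, hnmod, hdmod, hrel, ?_⟩
  obtain ⟨j, hj, hjeq, -⟩ := hsinv τ hττ
  refine ⟨τ, j, hττ, hτ1, hj, ?_, ?_⟩
  · have h1 : ((p : ℂ) * n * d) * (Nat.card (Subgroup.centralizer ({τ} : Set G)) : ℂ) ^ 2 =
        (Nat.card G : ℂ) * (a₀ * ε * 4 * (j : ℂ) ^ 2) := by
      rw [← hjeq]
      linear_combination ((n : ℂ) * d) * hcount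
    exact_mod_cast h1
  · intro s hs hs1
    by_contra hnc
    obtain ⟨j', hj', hj'eq, hXs⟩ := hsinv s hs
    rw [hzero s hs hnc, mul_zero] at hj'eq
    have hA0 : (a₀ : ℂ) ≠ 0 := by
      intro h; rw [h] at hA; norm_num at hA
    have hE0 : (ε : ℂ) ≠ 0 := by
      intro h; rw [h] at hE; norm_num at hE
    have hj0 : (j' : ℂ) = 0 := by
      have : (a₀ : ℂ) * ε * 4 * (j' : ℂ) ^ 2 = 0 := hj'eq.symm
      have h4 : (a₀ : ℂ) * ε * 4 ≠ 0 := mul_ne_zero (mul_ne_zero hA0 hE0) (by norm_num)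
      rcases mul_eq_zero.mp this with h | h
      · exact absurd h h4
      · exact pow_eq_zero_iff (by norm_num) |>.mp h
    rw [hj0, mul_zero, sub_zero, ← irr_one_eq_charDegree X.2] at hXs
    exact hs1 (eq_one_of_char_eq X.2 hn2 hXs)

end Cfsg.Agent.Helper8.InvTI
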