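import Mathlib

/-!
# An involution in the centre of a Sylow 2-subgroup (helper8)
-/

set_option autoImplicit false

namespace Cfsg.Agent.Helper8.InvTI

theorem exists_central_involution {G : Type*} [Group G] [Finite G] (h2 : 2 ∣ Nat.card G)
    (S : Sylow 2 G) :
    ∃ z : G, z * z = 1 ∧ z ≠ 1 ∧ (S : Subgroup G) ≤ Subgroup.centralizer ({z} : Set G) := by
  haveI : Fact (Nat.Prime 2) := ⟨Nat.prime_two⟩
  have hne : (S : Subgroup G) ≠ ⊥ := S.ne_bot_of_dvd_card h2
  haveI : Nontrivial (S : Subgroup G) := (Subgroup.nontrivial_iff_ne_bot _).mpr hne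
  have hpg : IsPGroup 2 (S : Subgroup G) := S.isPGroup'
  haveI : Nontrivial (Subgroup.center (S : Subgroup G)) := hpg.center_nontrivial
  have hpc : IsPGroup 2 (Subgroup.center (S : Subgroup G)) := hpg.to_subgroup _
  have hdvd : 2 ∣ Nat.card (Subgroup.center (S : Subgroup G)) := by
    rcases hpc.card_eq_or_dvd with h | h
    · exfalso
      have : 1 < Nat.card (Subgroup.center (S : Subgroup G)) := Finite.one_lt_card
      omega
    · exact h
  obtain ⟨u, hu⟩ := exists_prime_orderOf_dvd_card' 2 hdvd
  have hu2 : u ^ 2 = 1 := by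
    have := pow_orderOf_eq_one u
    rwa [hu] at this
  have hu1 : u ≠ 1 := by
    intro h
    rw [h, orderOf_one] at hu
    omega
  refine ⟨((u : (S : Subgroup G)) : G), ?_, ?_, ?_⟩
  · have := congrArg (fun w : Subgroup.center (S : Subgroup G) => ((w : (S : Subgroup G)) : G)) hu2
    simpa [pow_two] using this
  · intro h
    apply hu1
    apply Subtype.ext
    apply Subtype.ext
    simpa using h
  · intro s hs
    rw [Subgroup.mem_centralizer_iff]
    intro y hy
    rw [Set.mem_singleton_iff] at hy
    rw [hy]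
    have hc := Subgroup.mem_center_iff.mp u.2 ⟨s, hs⟩
    have := congrArg Subtype.val hc
    simpa using this.symm

end Cfsg.Agent.Helper8.InvTI
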