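import Mathlib
import Cfsg.Agent.Lib.Helper8.TI2b

/-!
# Self-centralizing subgroups of prime order with normalizer of index two: the full digest (helper8)

Like `e2_data`, but also exports the set of exceptional characters, their values at the elements
having no conjugate in `P ∖ 1`, and the divisibility by `p` of the remaining degrees.
-/

set_option autoImplicit false
set_option linter.unusedVariables false
set_option linter.unusedSectionVars false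
set_option linter.style.haveILetI false

namespace Cfsg.Agent.Helper8.TI2

open Cfsg Cfsg.Agent.Helper24 Cfsg.Agent.Helper5 Cfsg.Agent.Helper8 Cfsg.Agent.Helper18
open Cfsg.Agent.Helper5.PrimeTI
open scoped ComplexConjugate

universe u

set_option maxHeartbeats 1600000 in
theorem e2_full {G : Type u} [Group G] [Fintype G] [Fintype (IrrCharacter G)] (P : Subgroup G)
    {p t : ℕ} (hp : p.Prime) (hcard : Nat.card P = p)
    (hcent : Subgroup.centralizer (P : Set G) ≤ P)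
    (hidx : (P.subgroupOf (Subgroup.normalizer (P : Set G))).index = 2)
    (het : 2 * t + 1 = p) (ht : 2 ≤ t) (hperf : commutator G = ⊤) :
    ∃ (E : Finset (IrrCharacter G)) (X : IrrCharacter G) (d : ℕ) (a₀ ε : ℤ),
      (a₀ = 1 ∨ a₀ = -1) ∧ (ε = 1 ∨ ε = -1) ∧
      (X : G → ℂ) ≠ (fun _ => 1) ∧ d ∣ Nat.card G ∧ 0 < d ∧
      ((charDegree (X : G → ℂ) : ℤ) ≡ a₀ [ZMOD p]) ∧ ((d : ℤ) ≡ 2 * ε [ZMOD p]) ∧
      1 + (charDegree (X : G → ℂ) : ℤ) * a₀ = d * ε ∧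
      E.card = t ∧ X ∉ E ∧ (∀ ψ ∈ E, (ψ : G → ℂ) ≠ fun _ => 1) ∧
      (∀ ψ ∈ E, charDegree (ψ : G → ℂ) = d) ∧
      (∀ ψ ∈ E, ∀ s : G, (∀ x : G, x⁻¹ * s * x ∈ P → x⁻¹ * s * x = 1) →
        (ψ : G → ℂ) s = ε * (1 + a₀ * (X : G → ℂ) s)) ∧
      (∀ ψ ∉ E, ψ ≠ X → (ψ : G → ℂ) ≠ (fun _ => 1) →
        (p : ℤ) ∣ (charDegree (ψ : G → ℂ) : ℤ)) ∧
      ∀ s : G, (∀ x : G, x⁻¹ * s * x ∈ P → x⁻¹ * s * x = 1) → ∀ k ∈ P, k ≠ 1 →
        ∑ χ : IrrCharacter G, (χ : G → ℂ) s ^ 2 * conj ((χ : G → ℂ) k) / (χ : G → ℂ) 1 =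
          1 + a₀ * (X : G → ℂ) s ^ 2 / (charDegree (X : G → ℂ) : ℂ) -
            ε * (1 + a₀ * (X : G → ℂ) s) ^ 2 / (d : ℂ) := by
  classical
  obtain ⟨E, ε, c, d, a, hε, hEcard, hEdeg, hdmod, haE, hval, hmod, hsum2, hsum1, hEone, hEq⟩ :=
    main2 P hp hcard hcent hidx (le_refl 2) het ht
  simp only [Nat.cast_ofNat] at hsum2 hdmod
  -- the principal character
  set τ : IrrCharacter G := ⟨fun _ => 1, isIrrCharacter_one⟩ with hτ
  have hτE : τ ∉ E := fun h => hEone τ h rfl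
  obtain ⟨k₀, hk₀, hk₀1⟩ : ∃ k₀ ∈ P, k₀ ≠ 1 := by
    have h1 : 1 < Nat.card P := by rw [hcard]; exact hp.one_lt
    haveI : Nontrivial P := Finite.one_lt_card_iff_nontrivial.mp h1
    obtain ⟨y, hy⟩ := exists_ne (1 : P)
    exact ⟨y.1, y.2, fun h => hy (Subtype.ext h)⟩
  have haτ : a τ = 1 := by
    have := hval τ hτE k₀ hk₀ hk₀1
    have h1 : ((1 : ℤ) : ℂ) = (a τ : ℂ) := by
      rw [← this]; simp [hτ]
    exact (Int.cast_injective h1).symm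
  have hge : 1 ≤ ∑ ψ : IrrCharacter G, a ψ ^ 2 := by
    have := Finset.single_le_sum (f := fun ψ : IrrCharacter G => a ψ ^ 2)
      (fun ψ _ => sq_nonneg (a ψ)) (Finset.mem_univ τ)
    simp only [haτ] at this
    linarith
  have ht' : (2 : ℤ) ≤ (t : ℤ) := by exact_mod_cast ht
  have hge' : 1 ≤ 2 + 2 * ε * c - (t : ℤ) * c ^ 2 := by rw [← hsum2]; exact hge
  have hcc := c_cases hε ht' hge'
  have hdegτ : charDegree (τ : G → ℂ) = 1 := charDegree_one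
  have hsplit2 := Finset.add_sum_erase Finset.univ (fun ψ : IrrCharacter G => a ψ ^ 2)
    (Finset.mem_univ τ)
  simp only [haτ] at hsplit2
  have hsplit1 := Finset.add_sum_erase Finset.univ
    (fun ψ : IrrCharacter G => (charDegree (ψ : G → ℂ) : ℤ) * a ψ) (Finset.mem_univ τ)
  simp only [haτ, hdegτ] at hsplit1
  -- the exceptional degree
  have hEne : E.Nonempty := by
    rw [← Finset.card_pos, hEcard]; omega
  obtain ⟨ψ₁, hψ₁⟩ := hEne
  have hdd : d ∣ Nat.card G := by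
    rw [← hEdeg ψ₁ hψ₁]
    exact charDegree_dvd_card ψ₁.2
  have hdpos : 0 < d := by
    rw [← hEdeg ψ₁ hψ₁]
    exact charDegree_pos ψ₁.2
  -- the new sign
  obtain ⟨ε', hε', hε'eq, hsq⟩ : ∃ ε' : ℤ, (ε' = 1 ∨ ε' = -1) ∧ ε' = ε - t * c ∧
      ∑ ψ : IrrCharacter G, a ψ ^ 2 = 2 := by
    rcases hcc with rfl | ⟨rfl, ht23⟩
    · refine ⟨ε, hε, by ring, ?_⟩
      rw [hsum2]; ring
    · rcases ht23 with h2 | h3
      · refine ⟨-c, ?_, ?_, ?_⟩
        · rcases hε with h | h <;> rw [h] <;> simp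
        · rw [h2]; ring
        · rw [hsum2, h2]
          rcases hε with h | h <;> rw [h] <;> norm_num
      · exfalso
        have hs : ∑ ψ : IrrCharacter G, a ψ ^ 2 = 1 := by
          rw [hsum2, h3]
          rcases hε with h | h <;> rw [h] <;> norm_num
        have hz : ∑ ψ ∈ Finset.univ.erase τ, a ψ ^ 2 = 0 := by
          rw [hs] at hsplit2; push_cast at hsplit2; linarith
        have hall : ∀ ψ ∈ Finset.univ.erase τ, a ψ = 0 := by
          intro ψ hψ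
          have := (Finset.sum_eq_zero_iff_of_nonneg (fun i _ => sq_nonneg (a i))).mp hz ψ hψ
          exact pow_eq_zero_iff (by norm_num) |>.mp this
        have hz1 : ∑ ψ ∈ Finset.univ.erase τ, (charDegree (ψ : G → ℂ) : ℤ) * a ψ = 0 :=
          Finset.sum_eq_zero fun ψ hψ => by rw [hall ψ hψ, mul_zero]
        rw [hz1, hsum1, h3] at hsplit1
        push_cast at hsplit1
        have hd1 : (1 : ℤ) ≤ d := by exact_mod_cast hdpos
        rcases hε with h | h <;> rw [h] at hsplit1 <;> nlinarith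
  have hsum2' : ∑ ψ ∈ Finset.univ.erase τ, a ψ ^ 2 = 1 := by
    rw [hsq] at hsplit2; push_cast at hsplit2; linarith
  obtain ⟨ψ₀, hψ₀, ha₀, hrest⟩ := exists_of_sum_sq_eq_one a _ hsum2'
  have hψ₀τ : ψ₀ ≠ τ := Finset.ne_of_mem_erase hψ₀
  have hψ₀E : ψ₀ ∉ E := by
    intro h
    have := haE ψ₀ h
    rcases ha₀ with h' | h' <;> omega
  have hsum1' : 1 + (charDegree (ψ₀ : G → ℂ) : ℤ) * a ψ₀ = d * ε' := by
    have h2 := Finset.add_sum_erase (Finset.univ.erase τ)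
      (fun ψ : IrrCharacter G => (charDegree (ψ : G → ℂ) : ℤ) * a ψ) hψ₀
    have h3 : ∑ ψ ∈ (Finset.univ.erase τ).erase ψ₀, (charDegree (ψ : G → ℂ) : ℤ) * a ψ = 0 := by
      apply Finset.sum_eq_zero
      intro ψ hψ
      rw [hrest ψ (Finset.mem_of_mem_erase hψ) (Finset.ne_of_mem_erase hψ), mul_zero]
    rw [hsum1, ← h2, h3] at hsplit1
    rw [hε'eq]
    push_cast at hsplit1 ⊢
    linarith
  have hψ₀ne : (ψ₀ : G → ℂ) ≠ fun _ => 1 := by
    intro h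
    apply hψ₀τ
    exact Subtype.ext h
  -- the congruence for `d`
  have hdmod' : (d : ℤ) ≡ 2 * ε' [ZMOD p] := by
    rcases hcc with rfl | ⟨rfl, ht23⟩
    · have : ε' = ε := by rw [hε'eq]; ring
      rw [this]
      have h2 : ε * 2 + 0 = 2 * ε := by ring
      rw [← h2]
      exact hdmod
    · rcases ht23 with h2 | h3
      · have hp5 : (p : ℤ) = 5 := by
          have : p = 5 := by
            have : t = 2 := by exact_mod_cast h2
            omega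
          exact_mod_cast this
        have he' : ε' = -c := by rw [hε'eq, h2]; ring
        rw [he', hp5]
        rw [hp5] at hdmod
        have h3 : c * 2 + c = 2 * -c + 5 * c := by ring
        rw [h3] at hdmod
        exact hdmod.trans (by
          rw [Int.modEq_iff_dvd]
          exact ⟨-c, by ring⟩)
      · exfalso
        have hs : ∑ ψ : IrrCharacter G, a ψ ^ 2 = 1 := by
          rw [hsum2, h3]
          rcases hε with h | h <;> rw [h] <;> norm_num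
        omega
  have hcore : ∀ s : G, (∀ x : G, x⁻¹ * s * x ∈ P → x⁻¹ * s * x = 1) → ∀ k ∈ P, k ≠ 1 →
      (∑ ψ ∈ E, conj ((ψ : G → ℂ) k) = -(ε' : ℂ)) ∧
      (∀ ψ ∈ E, (ψ : G → ℂ) s = ε' * (1 + a ψ₀ * (ψ₀ : G → ℂ) s)) := by
    intro s hs k hk hk1
    have hd0 : (d : ℂ) ≠ 0 := by exact_mod_cast hdpos.ne'
    have hε'sq : (ε' : ℂ) * ε' = 1 := by
      rcases hε' with h | h <;> rw [h] <;> norm_num
    have ha₀sq : (a ψ₀ : ℂ) * a ψ₀ = 1 := by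
      rcases ha₀ with h | h <;> rw [h] <;> norm_num
    set n : ℕ := charDegree (ψ₀ : G → ℂ) with hn
    have hn0 : (n : ℂ) ≠ 0 := by
      have := charDegree_pos ψ₀.2
      exact_mod_cast this.ne'
    have hX1 : (ψ₀ : G → ℂ) 1 = n := irr_one_eq_charDegree ψ₀.2
    -- values on `P ∖ 1` of the characters outside `E`
    have hvalk : ∀ ψ ∉ E, (ψ : G → ℂ) k = a ψ := fun ψ hψ => hval ψ hψ k hk hk1
    have hzero : ∀ ψ ∈ Eᶜ, ψ ≠ τ ∧ ψ ≠ ψ₀ → (a ψ : ℂ) = 0 := by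
      intro ψ hψ hne
      have : a ψ = 0 := hrest ψ (Finset.mem_erase.mpr ⟨hne.1, Finset.mem_univ ψ⟩) hne.2
      rw [this]; simp
    have hτc : τ ∈ Eᶜ := Finset.mem_compl.mpr hτE
    have hψ₀c : ψ₀ ∈ Eᶜ := Finset.mem_compl.mpr hψ₀E
    have hcompl : ∀ g : IrrCharacter G → ℂ, ∑ ψ ∈ Eᶜ, g ψ * (a ψ : ℂ) = g τ + g ψ₀ * (a ψ₀ : ℂ) := by
      intro g
      rw [Finset.sum_eq_add_of_mem τ ψ₀ hτc hψ₀c hψ₀τ.symm]
      · rw [haτ]; simp
      · intro ψ hψ hne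
        rw [hzero ψ hψ hne, mul_zero]
    -- the exceptional characters at `s`
    set L : ℂ := (ψ₁ : G → ℂ) s with hL
    have hLall : ∀ ψ ∈ E, (ψ : G → ℂ) s = L := fun ψ hψ => hEq ψ hψ ψ₁ hψ₁ s hs
    have hdeg1 : ∀ ψ ∈ E, (ψ : G → ℂ) 1 = d := by
      intro ψ hψ
      rw [irr_one_eq_charDegree ψ.2, hEdeg ψ hψ]
    -- first relation
    have hA := FrobKer.sum_deg_mul (X := G) hk1
    rw [← Finset.sum_add_sum_compl E] at hA
    have hA2 : ∑ ψ ∈ Eᶜ, (ψ : G → ℂ) 1 * (ψ : G → ℂ) k = 1 + (n : ℂ) * a ψ₀ := by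
      rw [Finset.sum_congr rfl (fun ψ hψ => by rw [hvalk ψ (Finset.mem_compl.mp hψ)]),
        hcompl (fun ψ => (ψ : G → ℂ) 1), hX1]
      try simp [hτ]
    have hA1 : ∑ ψ ∈ E, (ψ : G → ℂ) 1 * (ψ : G → ℂ) k = (d : ℂ) * ∑ ψ ∈ E, (ψ : G → ℂ) k := by
      rw [Finset.mul_sum]
      exact Finset.sum_congr rfl fun ψ hψ => by rw [hdeg1 ψ hψ]
    have hrel : (1 : ℂ) + (n : ℂ) * a ψ₀ = d * ε' := by exact_mod_cast hsum1'
    have hσ : ∑ ψ ∈ E, (ψ : G → ℂ) k = -(ε' : ℂ) := by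
      rw [hA1, hA2, hrel] at hA
      have : (d : ℂ) * (∑ ψ ∈ E, (ψ : G → ℂ) k + ε') = 0 := by linear_combination hA
      rcases mul_eq_zero.mp this with h | h
      · exact absurd h hd0
      · linear_combination h
    have hσc : ∑ ψ ∈ E, conj ((ψ : G → ℂ) k) = -(ε' : ℂ) := by
      rw [← map_sum, hσ]; simp
    -- second relation
    have hnc : ¬ IsConj k s := by
      intro hc
      obtain ⟨c', hc'⟩ := isConj_iff.mp hc
      have h1 : c'⁻¹ * s * c' = k := by rw [← hc']; group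
      have := hs c' (by rw [h1]; exact hk)
      rw [h1] at this
      exact hk1 this
    have hB := second_orthogonality' s k
    rw [if_neg hnc, ← Finset.sum_add_sum_compl E] at hB
    have hB2 : ∑ ψ ∈ Eᶜ, (ψ : G → ℂ) s * conj ((ψ : G → ℂ) k) =
        1 + (ψ₀ : G → ℂ) s * a ψ₀ := by
      rw [Finset.sum_congr rfl (fun ψ hψ => by
        rw [hvalk ψ (Finset.mem_compl.mp hψ), map_intCast]),
        hcompl (fun ψ => (ψ : G → ℂ) s)]
      try simp [hτ]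
    have hB1 : ∑ ψ ∈ E, (ψ : G → ℂ) s * conj ((ψ : G → ℂ) k) = L * -(ε' : ℂ) := by
      rw [← hσc, Finset.mul_sum]
      exact Finset.sum_congr rfl fun ψ hψ => by rw [hLall ψ hψ]
    rw [hB1, hB2] at hB
    have hLval : L = ε' * (1 + a ψ₀ * (ψ₀ : G → ℂ) s) := by
      have h1 : L * ε' = 1 + (ψ₀ : G → ℂ) s * a ψ₀ := by linear_combination (-1 : ℂ) * hB
      calc L = L * (ε' * ε') := by rw [hε'sq, mul_one]
        _ = (L * ε') * ε' := by ring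
        _ = ε' * (1 + a ψ₀ * (ψ₀ : G → ℂ) s) := by rw [h1]; ring
    exact ⟨hσc, fun ψ hψ => (hLall ψ hψ).trans hLval⟩
  refine ⟨E, ψ₀, d, a ψ₀, ε', ha₀, hε', hψ₀ne, hdd, hdpos, hmod ψ₀ hψ₀E, hdmod', hsum1', hEcard,
    hψ₀E, hEone, hEdeg, ?_, ?_, ?_⟩
  · intro ψ hψ s hs
    exact (hcore s hs k₀ hk₀ hk₀1).2 ψ hψ
  · intro ψ hψE hψX hψ1
    have hψτ : ψ ≠ τ := fun h => hψ1 (by rw [h])
    have h0 : a ψ = 0 := hrest ψ (Finset.mem_erase.mpr ⟨hψτ, Finset.mem_univ ψ⟩) hψX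
    have := hmod ψ hψE
    rw [h0] at this
    exact (Int.modEq_zero_iff_dvd).mp this
  intro s hs k hk hk1
  obtain ⟨hσc, hEval⟩ := hcore s hs k hk hk1
  have hd0 : (d : ℂ) ≠ 0 := by exact_mod_cast hdpos.ne'
  have hε'sq : (ε' : ℂ) * ε' = 1 := by
    rcases hε' with h | h <;> rw [h] <;> norm_num
  set n : ℕ := charDegree (ψ₀ : G → ℂ) with hn
  have hX1 : (ψ₀ : G → ℂ) 1 = n := irr_one_eq_charDegree ψ₀.2
  have hvalk : ∀ ψ ∉ E, (ψ : G → ℂ) k = a ψ := fun ψ hψ => hval ψ hψ k hk hk1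
  have hzero : ∀ ψ ∈ Eᶜ, ψ ≠ τ ∧ ψ ≠ ψ₀ → (a ψ : ℂ) = 0 := by
    intro ψ hψ hne
    have : a ψ = 0 := hrest ψ (Finset.mem_erase.mpr ⟨hne.1, Finset.mem_univ ψ⟩) hne.2
    rw [this]; simp
  have hτc : τ ∈ Eᶜ := Finset.mem_compl.mpr hτE
  have hψ₀c : ψ₀ ∈ Eᶜ := Finset.mem_compl.mpr hψ₀E
  have hcompl : ∀ g : IrrCharacter G → ℂ, ∑ ψ ∈ Eᶜ, g ψ * (a ψ : ℂ) = g τ + g ψ₀ * (a ψ₀ : ℂ) := by
    intro g
    rw [Finset.sum_eq_add_of_mem τ ψ₀ hτc hψ₀c hψ₀τ.symm]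
    · rw [haτ]; simp
    · intro ψ hψ hne
      rw [hzero ψ hψ hne, mul_zero]
  set L : ℂ := ε' * (1 + a ψ₀ * (ψ₀ : G → ℂ) s) with hLval
  have hLall : ∀ ψ ∈ E, (ψ : G → ℂ) s = L := hEval
  have hdeg1 : ∀ ψ ∈ E, (ψ : G → ℂ) 1 = d := by
    intro ψ hψ
    rw [irr_one_eq_charDegree ψ.2, hEdeg ψ hψ]
  -- the class multiplication sum
  rw [← Finset.sum_add_sum_compl E]
  have hC2 : ∑ ψ ∈ Eᶜ, (ψ : G → ℂ) s ^ 2 * conj ((ψ : G → ℂ) k) / (ψ : G → ℂ) 1 =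
      1 + a ψ₀ * (ψ₀ : G → ℂ) s ^ 2 / (n : ℂ) := by
    rw [Finset.sum_congr rfl (fun ψ hψ => by
      rw [hvalk ψ (Finset.mem_compl.mp hψ), map_intCast, mul_div_right_comm]),
      hcompl (fun ψ => (ψ : G → ℂ) s ^ 2 / (ψ : G → ℂ) 1), hX1]
    simp [hτ]
    ring
  have hC1 : ∑ ψ ∈ E, (ψ : G → ℂ) s ^ 2 * conj ((ψ : G → ℂ) k) / (ψ : G → ℂ) 1 =
      L ^ 2 / d * -(ε' : ℂ) := by
    rw [← hσc, Finset.mul_sum]
    exact Finset.sum_congr rfl fun ψ hψ => by rw [hLall ψ hψ, hdeg1 ψ hψ]; ring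
  rw [hC1, hC2, hLval]
  have : ((ε' : ℂ) * (1 + a ψ₀ * (ψ₀ : G → ℂ) s)) ^ 2 = (1 + a ψ₀ * (ψ₀ : G → ℂ) s) ^ 2 := by
    rw [mul_pow, pow_two (ε' : ℂ), hε'sq, one_mul]
  rw [this]
  ring

end Cfsg.Agent.Helper8.TI2
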