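import Mathlib
import Cfsg.Agent.Lib.Helper8.KGVDefs
import Cfsg.Agent.Lib.Helper24.CharComplete
import Cfsg.Agent.Lib.Helper24.CharAbelian

/-!
# Knörr's criterion, piece C: a character on an abelian section is a `p`-combination (helper8)
-/

set_option autoImplicit false
set_option linter.unusedVariables false
set_option linter.style.haveILetI false

namespace Cfsg.Agent.Helper8.KGV

open Cfsg Cfsg.Agent.Helper24
open scoped ComplexConjugate

universe u

/-- `IsPComb` from an arbitrary finite index type. -/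
theorem isPComb_of_fintype (p : ℕ) {C : Type u} [Group C] {ι : Type*} [Fintype ι]
    (ω : ι → ℂ) (θ : ι → (C →* ℂˣ)) (hω : ∀ t, ω t ^ p = 1) {F : ℕ → C → ℂ}
    (hF : ∀ k c, F k c = ∑ t, ω t ^ k * ((θ t c : ℂˣ) : ℂ)) : IsPComb p C F := by
  refine ⟨Fintype.card ι, fun t => ω ((Fintype.equivFin ι).symm t),
    fun t => θ ((Fintype.equivFin ι).symm t), fun t => hω _, fun k c => ?_⟩
  rw [hF]
  exact (Equiv.sum_comp (Fintype.equivFin ι).symm
    (fun t => ω t ^ k * ((θ t c : ℂˣ) : ℂ))).symm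

/-- A character of a finite abelian group is a sum of linear characters. -/
theorem exists_linear_decomp {H : Type u} [Group H] [Finite H]
    (hcomm : ∀ a b : H, a * b = b * a) {φ : H → ℂ} (hφ : IsCharacter H φ) :
    ∃ (ι : Type u) (_ : Fintype ι) (Λ : ι → (H →* ℂˣ)),
      ∀ h : H, φ h = ∑ t, ((Λ t h : ℂˣ) : ℂ) := by
  classical
  letI : Fintype H := Fintype.ofFinite H
  letI := irrFintype (G := H)
  obtain ⟨hm, hdec⟩ := isCharacter_decomp hφ
  choose m hm using hm
  have h1 : ∀ χ : IrrCharacter H, (χ : H → ℂ) 1 = 1 := by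
    intro χ
    rw [irr_one_eq_charDegree χ.2, charDegree_eq_one_of_comm hcomm χ.2]
    simp
  refine ⟨Σ χ : IrrCharacter H, Fin (m χ), inferInstance,
    fun t => linHom (isCharacter_of_isIrrCharacter t.1.2) (h1 t.1), fun h => ?_⟩
  have h2 := congrFun hdec h
  rw [h2, Fintype.sum_sigma]
  simp only [Finset.sum_apply, Pi.smul_apply, smul_eq_mul, linHom_apply, Finset.sum_const,
    Finset.card_univ, Fintype.card_fin, nsmul_eq_mul]
  refine Finset.sum_congr rfl fun χ _ => ?_
  rw [hm χ]

/-- PIECE C. -/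
theorem isPComb_restrict {X : Type u} [Group X] [Finite X] (p : ℕ) [Fact p.Prime] {χ : X → ℂ}
    (hχ : IsCharacter X χ) (v : X) (hv : v ^ p = 1) (C : Subgroup X)
    (hCab : ∀ a ∈ C, ∀ b ∈ C, a * b = b * a) (hvC : ∀ c ∈ C, c * v = v * c) :
    IsPComb p ↥C (fun k c => χ (v ^ k * (c : X))) := by
  classical
  set S : Set X := insert v (C : Set X) with hS
  have hScomm : ∀ x ∈ S, ∀ y ∈ S, x * y = y * x := by
    intro x hx y hy
    rcases hx with rfl | hx <;> rcases hy with rfl | hy
    · rfl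
    · exact (hvC y hy).symm
    · exact hvC x hx
    · exact hCab x hx y hy
  set H : Subgroup X := Subgroup.closure S with hH
  have hHcomm : ∀ a b : H, a * b = b * a := by
    intro a b
    exact (Subgroup.isMulCommutative_closure hScomm).is_comm.comm a b
  have hvH : v ∈ H := Subgroup.subset_closure (Set.mem_insert _ _)
  have hCH : C ≤ H := fun c hc => Subgroup.subset_closure (Set.mem_insert_of_mem _ hc)
  obtain ⟨ι, hι, Λ, hΛ⟩ := exists_linear_decomp hHcomm (isCharacter_restrict H hχ)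
  refine isPComb_of_fintype p (fun t => ((Λ t ⟨v, hvH⟩ : ℂˣ) : ℂ))
    (fun t => (Λ t).comp (Subgroup.inclusion hCH)) (fun t => ?_) (fun k c => ?_)
  · rw [← Units.val_pow_eq_pow_val, ← map_pow]
    have : (⟨v, hvH⟩ : H) ^ p = 1 := Subtype.ext (by simpa using hv)
    rw [this, map_one, Units.val_one]
  · have h1 := hΛ ⟨v ^ k * (c : X), H.mul_mem (H.pow_mem hvH k) (hCH c.2)⟩
    simp only at h1
    rw [h1]
    refine Finset.sum_congr rfl fun t _ => ?_
    have h2 : (⟨v ^ k * (c : X), H.mul_mem (H.pow_mem hvH k) (hCH c.2)⟩ : H) =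
        (⟨v, hvH⟩ : H) ^ k * Subgroup.inclusion hCH c := Subtype.ext (by simp)
    rw [h2, map_mul, map_pow, Units.val_mul, Units.val_pow_eq_pow_val]
    rfl

end Cfsg.Agent.Helper8.KGV
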