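import Mathlib
import Cfsg.Agent.Lib.Helper8.KGVDefs

/-!
# Knörr's criterion, piece G: Parseval on `ℤ/p` for a multiset of `p`-th roots of unity (helper8)
-/

set_option autoImplicit false
set_option linter.unusedVariables false

namespace Cfsg.Agent.Helper8.KGV

open scoped ComplexConjugate

theorem geom_sum_root (p : ℕ) (η : ℂ) (hη : η ^ p = 1) :
    ∑ k ∈ Finset.range p, η ^ k = if η = 1 then (p : ℂ) else 0 := by
  split_ifs with h
  · subst h; simp
  · have h1 := geom_sum_mul η p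
    rw [hη, sub_self] at h1
    exact (mul_eq_zero.1 h1).resolve_right (sub_ne_zero.2 h)

/-- an integer inequality: `p ∑ c² - (∑ c)² ≥ p - 1` when `p ∤ ∑ c`, over an index set of size `p` -/
theorem int_var_bound {ι : Type*} (R : Finset ι) (p : ℕ) (hR : R.card = p) (hp : 2 ≤ p)
    (c : ι → ℤ) (hn : ¬ (p : ℤ) ∣ ∑ a ∈ R, c a) :
    (p : ℤ) - 1 ≤ (p : ℤ) * ∑ a ∈ R, c a ^ 2 - (∑ a ∈ R, c a) ^ 2 := by
  set n : ℤ := ∑ a ∈ R, c a with hn_def
  set m : ℤ := n / p with hm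
  set r : ℤ := n % p with hr
  have hp0 : (0 : ℤ) < p := by exact_mod_cast (by omega : 0 < p)
  have hnmr : n = p * m + r := by rw [hm, hr]; exact (Int.mul_ediv_add_emod n p).symm
  have hr0 : 0 ≤ r := Int.emod_nonneg _ hp0.ne'
  have hrp : r < p := Int.emod_lt_of_pos _ hp0
  have hr1 : 1 ≤ r := by
    rcases hr0.lt_or_eq with h | h
    · omega
    · exfalso
      apply hn
      rw [hnmr, ← h, add_zero]
      exact dvd_mul_right _ _
  -- y_a = c_a - m
  have hy : ∑ a ∈ R, (c a - m) = r := by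
    rw [Finset.sum_sub_distrib, Finset.sum_const, hR, nsmul_eq_mul, ← hn_def, hnmr]
    ring
  have hy2 : r ≤ ∑ a ∈ R, (c a - m) ^ 2 := by
    rw [← hy]
    apply Finset.sum_le_sum
    intro a _
    rcases le_or_gt (c a - m) 0 with h | h
    · nlinarith [sq_nonneg (c a - m)]
    · nlinarith
  have hexp : (p : ℤ) * ∑ a ∈ R, c a ^ 2 - n ^ 2 = p * ∑ a ∈ R, (c a - m) ^ 2 - r ^ 2 := by
    have h1 : ∑ a ∈ R, c a ^ 2 = ∑ a ∈ R, (c a - m) ^ 2 + 2 * m * n - p * m ^ 2 := by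
      have : ∀ a ∈ R, c a ^ 2 = (c a - m) ^ 2 + 2 * m * c a - m ^ 2 := by intro a _; ring
      rw [Finset.sum_congr rfl this, Finset.sum_sub_distrib, Finset.sum_add_distrib,
        ← Finset.mul_sum, Finset.sum_const, hR, nsmul_eq_mul]
    rw [h1]
    rw [hnmr]
    ring
  rw [hexp]
  nlinarith [mul_le_mul_of_nonneg_left hy2 hp0.le, mul_nonneg (sub_nonneg.2 hr1) (by linarith : (0:ℤ) ≤ p - 1 - r)]

/-- PIECE G. -/
theorem lemmaG (p : ℕ) [Fact p.Prime] {n : ℕ} (ω : Fin n → ℂ) (hω : ∀ t, ω t ^ p = 1)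
    (hn : ¬ p ∣ n) :
    ((p : ℝ) - 1) ≤ ∑ k ∈ Finset.Icc 1 (p - 1), ‖∑ t, ω t ^ k‖ ^ 2 := by
  classical
  have hp : p.Prime := Fact.out
  have hp0 : 0 < p := hp.pos
  have hnorm : ∀ t, ‖ω t‖ = 1 := fun t => Complex.norm_eq_one_of_pow_eq_one (hω t) hp.ne_zero
  have hconj : ∀ t, ω t * conj (ω t) = 1 := by
    intro t
    rw [Complex.mul_conj, Complex.normSq_eq_norm_sq, hnorm]
    simp
  -- the roots of unity
  set R : Finset ℂ := Polynomial.nthRootsFinset p (1 : ℂ) with hR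
  have hRcard : R.card = p :=
    (Complex.isPrimitiveRoot_exp p hp.ne_zero).card_nthRootsFinset
  have hmem : ∀ t, ω t ∈ R := fun t => (Polynomial.mem_nthRootsFinset hp0 1).2 (hω t)
  set c : ℂ → ℤ := fun a => ((Finset.univ.filter (fun t => ω t = a)).card : ℤ) with hc
  have hsumc : ∑ a ∈ R, c a = (n : ℤ) := by
    have h1 := Finset.card_eq_sum_card_fiberwise (s := (Finset.univ : Finset (Fin n)))
      (t := R) (f := ω) (fun t _ => hmem t)
    rw [Finset.card_univ, Fintype.card_fin] at h1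
    rw [hc]
    push_cast [h1]
    rfl
  -- the sum over all `k < p`
  have hkey : ∀ k : ℕ, ((‖∑ t, ω t ^ k‖ ^ 2 : ℝ) : ℂ) =
      ∑ t, ∑ t', (ω t * conj (ω t')) ^ k := by
    intro k
    rw [← Complex.normSq_eq_norm_sq, ← Complex.mul_conj, map_sum, Finset.sum_mul]
    refine Finset.sum_congr rfl fun t _ => ?_
    rw [Finset.mul_sum]
    refine Finset.sum_congr rfl fun t' _ => ?_
    rw [map_pow, mul_pow]
  have hone : ∀ t t', ω t * conj (ω t') = 1 ↔ ω t = ω t' := by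
    intro t t'
    constructor
    · intro h
      have := congrArg (· * ω t') h
      simp only [one_mul] at this
      rw [mul_assoc, mul_comm (conj (ω t')), hconj t', mul_one] at this
      exact this
    · intro h
      rw [h, hconj]
  have hpow : ∀ t t', (ω t * conj (ω t')) ^ p = 1 := by
    intro t t'
    rw [mul_pow, ← map_pow, hω, hω, map_one, mul_one]
  have htotal : ∑ k ∈ Finset.range p, ((‖∑ t, ω t ^ k‖ ^ 2 : ℝ) : ℂ) =
      (p : ℂ) * ((∑ a ∈ R, c a ^ 2 : ℤ) : ℂ) := by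
    rw [Finset.sum_congr rfl fun k _ => hkey k, Finset.sum_comm]
    rw [Finset.sum_congr rfl fun t _ => Finset.sum_comm]
    simp only [geom_sum_root p _ (hpow _ _), hone]
    -- now `∑ t, ∑ t', if ω t = ω t' then p else 0`
    have h2 : ∀ t : Fin n, (∑ t' : Fin n, if ω t = ω t' then (p : ℂ) else 0) =
        (p : ℂ) * ((c (ω t) : ℤ) : ℂ) := by
      intro t
      rw [← Finset.sum_filter, Finset.sum_const, nsmul_eq_mul, mul_comm, hc]
      simp only [Int.cast_natCast]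
      have : (Finset.univ.filter (fun t' => ω t = ω t')) =
          (Finset.univ.filter (fun t' => ω t' = ω t)) := by
        ext t'
        simp [eq_comm]
      rw [this]
    rw [Finset.sum_congr rfl fun t _ => h2 t, ← Finset.mul_sum]
    congr 1
    -- `∑ t, c (ω t) = ∑ a ∈ R, c a ^ 2`
    rw [← Finset.sum_fiberwise_of_maps_to (s := Finset.univ) (t := R) (g := ω)
      (fun t _ => hmem t)]
    push_cast
    refine Finset.sum_congr rfl fun a _ => ?_
    rw [Finset.sum_congr rfl (fun t ht => by rw [(Finset.mem_filter.1 ht).2])]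
    rw [Finset.sum_const, nsmul_eq_mul, sq, hc]
    simp
  -- split off `k = 0`
  have hsplit : ∑ k ∈ Finset.range p, (‖∑ t, ω t ^ k‖ ^ 2 : ℝ) =
      (n : ℝ) ^ 2 + ∑ k ∈ Finset.Icc 1 (p - 1), ‖∑ t, ω t ^ k‖ ^ 2 := by
    have h3 : Finset.range p = insert 0 (Finset.Icc 1 (p - 1)) := by
      ext k
      simp only [Finset.mem_range, Finset.mem_insert, Finset.mem_Icc]
      omega
    rw [h3, Finset.sum_insert (by simp)]
    congr 1
    simp
  have hint := int_var_bound R p hRcard hp.two_le c (by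
    rw [hsumc]
    exact_mod_cast hn)
  rw [hsumc] at hint
  have hreal : ∑ k ∈ Finset.range p, (‖∑ t, ω t ^ k‖ ^ 2 : ℝ) =
      (p : ℝ) * ((∑ a ∈ R, c a ^ 2 : ℤ) : ℝ) := by
    have h4 : ((∑ k ∈ Finset.range p, (‖∑ t, ω t ^ k‖ ^ 2 : ℝ) : ℝ) : ℂ) =
        (((p : ℝ) * ((∑ a ∈ R, c a ^ 2 : ℤ) : ℝ) : ℝ) : ℂ) := by
      push_cast
      push_cast at htotal
      exact htotal
    exact_mod_cast h4
  have hint' : ((p : ℝ) - 1) ≤ (p : ℝ) * ((∑ a ∈ R, c a ^ 2 : ℤ) : ℝ) - (n : ℝ) ^ 2 := by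
    exact_mod_cast hint
  linarith

end Cfsg.Agent.Helper8.KGV
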