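import Mathlib

/-!
# Knörr's criterion, piece PERM: averaging a bilinear pairing over all permutations (helper8)
-/

set_option autoImplicit false
set_option linter.unusedVariables false

namespace Cfsg.Agent.Helper8.KGV

open scoped ComplexConjugate

universe u

variable {I : Type u} [Fintype I] [DecidableEq I]

theorem perm_sum_const1 (f : I → ℂ) (x x1 : I) :
    ∑ π : Equiv.Perm I, f (π x) = ∑ π : Equiv.Perm I, f (π x1) := by
  refine Fintype.sum_equiv (Equiv.mulRight (Equiv.swap x x1)) _ _ fun π => ?_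
  simp [Equiv.Perm.mul_apply]

theorem perm_sum1 (f : I → ℂ) (x : I) :
    (Fintype.card I : ℂ) * ∑ π : Equiv.Perm I, f (π x) =
      ((Fintype.card I).factorial : ℂ) * ∑ y, f y := by
  have h1 : ∑ x1 : I, ∑ π : Equiv.Perm I, f (π x1) =
      (Fintype.card I : ℂ) * ∑ π : Equiv.Perm I, f (π x) := by
    rw [Finset.sum_congr rfl fun x1 _ => perm_sum_const1 f x1 x, Finset.sum_const,
      Finset.card_univ, nsmul_eq_mul]
  rw [← h1, Finset.sum_comm]
  rw [Finset.sum_congr rfl fun π _ => Equiv.sum_comp π f, Finset.sum_const, Finset.card_univ,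
    Fintype.card_perm, nsmul_eq_mul]

omit [Fintype I] in
theorem exists_perm_pair {x x' x1 x1' : I} (hx : x ≠ x') (hx1 : x1 ≠ x1') :
    ∃ σ : Equiv.Perm I, σ x1 = x ∧ σ x1' = x' := by
  set τ := Equiv.swap x1 x with hτ
  set y := τ x1' with hy
  have hτx1 : τ x1 = x := Equiv.swap_apply_left x1 x
  have hyx : x ≠ y := by
    rw [← hτx1, hy]
    exact fun h => hx1 (τ.injective h)
  refine ⟨Equiv.swap y x' * τ, ?_, ?_⟩
  · rw [Equiv.Perm.mul_apply, hτx1]
    exact Equiv.swap_apply_of_ne_of_ne hyx hx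
  · rw [Equiv.Perm.mul_apply, ← hy]
    exact Equiv.swap_apply_left y x'

theorem perm_sum_const2 (h : I → I → ℂ) {x x' x1 x1' : I} (hx : x ≠ x') (hx1 : x1 ≠ x1') :
    ∑ π : Equiv.Perm I, h (π x) (π x') = ∑ π : Equiv.Perm I, h (π x1) (π x1') := by
  obtain ⟨σ, h1, h2⟩ := exists_perm_pair hx hx1
  symm
  refine Fintype.sum_equiv (Equiv.mulRight σ⁻¹) _ _ fun π => ?_
  simp only [Equiv.coe_mulRight, Equiv.Perm.mul_apply]
  rw [← h1, ← h2]
  simp

theorem perm_sum2 (h : I → I → ℂ) {x x' : I} (hx : x ≠ x') :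
    ((Fintype.card I * Fintype.card I - Fintype.card I : ℕ) : ℂ) *
        ∑ π : Equiv.Perm I, h (π x) (π x') =
      ((Fintype.card I).factorial : ℂ) *
        ∑ yy ∈ (Finset.univ : Finset I).offDiag, h yy.1 yy.2 := by
  have h1 : ∑ yy ∈ (Finset.univ : Finset I).offDiag, ∑ π : Equiv.Perm I, h (π yy.1) (π yy.2) =
      ((Fintype.card I * Fintype.card I - Fintype.card I : ℕ) : ℂ) *
        ∑ π : Equiv.Perm I, h (π x) (π x') := by
    rw [Finset.sum_congr rfl fun yy hyy =>
      perm_sum_const2 h (Finset.mem_offDiag.1 hyy).2.2 hx, Finset.sum_const,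
      Finset.offDiag_card, Finset.card_univ, nsmul_eq_mul]
  rw [← h1, Finset.sum_comm]
  have h2 : ∀ π : Equiv.Perm I, ∑ yy ∈ (Finset.univ : Finset I).offDiag, h (π yy.1) (π yy.2) =
      ∑ yy ∈ (Finset.univ : Finset I).offDiag, h yy.1 yy.2 := by
    intro π
    refine Finset.sum_equiv (Equiv.prodCongr π π) (fun yy => ?_) (fun yy _ => rfl)
    simp only [Finset.mem_offDiag, Finset.mem_univ, true_and, Equiv.prodCongr_apply,
      Prod.map_fst, Prod.map_snd, ne_eq, EmbeddingLike.apply_eq_iff_eq]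
  rw [Finset.sum_congr rfl fun π _ => h2 π, Finset.sum_const, Finset.card_univ,
    Fintype.card_perm, nsmul_eq_mul]

theorem normSq_cast (w : ℂ) : ((‖w‖ ^ 2 : ℝ) : ℂ) = w * conj w := by
  rw [Complex.mul_conj, Complex.normSq_eq_norm_sq]

theorem sum_offDiag_mul (a b : I → ℂ) :
    ∑ yy ∈ (Finset.univ : Finset I).offDiag, a yy.1 * b yy.2 =
      (∑ y, a y) * (∑ y, b y) - ∑ y, a y * b y := by
  have h1 : (Finset.univ : Finset I) ×ˢ (Finset.univ : Finset I) =
      (Finset.univ : Finset I).diag ∪ (Finset.univ : Finset I).offDiag :=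
    (Finset.diag_union_offDiag _).symm
  rw [Finset.sum_mul_sum, ← Finset.sum_product', h1,
    Finset.sum_union (Finset.disjoint_diag_offDiag _), Finset.sum_diag]
  ring

/-- PIECE PERM. -/
theorem perm_avg (z l : I → ℂ) (hN : 2 ≤ Fintype.card I) :
    ∑ π : Equiv.Perm I, ‖∑ x, z x * l (π x)‖ ^ 2 =
      ((Fintype.card I - 1).factorial : ℝ) * (∑ x, ‖z x‖ ^ 2) * (∑ y, ‖l y‖ ^ 2) +
      ((Fintype.card I - 2).factorial : ℝ) * (‖∑ x, z x‖ ^ 2 - ∑ x, ‖z x‖ ^ 2) *
        (‖∑ y, l y‖ ^ 2 - ∑ y, ‖l y‖ ^ 2) := by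
  set N := Fintype.card I with hNdef
  -- the two kinds of inner sums
  set T : I → I → ℂ := fun x x' => ∑ π : Equiv.Perm I, l (π x) * conj (l (π x')) with hT
  set L2 : ℂ := ∑ y, l y * conj (l y) with hL2
  set L1 : ℂ := ∑ y, l y with hL1
  have hfac1 : (N.factorial : ℂ) = (N : ℂ) * ((N - 1).factorial : ℂ) := by
    have : N.factorial = N * (N - 1).factorial := by
      obtain ⟨m, hm⟩ : ∃ m, N = m + 1 := ⟨N - 1, by omega⟩
      rw [hm, Nat.factorial_succ]
      simp
    rw [this]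
    push_cast
    ring
  have hfac2 : (N.factorial : ℂ) =
      ((N * N - N : ℕ) : ℂ) * ((N - 2).factorial : ℂ) := by
    have : N.factorial = (N * N - N) * (N - 2).factorial := by
      obtain ⟨m, hm⟩ : ∃ m, N = m + 2 := ⟨N - 2, by omega⟩
      rw [hm, Nat.factorial_succ, Nat.factorial_succ]
      have : (m + 2) * (m + 2) - (m + 2) = (m + 1 + 1) * (m + 1) := by
        have : (m + 2) * (m + 2) = (m + 1 + 1) * (m + 1) + (m + 2) := by ring
        omega
      rw [this]
      simp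
      ring
    rw [this]
    push_cast
    ring
  have hN0 : (N : ℂ) ≠ 0 := by
    have : 0 < N := by omega
    exact_mod_cast this.ne'
  have hNN0 : ((N * N - N : ℕ) : ℂ) ≠ 0 := by
    have : 0 < N * N - N := by
      have : N * 2 ≤ N * N := Nat.mul_le_mul_left N hN
      have : 0 < N := by omega
      omega
    exact_mod_cast this.ne'
  have hTdiag : ∀ x, T x x = ((N - 1).factorial : ℂ) * L2 := by
    intro x
    have h1 := perm_sum1 (fun y => l y * conj (l y)) x
    rw [hfac1, mul_assoc] at h1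
    exact mul_left_cancel₀ hN0 h1
  have hToff : ∀ x x', x ≠ x' → T x x' = ((N - 2).factorial : ℂ) * (L1 * conj L1 - L2) := by
    intro x x' hx
    have h1 := perm_sum2 (fun y y' => l y * conj (l y')) hx
    rw [hfac2, mul_assoc] at h1
    have h2 := mul_left_cancel₀ hNN0 h1
    rw [hT]
    simp only
    rw [h2, sum_offDiag_mul l (fun y => conj (l y)), hL1, hL2, map_sum]
  -- expand
  have hexp : ((∑ π : Equiv.Perm I, ‖∑ x, z x * l (π x)‖ ^ 2 : ℝ) : ℂ) =
      ∑ x, ∑ x', z x * conj (z x') * T x x' := by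
    push_cast
    have h1 : ∀ π : Equiv.Perm I, ((‖∑ x, z x * l (π x)‖ : ℝ) : ℂ) ^ 2 =
        ∑ x, ∑ x', z x * conj (z x') * (l (π x) * conj (l (π x'))) := by
      intro π
      have := normSq_cast (∑ x, z x * l (π x))
      push_cast at this
      rw [this, map_sum, Finset.sum_mul_sum]
      refine Finset.sum_congr rfl fun x _ => Finset.sum_congr rfl fun x' _ => ?_
      rw [map_mul]
      ring
    rw [Finset.sum_congr rfl fun π _ => h1 π, Finset.sum_comm]
    refine Finset.sum_congr rfl fun x _ => ?_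
    rw [Finset.sum_comm]
    refine Finset.sum_congr rfl fun x' _ => ?_
    rw [hT, Finset.mul_sum]
  -- split the double sum
  have hsplit : ∑ x, ∑ x', z x * conj (z x') * T x x' =
      ((N - 1).factorial : ℂ) * (∑ x, z x * conj (z x)) * L2 +
      ((N - 2).factorial : ℂ) * ((∑ x, z x) * conj (∑ x, z x) - ∑ x, z x * conj (z x)) *
        (L1 * conj L1 - L2) := by
    have h1 : ∑ x, ∑ x', z x * conj (z x') * T x x' =
        ∑ xx ∈ (Finset.univ : Finset I) ×ˢ (Finset.univ : Finset I),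
          z xx.1 * conj (z xx.2) * T xx.1 xx.2 :=
      (Finset.sum_product' _ _ (fun a b => z a * conj (z b) * T a b)).symm
    rw [h1, ← Finset.diag_union_offDiag, Finset.sum_union (Finset.disjoint_diag_offDiag _),
      Finset.sum_diag]
    have h2 : ∑ x, z x * conj (z x) * T x x =
        (∑ x, z x * conj (z x)) * (((N - 1).factorial : ℂ) * L2) := by
      rw [Finset.sum_mul]
      refine Finset.sum_congr rfl fun x _ => ?_
      rw [hTdiag x]
    have h3 : ∑ xx ∈ (Finset.univ : Finset I).offDiag, z xx.1 * conj (z xx.2) * T xx.1 xx.2 =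
        (∑ xx ∈ (Finset.univ : Finset I).offDiag, z xx.1 * conj (z xx.2)) *
          (((N - 2).factorial : ℂ) * (L1 * conj L1 - L2)) := by
      rw [Finset.sum_mul]
      refine Finset.sum_congr rfl fun xx hxx => ?_
      rw [hToff xx.1 xx.2 (Finset.mem_offDiag.1 hxx).2.2]
    rw [h2, h3, sum_offDiag_mul z (fun y => conj (z y))]
    simp only [map_sum]
    ring
  have hfinal : ((∑ π : Equiv.Perm I, ‖∑ x, z x * l (π x)‖ ^ 2 : ℝ) : ℂ) =
      ((((N - 1).factorial : ℝ) * (∑ x, ‖z x‖ ^ 2) * (∑ y, ‖l y‖ ^ 2) +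
      ((N - 2).factorial : ℝ) * (‖∑ x, z x‖ ^ 2 - ∑ x, ‖z x‖ ^ 2) *
        (‖∑ y, l y‖ ^ 2 - ∑ y, ‖l y‖ ^ 2) : ℝ) : ℂ) := by
    rw [hexp, hsplit]
    have e1 : ((∑ x, ‖z x‖ ^ 2 : ℝ) : ℂ) = ∑ x, z x * conj (z x) := by
      push_cast
      refine Finset.sum_congr rfl fun x _ => ?_
      have := normSq_cast (z x)
      push_cast at this
      exact this
    have e2 : ((∑ y, ‖l y‖ ^ 2 : ℝ) : ℂ) = L2 := by
      push_cast
      refine Finset.sum_congr rfl fun x _ => ?_
      have := normSq_cast (l x)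
      push_cast at this
      exact this
    have e3 : ((‖∑ x, z x‖ ^ 2 : ℝ) : ℂ) = (∑ x, z x) * conj (∑ x, z x) := normSq_cast _
    have e4 : ((‖∑ y, l y‖ ^ 2 : ℝ) : ℂ) = L1 * conj L1 := normSq_cast _
    rw [Complex.ofReal_add, Complex.ofReal_mul, Complex.ofReal_mul, Complex.ofReal_mul,
      Complex.ofReal_mul, Complex.ofReal_sub, Complex.ofReal_sub, e1, e2, e3, e4]
    push_cast
    ring
  exact_mod_cast hfinal

end Cfsg.Agent.Helper8.KGV
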