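import Mathlib
import Cfsg.Agent.Lib.Helper8.KGVDefs
import Cfsg.Agent.Lib.Helper8.KGVC
import Cfsg.Agent.Lib.Helper8.KGVG
import Cfsg.Agent.Lib.Helper8.KGVPERM
import Cfsg.Agent.Lib.Helper2.RUC2A

/-!
# Knörr's criterion, piece B1: the family attached to one semiregular factor (helper8)
-/

set_option autoImplicit false
set_option linter.unusedVariables false
set_option linter.style.haveILetI false

namespace Cfsg.Agent.Helper8.KGV

open Cfsg Cfsg.Agent.Helper24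
open scoped ComplexConjugate Classical

universe u

/-- the geometric sum `∑_{n=1}^{q-1} η^n = -1` for a nontrivial `p`-th root of unity, `p ∣ q` -/
theorem sum_pow_succ_eq_neg_one {p q : ℕ} (hq0 : 0 < q) (hq : p ∣ q) (η : ℂ) (hη : η ^ p = 1)
    (hη1 : η ≠ 1) : ∑ n ∈ Finset.range (q - 1), η ^ (n + 1) = -1 := by
  have hηq : η ^ q = 1 := by
    obtain ⟨d, rfl⟩ := hq
    rw [pow_mul, hη, one_pow]
  have h1 := geom_sum_root q η hηq
  rw [if_neg hη1] at h1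
  have h2 : q = (q - 1) + 1 := by omega
  rw [h2, Finset.sum_range_succ'] at h1
  simp only [pow_zero] at h1
  linear_combination h1

/-- the factorial arithmetic behind piece B1 -/
theorem fact_arith (n : ℕ) :
    (((n + 2 - 1).factorial : ℝ) * ((n + 2 : ℕ) : ℝ) * ((n + 2 : ℕ) : ℝ) +
      ((n + 2 - 2).factorial : ℝ) * (1 - ((n + 2 : ℕ) : ℝ)) *
        (((n + 2 : ℕ) : ℝ) ^ 2 - ((n + 2 : ℕ) : ℝ)) = ((n + 2).factorial : ℝ) * 1) ∧
    (((n + 2 - 1).factorial : ℝ) * ((n + 2 : ℕ) : ℝ) * ((n + 2 : ℕ) : ℝ) +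
      ((n + 2 - 2).factorial : ℝ) * (1 - ((n + 2 : ℕ) : ℝ)) *
        ((0 : ℝ) - ((n + 2 : ℕ) : ℝ)) = ((n + 2).factorial : ℝ) * ((n + 2 : ℕ) + 1 : ℝ)) := by
  have h1 : n + 2 - 1 = n + 1 := by omega
  have h2 : n + 2 - 2 = n := by omega
  rw [h1, h2, Nat.factorial_succ (n + 1), Nat.factorial_succ n]
  push_cast
  constructor <;> ring

/-- PIECE B1. -/
theorem single_family (p : ℕ) [Fact p.Prime] {C : Type u} [Group C] [Fintype C]
    (hcomm : ∀ a b : C, a * b = b * a) (K : Subgroup C) (hK : K ≠ ⊤) (q : ℕ) (hq0 : 0 < q)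
    (hq : p ∣ q) (hKq : K.index ∣ q - 1) :
    ∃ (N : ℕ) (_ : N ≠ 0) (F : Fin N → ℕ → C → ℂ),
      (∀ j, IsPComb p C (F j)) ∧
      (∀ j c, F j 0 c = if c ∈ K then ((q - 1 : ℕ) : ℂ) else 0) ∧
      ∀ k ∈ Finset.Icc 1 (p - 1), ∀ c,
        ∑ j, ‖F j k c‖ ^ 2 = (N : ℝ) * (if c ∈ K then 1 else (q : ℝ)) := by
  have hp : p.Prime := Fact.out
  haveI hKn : K.Normal := ⟨fun n hn g => by rw [hcomm g n, mul_inv_cancel_right]; exact hn⟩
  letI : Fintype (C ⧸ K) := Fintype.ofFinite _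
  haveI : Finite ((C ⧸ K) →* ℂˣ) := Cfsg.Agent.Helper24.RU.c2a_finite_hom
  letI : Fintype ((C ⧸ K) →* ℂˣ) := Fintype.ofFinite _
  -- the quotient is abelian
  have hcommQ : commutator (C ⧸ K) = ⊥ := by
    rw [commutator_def, Subgroup.commutator_eq_bot_iff_le_centralizer]
    intro a _
    rw [Subgroup.mem_centralizer_iff]
    intro b _
    obtain ⟨x, rfl⟩ := QuotientGroup.mk_surjective a
    obtain ⟨y, rfl⟩ := QuotientGroup.mk_surjective b
    rw [← QuotientGroup.mk_mul, ← QuotientGroup.mk_mul, hcomm]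
  set r : ℕ := Fintype.card ((C ⧸ K) →* ℂˣ) with hr
  have hrK : r = K.index := by
    rw [hr, ← Nat.card_eq_fintype_card, card_monoidHom_units, hcommQ, Subgroup.index_bot]
    rfl
  have hmem : ∀ c : C, ((c : C ⧸ K) = 1 ↔ c ∈ K) := fun c => QuotientGroup.eq_one_iff c
  have hsumψ : ∀ c : C, ∑ ψ : (C ⧸ K) →* ℂˣ, ((ψ (c : C ⧸ K) : ℂˣ) : ℂ) =
      if c ∈ K then (r : ℂ) else 0 := by
    intro c
    split_ifs with hc
    · rw [(hmem c).2 hc]
      simp [hr]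
    · apply Cfsg.Agent.Helper24.RU.c2a_col_sum_not_mem
      rw [hcommQ, Subgroup.mem_bot, hmem]
      exact hc
  -- sizes
  have hq1 : 1 ≤ q - 1 := by
    have := Nat.le_of_dvd hq0 hq
    have := hp.two_le
    omega
  have hr2 : 2 ≤ r := by
    have h1 : K.index ≠ 1 := fun h => hK (Subgroup.index_eq_one.1 h)
    have h2 : K.index ≠ 0 := Subgroup.index_ne_zero_of_finite
    rw [hrK]
    omega
  obtain ⟨m, hm⟩ : ∃ m, q - 1 = r * m := by
    rw [hrK]
    exact hKq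
  set I : Type u := ((C ⧸ K) →* ℂˣ) × Fin m with hI
  have hIcard : Fintype.card I = q - 1 := by
    show Fintype.card (((C ⧸ K) →* ℂˣ) × Fin m) = q - 1
    rw [Fintype.card_prod, Fintype.card_fin, ← hr, hm]
  have hI2 : 2 ≤ Fintype.card I := by
    rw [hIcard]
    have := Nat.le_of_dvd (by omega) (hrK ▸ hKq : r ∣ q - 1)
    omega
  set e : I ≃ Fin (q - 1) := Fintype.equivFinOfCardEq hIcard with he
  set ζ : ℂ := Complex.exp (2 * Real.pi * Complex.I / p) with hζ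
  have hζp : IsPrimitiveRoot ζ p := Complex.isPrimitiveRoot_exp p hp.ne_zero
  set z : I → ℂ := fun x => ζ ^ ((e x : ℕ) + 1) with hz
  have hzp : ∀ x, z x ^ p = 1 := by
    intro x
    rw [hz]
    simp only
    rw [← pow_mul, mul_comm, pow_mul, hζp.pow_eq_one, one_pow]
  have hznorm : ∀ x k, ‖z x ^ k‖ = 1 := by
    intro x k
    rw [norm_pow, Complex.norm_eq_one_of_pow_eq_one (hzp x) hp.ne_zero, one_pow]
  have hzsum : ∀ k ∈ Finset.Icc 1 (p - 1), ∑ x, z x ^ k = -1 := by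
    intro k hk
    rw [Finset.mem_Icc] at hk
    have hη1 : ζ ^ k ≠ 1 := hζp.pow_ne_one_of_pos_of_lt (by omega) (by omega)
    have hηp : (ζ ^ k) ^ p = 1 := by rw [← pow_mul, mul_comm, pow_mul, hζp.pow_eq_one, one_pow]
    have h1 := sum_pow_succ_eq_neg_one hq0 hq (ζ ^ k) hηp hη1
    rw [← h1, ← Fin.sum_univ_eq_sum_range (fun n => (ζ ^ k) ^ (n + 1)) (q - 1)]
    rw [← Equiv.sum_comp e (fun n : Fin (q - 1) => (ζ ^ k) ^ ((n : ℕ) + 1))]
    refine Finset.sum_congr rfl fun x _ => ?_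
    rw [hz]
    simp only
    rw [← pow_mul, ← pow_mul, mul_comm]
  -- the labels
  set θ : I → (C →* ℂˣ) := fun y => y.1.comp (QuotientGroup.mk' K) with hθ
  have hθnorm : ∀ y c, ‖((θ y c : ℂˣ) : ℂ)‖ = 1 := by
    intro y c
    apply Complex.norm_eq_one_of_pow_eq_one (n := Fintype.card C) _ Fintype.card_ne_zero
    rw [← Units.val_pow_eq_pow_val, ← map_pow, pow_card_eq_one, map_one, Units.val_one]
  have hl0 : ∀ c : C, ∑ y : I, ((θ y c : ℂˣ) : ℂ) = if c ∈ K then ((q - 1 : ℕ) : ℂ) else 0 := by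
    intro c
    show ∑ y : ((C ⧸ K) →* ℂˣ) × Fin m, ((θ y c : ℂˣ) : ℂ) = _
    rw [Fintype.sum_prod_type]
    simp only [hθ, MonoidHom.comp_apply, QuotientGroup.mk'_apply, Finset.sum_const,
      Finset.card_univ, Fintype.card_fin, nsmul_eq_mul]
    rw [← Finset.mul_sum, hsumψ c]
    split_ifs
    · rw [hm]
      push_cast
      ring
    · simp
  -- the family
  set Fam : Equiv.Perm I → ℕ → C → ℂ := fun π k c => ∑ x, z x ^ k * ((θ (π x) c : ℂˣ) : ℂ)
    with hFam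
  set N : ℕ := Fintype.card (Equiv.Perm I) with hN
  have hNfac : N = (Fintype.card I).factorial := Fintype.card_perm
  refine ⟨N, Fintype.card_ne_zero, fun j => Fam ((Fintype.equivFin (Equiv.Perm I)).symm j),
    fun j => ?_, fun j c => ?_, fun k hk c => ?_⟩
  · exact isPComb_of_fintype p z (fun x => θ (((Fintype.equivFin (Equiv.Perm I)).symm j) x)) hzp
      (fun k c => rfl)
  · show ∑ x, z x ^ 0 * ((θ (((Fintype.equivFin (Equiv.Perm I)).symm j) x) c : ℂˣ) : ℂ) = _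
    simp only [pow_zero, one_mul]
    rw [Equiv.sum_comp ((Fintype.equivFin (Equiv.Perm I)).symm j)
      (fun y => ((θ y c : ℂˣ) : ℂ)), hl0 c]
  · show ∑ j, ‖Fam ((Fintype.equivFin (Equiv.Perm I)).symm j) k c‖ ^ 2 = _
    rw [Equiv.sum_comp (Fintype.equivFin (Equiv.Perm I)).symm (fun π => ‖Fam π k c‖ ^ 2)]
    have h1 := perm_avg (fun x => z x ^ k) (fun y => ((θ y c : ℂˣ) : ℂ)) hI2
    rw [hFam]
    simp only
    rw [h1]
    have hZ2 : ∑ x, ‖z x ^ k‖ ^ 2 = ((Fintype.card I : ℕ) : ℝ) := by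
      simp [hznorm]
    have hL2 : ∑ y : I, ‖((θ y c : ℂˣ) : ℂ)‖ ^ 2 = ((Fintype.card I : ℕ) : ℝ) := by
      simp [hθnorm]
    have hZ1 : ‖∑ x, z x ^ k‖ ^ 2 = 1 := by
      rw [hzsum k hk]
      simp
    rw [hZ2, hL2, hZ1, hl0 c, hNfac]
    obtain ⟨n, hn⟩ : ∃ n, Fintype.card I = n + 2 := ⟨Fintype.card I - 2, by omega⟩
    have hqn : q = n + 2 + 1 := by omega
    rw [hn]
    obtain ⟨a1, a2⟩ := fact_arith n
    split_ifs with hc
    · have h2 : ‖(((q - 1 : ℕ) : ℂ))‖ ^ 2 = ((n + 2 : ℕ) : ℝ) ^ 2 := by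
        rw [← hIcard, hn, Complex.norm_natCast]
      rw [h2]
      exact a1
    · rw [norm_zero, hqn]
      have : (0 : ℝ) ^ 2 = 0 := by norm_num
      rw [this]
      push_cast at a2 ⊢
      exact a2

end Cfsg.Agent.Helper8.KGV
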