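import Mathlib
import Cfsg.Agent.Lib.Helper8.KGVDefs
import Cfsg.Agent.Lib.Helper8.KGVC
import Cfsg.Agent.Lib.Helper8.KGVB1

/-!
# Knörr's criterion, piece B: products of families of `p`-combinations (helper8)
-/

set_option autoImplicit false
set_option linter.unusedVariables false
set_option linter.style.haveILetI false

namespace Cfsg.Agent.Helper8.KGV

open scoped ComplexConjugate Classical

universe u

/-- A product of two `p`-combinations is a `p`-combination. -/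
theorem IsPComb.mul {p : ℕ} {C : Type u} [Group C] {F F' : ℕ → C → ℂ} (hF : IsPComb p C F)
    (hF' : IsPComb p C F') : IsPComb p C (fun k c => F k c * F' k c) := by
  obtain ⟨n, ω, θ, hω, hFe⟩ := hF
  obtain ⟨n', ω', θ', hω', hFe'⟩ := hF'
  refine isPComb_of_fintype p (fun tt : Fin n × Fin n' => ω tt.1 * ω' tt.2)
    (fun tt => θ tt.1 * θ' tt.2) (fun tt => by rw [mul_pow, hω, hω', one_mul]) (fun k c => ?_)
  rw [hFe, hFe', Finset.sum_mul_sum, Fintype.sum_prod_type]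
  refine Finset.sum_congr rfl fun t _ => Finset.sum_congr rfl fun t' _ => ?_
  simp only [MonoidHom.mul_apply, Units.val_mul, mul_pow]
  ring

/-- The constant `p`-combination `1`. -/
theorem isPComb_one (p : ℕ) (C : Type u) [Group C] : IsPComb p C (fun _ _ => 1) := by
  refine ⟨1, fun _ => 1, fun _ => 1, fun _ => one_pow _, fun k c => ?_⟩
  simp

/-- a family of `p`-combinations with prescribed behaviour at `k = 0` and mean square `g` -/
def IsFam (p : ℕ) (C : Type u) [Group C] (K : Subgroup C) (Q : ℕ) (g : C → ℝ) : Prop :=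
  ∃ (J : Type) (_ : Fintype J) (_ : Nonempty J) (F : J → ℕ → C → ℂ),
    (∀ j, IsPComb p C (F j)) ∧
    (∀ j c, F j 0 c = if c ∈ K then (Q : ℂ) else 0) ∧
    ∀ k ∈ Finset.Icc 1 (p - 1), ∀ c, ∑ j, ‖F j k c‖ ^ 2 = (Fintype.card J : ℝ) * g c

theorem isFam_one (p : ℕ) (C : Type u) [Group C] : IsFam p C ⊤ 1 (fun _ => 1) := by
  refine ⟨Unit, inferInstance, inferInstance, fun _ _ _ => 1, fun _ => isPComb_one p C,
    fun j c => by simp, fun k _ c => by simp⟩

theorem IsFam.mul {p : ℕ} {C : Type u} [Group C] {K K' : Subgroup C} {Q Q' : ℕ} {g g' : C → ℝ}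
    (h : IsFam p C K Q g) (h' : IsFam p C K' Q' g') :
    IsFam p C (K ⊓ K') (Q * Q') (fun c => g c * g' c) := by
  obtain ⟨J, hJ, hJn, F, hF, hF0, hF1⟩ := h
  obtain ⟨J', hJ', hJn', F', hF', hF0', hF1'⟩ := h'
  refine ⟨J × J', inferInstance, inferInstance, fun jj k c => F jj.1 k c * F' jj.2 k c,
    fun jj => (hF jj.1).mul (hF' jj.2), fun jj c => ?_, fun k hk c => ?_⟩
  · show F jj.1 0 c * F' jj.2 0 c = _
    rw [hF0, hF0']
    by_cases h1 : c ∈ K <;> by_cases h2 : c ∈ K' <;> simp [h1, h2, Subgroup.mem_inf]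
  · show ∑ jj : J × J', ‖F jj.1 k c * F' jj.2 k c‖ ^ 2 = _
    rw [Fintype.sum_prod_type]
    simp only [norm_mul, mul_pow]
    rw [← Finset.sum_mul_sum, hF1 k hk c, hF1' k hk c, Fintype.card_prod]
    push_cast
    ring

theorem isFam_finset (p : ℕ) [Fact p.Prime] {C : Type u} [Group C] [Fintype C]
    (hcomm : ∀ a b : C, a * b = b * a) {n : ℕ} (K : Fin n → Subgroup C) (q : Fin n → ℕ)
    (hq0 : ∀ i, 0 < q i) (hq : ∀ i, p ∣ q i) (hKq : ∀ i, (K i).index ∣ q i - 1)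
    (hK : ∀ i, K i ≠ ⊤) (s : Finset (Fin n)) :
    IsFam p C (⨅ i ∈ s, K i) (∏ i ∈ s, (q i - 1))
      (fun c => ∏ i ∈ s, (if c ∈ K i then (1 : ℝ) else (q i : ℝ))) := by
  induction s using Finset.induction_on with
  | empty =>
    simpa using isFam_one p C
  | insert i s hi ih =>
    obtain ⟨N, hN, F, hF, hF0, hF1⟩ :=
      single_family p hcomm (K i) (hK i) (q i) (hq0 i) (hq i) (hKq i)
    have h1 : IsFam p C (K i) (q i - 1) (fun c => if c ∈ K i then (1 : ℝ) else (q i : ℝ)) := by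
      haveI : Nonempty (Fin N) := ⟨⟨0, Nat.pos_of_ne_zero hN⟩⟩
      refine ⟨Fin N, inferInstance, inferInstance, F, hF, hF0, fun k hk c => ?_⟩
      rw [hF1 k hk c, Fintype.card_fin]
    have h2 := h1.mul ih
    rw [Finset.iInf_insert, Finset.prod_insert hi]
    simp only [Finset.prod_insert hi]
    exact h2

/-- PIECE B. -/
theorem exists_family (p : ℕ) [Fact p.Prime] {C : Type u} [Group C] [Fintype C]
    (hcomm : ∀ a b : C, a * b = b * a) {n : ℕ} (K : Fin n → Subgroup C) (q : Fin n → ℕ)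
    (hq0 : ∀ i, 0 < q i) (hq : ∀ i, p ∣ q i) (hKq : ∀ i, (K i).index ∣ q i - 1)
    (hK : ∀ i, K i ≠ ⊤) (hinf : ⨅ i, K i = ⊥) :
    ∃ (N : ℕ) (_ : N ≠ 0) (F : Fin N → ℕ → C → ℂ) (Q : ℕ), ¬ p ∣ Q ∧
      (∀ j, IsPComb p C (F j)) ∧
      (∀ j c, F j 0 c = if c = 1 then (Q : ℂ) else 0) ∧
      ∀ k ∈ Finset.Icc 1 (p - 1), ∀ c,
        ∑ j, ‖F j k c‖ ^ 2 = (N : ℝ) * ∏ i, (if c ∈ K i then (1 : ℝ) else (q i : ℝ)) := by
  have hp : p.Prime := Fact.out
  obtain ⟨J, hJ, hJn, F, hF, hF0, hF1⟩ :=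
    isFam_finset p hcomm K q hq0 hq hKq hK Finset.univ
  have hinf' : (⨅ i ∈ (Finset.univ : Finset (Fin n)), K i) = ⊥ := by
    simpa using hinf
  refine ⟨Fintype.card J, Fintype.card_ne_zero, fun j => F ((Fintype.equivFin J).symm j),
    ∏ i, (q i - 1), ?_, fun j => hF _, fun j c => ?_, fun k hk c => ?_⟩
  · intro h
    obtain ⟨i, -, hi⟩ := (Prime.dvd_finsetProd_iff (Nat.Prime.prime hp) _).1 h
    have h1 : p ∣ q i - (q i - 1) := Nat.dvd_sub (hq i) hi
    have h2 : q i - (q i - 1) = 1 := by have := hq0 i; omega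
    rw [h2] at h1
    exact hp.one_lt.ne' (Nat.dvd_one.1 h1)
  · show F ((Fintype.equivFin J).symm j) 0 c = _
    rw [hF0, hinf']
    simp only [Subgroup.mem_bot]
  · show ∑ j, ‖F ((Fintype.equivFin J).symm j) k c‖ ^ 2 = _
    have h3 : ((Fintype.card J : ℕ) : ℝ) *
        ∏ i, (if c ∈ K i then (1 : ℝ) else (q i : ℝ)) = ∑ j, ‖F j k c‖ ^ 2 := (hF1 k hk c).symm
    rw [h3]
    exact Equiv.sum_comp (Fintype.equivFin J).symm (fun j => ‖F j k c‖ ^ 2)

end Cfsg.Agent.Helper8.KGV
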