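import Mathlib
import Cfsg.Agent.Lib.Helper8.KGVDefs
import Cfsg.Agent.Lib.Helper8.KGVG

/-!
# Knörr's criterion, piece N: the averaged norm of a pairing of two `p`-combinations (helper8)
-/

set_option autoImplicit false
set_option linter.unusedVariables false

namespace Cfsg.Agent.Helper8.KGV

open scoped ComplexConjugate

universe u

/-- `lemmaG` over an arbitrary finite index type. -/
theorem lemmaG' (p : ℕ) [Fact p.Prime] {ι : Type*} [Fintype ι] (ω : ι → ℂ)
    (hω : ∀ t, ω t ^ p = 1) (hn : ¬ p ∣ Fintype.card ι) :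
    ((p : ℝ) - 1) ≤ ∑ k ∈ Finset.Icc 1 (p - 1), ‖∑ t, ω t ^ k‖ ^ 2 := by
  have h := lemmaG p (fun t : Fin (Fintype.card ι) => ω ((Fintype.equivFin ι).symm t))
    (fun t => hω _) hn
  refine h.trans (le_of_eq ?_)
  refine Finset.sum_congr rfl fun k _ => ?_
  congr 2
  exact Equiv.sum_comp (Fintype.equivFin ι).symm (fun t => ω t ^ k)

theorem sum_units_hom {C : Type u} [Group C] [Fintype C] [DecidableEq (C →* ℂˣ)]
    (θ : C →* ℂˣ) :
    ∑ c : C, ((θ c : ℂˣ) : ℂ) = if θ = 1 then (Fintype.card C : ℂ) else 0 := by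
  split_ifs with h
  · subst h
    simp
  · have h1 : (Units.coeHom ℂ).comp θ ≠ 1 := by
      intro h2
      apply h
      ext c
      have h3 : ((θ c : ℂˣ) : ℂ) = 1 := DFunLike.congr_fun h2 c
      simpa using h3
    exact sum_hom_units_eq_zero ((Units.coeHom ℂ).comp θ) h1

/-- PIECE N. -/
theorem lemmaN (p : ℕ) [Fact p.Prime] {C : Type u} [Group C] [Fintype C]
    {F F' : ℕ → C → ℂ} (hF : IsPComb p C F) (hF' : IsPComb p C F') (b : ℕ) (hb : ¬ p ∣ b)
    (h0 : ∑ c, F 0 c * F' 0 c = (b : ℂ)) :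
    ((p : ℝ) - 1) ≤ ∑ k ∈ Finset.Icc 1 (p - 1),
      ‖(Fintype.card C : ℂ)⁻¹ * ∑ c, F k c * F' k c‖ ^ 2 := by
  classical
  obtain ⟨n, ω, θ, hω, hFe⟩ := hF
  obtain ⟨n', ω', θ', hω', hFe'⟩ := hF'
  have hC0 : (Fintype.card C : ℂ) ≠ 0 := by
    exact_mod_cast (Fintype.card_pos (α := C)).ne'
  set U : Finset (Fin n × Fin n') := Finset.univ.filter (fun tt => θ tt.1 * θ' tt.2 = 1) with hU
  have hmain : ∀ k : ℕ, (Fintype.card C : ℂ)⁻¹ * ∑ c, F k c * F' k c =
      ∑ u : ↥U, (ω u.1.1 * ω' u.1.2) ^ k := by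
    intro k
    have h1 : ∑ c, F k c * F' k c =
        ∑ tt : Fin n × Fin n', (ω tt.1 * ω' tt.2) ^ k *
          ∑ c : C, (((θ tt.1 * θ' tt.2) c : ℂˣ) : ℂ) := by
      simp only [hFe, hFe']
      calc ∑ c : C, (∑ t, ω t ^ k * ((θ t c : ℂˣ) : ℂ)) * ∑ t', ω' t' ^ k * ((θ' t' c : ℂˣ) : ℂ)
          = ∑ c : C, ∑ tt : Fin n × Fin n',
              (ω tt.1 ^ k * ((θ tt.1 c : ℂˣ) : ℂ)) * (ω' tt.2 ^ k * ((θ' tt.2 c : ℂˣ) : ℂ)) := by
            refine Finset.sum_congr rfl fun c _ => ?_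
            rw [Finset.sum_mul_sum, ← Finset.univ_product_univ, Finset.sum_product]
        _ = ∑ tt : Fin n × Fin n', ∑ c : C,
              (ω tt.1 ^ k * ((θ tt.1 c : ℂˣ) : ℂ)) * (ω' tt.2 ^ k * ((θ' tt.2 c : ℂˣ) : ℂ)) :=
            Finset.sum_comm
        _ = _ := by
            refine Finset.sum_congr rfl fun tt _ => ?_
            rw [Finset.mul_sum]
            refine Finset.sum_congr rfl fun c _ => ?_
            simp only [MonoidHom.mul_apply, Units.val_mul, mul_pow]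
            ring
    rw [h1]
    simp only [sum_units_hom]
    rw [Finset.mul_sum]
    have h2 : ∀ i : Fin n × Fin n', (Fintype.card C : ℂ)⁻¹ * ((ω i.1 * ω' i.2) ^ k *
        if θ i.1 * θ' i.2 = 1 then (Fintype.card C : ℂ) else 0) =
        if θ i.1 * θ' i.2 = 1 then (ω i.1 * ω' i.2) ^ k else 0 := by
      intro i
      split_ifs
      · field_simp
      · simp
    rw [Finset.sum_congr rfl fun i _ => h2 i, ← Finset.sum_filter, ← hU]
    exact (Finset.sum_coe_sort U (fun tt => (ω tt.1 * ω' tt.2) ^ k)).symm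
  have hcard : ¬ p ∣ Fintype.card ↥U := by
    have h3 := hmain 0
    simp only [pow_zero, Finset.sum_const, Finset.card_univ, nsmul_eq_mul, mul_one] at h3
    rw [h0] at h3
    have h4 : (b : ℂ) = ((Fintype.card ↥U * Fintype.card C : ℕ) : ℂ) := by
      push_cast
      rw [← h3]
      field_simp
    have h5 : b = Fintype.card ↥U * Fintype.card C := by exact_mod_cast h4
    intro h
    apply hb
    rw [h5]
    exact h.mul_right _
  have hG := lemmaG' p (fun u : ↥U => ω u.1.1 * ω' u.1.2) (fun u => by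
    rw [mul_pow, hω, hω', one_mul]) hcard
  refine hG.trans (le_of_eq ?_)
  refine Finset.sum_congr rfl fun k _ => ?_
  rw [hmain k]

end Cfsg.Agent.Helper8.KGV
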