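import Mathlib
import Cfsg.Prelude.Def_Characters
import Cfsg.Agent.Lib.Helper8.KGVDefs
import Cfsg.Agent.Lib.Helper8.KGVN
import Cfsg.Agent.Lib.Helper8.KGVB
import Cfsg.Agent.Lib.Helper8.KGVC
import Cfsg.Agent.Lib.Helper25.KGVA
import Cfsg.Agent.Lib.Helper25.KGVD
import Cfsg.Agent.Lib.Helper24.CharComplete
import Cfsg.Agent.Lib.Helper24.CharAbelian
import Cfsg.Agent.Lib.Helper12.McKayGen

/-!
# Knörr's abelian-stabilizer criterion for `k(GV)`: assembly (helper8)
-/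

set_option autoImplicit false
set_option linter.unusedVariables false
set_option linter.style.haveILetI false

namespace Cfsg.Agent.Helper8.KGV

open Cfsg Cfsg.Agent.Helper24
open scoped ComplexConjugate Classical

universe u

/-- ASSEMBLY. -/
theorem main {X : Type u} [Group X] [Finite X] (p : ℕ) [Fact p.Prime] (V : Subgroup X)
    [V.Normal] (hVexp : ∀ v ∈ V, v ^ p = 1) (hidx : ¬ p ∣ V.index)
    (hself : Subgroup.centralizer (V : Set X) = V) (G : Subgroup X)
    (hGV : Subgroup.IsComplement' V G) (v : X) (hv : v ∈ V)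
    (hab : ∀ a ∈ G ⊓ Subgroup.centralizer ({v} : Set X),
      ∀ b ∈ G ⊓ Subgroup.centralizer ({v} : Set X), a * b = b * a) :
    Nat.card (ConjClasses X) ≤ Nat.card V := by
  have hp : p.Prime := Fact.out
  letI : Fintype X := Fintype.ofFinite X
  letI := irrFintype (G := X)
  letI : Fintype ↥(G ⊓ Subgroup.centralizer ({v} : Set X)) := Fintype.ofFinite _
  -- `V` is abelian
  have hVab : ∀ a ∈ V, ∀ b ∈ V, a * b = b * a := by
    intro a ha b hb
    have h : a ∈ Subgroup.centralizer (V : Set X) := by rw [hself]; exact ha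
    rw [Subgroup.mem_centralizer_iff] at h
    exact (h b hb).symm
  have hVp : IsPGroup p V := by
    intro w
    refine ⟨1, ?_⟩
    apply Subtype.ext
    simpa using hVexp w w.2
  -- coprimality
  have hGcard : V.index = Nat.card G := hGV.symm.index_eq_card
  have hcop : ¬ p ∣ Nat.card ↥(G ⊓ Subgroup.centralizer ({v} : Set X)) := by
    intro h
    apply hidx
    rw [hGcard]
    exact h.trans (Subgroup.card_dvd_of_le inf_le_left)
  obtain ⟨n, K, q, hq0, hq, hKq, hK, hinf, hdec⟩ :=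
    exists_decomp p V hVp hVab hself (G ⊓ Subgroup.centralizer ({v} : Set X)) hab hcop
  have hcomm : ∀ a b : ↥(G ⊓ Subgroup.centralizer ({v} : Set X)), a * b = b * a :=
    fun a b => Subtype.ext (hab a a.2 b b.2)
  obtain ⟨N, hN, F, Q, hQ, hFc, hF0, hF1⟩ := exists_family p hcomm K q hq0 hq hKq hK hinf
  have hvC : ∀ c ∈ G ⊓ Subgroup.centralizer ({v} : Set X), c * v = v * c := by
    intro c hc
    have h2 : c ∈ Subgroup.centralizer ({v} : Set X) := hc.2
    rw [Subgroup.mem_centralizer_iff] at h2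
    exact (h2 v rfl).symm
  set cardC : ℕ := Fintype.card ↥(G ⊓ Subgroup.centralizer ({v} : Set X)) with hcardC
  have hcardCpos : 0 < cardC := Fintype.card_pos
  -- the numbers
  set nn : IrrCharacter X → Fin N → ℕ → ℂ := fun χ j k =>
    (cardC : ℂ)⁻¹ * ∑ c : ↥(G ⊓ Subgroup.centralizer ({v} : Set X)),
      (χ : X → ℂ) (v ^ k * (c : X)) * F j k c with hnn
  -- lower bound
  have hlow : ∀ (χ : IrrCharacter X) (j : Fin N),
      ((p : ℝ) - 1) ≤ ∑ k ∈ Finset.Icc 1 (p - 1), ‖nn χ j k‖ ^ 2 := by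
    intro χ j
    have h1 := isPComb_restrict p (isCharacter_of_isIrrCharacter χ.2) v (hVexp v hv)
      (G ⊓ Subgroup.centralizer ({v} : Set X)) hab hvC
    have hb : ¬ p ∣ charDegree (χ : X → ℂ) * Q := by
      intro h
      rcases hp.dvd_mul.1 h with h | h
      · exact hidx (h.trans
          (Cfsg.Agent.Helper12.charDegree_dvd_index_of_abelian_normal V hVab χ))
      · exact hQ h
    have h0 : ∑ c : ↥(G ⊓ Subgroup.centralizer ({v} : Set X)),
        (fun k c => (χ : X → ℂ) (v ^ k * (c : X))) 0 c * F j 0 c =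
        ((charDegree (χ : X → ℂ) * Q : ℕ) : ℂ) := by
      simp only [hF0, pow_zero, one_mul, mul_ite, mul_zero]
      rw [Finset.sum_ite_eq' Finset.univ (1 : ↥(G ⊓ Subgroup.centralizer ({v} : Set X)))]
      simp only [Finset.mem_univ, if_true, Subgroup.coe_one]
      rw [irr_one_eq_charDegree χ.2]
      push_cast
      ring
    exact lemmaN p h1 (hFc j) _ hb h0
  -- the orthogonality
  have hup : ∀ k ∈ Finset.Icc 1 (p - 1), ∀ j : Fin N,
      ∑ χ : IrrCharacter X, ‖nn χ j k‖ ^ 2 =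
        (cardC : ℝ)⁻¹ * ∑ c : ↥(G ⊓ Subgroup.centralizer ({v} : Set X)),
          (Nat.card ↥(V ⊓ Subgroup.centralizer ({(c : X)} : Set X)) : ℝ) * ‖F j k c‖ ^ 2 := by
    intro k hk j
    have hk' : ¬ p ∣ k := by
      rw [Finset.mem_Icc] at hk
      intro h
      have := Nat.le_of_dvd (by omega) h
      have := hp.one_lt
      omega
    exact section_orthogonality p V hVexp hidx hVab G hGV v hv hab k hk' (F j k)
  -- double counting
  have hsum1 : ∑ χ : IrrCharacter X, ∑ j : Fin N, ∑ k ∈ Finset.Icc 1 (p - 1), ‖nn χ j k‖ ^ 2 =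
      ∑ k ∈ Finset.Icc 1 (p - 1), ∑ j : Fin N, ∑ χ : IrrCharacter X, ‖nn χ j k‖ ^ 2 := by
    calc ∑ χ : IrrCharacter X, ∑ j : Fin N, ∑ k ∈ Finset.Icc 1 (p - 1), ‖nn χ j k‖ ^ 2
        = ∑ χ : IrrCharacter X, ∑ k ∈ Finset.Icc 1 (p - 1), ∑ j : Fin N, ‖nn χ j k‖ ^ 2 :=
          Finset.sum_congr rfl fun χ _ => Finset.sum_comm
      _ = ∑ k ∈ Finset.Icc 1 (p - 1), ∑ χ : IrrCharacter X, ∑ j : Fin N, ‖nn χ j k‖ ^ 2 :=
          Finset.sum_comm
      _ = ∑ k ∈ Finset.Icc 1 (p - 1), ∑ j : Fin N, ∑ χ : IrrCharacter X, ‖nn χ j k‖ ^ 2 :=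
          Finset.sum_congr rfl fun k _ => Finset.sum_comm
  have hcardCR : (0 : ℝ) < (cardC : ℝ) := by exact_mod_cast hcardCpos
  have hsum2 : ∀ k ∈ Finset.Icc 1 (p - 1),
      ∑ j : Fin N, ∑ χ : IrrCharacter X, ‖nn χ j k‖ ^ 2 ≤ (N : ℝ) * (Nat.card V : ℝ) := by
    intro k hk
    rw [Finset.sum_congr rfl fun j _ => hup k hk j, ← Finset.mul_sum, Finset.sum_comm]
    have h3 : ∀ c : ↥(G ⊓ Subgroup.centralizer ({v} : Set X)),
        ∑ j : Fin N, (Nat.card ↥(V ⊓ Subgroup.centralizer ({(c : X)} : Set X)) : ℝ) *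
          ‖F j k c‖ ^ 2 ≤ (N : ℝ) * (Nat.card V : ℝ) := by
      intro c
      rw [← Finset.mul_sum, hF1 k hk c]
      have h4 := hdec c
      have h5 : ((∏ i, (if c ∈ K i then 1 else q i) : ℕ) : ℝ) =
          ∏ i, (if c ∈ K i then (1 : ℝ) else (q i : ℝ)) := by
        push_cast
        refine Finset.prod_congr rfl fun i _ => ?_
        split_ifs <;> simp
      rw [← h5]
      have h6 : ((∏ i, (if c ∈ K i then 1 else q i) : ℕ) : ℝ) *
          (Nat.card ↥(V ⊓ Subgroup.centralizer ({(c : X)} : Set X)) : ℝ) ≤ (Nat.card V : ℝ) := by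
        exact_mod_cast h4
      have hN0 : (0 : ℝ) ≤ (N : ℝ) := Nat.cast_nonneg N
      nlinarith [h6, hN0]
    calc (cardC : ℝ)⁻¹ * ∑ c : ↥(G ⊓ Subgroup.centralizer ({v} : Set X)),
          ∑ j : Fin N, (Nat.card ↥(V ⊓ Subgroup.centralizer ({(c : X)} : Set X)) : ℝ) *
            ‖F j k c‖ ^ 2
        ≤ (cardC : ℝ)⁻¹ * ∑ c : ↥(G ⊓ Subgroup.centralizer ({v} : Set X)),
            (N : ℝ) * (Nat.card V : ℝ) := by
          apply mul_le_mul_of_nonneg_left _ (inv_nonneg.2 hcardCR.le)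
          exact Finset.sum_le_sum fun c _ => h3 c
      _ = (N : ℝ) * (Nat.card V : ℝ) := by
          rw [Finset.sum_const, Finset.card_univ, nsmul_eq_mul, ← hcardC]
          field_simp
  have hp1 : (1 : ℝ) ≤ (p : ℝ) := by exact_mod_cast hp.one_lt.le
  have hkey : (Fintype.card (IrrCharacter X) : ℝ) * (N : ℝ) * ((p : ℝ) - 1) ≤
      ((p : ℝ) - 1) * ((N : ℝ) * (Nat.card V : ℝ)) := by
    calc (Fintype.card (IrrCharacter X) : ℝ) * (N : ℝ) * ((p : ℝ) - 1)
        = ∑ χ : IrrCharacter X, ∑ j : Fin N, ((p : ℝ) - 1) := by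
          simp only [Finset.sum_const, Finset.card_univ, nsmul_eq_mul, Fintype.card_fin]
          ring
      _ ≤ ∑ χ : IrrCharacter X, ∑ j : Fin N, ∑ k ∈ Finset.Icc 1 (p - 1), ‖nn χ j k‖ ^ 2 :=
          Finset.sum_le_sum fun χ _ => Finset.sum_le_sum fun j _ => hlow χ j
      _ = ∑ k ∈ Finset.Icc 1 (p - 1), ∑ j : Fin N, ∑ χ : IrrCharacter X, ‖nn χ j k‖ ^ 2 := hsum1
      _ ≤ ∑ k ∈ Finset.Icc 1 (p - 1), (N : ℝ) * (Nat.card V : ℝ) :=
          Finset.sum_le_sum hsum2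
      _ = ((p : ℝ) - 1) * ((N : ℝ) * (Nat.card V : ℝ)) := by
          rw [Finset.sum_const, Nat.card_Icc, nsmul_eq_mul]
          have : ((p - 1 + 1 - 1 : ℕ) : ℝ) = (p : ℝ) - 1 := by
            have := hp.one_lt
            rw [Nat.add_sub_cancel, Nat.cast_sub this.le, Nat.cast_one]
          rw [this]
  have hNpos : (0 : ℝ) < (N : ℝ) := by exact_mod_cast Nat.pos_of_ne_zero hN
  have hkX : Fintype.card (IrrCharacter X) = Nat.card (ConjClasses X) := by
    rw [← Nat.card_eq_fintype_card]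
    exact card_irr_eq_card_conjClasses
  rw [← hkX]
  have hp3 : (0 : ℝ) < (p : ℝ) - 1 := by
    have : (2 : ℝ) ≤ (p : ℝ) := by exact_mod_cast hp.two_le
    linarith
  have h8 : (Fintype.card (IrrCharacter X) : ℝ) * ((N : ℝ) * ((p : ℝ) - 1)) ≤
      (Nat.card V : ℝ) * ((N : ℝ) * ((p : ℝ) - 1)) := by
    nlinarith [hkey]
  have h9 := le_of_mul_le_mul_right h8 (mul_pos hNpos hp3)
  exact_mod_cast h9

end Cfsg.Agent.Helper8.KGV
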