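import Mathlib
import Cfsg.Prelude.Def_JComponents
import Cfsg.Agent.Lib.Helper27.KVASM
import Cfsg.Agent.Lib.Helper8.KWPOMG

/-!
# KS12c / S2953' (helper27's farm-out), PIECE POMG (helper8): exact skeleton signature

`commutator_omegaCenterOf_ne_bot` = `commutator_omegaCenterOf_ne_bot_of` + helper27's `z0_le_omegaCenterOf` (KVASM).
-/

set_option autoImplicit false
set_option linter.unusedVariables false
set_option linter.unusedSectionVars false
set_option linter.style.haveILetI false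

namespace Cfsg.Agent.Helper27.KV

open Cfsg Cfsg.Agent.Helper13.JCFF Cfsg.Agent.Helper27.KU

open scoped commutatorElement

universe u

variable {G : Type u} [Group G] [Finite G]

section ctx2

variable (hL : IsCharacteristicTwoType G)
  (hN : ∀ N : Subgroup G, IsTwoLocal N → Group.IsSolvable ↥N)
  (hZ : ∀ S : Sylow 2 G, Subgroup.centralizer (omegaCenterOf (S : Subgroup G) : Set G) ≤
      Subgroup.normalizer ((S : Subgroup G) : Set G))
  (S : Sylow 2 G) {M : Subgroup G}
  (hMJ : Subgroup.normalizer (thompsonSubgroupOf 2 (S : Subgroup G) : Set G) ≤ M)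
  {T : Subgroup G} (hT : T ∈ maxStraddlingTwoSubgroups M)

include hL hN hZ hMJ hT

/-- POMG.  `1 ≠ w ∈ Z₀ ⊓ W_K` (S2951'), `w ∈ Ω₁Z(T)` (`z0_le_omegaCenterOf`), some `k ∈ K` does not commute with `w`
(`exists_not_comm_of_mem_wOf`), so `⁅w, k⁆ ≠ 1`. -/
theorem commutator_omegaCenterOf_ne_bot (hNO : NonOpen T) {K : Subgroup G}
    (hK : K ∈ jComponentsOutside M T) : ⁅omegaCenterOf T, K ⊔ T⁆ ≠ ⊥ :=
  commutator_omegaCenterOf_ne_bot_of hL hN hZ S hMJ hT
    (z0_le_omegaCenterOf hL hN hZ S hMJ hT hNO hK) hK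

end ctx2

end Cfsg.Agent.Helper27.KV
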