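import Mathlib
import Cfsg.Prelude.Def_Characters
import Cfsg.Prelude.Def_Blocks
import Cfsg.Agent.Lib.Helper8.MXDefs
import Cfsg.Agent.Lib.Helper24.CharComplete
import Cfsg.Agent.Lib.Helper24.CharCentral

/-!
# S4756 piece CH1 (helper8)
-/

set_option autoImplicit false

namespace Cfsg.Agent.Helper8.MX

open Cfsg Cfsg.Agent.Helper24

universe u

variable {G : Type u} [Group G] [Finite G]

/-- PIECE CH1. Averaging `χ(x · g y g⁻¹) = χ(x) χ(y)` over `g` and comparing with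
`sum_char_mul_conj` gives `χ(x) χ(y) (1 - 1/χ(1)) = 0`. -/
theorem mul_eq_zero_of_nonlinear (h : Mult G) (χ : IrrCharacter G) (hχ : (χ : G → ℂ) 1 ≠ 1)
    {x y : G} (hx : x ≠ 1) (hy : y ≠ 1)
    (hxy : ∃ p q a b : ℕ, p.Prime ∧ q.Prime ∧ p ≠ q ∧ orderOf x = p ^ a ∧ orderOf y = q ^ b) :
    (χ : G → ℂ) x * (χ : G → ℂ) y = 0 := by
  classical
  letI : Fintype G := Fintype.ofFinite G
  obtain ⟨p, q, a, b, hp, hq, hpq, hox, hoy⟩ := hxy
  have hcl := isClassFunction_of_isIrrCharacter χ.2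
  have hsum := sum_char_mul_conj χ.2 x y
  have hterm : ∀ g : G, (χ : G → ℂ) (x * (g * y * g⁻¹)) = (χ : G → ℂ) x * (χ : G → ℂ) y := by
    intro g
    have h1 : g * y * g⁻¹ ≠ 1 := by
      intro h1
      apply hy
      have : y = g⁻¹ * (g * y * g⁻¹) * g := by group
      rw [this, h1]; group
    have h2 : orderOf (g * y * g⁻¹) = q ^ b := by
      rw [← hoy, ← MulAut.conj_apply, MulEquiv.orderOf_eq]
    rw [h x (g * y * g⁻¹) χ hx h1 ⟨p, q, a, b, hp, hq, hpq, hox, h2⟩, hcl y g]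
  simp only [hterm, Finset.sum_const, Finset.card_univ, nsmul_eq_mul] at hsum
  obtain ⟨n, hn, hn1⟩ := irr_one_eq χ.2
  rw [hn1] at hsum hχ
  have hn0 : (n : ℂ) ≠ 0 := by exact_mod_cast hn.ne'
  have hG0 : (Nat.card G : ℂ) ≠ 0 := by exact_mod_cast (Nat.card_pos (α := G)).ne'
  rw [← Nat.card_eq_fintype_card] at hsum
  have hsum' : (Nat.card G : ℂ) * ((χ : G → ℂ) x * (χ : G → ℂ) y) * (n : ℂ) =
      (Nat.card G : ℂ) * ((χ : G → ℂ) x * (χ : G → ℂ) y) := by
    have h4 := hsum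
    rw [eq_div_iff hn0] at h4
    linear_combination h4
  have h3 : (Nat.card G : ℂ) * ((χ : G → ℂ) x * (χ : G → ℂ) y) * ((n : ℂ) - 1) = 0 := by
    linear_combination hsum'
  rcases mul_eq_zero.mp h3 with h5 | h5
  · rcases mul_eq_zero.mp h5 with h6 | h6
    · exact absurd h6 hG0
    · exact h6
  · exfalso
    apply hχ
    linear_combination h5

end Cfsg.Agent.Helper8.MX
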