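import Mathlib
import Cfsg.Prelude.Def_Characters
import Cfsg.Prelude.Def_Blocks
import Cfsg.Agent.Lib.Helper8.MXDefs
import Cfsg.Agent.Lib.Helper24.CharComplete
import Cfsg.Agent.Lib.Helper24.CharHom
import Cfsg.Agent.Lib.Helper24.CharLinear

/-!
# S4756 piece CH2 (helper8)
-/

set_option autoImplicit false

namespace Cfsg.Agent.Helper8.MX

open Cfsg Cfsg.Agent.Helper24

open scoped ComplexConjugate

universe u

variable {G : Type u} [Group G] [Finite G]

/-- PIECE CH2. A character vanishing on `Q ∖ {1}` has degree divisible by `|Q|`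
(the multiplicity of the trivial character of `Q` in the restriction is `χ(1)/|Q|`). -/
theorem card_dvd_of_vanish {χ : G → ℂ} (hχ : IsCharacter G χ) (Q : Subgroup G)
    (hv : ∀ y ∈ Q, y ≠ 1 → χ y = 0) : Nat.card Q ∣ charDegree χ := by
  classical
  letI : Fintype Q := Fintype.ofFinite Q
  letI := irrFintype (G := Q)
  have hres : IsCharacter Q (fun k : Q => χ k) := isCharacter_restrict Q hχ
  obtain ⟨m, hm⟩ := (isCharacter_decomp hres).1 (principalChar Q)
  have hinner : classInner (fun k : Q => χ k) ((principalChar Q : IrrCharacter Q) : Q → ℂ) =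
      (Nat.card Q : ℂ)⁻¹ * χ 1 := by
    unfold classInner
    congr 1
    rw [Finset.sum_eq_single (1 : Q)]
    · simp [principalChar]
    · intro y _ hy
      have : χ (y : G) = 0 := hv y y.2 (fun h => hy (Subtype.ext h))
      simp [this]
    · intro h
      exact absurd (Finset.mem_univ _) h
  rw [hinner, char_one_eq_charDegree hχ] at hm
  have hQ0 : (Nat.card Q : ℂ) ≠ 0 := by exact_mod_cast (Nat.card_pos (α := Q)).ne'
  have h2 : (charDegree χ : ℂ) = ((Nat.card Q * m : ℕ) : ℂ) := by
    push_cast
    field_simp at hm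
    linear_combination hm
  have h3 : charDegree χ = Nat.card Q * m := by exact_mod_cast h2
  exact ⟨m, h3⟩

end Cfsg.Agent.Helper8.MX
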