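import Mathlib
import Cfsg.Prelude.Def_Characters
import Cfsg.Prelude.Def_Blocks
import Cfsg.Agent.Lib.Helper8.MXDefs
import Cfsg.Agent.Lib.Helper8.MXCH1
import Cfsg.Agent.Lib.Helper8.MXCH2
import Cfsg.Agent.Lib.Helper24.CharComplete
import Cfsg.Agent.Lib.Helper24.CharLinear

/-!
# S4756 piece CH3 (helper8)
-/

set_option autoImplicit false

namespace Cfsg.Agent.Helper8.MX

open Cfsg Cfsg.Agent.Helper24

universe u

variable {G : Type u} [Group G] [Finite G]

/-- `χ` vanishes on all nonidentity elements of prime-power order for primes other than `p`. -/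
def VanOff (χ : G → ℂ) (p : ℕ) : Prop :=
  ∀ y : G, y ≠ 1 → (∃ q b : ℕ, q.Prime ∧ q ≠ p ∧ orderOf y = q ^ b) → χ y = 0

/-- Step A. -/
theorem exists_vanOff (h : Mult G) (χ : IrrCharacter G) (hχ : (χ : G → ℂ) 1 ≠ 1) :
    ∃ p : ℕ, p.Prime ∧ VanOff (χ : G → ℂ) p := by
  by_cases hex : ∃ x : G, x ≠ 1 ∧ ∃ p a : ℕ, p.Prime ∧ orderOf x = p ^ a ∧ (χ : G → ℂ) x ≠ 0
  · obtain ⟨x, hx, p, a, hp, hox, hne⟩ := hex
    refine ⟨p, hp, ?_⟩
    intro y hy ⟨q, b, hq, hqp, hoy⟩
    have := mul_eq_zero_of_nonlinear h χ hχ hx hy ⟨p, q, a, b, hp, hq, hqp.symm, hox, hoy⟩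
    rcases mul_eq_zero.mp this with h1 | h1
    · exact absurd h1 hne
    · exact h1
  · refine ⟨2, Nat.prime_two, ?_⟩
    intro y hy ⟨q, b, hq, _, hoy⟩
    by_contra hne
    exact hex ⟨y, hy, q, b, hq, hoy, hne⟩

/-- Step B. -/
theorem ordCompl_dvd_of_vanOff {χ : G → ℂ} (hχ : IsCharacter G χ) {p : ℕ} (hp : p.Prime)
    (hv : VanOff χ p) (hdeg : charDegree χ ≠ 0) :
    ordCompl[p] (Nat.card G) ∣ charDegree χ := by
  have hn0 : Nat.card G ≠ 0 := (Nat.card_pos (α := G)).ne'
  have hc0 : ordCompl[p] (Nat.card G) ≠ 0 := (Nat.ordCompl_pos p hn0).ne'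
  rw [← Nat.factorization_le_iff_dvd hc0 hdeg]
  intro q
  by_cases hq : q.Prime
  · by_cases hqp : q = p
    · subst hqp
      rw [Nat.factorization_ordCompl]
      simp
    · haveI : Fact q.Prime := ⟨hq⟩
      let Q : Sylow q G := default
      have h1 : Nat.card Q ∣ charDegree χ := by
        apply card_dvd_of_vanish hχ (Q : Subgroup G)
        intro y hyQ hy1
        apply hv y hy1
        obtain ⟨k, hk⟩ := (IsPGroup.iff_orderOf.mp Q.2) ⟨y, hyQ⟩
        refine ⟨q, k, hq, hqp, ?_⟩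
        rw [← hk, Subgroup.orderOf_mk]
      rw [Sylow.card_eq_multiplicity] at h1
      have h2 := (hq.pow_dvd_iff_le_factorization hdeg).mp h1
      rw [Nat.factorization_ordCompl]
      simp only [Finsupp.erase_ne hqp]
      exact h2
  · rw [Nat.factorization_eq_zero_of_not_prime _ hq]
    exact Nat.zero_le _

/-- Step C. -/
theorem sq_lt_of_vanOff (χ : IrrCharacter G) (hχ : (χ : G → ℂ) 1 ≠ 1) {p : ℕ} (hp : p.Prime)
    (hv : VanOff (χ : G → ℂ) p) :
    (ordCompl[p] (Nat.card G)) ^ 2 < Nat.card G := by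
  classical
  letI : Fintype G := Fintype.ofFinite G
  letI := irrFintype (G := G)
  have hdeg : charDegree (χ : G → ℂ) ≠ 0 := (charDegree_pos χ.2).ne'
  have hdvd := ordCompl_dvd_of_vanOff (isCharacter_of_isIrrCharacter χ.2) hp hv hdeg
  have hle : ordCompl[p] (Nat.card G) ≤ charDegree (χ : G → ℂ) :=
    Nat.le_of_dvd (charDegree_pos χ.2) hdvd
  have hne : χ ≠ principalChar G := by
    intro h
    apply hχ
    rw [h]
    rfl
  have hsum := sum_charDegree_sq (G := G)
  have h2 : charDegree (χ : G → ℂ) ^ 2 + charDegree ((principalChar G : IrrCharacter G) : G → ℂ) ^ 2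
      ≤ ∑ ψ : IrrCharacter G, charDegree (ψ : G → ℂ) ^ 2 := by
    have hsub : ({χ, principalChar G} : Finset (IrrCharacter G)) ⊆ Finset.univ :=
      Finset.subset_univ _
    have := Finset.sum_le_sum_of_subset (f := fun ψ : IrrCharacter G => charDegree (ψ : G → ℂ) ^ 2)
      hsub
    rwa [Finset.sum_pair hne] at this
  have h3 : charDegree ((principalChar G : IrrCharacter G) : G → ℂ) = 1 := by
    apply charDegree_natCast 1
    simp [principalChar]
  rw [h3, hsum] at h2
  have h4 : (ordCompl[p] (Nat.card G)) ^ 2 ≤ charDegree (χ : G → ℂ) ^ 2 :=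
    Nat.pow_le_pow_left hle 2
  omega

/-- Step D. -/
theorem false_of_two_primes {n p r : ℕ} (hn : n ≠ 0) (hp : p.Prime) (hr : r.Prime) (hpr : p ≠ r)
    (h1 : (ordCompl[p] n) ^ 2 < n) (h2 : (ordCompl[r] n) ^ 2 < n) : False := by
  set P := ordProj[p] n with hP
  set R := ordProj[r] n with hR
  set u := ordCompl[p] n with hu
  set w := ordCompl[r] n with hw
  have hPu : P * u = n := Nat.ordProj_mul_ordCompl_eq_self n p
  have hRw : R * w = n := Nat.ordProj_mul_ordCompl_eq_self n r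
  have hu0 : 0 < u := Nat.ordCompl_pos p hn
  have hw0 : 0 < w := Nat.ordCompl_pos r hn
  have huP : u < P := by
    have : u * u < P * u := by rw [hPu, ← sq]; exact h1
    exact Nat.lt_of_mul_lt_mul_right this
  have hwR : w < R := by
    have : w * w < R * w := by rw [hRw, ← sq]; exact h2
    exact Nat.lt_of_mul_lt_mul_right this
  have hcop : Nat.Coprime P R :=
    Nat.Coprime.pow _ _ ((Nat.coprime_primes hp hr).mpr hpr)
  have hRu : R ∣ u := by
    have : R ∣ P * u := by rw [hPu]; exact Nat.ordProj_dvd n r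
    exact hcop.symm.dvd_of_dvd_mul_left this
  have hPw : P ∣ w := by
    have : P ∣ R * w := by rw [hRw]; exact Nat.ordProj_dvd n p
    exact hcop.dvd_of_dvd_mul_left this
  have h3 : R ≤ u := Nat.le_of_dvd hu0 hRu
  have h4 : P ≤ w := Nat.le_of_dvd hw0 hPw
  omega

/-- PIECE CH3. Under `Mult G` there is a prime `p` good for all nonlinear characters. -/
theorem exists_good_prime (h : Mult G) : ∃ p : ℕ, p.Prime ∧ Good G p := by
  by_cases hex : ∃ χ : IrrCharacter G, (χ : G → ℂ) 1 ≠ 1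
  · obtain ⟨χ0, hχ0⟩ := hex
    obtain ⟨p, hp, hv0⟩ := exists_vanOff h χ0 hχ0
    refine ⟨p, hp, ?_⟩
    intro χ hχ
    obtain ⟨r, hr, hv⟩ := exists_vanOff h χ hχ
    by_cases hpr : p = r
    · subst hpr
      exact hv
    · exfalso
      exact false_of_two_primes (Nat.card_pos (α := G)).ne' hp hr hpr
        (sq_lt_of_vanOff χ0 hχ0 hp hv0) (sq_lt_of_vanOff χ hχ hr hv)
  · refine ⟨2, Nat.prime_two, ?_⟩
    intro χ hχ
    exact absurd ⟨χ, hχ⟩ hex

end Cfsg.Agent.Helper8.MX
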