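import Mathlib
import Cfsg.Prelude.Def_Characters
import Cfsg.Prelude.Def_Blocks
import Cfsg.Agent.Lib.Helper8.MXDefs
import Cfsg.Agent.Lib.Helper24.CharComplete
import Cfsg.Agent.Lib.Helper24.CharAbelian
import Cfsg.Agent.Lib.Helper24.CharAlgebra
import Cfsg.Agent.Lib.Helper24.CharLinear

/-!
# S4756 piece CH4 (helper8)
-/

set_option autoImplicit false

namespace Cfsg.Agent.Helper8.MX

open Cfsg Cfsg.Agent.Helper24

open scoped ComplexConjugate

universe u

variable {G : Type u} [Group G] [Finite G]

/-- PIECE CH4. Second orthogonality at `(y, y)`: nonlinear characters vanish, linear ones have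
absolute value one, and there are `|G : G'|` of them. -/
theorem centCard_of_good {p : ℕ} (h : Good G p) : CentCard G p := by
  classical
  letI : Fintype G := Fintype.ofFinite G
  letI := irrFintype (G := G)
  intro y hy hq
  have h1 := second_orthogonality' y y
  rw [if_pos (IsConj.refl y)] at h1
  have h2 : ∀ χ : IrrCharacter G, (χ : G → ℂ) y * conj ((χ : G → ℂ) y) =
      if (χ : G → ℂ) 1 = 1 then 1 else 0 := by
    intro χ
    split_ifs with hc
    · have hch := isCharacter_of_isIrrCharacter χ.2
      have hinv : (χ : G → ℂ) y⁻¹ = conj ((χ : G → ℂ) y) := irr_inv hch y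
      rw [← hinv, ← char_mul_of_degree_one hch hc, mul_inv_cancel, hc]
    · rw [h χ hc y hy hq, zero_mul]
  simp only [h2] at h1
  rw [Finset.sum_boole] at h1
  have h3 : (Finset.univ.filter (fun χ : IrrCharacter G => (χ : G → ℂ) 1 = 1)).card =
      Nat.card {χ : IrrCharacter G // (χ : G → ℂ) 1 = 1} := by
    rw [Nat.card_eq_fintype_card, Fintype.card_subtype]
  rw [h3, card_linear_characters] at h1
  exact_mod_cast h1.symm

end Cfsg.Agent.Helper8.MX
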