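import Mathlib
import Cfsg.Prelude.Def_Characters
import Cfsg.Prelude.Def_Blocks
import Cfsg.Agent.Lib.Helper8.MXDefs
import Cfsg.Agent.Lib.Helper8.MXCH1
import Cfsg.Agent.Lib.Helper8.MXCH2
import Cfsg.Agent.Lib.Helper8.MXCH3
import Cfsg.Agent.Lib.Helper8.MXCH4
import Cfsg.Agent.Lib.Helper19.MXGT1
import Cfsg.Agent.Lib.Helper19.MXGT2
import Cfsg.Agent.Lib.Helper19.MXCONV1
import Cfsg.Agent.Lib.Helper6.MXGT3
import Cfsg.Agent.Lib.Helper25.MXCYC
import Cfsg.Agent.Lib.Helper15.MXCONV2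
import Cfsg.Agent.Lib.Helper15.MXCONV3
import Cfsg.Agent.Lib.Helper24.CharComplete
import Cfsg.Agent.Lib.Helper24.CharAbelian
import Cfsg.Agent.Lib.Helper24.CharAlgebra

/-!
# S4756 assembly (helper8)
-/

set_option autoImplicit false

namespace Cfsg.Agent.Helper8.MX

open Cfsg Cfsg.Agent.Helper24
open scoped commutatorElement

universe u

variable {G : Type u} [Group G] [Finite G]

/-- In a `p`-group, a nontrivial element of `r`-power order forces `r = p`. -/
theorem prime_eq_of_mem_pgroup {p : ℕ} [hp : Fact p.Prime] {H : Subgroup G} (hH : IsPGroup p H)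
    {x : G} (hxH : x ∈ H) (hx : x ≠ 1) {r a : ℕ} (hr : r.Prime) (ho : orderOf x = r ^ a) :
    r = p := by
  obtain ⟨k, hk⟩ := hH ⟨x, hxH⟩
  have h1 : x ^ p ^ k = 1 := by
    have := congrArg Subtype.val hk
    simpa using this
  have h2 : orderOf x ∣ p ^ k := orderOf_dvd_of_pow_eq_one h1
  have ha : a ≠ 0 := by
    rintro rfl
    rw [pow_zero, orderOf_eq_one_iff] at ho
    exact hx ho
  have h3 : r ∣ p ^ k := by
    rw [ho] at h2
    exact (dvd_pow_self r ha).trans h2
  exact (Nat.prime_dvd_prime_iff_eq hr hp.out).mp (hr.dvd_of_dvd_pow h3)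

/-- Trivial case: `p`-groups. -/
theorem mult_of_pgroup {p : ℕ} (hp : p.Prime) (hG : IsPGroup p G) : Mult G := by
  intro x y χ hx hy hxy
  exfalso
  haveI : Fact p.Prime := ⟨hp⟩
  obtain ⟨p1, q1, a, b, hp1, hq1, hne, hox, hoy⟩ := hxy
  have hT : IsPGroup p (⊤ : Subgroup G) := hG.to_subgroup ⊤
  have h1 := prime_eq_of_mem_pgroup hT (Subgroup.mem_top x) hx hp1 hox
  have h2 := prime_eq_of_mem_pgroup hT (Subgroup.mem_top y) hy hq1 hoy
  exact hne (h1.trans h2.symm)

/-- Trivial case: abelian groups. -/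
theorem mult_of_comm (hG : IsMulCommutative G) : Mult G := by
  classical
  letI : Fintype G := Fintype.ofFinite G
  letI := irrFintype (G := G)
  intro x y χ _ _ _
  have hcomm : ∀ a b : G, a * b = b * a := fun a b => hG.is_comm.comm a b
  have h1 : charDegree (χ : G → ℂ) = 1 := charDegree_eq_one_of_comm hcomm χ.2
  have h2 : (χ : G → ℂ) 1 = 1 := (charDegree_eq_one_iff χ.2).mp h1
  exact char_mul_of_degree_one (isCharacter_of_isIrrCharacter χ.2) h2 x y

/-- CONV4: the structure implies multiplicativity. -/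
theorem mult_of_struct (p : ℕ) [hp : Fact p.Prime] (P : Sylow p G) (A : Subgroup G)
    (hS : Struct G p P A) : Mult G := by
  intro x y χ hx hy hxy
  by_cases hχ : (χ : G → ℂ) 1 = 1
  · exact char_mul_of_degree_one (isCharacter_of_isIrrCharacter χ.2) hχ x y
  have hDc := commutator_le_of_struct p P A hS
  haveI hDn : (⁅A, (P : Subgroup G)⁆).Normal := hS.2.2.2.2.2.2.1
  haveI hPn : (P : Subgroup G).Normal := hS.1
  have hvan : ∀ g : G, g ∉ (P : Subgroup G) → (χ : G → ℂ) g = 0 := fun g hg =>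
    vanish_of_fpf ⁅A, (P : Subgroup G)⁆ hDc g (fpf_of_struct p P A hS g hg) χ hχ
  obtain ⟨p1, q1, a, b, hp1, hq1, hne, hox, hoy⟩ := hxy
  have hnot : ¬ (x ∈ (P : Subgroup G) ∧ y ∈ (P : Subgroup G)) := by
    rintro ⟨hxP, hyP⟩
    have h1 := prime_eq_of_mem_pgroup P.2 hxP hx hp1 hox
    have h2 := prime_eq_of_mem_pgroup P.2 hyP hy hq1 hoy
    exact hne (h1.trans h2.symm)
  have hxy : x * y ∉ (P : Subgroup G) := by
    intro hmem
    apply hnot
    -- work in the quotient
    have e1 : (QuotientGroup.mk' (P : Subgroup G)) x * (QuotientGroup.mk' (P : Subgroup G)) y = 1 := by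
      rw [← map_mul]
      exact (QuotientGroup.eq_one_iff _).mpr hmem
    set xb := (QuotientGroup.mk' (P : Subgroup G)) x with hxb
    set yb := (QuotientGroup.mk' (P : Subgroup G)) y with hyb
    have e2 : xb = yb⁻¹ := eq_inv_of_mul_eq_one_left e1
    have o1 : orderOf xb ∣ p1 ^ a := by
      rw [← hox]; exact orderOf_map_dvd _ x
    have o2 : orderOf xb ∣ q1 ^ b := by
      rw [e2, orderOf_inv, ← hoy]; exact orderOf_map_dvd _ y
    have hcop : Nat.Coprime (p1 ^ a) (q1 ^ b) :=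
      Nat.Coprime.pow _ _ ((Nat.coprime_primes hp1 hq1).mpr hne)
    have o3 : orderOf xb = 1 := Nat.eq_one_of_dvd_coprimes hcop o1 o2
    have hx1 : xb = 1 := orderOf_eq_one_iff.mp o3
    have hy1 : yb = 1 := by
      have : yb⁻¹ = 1 := e2 ▸ hx1
      exact inv_eq_one.mp this
    exact ⟨(QuotientGroup.eq_one_iff x).mp hx1, (QuotientGroup.eq_one_iff y).mp hy1⟩
  rw [hvan _ hxy]
  by_cases hxP : x ∈ (P : Subgroup G)
  · have hyP : y ∉ (P : Subgroup G) := fun h => hnot ⟨hxP, h⟩
    rw [hvan y hyP, mul_zero]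
  · rw [hvan x hxP, zero_mul]

/-- A nontrivial element has a power of prime order. -/
theorem exists_prime_order_pow {a : G} (ha : a ≠ 1) :
    ∃ (q k : ℕ), q.Prime ∧ orderOf (a ^ k) = q ∧ a ^ k ≠ 1 := by
  have h1 : orderOf a ≠ 1 := fun h => ha (orderOf_eq_one_iff.mp h)
  obtain ⟨q, hq, hdvd⟩ := Nat.exists_prime_and_dvd h1
  obtain ⟨k, hk⟩ := hdvd
  have hpos : 0 < orderOf a := orderOf_pos a
  have hkpos : 0 < k := by
    rcases Nat.eq_zero_or_pos k with h | h
    · rw [h, mul_zero] at hk; omega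
    · exact h
  have ho : orderOf (a ^ k) = q := by
    rw [orderOf_pow' a hkpos.ne', hk, Nat.gcd_eq_right (Dvd.intro_left q rfl),
      Nat.mul_div_cancel _ hkpos]
  refine ⟨q, k, hq, ho, ?_⟩
  intro h
  rw [h, orderOf_one] at ho
  exact hq.one_lt.ne' ho.symm

/-- GT5: the structure from the centralizer-order condition. -/
theorem struct_of_centCard (p : ℕ) [hp : Fact p.Prime] (hnp : ¬ IsPGroup p G)
    (hnab : ¬ IsMulCommutative G) (h2 : CentCard G p) :
    ∃ (P : Sylow p G) (A : Subgroup G), Struct G p P A := by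
  have hc := isPGroup_commutator p h2
  let P : Sylow p G := default
  obtain ⟨hcP, hPn, A, hAab, hcop, hAP, hAPinf⟩ := exists_abelian_complement p hc P
  have hAne : A ≠ ⊥ := by
    intro h
    rw [h, bot_sup_eq] at hAP
    apply hnp
    have hT : IsPGroup p (⊤ : Subgroup G) := hAP ▸ P.2
    intro g
    obtain ⟨k, hk⟩ := hT ⟨g, Subgroup.mem_top g⟩
    exact ⟨k, by simpa using congrArg Subtype.val hk⟩
  have hDne : commutator G ≠ ⊥ := by
    intro h
    apply hnab
    refine ⟨⟨fun a b => ?_⟩⟩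
    have : ⁅a, b⁆ ∈ commutator G := Subgroup.commutator_mem_commutator (Subgroup.mem_top a)
      (Subgroup.mem_top b)
    rw [h, Subgroup.mem_bot, commutatorElement_eq_one_iff_mul_comm] at this
    exact this
  -- prime-power elements of `A` are for primes `≠ p`
  have hqp : ∀ y ∈ A, y ≠ 1 → ∀ q b : ℕ, q.Prime → orderOf y = q ^ b → q ≠ p := by
    intro y hyA hy1 q b hq ho hqp
    have hb : b ≠ 0 := by
      rintro rfl
      rw [pow_zero, orderOf_eq_one_iff] at ho
      exact hy1 ho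
    have h1 : orderOf y ∣ Nat.card A := by
      have := orderOf_dvd_natCard (⟨y, hyA⟩ : A)
      rwa [Subgroup.orderOf_mk] at this
    have h3 : q ∣ Nat.card A := (ho ▸ dvd_pow_self q hb).trans h1
    rw [hqp] at h3
    exact (Nat.Prime.coprime_iff_not_dvd hp.out).mp hcop.symm h3
  have hdata : ∀ y ∈ A, y ≠ 1 → ∀ q : ℕ, q.Prime → orderOf y = q →
      (∀ d ∈ commutator G, y * d = d * y → d = 1) ∧
      (∀ d ∈ commutator G, ∃ u ∈ (P : Subgroup G), d = u * y * u⁻¹ * y⁻¹) ∧
      (∀ u ∈ (P : Subgroup G), ∃ c ∈ (P : Subgroup G), c * y = y * c ∧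
        c⁻¹ * u ∈ commutator G) := by
    intro y hyA hy1 q hq ho
    have ho' : orderOf y = q ^ 1 := by rw [pow_one]; exact ho
    have hne := hqp y hyA hy1 q 1 hq ho'
    exact fpf_data p P hPn hcP A hAab hcop hAP y hyA q 1 hq hne ho' hy1
      (h2 y hy1 ⟨q, 1, hq, hne, ho'⟩)
  have hfpf : ∀ a ∈ A, a ≠ 1 → ∀ d ∈ commutator G, a * d = d * a → d = 1 := by
    intro a haA ha1 d hd hcomm
    obtain ⟨q, k, hq, ho, hne⟩ := exists_prime_order_pow ha1
    have hyA : a ^ k ∈ A := pow_mem haA k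
    have hc' : a ^ k * d = d * a ^ k := ((Commute.pow_left (show Commute a d from hcomm) k)).eq
    exact (hdata (a ^ k) hyA hne q hq ho).1 d hd hc'
  haveI : (commutator G).Normal := inferInstance
  have hcyc : IsCyclic A := isCyclic_of_fpf p A (commutator G) hAab hc hDne hcop hfpf
  -- a fixed element of prime order in `A`
  obtain ⟨a0, ha0A, ha01⟩ : ∃ a ∈ A, a ≠ 1 := by
    by_contra hcon
    push_neg at hcon
    exact hAne ((Subgroup.eq_bot_iff_forall A).mpr hcon)
  obtain ⟨q0, k0, hq0, ho0, hne0⟩ := exists_prime_order_pow ha01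
  set y1 := a0 ^ k0 with hy1def
  have hy1A : y1 ∈ A := pow_mem ha0A k0
  obtain ⟨hi, hii, hiii⟩ := hdata y1 hy1A hne0 q0 hq0 ho0
  have hAPD : ⁅A, (P : Subgroup G)⁆ = commutator G := by
    apply le_antisymm
    · rw [commutator_def]
      exact Subgroup.commutator_mono le_top le_top
    · intro d hd
      obtain ⟨u, hu, rfl⟩ := hii d hd
      rw [Subgroup.commutator_comm]
      exact Subgroup.commutator_mem_commutator hu hy1A
  -- elements of `P` commuting with `y1` centralize `A`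
  have hcent : ∀ c : G, c * y1 = y1 * c → c ∈ Subgroup.centralizer (A : Set G) := by
    intro c hcy
    rw [Subgroup.mem_centralizer_iff]
    intro a haA
    have he : ⁅c, a⁆ ∈ commutator G :=
      Subgroup.commutator_mem_commutator (Subgroup.mem_top c) (Subgroup.mem_top a)
    have hay : a * y1 = y1 * a := hAab a haA y1 hy1A
    have hcomm : y1 * ⁅c, a⁆ = ⁅c, a⁆ * y1 := by
      have h1 : Commute y1 c := hcy.symm
      have h2 : Commute y1 a := hay.symm
      exact (Commute.mul_right (Commute.mul_right (Commute.mul_right h1 h2) h1.inv_right)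
        h2.inv_right).eq
    have := hi _ he hcomm
    rw [commutatorElement_eq_one_iff_mul_comm] at this
    exact this.symm
  refine ⟨P, A, hPn, hcyc, hAne, hcop, hAP, ?_, ?_, ?_, ?_, ?_⟩
  · refine ⟨⟨fun c1 c2 => ?_⟩⟩
    apply Subtype.ext
    rw [Subgroup.coe_mul, Subgroup.coe_mul]
    have h1 := c1.2
    have h2 := c2.2
    rw [Subgroup.mem_inf] at h1 h2
    have he : ⁅(c1 : G), (c2 : G)⁆ ∈ commutator G :=
      Subgroup.commutator_mem_commutator (Subgroup.mem_top _) (Subgroup.mem_top _)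
    have hc1 : Commute y1 (c1 : G) :=
      ((Subgroup.mem_centralizer_iff.mp h1.2) y1 hy1A)
    have hc2 : Commute y1 (c2 : G) :=
      ((Subgroup.mem_centralizer_iff.mp h2.2) y1 hy1A)
    have hcomm : y1 * ⁅(c1 : G), (c2 : G)⁆ = ⁅(c1 : G), (c2 : G)⁆ * y1 :=
      (Commute.mul_right (Commute.mul_right (Commute.mul_right hc1 hc2) hc1.inv_right)
        hc2.inv_right).eq
    have := hi _ he hcomm
    rwa [commutatorElement_eq_one_iff_mul_comm] at this
  · rw [hAPD]; infer_instance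
  · rw [hAPD]
    apply le_antisymm
    · exact sup_le inf_le_left hcP
    · intro u hu
      obtain ⟨c, hcP', hcy, hcu⟩ := hiii u hu
      have : u = c * (c⁻¹ * u) := by group
      rw [this]
      exact Subgroup.mul_mem_sup (Subgroup.mem_inf.mpr ⟨hcP', hcent c hcy⟩) hcu
  · rw [hAPD, Subgroup.eq_bot_iff_forall]
    intro d hd
    rw [Subgroup.mem_inf, Subgroup.mem_inf] at hd
    have := (Subgroup.mem_centralizer_iff.mp hd.1.2) y1 hy1A
    exact hi d hd.2 this
  · rw [hAPD]
    exact hfpf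

/-- S4756. -/
theorem main : Mult G ↔ ((∃ p : ℕ, p.Prime ∧ IsPGroup p G) ∨ IsMulCommutative G ∨
    ∃ (p : ℕ) (_ : Fact p.Prime) (P : Sylow p G) (A : Subgroup G), Struct G p P A) := by
  constructor
  · intro h
    by_cases hab : IsMulCommutative G
    · exact Or.inr (Or.inl hab)
    by_cases hpg : ∃ p : ℕ, p.Prime ∧ IsPGroup p G
    · exact Or.inl hpg
    right; right
    obtain ⟨p, hp, hgood⟩ := exists_good_prime h
    haveI : Fact p.Prime := ⟨hp⟩
    have h2 := centCard_of_good hgood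
    have hnp : ¬ IsPGroup p G := fun hh => hpg ⟨p, hp, hh⟩
    obtain ⟨P, A, hS⟩ := struct_of_centCard p hnp hab h2
    exact ⟨p, ⟨hp⟩, P, A, hS⟩
  · rintro (⟨p, hp, hG⟩ | hab | ⟨p, hp, P, A, hS⟩)
    · exact mult_of_pgroup hp hG
    · exact mult_of_comm hab
    · exact mult_of_struct p P A hS

end Cfsg.Agent.Helper8.MX
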