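import Mathlib

set_option autoImplicit false

/-!
Piece D of Marggraf's theorem (S3620): the reduction from quasiprimitive to primitive.
-/

namespace Cfsg.Agent.Helper8.MargD

open MulAction

section sigma_level

variable {G Ω S : Type*} [Group G] [MulAction G Ω] [MulAction G S] [FaithfulSMul G S]
  [Fintype S] [DecidableEq S]

/-- If `G` induces every even permutation of `S` (at least 6 points), `π : Ω → S` is equivariant,
`x ≠ 1` is even on `S` and fixes the fibre over `σ0` pointwise, then every `a` which is even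
on `S` and fixes `σ0` fixes the fibre over `σ0` pointwise. -/
theorem fibre_fixed (π : Ω → S) (hπ : ∀ (g : G) (ω : Ω), π (g • ω) = g • π ω)
    (hS : ∀ σ : Equiv.Perm S, Equiv.Perm.sign σ = 1 → ∃ x : G, (MulAction.toPerm x : Equiv.Perm S) = σ)
    (h6 : 6 ≤ Fintype.card S) (σ0 : S) (ω1 : Ω) (hω1 : π ω1 = σ0)
    (x : G) (hx1 : x ≠ 1) (hxs : Equiv.Perm.sign (MulAction.toPerm x : Equiv.Perm S) = 1)
    (hxf : ∀ ω, π ω = σ0 → x • ω = ω)
    (a : G) (has : Equiv.Perm.sign (MulAction.toPerm a : Equiv.Perm S) = 1)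
    (haσ : a • σ0 = σ0) : a • ω1 = ω1 := by
  classical
  let τ : G →* Equiv.Perm S := MulAction.toPermHom G S
  have hτ : ∀ y : G, (MulAction.toPerm y : Equiv.Perm S) = τ y := fun _ => rfl
  have hτinj : Function.Injective τ := MulAction.toPerm_injective (α := G) (β := S)
  have hS' : ∀ σ : Equiv.Perm S, Equiv.Perm.sign σ = 1 → ∃ x : G, τ x = σ := hS
  -- the subtype
  let p : S → Prop := fun z => z ≠ σ0
  have hcard : 5 ≤ Nat.card {z : S // p z} := by
    rw [Nat.card_eq_fintype_card]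
    have h1 : Fintype.card {z : S // p z} = Fintype.card S - 1 := by
      have := Fintype.card_subtype_compl (fun z : S => z = σ0)
      rw [Fintype.card_subtype_eq] at this
      exact this
    omega
  -- restriction of an element fixing σ0
  have hres : ∀ y : G, y • σ0 = σ0 → ∃ f : Equiv.Perm {z : S // p z},
      Equiv.Perm.ofSubtype f = τ y := by
    intro y hy
    have h1 : ∀ z, p ((MulAction.toPerm y : Equiv.Perm S) z) ↔ p z := by
      intro z
      simp only [p, MulAction.toPerm_apply, ne_eq, not_iff_not]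
      constructor
      · intro h
        have : y • z = y • σ0 := by rw [h, hy]
        exact MulAction.injective y this
      · intro h
        rw [h, hy]
    refine ⟨Equiv.Perm.subtypePerm (MulAction.toPerm y) h1, ?_⟩
    apply Equiv.Perm.ofSubtype_subtypePerm
    intro z hz
    simp only [p]
    intro e
    apply hz
    rw [e, MulAction.toPerm_apply, hy]
  -- the normal subgroup of the alternating group
  let N : Subgroup (alternatingGroup {z : S // p z}) :=
    { carrier := {f | ∃ y : G, (∀ ω, π ω = σ0 → y • ω = ω) ∧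
        τ y = Equiv.Perm.ofSubtype (f : Equiv.Perm {z : S // p z})}
      one_mem' := ⟨1, fun ω _ => one_smul G ω, by rw [map_one, OneMemClass.coe_one, map_one]⟩
      mul_mem' := by
        rintro f1 f2 ⟨y1, hy1, e1⟩ ⟨y2, hy2, e2⟩
        refine ⟨y1 * y2, ?_, ?_⟩
        · intro ω hω
          rw [mul_smul, hy2 ω hω, hy1 ω hω]
        · rw [map_mul, e1, e2, Subgroup.coe_mul, map_mul]
      inv_mem' := by
        rintro f ⟨y, hy, e⟩
        refine ⟨y⁻¹, ?_, ?_⟩
        · intro ω hω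
          rw [inv_smul_eq_iff, hy ω hω]
        · rw [map_inv, e, Subgroup.coe_inv, map_inv] }
  have hNmem : ∀ f : alternatingGroup {z : S // p z}, f ∈ N ↔ ∃ y : G,
      (∀ ω, π ω = σ0 → y • ω = ω) ∧
      τ y = Equiv.Perm.ofSubtype (f : Equiv.Perm {z : S // p z}) :=
    fun f => Iff.rfl
  have hNnormal : N.Normal := by
    constructor
    intro f hf g
    obtain ⟨y, hy, e⟩ := (hNmem f).mp hf
    have hgs : Equiv.Perm.sign (Equiv.Perm.ofSubtype (g : Equiv.Perm {z : S // p z})) = 1 := by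
      rw [Equiv.Perm.sign_ofSubtype]
      exact Equiv.Perm.mem_alternatingGroup.mp g.2
    obtain ⟨yg, hyg⟩ := hS' _ hgs
    have hygσ : yg • σ0 = σ0 := by
      have : τ yg σ0 = σ0 := by
        rw [hyg]
        apply Equiv.Perm.ofSubtype_apply_of_not_mem
        simp [p]
      exact this
    rw [hNmem]
    refine ⟨yg * y * yg⁻¹, ?_, ?_⟩
    · intro ω hω
      have h1 : π (yg⁻¹ • ω) = σ0 := by
        rw [hπ, hω, inv_smul_eq_iff, hygσ]
      rw [mul_smul, mul_smul, hy _ h1, smul_inv_smul]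
    · rw [map_mul, map_mul, map_inv, e, hyg, Subgroup.coe_mul, Subgroup.coe_mul,
        Subgroup.coe_inv, map_mul, map_mul, map_inv]
  -- x and a as elements of the alternating group
  have hxσ : x • σ0 = σ0 := by
    rw [← hω1, ← hπ, hxf ω1 hω1]
  obtain ⟨fx, hfx⟩ := hres x hxσ
  obtain ⟨fa, hfa⟩ := hres a haσ
  have hfxs : fx ∈ alternatingGroup {z : S // p z} := by
    rw [Equiv.Perm.mem_alternatingGroup, ← Equiv.Perm.sign_ofSubtype, hfx, ← hτ]
    exact hxs
  have hfas : fa ∈ alternatingGroup {z : S // p z} := by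
    rw [Equiv.Perm.mem_alternatingGroup, ← Equiv.Perm.sign_ofSubtype, hfa, ← hτ]
    exact has
  have hxN : (⟨fx, hfxs⟩ : alternatingGroup {z : S // p z}) ∈ N :=
    (hNmem _).mpr ⟨x, hxf, hfx.symm⟩
  rcases alternatingGroup.normal_subgroup_eq_bot_or_eq_top hcard (N := N) with hN | hN
  · exfalso
    rw [hN, Subgroup.mem_bot] at hxN
    have hfx1 : fx = 1 := congrArg Subtype.val hxN
    apply hx1
    apply hτinj
    rw [← hfx, hfx1, map_one, map_one]
  · have haN : (⟨fa, hfas⟩ : alternatingGroup {z : S // p z}) ∈ N := by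
      rw [hN]; exact Subgroup.mem_top _
    obtain ⟨y, hy, e⟩ := (hNmem _).mp haN
    have hya : y = a := by
      apply hτinj
      rw [e, ← hfa]
    rw [← hya]
    exact hy ω1 hω1

end sigma_level

section perm_lemma

/-- an even permutation moving at most two points is trivial -/
theorem eq_one_of_sign_of_support {S : Type*} [Fintype S] [DecidableEq S] (f : Equiv.Perm S)
    (hs : Equiv.Perm.sign f = 1) (hc : f.support.card ≤ 2) : f = 1 := by
  by_contra hne
  have h0 : f.support.card ≠ 0 := fun h => hne (Equiv.Perm.card_support_eq_zero.mp h)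
  have h1 : f.support.card ≠ 1 := Equiv.Perm.card_support_ne_one f
  have h2 : f.support.card = 2 := by omega
  have hsw := Equiv.Perm.card_support_eq_two.mp h2
  rw [hsw.sign_eq] at hs
  exact absurd hs (by decide)

end perm_lemma

section contra

variable {G Ω S : Type*} [Group G] [MulAction G Ω] [MulAction G S] [FaithfulSMul G S]
  [Fintype Ω] [DecidableEq Ω] [Fintype S] [DecidableEq S]

theorem contra (π : Ω → S) (hπ : ∀ (g : G) (ω : Ω), π (g • ω) = g • π ω)
    (hsurj : Function.Surjective π)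
    (hfib : ∀ σ : S, ∃ ω1 ω2 : Ω, ω1 ≠ ω2 ∧ π ω1 = σ ∧ π ω2 = σ)
    (htrans : ∀ ω ω' : Ω, ∃ g : G, g • ω = ω')
    (hqp : ∀ N : Subgroup G, N.Normal → N ≠ ⊥ → ∀ ω ω' : Ω, ∃ g ∈ N, g • ω = ω')
    (Γ : Finset Ω) (hΓ1 : 1 < Γ.card) (hΓ2 : 2 * Γ.card < Fintype.card Ω)
    (hJ : ∀ x ∈ Γ, ∀ y ∈ Γ, ∃ h : G, (∀ z ∉ Γ, h • z = z) ∧ h • x = y)
    (PT : ∀ Γ' : Set S, 1 < Γ'.ncard → 2 * Γ'.ncard < Fintype.card S →
      MulAction.IsPretransitive ↥(fixingSubgroup G Γ'ᶜ) ↥(SubMulAction.ofFixingSubgroup G Γ'ᶜ) →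
      ∀ σ : Equiv.Perm S, Equiv.Perm.sign σ = 1 →
        ∃ x : G, (MulAction.toPerm x : Equiv.Perm S) = σ) : False := by
  classical
  obtain ⟨γ1, hγ1, γ2, hγ2, hγ12⟩ := Finset.one_lt_card.mp hΓ1
  -- elements of H preserve Γ
  have hpres : ∀ h : G, (∀ z ∉ Γ, h • z = z) → ∀ ω ∈ Γ, h • ω ∈ Γ := by
    intro h hh ω hω
    by_contra hn
    have h1 : h • (h • ω) = h • ω := hh _ hn
    have h2 : h • ω = ω := MulAction.injective h h1
    exact hn (by rw [h2]; exact hω)
  -- Claim 1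
  have hclaim1 : ¬ ∃ σ : S, ∀ γ ∈ Γ, π γ = σ := by
    rintro ⟨σ, hσ⟩
    obtain ⟨h, hh, hh12⟩ := hJ γ1 hγ1 γ2 hγ2
    have hfix : ∀ σ' : S, h • σ' = σ' := by
      intro σ'
      obtain ⟨ω', rfl⟩ := hsurj σ'
      by_cases hω' : ω' ∈ Γ
      · rw [← hπ, hσ _ (hpres h hh ω' hω'), hσ _ hω']
      · rw [← hπ, hh _ hω']
    have h1 : h = 1 := by
      apply MulAction.toPerm_injective (α := G) (β := S)
      ext σ'
      simp [hfix σ']
    rw [h1, one_smul] at hh12
    exact hγ12 hh12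
  -- Claim 2
  have hclaim2 : ∀ ω : Ω, (∃ γ ∈ Γ, π γ = π ω) → ω ∈ Γ := by
    rintro ω ⟨γ, hγ, hγω⟩
    by_contra hω
    apply hclaim1
    refine ⟨π ω, ?_⟩
    intro γ' hγ'
    obtain ⟨h, hh, hhγ⟩ := hJ γ hγ γ' hγ'
    rw [← hhγ, hπ, hγω, ← hπ, hh _ hω]
  -- the image
  set Γ' : Finset S := Γ.image π with hΓ'
  have hΓ'mem : ∀ ω : Ω, π ω ∈ Γ' ↔ ω ∈ Γ := by
    intro ω
    constructor
    · intro h
      obtain ⟨γ, hγ, e⟩ := Finset.mem_image.mp h
      exact hclaim2 ω ⟨γ, hγ, e⟩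
    · intro h
      exact Finset.mem_image_of_mem π h
  have hΓ'2 : 1 < Γ'.card := by
    by_contra hle
    have hle' : Γ'.card ≤ 1 := by omega
    apply hclaim1
    refine ⟨π γ1, ?_⟩
    intro γ hγ
    exact Finset.card_le_one.mp hle' _ ((hΓ'mem γ).mpr hγ) _ ((hΓ'mem γ1).mpr hγ1)
  -- fibres
  let fib : S → Finset Ω := fun σ => Finset.univ.filter (fun ω => π ω = σ)
  have hfibmem : ∀ σ ω, ω ∈ fib σ ↔ π ω = σ := by
    intro σ ω
    simp [fib]
  have htransS : ∀ σ σ' : S, ∃ g : G, g • σ = σ' := by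
    intro σ σ'
    obtain ⟨ω, rfl⟩ := hsurj σ
    obtain ⟨ω', rfl⟩ := hsurj σ'
    obtain ⟨g, hg⟩ := htrans ω ω'
    exact ⟨g, by rw [← hπ, hg]⟩
  have hfibcard : ∀ σ σ' : S, (fib σ).card = (fib σ').card := by
    intro σ σ'
    obtain ⟨g, hg⟩ := htransS σ σ'
    have : fib σ' = (fib σ).image (fun ω => g • ω) := by
      ext ω
      rw [Finset.mem_image, hfibmem]
      constructor
      · intro h
        refine ⟨g⁻¹ • ω, ?_, smul_inv_smul g ω⟩
        rw [hfibmem, hπ, h, ← hg, inv_smul_smul]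
      · rintro ⟨ω0, h0, rfl⟩
        rw [hπ, (hfibmem _ _).mp h0, hg]
    rw [this, Finset.card_image_of_injective _ (MulAction.injective g)]
  obtain ⟨σ00⟩ : Nonempty S := ⟨π γ1⟩
  set s := (fib σ00).card with hs
  have hΩcard : Fintype.card Ω = Fintype.card S * s := by
    have h1 := Finset.card_eq_sum_card_fiberwise (f := π) (s := (Finset.univ : Finset Ω))
      (t := (Finset.univ : Finset S)) (fun x _ => Finset.mem_univ _)
    rw [Finset.card_univ] at h1
    rw [h1, Finset.sum_congr rfl (fun σ _ => hfibcard σ σ00), Finset.sum_const, smul_eq_mul,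
      Finset.card_univ]
  have hΓcard : Γ.card = Γ'.card * s := by
    have h1 := Finset.card_eq_sum_card_fiberwise (f := π) (s := Γ) (t := Γ')
      (fun x hx => Finset.mem_image_of_mem π hx)
    have h2 : ∀ σ ∈ Γ', (Γ.filter (fun ω => π ω = σ)).card = s := by
      intro σ hσ
      rw [hs, hfibcard σ00 σ]
      congr 1
      ext ω
      simp only [Finset.mem_filter, hfibmem]
      constructor
      · exact fun h => h.2
      · intro h
        exact ⟨(hΓ'mem ω).mp (h ▸ hσ), h⟩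
    rw [h1, Finset.sum_congr rfl h2, Finset.sum_const, smul_eq_mul]
  have hspos : 0 < s := by
    rcases Nat.eq_zero_or_pos s with h | h
    · rw [h, Nat.mul_zero] at hΓcard
      omega
    · exact h
  have hΓ'lt : 2 * Γ'.card < Fintype.card S := by
    rw [hΩcard, hΓcard] at hΓ2
    have : (2 * Γ'.card) * s < Fintype.card S * s := by
      calc (2 * Γ'.card) * s = 2 * (Γ'.card * s) := by ring
        _ < Fintype.card S * s := hΓ2
    exact Nat.lt_of_mul_lt_mul_right this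
  -- Jordan property for Γ'
  have hJ' : MulAction.IsPretransitive ↥(fixingSubgroup G ((Γ' : Set S)ᶜ))
      ↥(SubMulAction.ofFixingSubgroup G ((Γ' : Set S)ᶜ)) := by
    constructor
    intro y z
    have hy : (y : S) ∈ Γ' := by
      have := (SubMulAction.mem_ofFixingSubgroup_iff (M := G)).mp y.2
      simpa using this
    have hz : (z : S) ∈ Γ' := by
      have := (SubMulAction.mem_ofFixingSubgroup_iff (M := G)).mp z.2
      simpa using this
    obtain ⟨γy, hγy, ey⟩ := Finset.mem_image.mp hy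
    obtain ⟨γz, hγz, ez⟩ := Finset.mem_image.mp hz
    obtain ⟨h, hh, hhyz⟩ := hJ γy hγy γz hγz
    have hmem : h ∈ fixingSubgroup G ((Γ' : Set S)ᶜ) := by
      rw [mem_fixingSubgroup_iff]
      intro σ' hσ'
      obtain ⟨ω', rfl⟩ := hsurj σ'
      have : ω' ∉ Γ := fun hω' => hσ' (by simpa using (hΓ'mem ω').mpr hω')
      rw [← hπ, hh _ this]
    refine ⟨⟨h, hmem⟩, Subtype.ext ?_⟩
    show h • (y : S) = (z : S)
    rw [← ey, ← hπ, hhyz, ez]
  have hS := PT (Γ' : Set S) (by rw [Set.ncard_coe_finset]; exact hΓ'2)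
    (by rw [Set.ncard_coe_finset]; exact hΓ'lt) hJ'
  -- a point outside Γ'
  obtain ⟨σ0, hσ0⟩ : ∃ σ0 : S, σ0 ∉ Γ' := by
    by_contra hall
    push_neg at hall
    have : Γ' = Finset.univ := Finset.eq_univ_iff_forall.mpr hall
    rw [this, Finset.card_univ] at hΓ'lt
    omega
  obtain ⟨ω1, ω2, hω12, hω1, hω2⟩ := hfib σ0
  -- the element x
  have hΓ3 : 3 ≤ Γ.card := by
    have : 2 ≤ s := by
      obtain ⟨u1, u2, hu12, hu1, hu2⟩ := hfib σ00
      have : 1 < (fib σ00).card :=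
        Finset.one_lt_card.mpr ⟨u1, (hfibmem _ _).mpr hu1, u2, (hfibmem _ _).mpr hu2, hu12⟩
      omega
    have : 2 * 2 ≤ Γ'.card * s := Nat.mul_le_mul (by omega) this
    omega
  obtain ⟨γ3, hγ3, hγ31, hγ32⟩ : ∃ γ3 ∈ Γ, γ3 ≠ γ1 ∧ γ3 ≠ γ2 := by
    have h1 : 1 ≤ ((Γ.erase γ1).erase γ2).card := by
      rw [Finset.card_erase_of_mem (Finset.mem_erase.mpr ⟨hγ12.symm, hγ2⟩),
        Finset.card_erase_of_mem hγ1]
      omega
    obtain ⟨γ3, h3⟩ := Finset.card_pos.mp h1
    rw [Finset.mem_erase, Finset.mem_erase] at h3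
    exact ⟨γ3, h3.2.2, h3.2.1, h3.1⟩
  let τ : G →* Equiv.Perm S := MulAction.toPermHom G S
  obtain ⟨x, hxfix, hx1, hxs⟩ : ∃ x : G, (∀ z ∉ Γ, x • z = z) ∧ x ≠ 1 ∧
      Equiv.Perm.sign (τ x) = 1 := by
    obtain ⟨h1, hh1, e1⟩ := hJ γ1 hγ1 γ2 hγ2
    obtain ⟨h2, hh2, e2⟩ := hJ γ1 hγ1 γ3 hγ3
    have hh1ne : h1 ≠ 1 := by
      intro e; rw [e, one_smul] at e1; exact hγ12 e1
    have hh2ne : h2 ≠ 1 := by
      intro e; rw [e, one_smul] at e2; exact hγ31 e2.symm
    rcases Int.units_eq_one_or (Equiv.Perm.sign (τ h1)) with s1 | s1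
    · exact ⟨h1, hh1, hh1ne, s1⟩
    rcases Int.units_eq_one_or (Equiv.Perm.sign (τ h2)) with s2 | s2
    · exact ⟨h2, hh2, hh2ne, s2⟩
    refine ⟨h1 * h2⁻¹, ?_, ?_, ?_⟩
    · intro z hz
      rw [mul_smul]
      have : h2⁻¹ • z = z := by rw [inv_smul_eq_iff, hh2 z hz]
      rw [this, hh1 z hz]
    · intro e
      have : h1 = h2 := by rwa [mul_inv_eq_one] at e
      rw [this, e2] at e1
      exact hγ32 e1
    · rw [map_mul, map_mul, map_inv, map_inv, s1, s2]
      decide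
  -- x fixes the fibre over σ0
  have hxf : ∀ ω, π ω = σ0 → x • ω = ω := by
    intro ω hω
    apply hxfix
    intro hωΓ
    exact hσ0 (hω ▸ (hΓ'mem ω).mpr hωΓ)
  -- the normal subgroup A
  let A : Subgroup G := (Equiv.Perm.sign.comp τ).ker
  have hAmem : ∀ g : G, g ∈ A ↔ Equiv.Perm.sign (τ g) = 1 := by
    intro g
    rw [MonoidHom.mem_ker, MonoidHom.comp_apply]
  have hAne : A ≠ ⊥ := by
    intro e
    have : x ∈ A := (hAmem x).mpr hxs
    rw [e, Subgroup.mem_bot] at this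
    exact hx1 this
  obtain ⟨a, haA, ha12⟩ := hqp A (MonoidHom.normal_ker _) hAne ω1 ω2
  have has : Equiv.Perm.sign (τ a) = 1 := (hAmem a).mp haA
  have haσ : a • σ0 = σ0 := by
    have := hπ a ω1
    rw [hω1, ha12, hω2] at this
    exact this.symm
  rcases Nat.lt_or_ge (Fintype.card S) 6 with h6 | h6
  · -- card S = 5
    have hc2 : Γ'.card = 2 := by omega
    have hsupp : (τ x).support ⊆ Γ' := by
      intro σ' hσ'
      rw [Equiv.Perm.mem_support] at hσ'
      by_contra hn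
      apply hσ'
      obtain ⟨ω', rfl⟩ := hsurj σ'
      have : ω' ∉ Γ := fun hω' => hn ((hΓ'mem ω').mpr hω')
      show x • π ω' = π ω'
      rw [← hπ, hxfix _ this]
    have hx' : τ x = 1 := by
      apply eq_one_of_sign_of_support _ hxs
      have := Finset.card_le_card hsupp
      omega
    apply hx1
    apply MulAction.toPerm_injective (α := G) (β := S)
    show τ x = τ 1
    rw [hx', map_one]
  · -- card S ≥ 6
    have := fibre_fixed π hπ hS h6 σ0 ω1 hω1 x hx1 hxs hxf a has haσ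
    rw [ha12] at this
    exact hω12 this.symm

end contra

section main

variable {G Ω : Type*} [Group G] [Finite G] [MulAction G Ω] [FaithfulSMul G Ω]
  [Fintype Ω] [DecidableEq Ω]

/-- Piece D: reduction of the quasiprimitive case of Marggraf's theorem to the primitive case. -/
theorem quasi_reduction
    (PTΩ : MulAction.IsPreprimitive G Ω → ∀ Γ : Set Ω, 1 < Γ.ncard →
      2 * Γ.ncard < Fintype.card Ω →
      MulAction.IsPretransitive ↥(fixingSubgroup G Γᶜ) ↥(SubMulAction.ofFixingSubgroup G Γᶜ) →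
      ∀ σ : Equiv.Perm Ω, Equiv.Perm.sign σ = 1 →
        ∃ x : G, (MulAction.toPerm x : Equiv.Perm Ω) = σ)
    (PTQ : ∀ (P : Subgroup G) [Fintype (G ⧸ P)] [DecidableEq (G ⧸ P)],
      MulAction.IsPreprimitive G (G ⧸ P) → ∀ Γ' : Set (G ⧸ P), 1 < Γ'.ncard →
      2 * Γ'.ncard < Fintype.card (G ⧸ P) →
      MulAction.IsPretransitive ↥(fixingSubgroup G Γ'ᶜ) ↥(SubMulAction.ofFixingSubgroup G Γ'ᶜ) →
      ∀ σ : Equiv.Perm (G ⧸ P), Equiv.Perm.sign σ = 1 →
        ∃ x : G, (MulAction.toPerm x : Equiv.Perm (G ⧸ P)) = σ)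
    (hqp : ∀ N : Subgroup G, N.Normal → N ≠ ⊥ → MulAction.IsPretransitive ↥N Ω)
    (Γ : Set Ω) (hΓ1 : 1 < Γ.ncard) (hΓ2 : 2 * Γ.ncard < Fintype.card Ω)
    (hJ : MulAction.IsPretransitive ↥(fixingSubgroup G Γᶜ)
      ↥(SubMulAction.ofFixingSubgroup G Γᶜ)) :
    ∀ σ : Equiv.Perm Ω, Equiv.Perm.sign σ = 1 →
      ∃ x : G, (MulAction.toPerm x : Equiv.Perm Ω) = σ := by
  classical
  by_cases hprim : MulAction.IsPreprimitive G Ω
  · exact PTΩ hprim Γ hΓ1 hΓ2 hJ
  exfalso
  -- elementary Jordan property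
  have hJe : ∀ x ∈ Γ, ∀ y ∈ Γ, ∃ h : G, (∀ z ∉ Γ, h • z = z) ∧ h • x = y := by
    intro x hx y hy
    have hx' : x ∈ SubMulAction.ofFixingSubgroup G Γᶜ := by
      rw [SubMulAction.mem_ofFixingSubgroup_iff]; simpa using hx
    have hy' : y ∈ SubMulAction.ofFixingSubgroup G Γᶜ := by
      rw [SubMulAction.mem_ofFixingSubgroup_iff]; simpa using hy
    obtain ⟨h, hh⟩ := hJ.exists_smul_eq ⟨x, hx'⟩ ⟨y, hy'⟩
    refine ⟨h.1, ?_, congrArg Subtype.val hh⟩
    intro z hz
    exact (mem_fixingSubgroup_iff G).mp h.2 z hz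
  obtain ⟨γ1, hγ1, γ2, hγ2, hγ12⟩ := (Set.one_lt_ncard (Set.toFinite Γ)).mp hΓ1
  obtain ⟨h0, hh0, e0⟩ := hJe γ1 hγ1 γ2 hγ2
  have htop : (⊤ : Subgroup G) ≠ ⊥ := by
    intro e
    have : h0 ∈ (⊥ : Subgroup G) := e ▸ Subgroup.mem_top h0
    rw [Subgroup.mem_bot] at this
    rw [this, one_smul] at e0
    exact hγ12 e0
  have hqpe : ∀ N : Subgroup G, N.Normal → N ≠ ⊥ → ∀ ω ω' : Ω, ∃ g ∈ N, g • ω = ω' := by
    intro N hN hne ω ω'
    obtain ⟨g, hg⟩ := (hqp N hN hne).exists_smul_eq ω ω'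
    exact ⟨g.1, g.2, hg⟩
  have htranse : ∀ ω ω' : Ω, ∃ g : G, g • ω = ω' := by
    intro ω ω'
    obtain ⟨g, _, hg⟩ := hqpe ⊤ inferInstance htop ω ω'
    exact ⟨g, hg⟩
  have htrans : MulAction.IsPretransitive G Ω := ⟨htranse⟩
  have : Nontrivial Ω := ⟨⟨γ1, γ2, hγ12⟩⟩
  -- a maximal subgroup above the stabiliser
  have hnc : ¬ IsCoatom (MulAction.stabilizer G γ1) := by
    rw [MulAction.isCoatom_stabilizer_iff_preprimitive]; exact hprim
  have hne_top : MulAction.stabilizer G γ1 ≠ ⊤ := by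
    intro e
    have : h0 ∈ MulAction.stabilizer G γ1 := e ▸ Subgroup.mem_top h0
    rw [MulAction.mem_stabilizer_iff] at this
    exact hγ12 (this.symm.trans e0)
  obtain ⟨P, hPco, hPle⟩ :=
    (eq_top_or_exists_le_coatom (MulAction.stabilizer G γ1)).resolve_left hne_top
  have hPne : MulAction.stabilizer G γ1 ≠ P := fun e => hnc (e ▸ hPco)
  haveI : Fintype (G ⧸ P) := Fintype.ofFinite _
  -- the projection
  let π : Ω → G ⧸ P := fun ω => ((Classical.choose (htranse γ1 ω) : G) : G ⧸ P)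
  have hπ0 : ∀ g : G, π (g • γ1) = (g : G ⧸ P) := by
    intro g
    have hc := Classical.choose_spec (htranse γ1 (g • γ1))
    show ((Classical.choose (htranse γ1 (g • γ1)) : G) : G ⧸ P) = (g : G ⧸ P)
    generalize Classical.choose (htranse γ1 (g • γ1)) = c at hc ⊢
    rw [QuotientGroup.eq]
    apply hPle
    rw [MulAction.mem_stabilizer_iff, mul_smul, ← hc, inv_smul_smul]
  have hπ : ∀ (g : G) (ω : Ω), π (g • ω) = g • π ω := by
    intro g ω
    obtain ⟨k, rfl⟩ := htranse γ1 ω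
    rw [← mul_smul, hπ0, hπ0]
    rfl
  have hsurj : Function.Surjective π := by
    intro q
    obtain ⟨g, rfl⟩ := QuotientGroup.mk_surjective q
    exact ⟨g • γ1, hπ0 g⟩
  obtain ⟨p0, hp0P, hp0s⟩ := SetLike.exists_of_lt (lt_of_le_of_ne hPle hPne)
  have hfib : ∀ σ : G ⧸ P, ∃ ω1 ω2 : Ω, ω1 ≠ ω2 ∧ π ω1 = σ ∧ π ω2 = σ := by
    intro σ
    obtain ⟨g, rfl⟩ := QuotientGroup.mk_surjective σ
    refine ⟨g • γ1, (g * p0) • γ1, ?_, hπ0 g, ?_⟩
    · intro e
      rw [mul_smul] at e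
      have := MulAction.injective g e
      exact hp0s (MulAction.mem_stabilizer_iff.mpr this.symm)
    · rw [hπ0, QuotientGroup.eq]
      simpa using hp0P
  -- faithfulness on the quotient
  have hker : (MulAction.toPermHom G (G ⧸ P)).ker = ⊥ := by
    by_contra hKne
    have hKP : (MulAction.toPermHom G (G ⧸ P)).ker ≤ P := by
      intro c hc
      have h1 : MulAction.toPermHom G (G ⧸ P) c = 1 := MonoidHom.mem_ker.mp hc
      have h2 : c • ((1 : G) : G ⧸ P) = ((1 : G) : G ⧸ P) := by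
        have := congrArg (fun f : Equiv.Perm (G ⧸ P) => f ((1 : G) : G ⧸ P)) h1
        simpa using this
      have h3 : c ∈ MulAction.stabilizer G ((1 : G) : G ⧸ P) := MulAction.mem_stabilizer_iff.mpr h2
      rwa [MulAction.stabilizer_quotient] at h3
    apply hPco.1
    rw [eq_top_iff]
    intro g _
    obtain ⟨c, hc, hcg⟩ := hqpe _ (MonoidHom.normal_ker _) hKne γ1 (g • γ1)
    have h1 : c⁻¹ * g ∈ P := by
      apply hPle
      rw [MulAction.mem_stabilizer_iff, mul_smul, ← hcg, inv_smul_smul]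
    have h2 : c * (c⁻¹ * g) ∈ P := P.mul_mem (hKP hc) h1
    simpa using h2
  have hfaith : FaithfulSMul G (G ⧸ P) := by
    constructor
    intro g1 g2 h
    have hinj : Function.Injective (MulAction.toPermHom G (G ⧸ P)) :=
      (MonoidHom.ker_eq_bot_iff _).mp hker
    apply hinj
    ext q
    exact h q
  -- primitivity on the quotient
  have : MulAction.IsPretransitive G (G ⧸ P) := by
    constructor
    intro q1 q2
    obtain ⟨ω, rfl⟩ := hsurj q1
    obtain ⟨ω', rfl⟩ := hsurj q2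
    obtain ⟨g, hg⟩ := htranse ω ω'
    exact ⟨g, by rw [← hπ, hg]⟩
  have : Nontrivial (G ⧸ P) := by
    obtain ⟨g, hg⟩ : ∃ g : G, g ∉ P := by
      by_contra hall
      push_neg at hall
      exact hPco.1 (eq_top_iff.mpr (fun g _ => hall g))
    refine ⟨⟨(g : G ⧸ P), ((1 : G) : G ⧸ P), ?_⟩⟩
    intro e
    rw [QuotientGroup.eq] at e
    apply hg
    have : g⁻¹ ∈ P := by simpa using e
    simpa using P.inv_mem this
  have hprimS : MulAction.IsPreprimitive G (G ⧸ P) := by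
    rw [← MulAction.isCoatom_stabilizer_iff_preprimitive (G := G) ((1 : G) : G ⧸ P),
      MulAction.stabilizer_quotient]
    exact hPco
  -- finset version of Γ
  set Γf : Finset Ω := (Set.toFinite Γ).toFinset with hΓf
  have hΓfmem : ∀ z, z ∈ Γf ↔ z ∈ Γ := fun z => Set.Finite.mem_toFinset _
  have hΓfcard : Γf.card = Γ.ncard := (Set.ncard_eq_toFinset_card Γ (Set.toFinite Γ)).symm
  refine contra π hπ hsurj hfib htranse hqpe Γf (by omega) (by omega) ?_ (PTQ P hprimS)
  intro x hx y hy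
  obtain ⟨h, hh, e⟩ := hJe x ((hΓfmem x).mp hx) y ((hΓfmem y).mp hy)
  exact ⟨h, fun z hz => hh z (fun hzΓ => hz ((hΓfmem z).mpr hzΓ)), e⟩

end main

end Cfsg.Agent.Helper8.MargD
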