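import Mathlib
import Cfsg.Agent.Lib.Lead.NC2Defs

/-!
# S3894 (n = 2), piece N2-F4 (helper8)

If `pr g`, `pr z` commute in `PGL₂(F)` but `g`, `z` do not commute, then `g² ` is scalar.
-/

set_option autoImplicit false

namespace Cfsg.Agent.Lead.NC2

open Matrix

variable {F : Type*} [Field F]

/-- Cayley–Hamilton for `2 × 2` matrices. -/
theorem nc2_f4_cayley (g : Matrix (Fin 2) (Fin 2) F) :
    g * g = g.trace • g - g.det • (1 : Matrix (Fin 2) (Fin 2) F) := by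
  ext i j
  fin_cases i <;> fin_cases j <;>
    simp [Matrix.mul_apply, Fin.sum_univ_two, Matrix.trace_fin_two, Matrix.det_fin_two] <;> ring

/-- equal images in `PGL₂`: the matrices differ by a scalar. -/
theorem nc2_f4_smul_of_pr_eq {a b : GL (Fin 2) F} (h : pr a = pr b) :
    ∃ c : F, (b : Matrix (Fin 2) (Fin 2) F) = c • (a : Matrix (Fin 2) (Fin 2) F) := by
  have h1 : a⁻¹ * b ∈ Subgroup.center (GL (Fin 2) F) := QuotientGroup.eq.1 h
  rw [Matrix.GeneralLinearGroup.mem_center_iff_val_mem_range_scalar] at h1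
  obtain ⟨c, hc⟩ := h1
  refine ⟨c, ?_⟩
  have h2 : (b : Matrix (Fin 2) (Fin 2) F) =
      (a : Matrix (Fin 2) (Fin 2) F) * ((a⁻¹ * b : GL (Fin 2) F) : Matrix (Fin 2) (Fin 2) F) := by
    rw [← Units.val_mul, mul_inv_cancel_left]
  rw [h2, ← hc, Matrix.scalar_apply, ← Matrix.smul_one_eq_diagonal, Matrix.mul_smul, mul_one]

theorem sq_scalar_of_pr_commute {z g : GL (Fin 2) F} (h : pr g * pr z = pr z * pr g)
    (hn : g * z ≠ z * g) :
    IsScalar ((g : Matrix (Fin 2) (Fin 2) F) * (g : Matrix (Fin 2) (Fin 2) F)) := by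
  rw [← map_mul, ← map_mul] at h
  obtain ⟨c, hc⟩ := nc2_f4_smul_of_pr_eq h
  rw [Units.val_mul, Units.val_mul] at hc
  -- `c ≠ 1`
  have hc1 : c ≠ 1 := by
    rintro rfl
    rw [one_smul] at hc
    apply hn
    apply Units.ext
    rw [Units.val_mul, Units.val_mul, hc]
  -- `z g z⁻¹ = c • g`
  have hzz : (z : Matrix (Fin 2) (Fin 2) F) * ((z⁻¹ : GL (Fin 2) F) : Matrix (Fin 2) (Fin 2) F) = 1 := by
    rw [← Units.val_mul, mul_inv_cancel, Units.val_one]
  have hzz' : ((z⁻¹ : GL (Fin 2) F) : Matrix (Fin 2) (Fin 2) F) * (z : Matrix (Fin 2) (Fin 2) F) = 1 := by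
    rw [← Units.val_mul, inv_mul_cancel, Units.val_one]
  have hconj : (z : Matrix (Fin 2) (Fin 2) F) * (g : Matrix (Fin 2) (Fin 2) F) *
      ((z⁻¹ : GL (Fin 2) F) : Matrix (Fin 2) (Fin 2) F) = c • (g : Matrix (Fin 2) (Fin 2) F) := by
    rw [hc, Matrix.smul_mul, Matrix.mul_assoc, hzz, mul_one]
  have htr : ((z : Matrix (Fin 2) (Fin 2) F) * (g : Matrix (Fin 2) (Fin 2) F) *
      ((z⁻¹ : GL (Fin 2) F) : Matrix (Fin 2) (Fin 2) F)).trace =
        (g : Matrix (Fin 2) (Fin 2) F).trace := by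
    rw [Matrix.trace_mul_comm, ← Matrix.mul_assoc, hzz', one_mul]
  rw [hconj, Matrix.trace_smul, smul_eq_mul] at htr
  have ht0 : (g : Matrix (Fin 2) (Fin 2) F).trace = 0 := by
    have h3 : (c - 1) * (g : Matrix (Fin 2) (Fin 2) F).trace = 0 := by
      rw [sub_mul, one_mul, htr, sub_self]
    rcases mul_eq_zero.1 h3 with h4 | h4
    · exact absurd (sub_eq_zero.1 h4) hc1
    · exact h4
  refine ⟨-(g : Matrix (Fin 2) (Fin 2) F).det, ?_⟩
  rw [nc2_f4_cayley, ht0, zero_smul, zero_sub, neg_smul]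

end Cfsg.Agent.Lead.NC2
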