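import Mathlib
import Cfsg.Agent.Lib.Lead.NC2Defs

/-!
# S3894 (n = 2), piece N2-SEP, core (helper8)

Two witnesses in a common nilpotent subgroup belong to the same piece; the statement of
`T_eq_of_nilpotent` (piece N2-LEMN) enters as a hypothesis.
-/

set_option autoImplicit false

namespace Cfsg.Agent.Lead.NC2

open Matrix

variable {F : Type*} [Field F]

section fin

variable [Fintype F]

theorem nc2_sep_core
    (hT : ∀ (H : Subgroup (PGL2 F)), Group.IsNilpotent H →
      ∀ (x₁ x₂ : GL (Fin 2) F), Good x₁ → Good x₂ → pr x₁ ∈ H → pr x₂ ∈ H → T x₁ = T x₂)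
    {H : Subgroup (PGL2 F)} (hH : Group.IsNilpotent H) {A A' : Subgroup (PGL2 F)}
    {w w' : PGL2 F} (h : IsWit A w) (h' : IsWit A' w') (m : w ∈ H) (m' : w' ∈ H) : A = A' := by
  obtain ⟨y, hw, hy, hTy, _, _⟩ := h
  obtain ⟨y', hw', hy', hTy', _, _⟩ := h'
  rw [hw] at m
  rw [hw'] at m'
  rw [← hTy, ← hTy']
  exact hT H hH y y' hy hy' m m'

end fin

end Cfsg.Agent.Lead.NC2
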