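import Mathlib
import Cfsg.Agent.Lib.Lead.NC2Defs
import Cfsg.Agent.Lib.Helper19.NC2LEMN
import Cfsg.Agent.Lib.Helper8.NC2SEPCore

/-!
# S3894 (n = 2), piece N2-SEP (helper8): two witnesses in a common nilpotent subgroup belong to the same piece.
-/

set_option autoImplicit false

namespace Cfsg.Agent.Lead.NC2

open Matrix

variable {F : Type*} [Field F]

section fin

variable [Fintype F]

theorem wit_sep {H : Subgroup (PGL2 F)} (hH : Group.IsNilpotent H) {A A' : Subgroup (PGL2 F)}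
    {w w' : PGL2 F} (h : IsWit A w) (h' : IsWit A' w') (m : w ∈ H) (m' : w' ∈ H) : A = A' :=
  nc2_sep_core (fun _ hH _ _ h₁ h₂ m₁ m₂ => T_eq_of_nilpotent hH h₁ h₂ m₁ m₂) hH h h' m m'

end fin

end Cfsg.Agent.Lead.NC2
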