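import Mathlib
import Cfsg.Agent.Lib.Helper3.SmallOrd
import Cfsg.Agent.Lib.Lead.PermTools
import Cfsg.Agent.Lib.Helper27.SylowSieve
import Cfsg.Agent.Lib.Helper10.BrSieve
import Cfsg.Agent.Lib.Helper25.BR996PERF

set_option autoImplicit false

/-!
# No simple group of order 4620 (piece S0983-ORD4620 of helper10's S0983)

`4620 = 2^2 * 3 * 5 * 7 * 11`.  The Sylow sieve leaves `n_11 = 210` and `n_7 = 330`, i.e.
`|N(P_11)| = 22` and `|N(P_7)| = 14`.  Brauer's theorem (`BrSieve.brauer_w2`) at `p = 7` leaves the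
degree pairs `(x, y) ∈ {(1, 2), (6, 5)}` and at `p = 11` the pairs `{(1, 2), (21, 20)}`; every
irreducible degree is `1`, `x`, `y` or a multiple of `p`.  The mixed cases contradict each other and
in the case `(1, 2)`, `(1, 2)` all nonprincipal degrees would be `2`, against the sum of squares.
-/

namespace Cfsg.Agent.Helper3.SmallOrd

open Cfsg Cfsg.Agent.Helper24

variable {G : Type*} [Group G] [Finite G] [IsSimpleGroup G]

/-- arithmetic at `p = 7` -/
theorem o4620_arith7 {x y a b : ℕ} {δ d0 : ℤ} (hδ : δ = 1 ∨ δ = -1) (hd0 : d0 = 1 ∨ d0 = -1)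
    (h1 : (7 : ℤ) * a = x + δ * (7 - 1)) (h2 : (7 : ℤ) * b = y + d0 * 2)
    (h3 : 1 + δ * x + d0 * y = 0) (hx : x ∣ 4620) (hy : y ∣ 4620) :
    (x = 1 ∧ y = 2) ∨ (x = 6 ∧ y = 5) := by
  have hxm : x ∈ Nat.divisors 4620 := Nat.mem_divisors.2 ⟨hx, by norm_num⟩
  have hym : y ∈ Nat.divisors 4620 := Nat.mem_divisors.2 ⟨hy, by norm_num⟩
  simp only [Nat.divisors_ofNat] at hxm hym
  simp only [Finset.mem_insert, Finset.mem_singleton] at hxm hym
  rcases hδ with rfl | rfl <;> rcases hd0 with rfl | rfl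
  · omega
  · have hyx : y = x + 1 := by omega
    subst hyx
    have hx4 : x = 1 ∨ x = 15 ∨ x = 22 ∨ x = 330 := by omega
    rcases hx4 with rfl | rfl | rfl | rfl
    · left; exact ⟨rfl, rfl⟩
    · omega
    · omega
    · omega
  · have hyx : x = y + 1 := by omega
    subst hyx
    have hy4 : y = 5 ∨ y = 19 ∨ y = 54 ∨ y = 131 := by omega
    rcases hy4 with rfl | rfl | rfl | rfl
    · right; exact ⟨rfl, rfl⟩
    · omega
    · omega
    · omega
  · omega

/-- arithmetic at `p = 11` -/
theorem o4620_arith11 {x y a b : ℕ} {δ d0 : ℤ} (hδ : δ = 1 ∨ δ = -1) (hd0 : d0 = 1 ∨ d0 = -1)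
    (h1 : (11 : ℤ) * a = x + δ * (11 - 1)) (h2 : (11 : ℤ) * b = y + d0 * 2)
    (h3 : 1 + δ * x + d0 * y = 0) (hx : x ∣ 4620) (hy : y ∣ 4620) :
    (x = 1 ∧ y = 2) ∨ (x = 21 ∧ y = 20) := by
  have hxm : x ∈ Nat.divisors 4620 := Nat.mem_divisors.2 ⟨hx, by norm_num⟩
  have hym : y ∈ Nat.divisors 4620 := Nat.mem_divisors.2 ⟨hy, by norm_num⟩
  simp only [Nat.divisors_ofNat] at hxm hym
  simp only [Finset.mem_insert, Finset.mem_singleton] at hxm hym
  rcases hδ with rfl | rfl <;> rcases hd0 with rfl | rfl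
  · omega
  · have hyx : y = x + 1 := by omega
    subst hyx
    have hx4 : x = 1 ∨ x = 12 ∨ x = 210 := by omega
    rcases hx4 with rfl | rfl | rfl
    · left; exact ⟨rfl, rfl⟩
    · omega
    · omega
  · have hyx : x = y + 1 := by omega
    subst hyx
    have hy4 : y = 9 ∨ y = 20 := by omega
    rcases hy4 with rfl | rfl
    · omega
    · right; exact ⟨rfl, rfl⟩
  · omega

theorem no_simple_4620 (h : Nat.card G = 4620) : False := by
  classical
  have hG : ∃ x y : G, x * y ≠ y * x :=
    Cfsg.Agent.Lead.nonabelian_of_not_prime (by rw [h]; norm_num)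
  have hG2 : 2 < Nat.card G := by rw [h]; norm_num
  have : Fact (Nat.Prime 7) := ⟨by norm_num⟩
  have : Fact (Nat.Prime 11) := ⟨by norm_num⟩
  obtain ⟨h7d, h7m, h7n, h7f, h7P⟩ :=
    basic hG (p := 7) (a := 1) (m := 660) Nat.one_pos (by rw [h]; norm_num) (by norm_num)
  obtain ⟨hEd, hEm, hEn, hEf, hEP⟩ :=
    basic hG (p := 11) (a := 1) (m := 420) Nat.one_pos (by rw [h]; norm_num) (by norm_num)
  have hP7' : ∀ R : Sylow 7 G, Nat.card (R : Subgroup G) = 7 := fun R => by
    have := (h7P R).1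
    rwa [pow_one] at this
  have hPE' : ∀ R : Sylow 11 G, Nat.card (R : Subgroup G) = 11 := fun R => by
    have := (hEP R).1
    rwa [pow_one] at this
  -- the normalizer of a Sylow 7-subgroup has order 14
  obtain ⟨P⟩ : Nonempty (Sylow 7 G) := inferInstance
  have hN7 : Nat.card (Subgroup.normalizer ((P : Subgroup G) : Set G)) = 2 * 7 := by
    obtain ⟨k, c, hk, hk1, hck, hq⟩ :=
      Cfsg.Agent.Helper27.Sieve.sylow_sieve hG hG2 (by rw [h]; norm_num) P hP7'
    have hNP := (h7P P).2
    obtain ⟨n, hn⟩ : ∃ n, n = Nat.card (Sylow 7 G) := ⟨_, rfl⟩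
    rw [← hn] at h7d h7m h7n hNP hq
    rw [h] at hNP
    have hcases : n = 15 ∨ n = 22 ∨ n = 330 := by
      have hmem : n ∈ Nat.divisors 660 := Nat.mem_divisors.2 ⟨h7d, by norm_num⟩
      simp only [Nat.divisors_ofNat] at hmem
      simp only [Finset.mem_insert, Finset.mem_singleton] at hmem
      omega
    have hk' : k ≤ 6 := Nat.le_of_dvd (by norm_num) hk
    rcases hcases with rfl | rfl | rfl
    · exfalso
      have hN : Nat.card (Subgroup.normalizer ((P : Subgroup G) : Set G)) = 308 := by omega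
      rw [hN] at hck
      have hqc : 11 ∣ c := by
        interval_cases k <;> omega
      obtain ⟨f, hf1, hf2, hf3, -⟩ := hq 11 (by norm_num) hqc
      omega
    · exfalso
      have hN : Nat.card (Subgroup.normalizer ((P : Subgroup G) : Set G)) = 210 := by omega
      rw [hN] at hck
      have hqc : 5 ∣ c := by
        interval_cases k <;> omega
      obtain ⟨f, hf1, hf2, hf3, -⟩ := hq 5 (by norm_num) hqc
      omega
    · omega
  -- the normalizer of a Sylow 11-subgroup has order 22
  obtain ⟨Q⟩ : Nonempty (Sylow 11 G) := inferInstance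
  have hN11 : Nat.card (Subgroup.normalizer ((Q : Subgroup G) : Set G)) = 2 * 11 := by
    obtain ⟨k, c, hk, hk1, hck, hq⟩ :=
      Cfsg.Agent.Helper27.Sieve.sylow_sieve hG hG2 (by rw [h]; norm_num) Q hPE'
    have hNP := (hEP Q).2
    obtain ⟨n, hn⟩ : ∃ n, n = Nat.card (Sylow 11 G) := ⟨_, rfl⟩
    rw [← hn] at hEd hEm hEn hNP hq
    rw [h] at hNP
    have hcases : n = 12 ∨ n = 210 := by
      have hmem : n ∈ Nat.divisors 420 := Nat.mem_divisors.2 ⟨hEd, by norm_num⟩
      simp only [Nat.divisors_ofNat] at hmem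
      simp only [Finset.mem_insert, Finset.mem_singleton] at hmem
      omega
    have hk' : k ≤ 10 := Nat.le_of_dvd (by norm_num) hk
    rcases hcases with rfl | rfl
    · exfalso
      have hN : Nat.card (Subgroup.normalizer ((Q : Subgroup G) : Set G)) = 385 := by omega
      rw [hN] at hck
      have hqc : 7 ∣ c := by
        interval_cases k <;> omega
      obtain ⟨f, hf1, hf2, hf3, -⟩ := hq 7 (by norm_num) hqc
      omega
    · omega
  -- Brauer at `p = 7` and `p = 11`
  obtain ⟨x7, y7, δ7, d7, a7, b7, s7, hδ7, hd7, e71, e72, e73, hx7, hy7, -, ⟨χ7, hχ7⟩, ⟨θ7, hθ7⟩, hall7⟩ :=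
    Cfsg.Agent.Helper10.BrSieve.brauer_w2 hG 7 P (hP7' P) hN7 (by norm_num)
  obtain ⟨xE, yE, δE, dE, aE, bE, sE, hδE, hdE, eE1, eE2, eE3, hxE, hyE, -, ⟨χE, hχE⟩, ⟨θE, hθE⟩, hallE⟩ :=
    Cfsg.Agent.Helper10.BrSieve.brauer_w2 hG 11 Q (hPE' Q) hN11 (by norm_num)
  rw [h] at hx7 hy7 hxE hyE
  have hA7 := o4620_arith7 hδ7 hd7 (by exact_mod_cast e71) (by exact_mod_cast e72) e73 hx7 hy7
  have hAE := o4620_arith11 hδE hdE (by exact_mod_cast eE1) (by exact_mod_cast eE2) eE3 hxE hyE
  rcases hA7 with ⟨rfl, rfl⟩ | ⟨rfl, rfl⟩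
  · rcases hAE with ⟨rfl, rfl⟩ | ⟨rfl, rfl⟩
    · -- all nonprincipal degrees are `2`: sum of squares
      let _ : Fintype G := Fintype.ofFinite G
      let _ : Fintype (IrrCharacter G) := Cfsg.Agent.Helper24.irrFintype
      have hperf := Cfsg.Agent.Helper10.BrSieve.perfect_of_simple hG
      have hsum := Cfsg.Agent.Helper24.sum_charDegree_sq (G := G)
      rw [h] at hsum
      have hle : ∀ χ : IrrCharacter G, charDegree (χ : G → ℂ) ^ 2 ≤ 4620 := by
        intro χ
        rw [← hsum]
        exact Finset.single_le_sum (f := fun χ : IrrCharacter G => charDegree (χ : G → ℂ) ^ 2)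
          (fun _ _ => Nat.zero_le _) (Finset.mem_univ χ)
      have hdeg : ∀ χ : IrrCharacter G, χ ≠ principalChar G → charDegree (χ : G → ℂ) = 2 := by
        intro χ hχ
        have hlt : charDegree (χ : G → ℂ) < 68 := by
          by_contra hcon
          have h68 : 68 ≤ charDegree (χ : G → ℂ) := not_lt.1 hcon
          have := hle χ
          nlinarith
        have hpos : 0 < charDegree (χ : G → ℂ) := Cfsg.Agent.Helper24.charDegree_pos χ.2
        have hne1 : charDegree (χ : G → ℂ) ≠ 1 := fun h1 =>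
          hχ (Cfsg.Agent.Helper10.BR996.eq_principal_of_degree_one hperf χ h1)
        rcases hall7 χ with h1 | h1 | h1 | h1
        · exact absurd h1 hne1
        · exact absurd h1 hne1
        · exact h1
        · rcases hallE χ with h2 | h2 | h2 | h2
          · exact absurd h2 hne1
          · exact absurd h2 hne1
          · exact h2
          · exfalso
            obtain ⟨u, hu⟩ := h1
            obtain ⟨v, hv⟩ := h2
            omega
      have hsplit := Finset.add_sum_erase Finset.univ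
        (fun χ : IrrCharacter G => charDegree (χ : G → ℂ) ^ 2) (Finset.mem_univ (principalChar G))
      rw [hsum] at hsplit
      have hrest : ∑ χ ∈ Finset.univ.erase (principalChar G), charDegree (χ : G → ℂ) ^ 2 =
          ∑ χ ∈ Finset.univ.erase (principalChar G), 4 := by
        apply Finset.sum_congr rfl
        intro χ hχ
        rw [hdeg χ (Finset.ne_of_mem_erase hχ)]; norm_num
      rw [hrest, Finset.sum_const, Cfsg.Agent.Helper10.BR996.Asm.charDegree_principal] at hsplit
      simp only [smul_eq_mul] at hsplit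
      omega
    · -- degree 2 (from `p = 7`) against `p = 11`
      rcases hallE θ7 with h1 | h1 | h1 | h1
      · omega
      · omega
      · omega
      · rw [hθ7] at h1; omega
  · rcases hAE with ⟨rfl, rfl⟩ | ⟨rfl, rfl⟩
    · -- degree 2 (from `p = 11`) against `p = 7`
      rcases hall7 θE with h1 | h1 | h1 | h1
      · omega
      · omega
      · omega
      · rw [hθE] at h1; omega
    · -- degree 5 against `p = 11`
      rcases hallE θ7 with h1 | h1 | h1 | h1
      · omega
      · omega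
      · omega
      · rw [hθ7] at h1; omega

end Cfsg.Agent.Helper3.SmallOrd
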