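import Mathlib
import Cfsg.Agent.Lib.Helper3.SmallOrd
import Cfsg.Agent.Lib.Helper26.OrdSylInt
import Cfsg.Agent.Lib.Lead.PermTools

set_option autoImplicit false

/-!
# No simple group of order 5600 (piece S0983-ORD5600 of helper10's S0983)

`5600 = 2^5 * 5^2 * 7`.  `n_5 ∈ {16, 56}` is not `1` modulo `25`, so two Sylow `5`-subgroups meet in a
subgroup `D` of order `5` and `H = N_G(D)` is a proper subgroup with `n_5(H) > 1`; the index bound
forces `|H| = 400`, `n_5(H) = 16`, so a Sylow `5`-subgroup of `H` is self-normalizing and abelian and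
`H` has a normal `5`-complement `T` of order `16` (Burnside).  `T` has index `2` in a Sylow
`2`-subgroup of `G`, so `800` divides `|N_G(T)|`, whose index is then at most `7`: impossible.
-/

namespace Cfsg.Agent.Helper3.SmallOrd

variable {G : Type*} [Group G] [Finite G] [IsSimpleGroup G]

theorem no_simple_5600 (h : Nat.card G = 5600) : False := by
  classical
  have hG : ∃ x y : G, x * y ≠ y * x :=
    Cfsg.Agent.Lead.nonabelian_of_not_prime (by rw [h]; norm_num)
  have : Fact (Nat.Prime 5) := ⟨by norm_num⟩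
  have : Fact (Nat.Prime 2) := ⟨by norm_num⟩
  obtain ⟨h5d, h5m, h5n, h5f, h5P⟩ :=
    basic hG (p := 5) (a := 2) (m := 224) (by norm_num) (by rw [h]; norm_num) (by norm_num)
  obtain ⟨-, -, -, -, h2P⟩ :=
    basic hG (p := 2) (a := 5) (m := 175) (by norm_num) (by rw [h]; norm_num) (by norm_num)
  -- `n_5` is not `1` modulo `25`
  have hn5 : ¬ Nat.card (Sylow 5 G) ≡ 1 [MOD 5 ^ 2] := by
    obtain ⟨n, hn⟩ : ∃ n, n = Nat.card (Sylow 5 G) := ⟨_, rfl⟩
    rw [← hn] at h5d h5m h5n ⊢
    have hmem : n ∈ Nat.divisors 224 := Nat.mem_divisors.2 ⟨h5d, by norm_num⟩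
    simp only [Nat.divisors_ofNat] at hmem
    simp only [Finset.mem_insert, Finset.mem_singleton] at hmem
    unfold Nat.ModEq
    omega
  obtain ⟨H, hHtop, hH1, hHm, hHd⟩ :=
    exists_sub_of_not_modEq hG (p := 5) (m := 224) (by rw [h]; norm_num) (by norm_num) hn5
  have hidx := two_mul_card_dvd_factorial_index hG H hHtop
  have hci : Nat.card H * H.index = 5600 := by rw [← h]; exact Subgroup.card_mul_index H
  obtain ⟨n', hn'⟩ : ∃ n', n' = Nat.card (Sylow 5 H) := ⟨_, rfl⟩
  obtain ⟨k, hk⟩ : ∃ k, k = H.index := ⟨_, rfl⟩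
  rw [← hn'] at hH1 hHm hHd
  rw [← hk] at hidx hci
  rw [h] at hidx
  obtain ⟨j, hj⟩ := hHd
  have hnjk : n' * (j * k) = 224 := by
    have e : 25 * (n' * (j * k)) = 25 * 224 := by
      calc 25 * (n' * (j * k)) = (n' * 5 ^ 2 * j) * k := by ring
        _ = 5600 := by rw [← hj]; exact hci
        _ = 25 * 224 := by norm_num
    exact Nat.eq_of_mul_eq_mul_left (by norm_num) e
  have hn'cases : n' = 16 ∨ n' = 56 := by
    have hmem : n' ∈ Nat.divisors 224 := Nat.mem_divisors.2 ⟨⟨_, hnjk.symm⟩, by norm_num⟩
    simp only [Nat.divisors_ofNat] at hmem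
    simp only [Finset.mem_insert, Finset.mem_singleton] at hmem
    omega
  have hk14 : n' = 16 ∧ k = 14 ∧ j = 1 := by
    rcases hn'cases with rfl | rfl
    · have hjk : j * k = 14 := by omega
      have hkd : k ∈ Nat.divisors 14 := Nat.mem_divisors.2 ⟨⟨j, by rw [← hjk]; ring⟩, by norm_num⟩
      simp only [Nat.divisors_ofNat] at hkd
      simp only [Finset.mem_insert, Finset.mem_singleton] at hkd
      rcases hkd with rfl | rfl | rfl | rfl
      · exfalso; revert hidx; decide
      · exfalso; revert hidx; decide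
      · exfalso; revert hidx; decide
      · refine ⟨rfl, rfl, by omega⟩
    · exfalso
      have hjk : j * k = 4 := by omega
      have hkd : k ∈ Nat.divisors 4 := Nat.mem_divisors.2 ⟨⟨j, by rw [← hjk]; ring⟩, by norm_num⟩
      simp only [Nat.divisors_ofNat] at hkd
      simp only [Finset.mem_insert, Finset.mem_singleton] at hkd
      rcases hkd with rfl | rfl | rfl
      · revert hidx; decide
      · revert hidx; decide
      · revert hidx; decide
  obtain ⟨rfl, rfl, rfl⟩ := hk14
  have hHc : Nat.card H = 400 := by rw [hj]; norm_num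
  -- a Sylow `5`-subgroup of `H` is self-normalizing and abelian
  obtain ⟨Q⟩ : Nonempty (Sylow 5 H) := inferInstance
  have hQc : Nat.card (Q : Subgroup H) = 25 := by
    rw [Sylow.card_eq_multiplicity, hHc]
    have : (400 : ℕ).factorization 5 = 2 := by
      have h400 : (400 : ℕ) = 5 ^ 2 * 16 := by norm_num
      rw [h400, Nat.factorization_mul (by norm_num) (by norm_num), Nat.Prime.factorization_pow (by norm_num)]
      simp
      rw [Nat.factorization_eq_zero_of_not_dvd (by norm_num)]
    rw [this]; norm_num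
  have hNQ : Nat.card (Subgroup.normalizer ((Q : Subgroup H) : Set H)) = 25 := by
    have h1 := Sylow.card_eq_index_normalizer Q
    have h2 := Subgroup.card_mul_index (Subgroup.normalizer ((Q : Subgroup H) : Set H))
    rw [hHc] at h2
    have h3 : (Subgroup.normalizer ((Q : Subgroup H) : Set H)).index = 16 := by
      rw [hn']; exact h1.symm
    rw [h3] at h2
    omega
  have hNQeq : Subgroup.normalizer ((Q : Subgroup H) : Set H) = (Q : Subgroup H) := by
    symm
    apply Subgroup.eq_of_le_of_card_ge Subgroup.le_normalizer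
    rw [hNQ, hQc]
  have hQcomm : IsMulCommutative (Q : Subgroup H) :=
    IsPGroup.isMulCommutative_of_card_eq_prime_sq (p := 5) (by rw [hQc]; norm_num)
  have hQle : Subgroup.normalizer ((Q : Subgroup H) : Set H) ≤
      Subgroup.centralizer ((Q : Subgroup H) : Set H) := by
    rw [hNQeq]
    intro x hx
    rw [Subgroup.mem_centralizer_iff]
    intro y hy
    have := hQcomm.is_comm.comm ⟨y, hy⟩ ⟨x, hx⟩
    exact congrArg Subtype.val this
  have hcompl := MonoidHom.ker_transferSylow_isComplement' Q hQle
  set K : Subgroup H := (MonoidHom.transferSylow Q hQle).ker with hK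
  have hKc : Nat.card K = 16 := by
    have := hcompl.card_mul_card
    rw [hQc, hHc] at this
    omega
  have hKn : K.Normal := MonoidHom.normal_ker _
  -- transport `K` to `G`
  set T : Subgroup G := K.map H.subtype with hT
  have hTc : Nat.card T = 16 := by
    rw [hT, Subgroup.card_map_of_injective H.subtype_injective, hKc]
  have hHN : H ≤ Subgroup.normalizer (T : Set G) := by
    have h1 := Subgroup.le_normalizer_map (H := K) H.subtype
    rw [Subgroup.normalizer_eq_top_iff.2 hKn] at h1
    have h2 : (⊤ : Subgroup H).map H.subtype = H := by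
      rw [← MonoidHom.range_eq_map, Subgroup.range_subtype]
    rw [h2] at h1
    exact h1
  -- `T` has index `2` in a Sylow `2`-subgroup
  have hT2 : IsPGroup 2 T := IsPGroup.of_card (n := 4) (by rw [hTc]; norm_num)
  obtain ⟨S, hTS⟩ := hT2.exists_le_sylow
  have hSc : Nat.card (S : Subgroup G) = 32 := by
    have := (h2P S).1
    rw [this]; norm_num
  have hSN : (S : Subgroup G) ≤ Subgroup.normalizer (T : Set G) := by
    rw [← Subgroup.normal_subgroupOf_iff_le_normalizer hTS]
    apply Subgroup.normal_of_index_eq_two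
    have h1 := Subgroup.card_mul_index (T.subgroupOf (S : Subgroup G))
    rw [SylInt.card_subgroupOf, inf_of_le_left hTS, hTc, hSc] at h1
    omega
  -- the normalizer of `T`
  have hNtop : Subgroup.normalizer (T : Set G) ≠ ⊤ := by
    intro htop
    have hTn : T.Normal := Subgroup.normalizer_eq_top_iff.1 htop
    rcases hTn.eq_bot_or_eq_top with hb | ht
    · rw [hb, Subgroup.card_bot] at hTc; omega
    · rw [ht, Subgroup.card_top, h] at hTc; omega
  have hd1 : 400 ∣ Nat.card (Subgroup.normalizer (T : Set G)) := by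
    rw [← hHc]; exact Subgroup.card_dvd_of_le hHN
  have hd2 : 32 ∣ Nat.card (Subgroup.normalizer (T : Set G)) := by
    rw [← hSc]; exact Subgroup.card_dvd_of_le hSN
  have hd3 : 800 ∣ Nat.card (Subgroup.normalizer (T : Set G)) := by
    have := Nat.lcm_dvd hd1 hd2
    have e : Nat.lcm 400 32 = 800 := by decide
    rwa [e] at this
  have hidx2 := two_mul_card_dvd_factorial_index hG _ hNtop
  have hci2 := Subgroup.card_mul_index (Subgroup.normalizer (T : Set G))
  rw [h] at hidx2 hci2
  obtain ⟨c, hc⟩ := hd3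
  rw [hc] at hci2
  obtain ⟨i, hi⟩ : ∃ i, i = (Subgroup.normalizer (T : Set G)).index := ⟨_, rfl⟩
  rw [← hi] at hidx2 hci2
  have hci7 : c * i = 7 := by
    have e : 800 * (c * i) = 800 * 7 := by rw [← mul_assoc, hci2]
    exact Nat.eq_of_mul_eq_mul_left (by norm_num) e
  have hile : i ≤ 7 := Nat.le_of_dvd (by norm_num) ⟨c, by rw [← hci7]; ring⟩
  interval_cases i <;> revert hidx2 <;> decide

end Cfsg.Agent.Helper3.SmallOrd
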