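import Mathlib
import Cfsg.Prelude.Def_OddOrderChar
import Cfsg.Prelude.Def_OddOrderLocal
import Cfsg.Agent.Lib.Helper8.FrobCoh2
import Cfsg.Agent.Lib.Helper8.Dade
import Cfsg.Agent.S1500
import Cfsg.Agent.S1501

/-!
# Peterfalvi (12.3), part A (helper8): the Dade map on a Frobenius kernel gives a coherence system

`L ≤ G`, `K ⊴ L` with the Frobenius condition `hF`, `A = K#` (as a subset of `G`), and the Dade
hypothesis for `(A, L, H)`.
-/

set_option autoImplicit false

namespace Cfsg.Agent.Helper8.PF123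

open Cfsg Cfsg.Agent.Helper8 Cfsg.Agent.Helper24 Cfsg.Agent.Helper5 Cfsg.Agent.Helper18
open scoped ComplexConjugate

universe u

section Abstract

variable {L : Type u} [Group L] [Fintype L] (K : Subgroup L) [hK : K.Normal]
  (hF : ∀ k ∈ K, k ≠ 1 → ∀ x : L, x * k = k * x → x ∈ K)

include hF in
theorem mem_zspan_props {α : L → ℂ} (hα : α ∈ Cfsg.zspan (Cfsg.inducedIrrAbove K ⊥)) :
    IsClassFunction L α ∧ IsGeneralizedCharacter L α ∧ ∀ x : L, x ∉ K → α x = 0 := by
  refine zspan_induction (p := fun α => IsClassFunction L α ∧ IsGeneralizedCharacter L α ∧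
    ∀ x : L, x ∉ K → α x = 0) ?_ ?_ ?_ ?_ hα
  · intro a ha
    have hirr := FrobCoh.isIrr_of_mem K hF ha
    refine ⟨isClassFunction_of_isIrrCharacter hirr,
      isGenChar_of_isCharacter (isCharacter_of_isIrrCharacter hirr), fun x hx => ?_⟩
    exact FrobCoh.vanish_off_of_mem K hF ha hx
  · exact ⟨fun g h => rfl, isGenChar_zero, fun x _ => rfl⟩
  · rintro a b - - ⟨ha1, ha2, ha3⟩ ⟨hb1, hb2, hb3⟩
    refine ⟨fun g h => ?_, isGenChar_add ha2 hb2, fun x hx => ?_⟩
    · simp only [Pi.add_apply, ha1 g h, hb1 g h]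
    · simp only [Pi.add_apply, ha3 x hx, hb3 x hx, add_zero]
  · rintro n a - ⟨ha1, ha2, ha3⟩
    refine ⟨fun g h => ?_, isGen_zsmul n ha2, fun x hx => ?_⟩
    · simp only [Pi.smul_apply, ha1 g h]
    · simp only [Pi.smul_apply, ha3 x hx, smul_zero]

end Abstract

section Dade

variable {G : Type u} [Group G] [Fintype G] (A : Set G) (L : Subgroup G) [Fintype L]
  (H : G → Subgroup G)

theorem dade_add (α β : L → ℂ) :
    Cfsg.dadeIsometry A L H (α + β) = Cfsg.dadeIsometry A L H α + Cfsg.dadeIsometry A L H β := by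
  classical
  funext g
  unfold Cfsg.dadeIsometry
  by_cases h : ∃ a : ↥L, (a : G) ∈ A ∧ ∃ x : G, ∃ u ∈ H (a : G), x * g * x⁻¹ = (a : G) * u
  · simp only [Pi.add_apply, dif_pos h]
  · simp only [Pi.add_apply, dif_neg h, add_zero]

theorem dade_zsmul (n : ℤ) (α : L → ℂ) :
    Cfsg.dadeIsometry A L H (n • α) = n • Cfsg.dadeIsometry A L H α := by
  classical
  funext g
  unfold Cfsg.dadeIsometry
  by_cases h : ∃ a : ↥L, (a : G) ∈ A ∧ ∃ x : G, ∃ u ∈ H (a : G), x * g * x⁻¹ = (a : G) * u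
  · simp only [Pi.smul_apply, dif_pos h]
  · simp only [Pi.smul_apply, dif_neg h, smul_zero]

theorem dade_one (hD : Cfsg.DadeHypothesis A L H) (α : L → ℂ) :
    Cfsg.dadeIsometry A L H α 1 = 0 := by
  apply dade_apply_of_not
  rintro ⟨a, ha, x, u, hu, hx⟩
  have h1 : (a : G) * u = 1 := by rw [← hx]; group
  have hu' : u = (a : G)⁻¹ := eq_inv_of_mul_eq_one_right h1
  have haH : (a : G) ∈ H (a : G) := by
    have := (H (a : G)).inv_mem hu
    rwa [hu', inv_inv] at this
  have haC : (a : G) ∈ L ⊓ Subgroup.centralizer ({(a : G)} : Set G) := by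
    refine Subgroup.mem_inf.mpr ⟨a.2, ?_⟩
    rw [Subgroup.mem_centralizer_iff]
    intro h hh
    rw [Set.mem_singleton_iff] at hh
    rw [hh]
  have hbot : (a : G) ∈ H (a : G) ⊓ (L ⊓ Subgroup.centralizer ({(a : G)} : Set G)) :=
    Subgroup.mem_inf.mpr ⟨haH, haC⟩
  rw [hD.inf_eq_bot (a : G) ha, Subgroup.mem_bot] at hbot
  exact hD.one_not_mem (hbot ▸ ha)

variable (K : Subgroup L) [hK : K.Normal]
  (hF : ∀ k ∈ K, k ≠ 1 → ∀ x : L, x * k = k * x → x ∈ K)

include hF in
/-- the Dade map is a linear isometry on the combinations vanishing at `1` -/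
theorem lio_dade (hD : Cfsg.DadeHypothesis A L H)
    (hA : ∀ x : L, x ∈ K → x ≠ 1 → (x : G) ∈ A) :
    Cfsg.IsLinearIsometryOn (Cfsg.zspanOn (Cfsg.inducedIrrAbove K ⊥) {1}ᶜ)
      (Cfsg.dadeIsometry A L H) := by
  have hsupp : ∀ α ∈ Cfsg.zspanOn (Cfsg.inducedIrrAbove K ⊥) {1}ᶜ,
      ∀ x : L, (x : G) ∉ A → α x = 0 := by
    intro α hα x hx
    by_cases hxK : x ∈ K
    · by_cases hx1 : x = 1
      · rw [hx1]
        apply hα.2 1
        simp
      · exact absurd (hA x hxK hx1) hx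
    · exact (mem_zspan_props K hF hα.1).2.2 x hxK
  refine ⟨fun α _ β _ => dade_add A L H α β, fun α _ n => dade_zsmul A L H n α,
    fun α hα β hβ => ?_, fun α hα => ?_⟩
  · exact (Cfsg.Agent.S1500.result A L H hD α (mem_zspan_props K hF hα.1).1 (hsupp α hα)).1 β
      (mem_zspan_props K hF hβ.1).1 (hsupp β hβ)
  · exact Cfsg.Agent.S1501.result A L H hD α (mem_zspan_props K hF hα.1).2.1 (hsupp α hα)

include hF in
/-- the coherence system attached to the Dade map -/
theorem exists_system_dade (hD : Cfsg.DadeHypothesis A L H)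
    (hA : ∀ x : L, x ∈ K → x ≠ 1 → (x : G) ∈ A)
    (hodd : Odd (Nat.card L)) (hK1 : K ≠ ⊥) (hsolv : Group.IsSolvable K) :
    ∃ R : (L → ℂ) → Finset (G → ℂ),
      Cfsg.IsCoherenceSystem (Cfsg.inducedIrrAbove K ⊥) (Cfsg.dadeIsometry A L H) R :=
  FrobCoh.exists_system K hF hodd hK1 hsolv _ (lio_dade A L H K hF hD hA)
    (fun α _ => dade_one A L H hD α)

end Dade

end Cfsg.Agent.Helper8.PF123
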