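import Mathlib
import Cfsg.Agent.Lib.Helper5.FCSylow

/-!
# Peterfalvi (12.3), part B (helper8): a Frobenius quotient of odd order has exponent = order
-/

set_option autoImplicit false

namespace Cfsg.Agent.Helper8.PF123

open Cfsg Cfsg.Agent.Helper5

universe u

variable {L : Type u} [Group L] [Finite L] (K U : Subgroup L) [hK : K.Normal]

/-- odd order groups satisfying `FCFacts` are `Z`-groups -/
theorem isZGroup_of_fcFacts {X : Type u} [Group X] [Finite X] (h : FCFacts X)
    (hodd : Odd (Nat.card X)) : IsZGroup X := by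
  constructor
  intro p hp P
  haveI : Fact p.Prime := ⟨hp⟩
  have hP : IsPGroup p (P : Subgroup X) := P.isPGroup'
  rcases hp.eq_two_or_odd' with h2 | hpodd
  · -- `p = 2`: the Sylow subgroup is trivial
    subst h2
    obtain ⟨k, hk⟩ := hP.exists_card_eq
    have hdvd : Nat.card (P : Subgroup X) ∣ Nat.card X := Subgroup.card_subgroup_dvd_card _
    have hk0 : k = 0 := by
      by_contra hk0
      have h2 : 2 ∣ Nat.card (P : Subgroup X) := by rw [hk]; exact dvd_pow_self 2 hk0
      have h3 : 2 ∣ Nat.card X := h2.trans hdvd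
      rcases hodd with ⟨m, hm⟩
      omega
    rw [hk0, pow_zero] at hk
    haveI : Subsingleton (P : Subgroup X) := (Nat.card_eq_one_iff_unique.mp hk).1
    exact isCyclic_of_subsingleton
  · exact (h.subgroup (P : Subgroup X)).isCyclic_of_isPGroup_odd hpodd hP

include hK in
/-- in a Frobenius group of odd order with kernel `K` and complement `U`, the quotient `L/K`
has exponent equal to its order -/
theorem exponent_quotient_eq_index (hc : Subgroup.IsComplement' K U) (hK1 : K ≠ ⊥) (hU1 : U ≠ ⊥)
    (hfpf : ∀ u ∈ U, u ≠ 1 → ∀ k ∈ K, u * k = k * u → k = 1)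
    (hodd : Odd (Nat.card L)) : Monoid.exponent (L ⧸ K) = K.index := by
  have hfix : ∀ h ∈ U, h ≠ 1 → K ⊓ Subgroup.centralizer {h} = ⊥ := by
    intro h hh h1
    rw [eq_bot_iff]
    intro k hk
    obtain ⟨hkK, hkC⟩ := Subgroup.mem_inf.mp hk
    rw [Subgroup.mem_centralizer_iff] at hkC
    have := hkC h (Set.mem_singleton h)
    rw [Subgroup.mem_bot]
    exact hfpf h hh h1 k hkK this
  have hFC : Cfsg.IsFrobeniusComplement U := (Cfsg.Agent.S0039.result K U hc hK1 hU1).mpr hfix
  have hfacts : FCFacts ↥U :=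
    fcFacts_of_embedding U hFC U.subtype U.subtype_injective (fun g => g.2)
  have hoddU : Odd (Nat.card ↥U) := by
    have hdvd : Nat.card ↥U ∣ Nat.card L := Subgroup.card_subgroup_dvd_card U
    exact Odd.of_dvd_nat hodd hdvd
  haveI hZ : IsZGroup ↥U := isZGroup_of_fcFacts hfacts hoddU
  -- `U → L ⧸ K` is surjective
  let f : ↥U →* L ⧸ K := (QuotientGroup.mk' K).comp U.subtype
  have hf : Function.Surjective f := by
    intro q
    obtain ⟨x, rfl⟩ := QuotientGroup.mk'_surjective K q
    obtain ⟨⟨⟨k, hk⟩, ⟨u, hu⟩⟩, hx, -⟩ := Subgroup.IsComplement.existsUnique hc x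
    simp only at hx
    subst hx
    refine ⟨⟨u, hu⟩, ?_⟩
    show (QuotientGroup.mk' K) u = (QuotientGroup.mk' K) (k * u)
    rw [map_mul]
    have : (QuotientGroup.mk' K) k = 1 := (QuotientGroup.eq_one_iff k).mpr hk
    rw [this, one_mul]
  haveI : IsZGroup (L ⧸ K) := IsZGroup.of_surjective hf
  rw [IsZGroup.exponent_eq_card, Subgroup.index]

end Cfsg.Agent.Helper8.PF123
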