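import Mathlib
import Cfsg.Prelude.Def_OddOrderChar
import Cfsg.Agent.Lib.Helper8.PF123A
import Cfsg.Agent.Lib.Helper8.InnerExtra

/-!
# Peterfalvi (12.3), part C (helper8): with trivial supports the Dade map is induction
-/

set_option autoImplicit false

namespace Cfsg.Agent.Helper8.PF123

open Cfsg Cfsg.Agent.Helper8 Cfsg.Agent.Helper24
open scoped ComplexConjugate

universe u

variable {G : Type u} [Group G] [Fintype G] (A : Set G) (L : Subgroup G) [Fintype L]
  (H : G → Subgroup G)

/-- if all the supports `H a` (`a ∈ A`) are trivial, the Dade map agrees with induction on the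
class functions of `L` supported on `A` -/
theorem dade_eq_indFun (hD : Cfsg.DadeHypothesis A L H) (hH : ∀ a ∈ A, H a = ⊥)
    (α : L → ℂ) (hα : Cfsg.IsClassFunction L α) (hαA : ∀ x : L, (x : G) ∉ A → α x = 0) :
    Cfsg.dadeIsometry A L H α = Cfsg.indFun L α := by
  set f : G → ℂ := Cfsg.dadeIsometry A L H α - Cfsg.indFun L α with hf
  have hfcl : Cfsg.IsClassFunction G f := by
    intro g h
    have h1 := dade_isClassFunction A L H hD α hα g h
    have h2 := isClassFunction_indFun L α g h
    simp only [hf, Pi.sub_apply, h1, h2]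
  have hψ : ∀ a : L, (a : G) ∈ A →
      (fun h : L => f h) a = (Nat.card (H a) : ℂ)⁻¹ * ∑ᶠ u ∈ (H a : Set G), f (a * u) := by
    intro a ha
    rw [hH a ha]
    have h1 : ((⊥ : Subgroup G) : Set G) = {1} := Subgroup.coe_bot
    rw [h1, finsum_mem_singleton, mul_one, Subgroup.card_bot]
    simp
  have e1 := (Cfsg.Agent.S1500.result A L H hD α hα hαA).2 f (fun h : L => f h) hfcl hψ
  have e2 := frobenius_reciprocity L α hfcl
  have h0 : Cfsg.classInner f f = 0 := by
    conv_lhs => rw [hf]
    rw [classInner_sub_left, ← hf, e1, e2, sub_self]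
  have hz := classInner_self_eq_zero h0
  have : Cfsg.dadeIsometry A L H α - Cfsg.indFun L α = 0 := hz
  exact sub_eq_zero.mp this

end Cfsg.Agent.Helper8.PF123
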