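import Mathlib
import Cfsg.Prelude.Def_OddOrderChar
import Cfsg.Prelude.Def_OddOrderLocal
import Cfsg.Agent.Lib.Helper8.PF123A
import Cfsg.Agent.Lib.Helper8.PF123B
import Cfsg.Agent.Lib.Helper8.PF123C
import Cfsg.Agent.Lib.Helper8.BG1538A
import Cfsg.Agent.S1497
import Cfsg.Agent.S1521
import Cfsg.Agent.S1524

/-!
# Peterfalvi (12.3), part D (helper8): assembly

`L` a maximal subgroup of (frozen) Type I which is a Frobenius group with kernel `L_F`.
The Dade hypothesis for `(A(L), L, R)` enters as a hypothesis in the non-TI case.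
-/

set_option autoImplicit false
set_option linter.unusedVariables false
set_option linter.unusedSectionVars false

namespace Cfsg.Agent.Helper8.PF123

open Cfsg Subgroup Cfsg.Agent.Helper8 Cfsg.Agent.Helper24 Cfsg.Agent.Helper5 Cfsg.Agent.Helper18
open scoped ComplexConjugate

universe u

variable {G : Type u} [Group G]

/-- the Dade hypothesis only depends on the supports `H a` for `a ∈ A` -/
theorem dade_congr {A : Set G} {L : Subgroup G} {H H' : G → Subgroup G}
    (hD : Cfsg.DadeHypothesis A L H) (h : ∀ a ∈ A, H' a = H a) : Cfsg.DadeHypothesis A L H' where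
  one_not_mem := hD.one_not_mem
  subset := hD.subset
  conj_mem := hD.conj_mem
  fusion := hD.fusion
  le_centralizer := fun a ha => by rw [h a ha]; exact hD.le_centralizer a ha
  conj_mem_H := fun a ha c hc u hu => by
    rw [h a ha] at hu ⊢; exact hD.conj_mem_H a ha c hc u hu
  inf_eq_bot := fun a ha => by rw [h a ha]; exact hD.inf_eq_bot a ha
  sup_eq := fun a ha => by rw [h a ha]; exact hD.sup_eq a ha
  coprime := fun a ha b hb => by rw [h a ha]; exact hD.coprime a ha b hb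

/-- `R(x) = 1` when `C_G(x) ≤ M` -/
theorem supportR_eq_bot {M : Subgroup G} {x : G}
    (h : Subgroup.centralizer ({x} : Set G) ≤ M) : Cfsg.supportR M x = ⊥ := by
  classical
  unfold Cfsg.supportR
  rw [dif_neg]
  rintro ⟨h1, -⟩
  exact h1 h

section Main

variable [Fintype G] (L : Subgroup G) [Fintype L]

/-- the Frobenius condition inside `L` -/
theorem frob_internal
    (hfrob : ∀ x ∈ Cfsg.fittingHallOf L, x ≠ 1 →
      L ⊓ Subgroup.centralizer ({x} : Set G) ≤ Cfsg.fittingHallOf L) :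
    ∀ k ∈ Cfsg.fittingHall ↥L, k ≠ 1 → ∀ x : ↥L, x * k = k * x → x ∈ Cfsg.fittingHall ↥L := by
  intro k hk hk1 x hxk
  have hkH : (k : G) ∈ Cfsg.fittingHallOf L := ⟨k, hk, rfl⟩
  have hk1' : (k : G) ≠ 1 := fun h => hk1 (Subtype.ext h)
  have hx : (x : G) ∈ L ⊓ Subgroup.centralizer ({(k : G)} : Set G) := by
    refine Subgroup.mem_inf.mpr ⟨x.2, ?_⟩
    rw [Subgroup.mem_centralizer_iff]
    intro h hh
    rw [Set.mem_singleton_iff] at hh
    rw [hh]
    have := congrArg Subtype.val hxk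
    simpa using this.symm
  obtain ⟨y, hy, hyx⟩ := hfrob _ hkH hk1' hx
  have : y = x := Subtype.ext hyx
  rwa [← this]

/-- `A(L) = L_F#` for a Type I Frobenius group -/
theorem typeA_eq (hI : Cfsg.IsOfTypeI L)
    (hfrob : ∀ x ∈ Cfsg.fittingHallOf L, x ≠ 1 →
      L ⊓ Subgroup.centralizer ({x} : Set G) ≤ Cfsg.fittingHallOf L) :
    Cfsg.typeA L = (Cfsg.fittingHallOf L : Set G) \ {1} := by
  classical
  unfold Cfsg.typeA
  rw [if_pos hI]
  ext a
  constructor
  · rintro ⟨haL, ha1, x, hx, hx1, hax⟩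
    refine ⟨?_, ha1⟩
    apply hfrob x hx hx1
    refine Subgroup.mem_inf.mpr ⟨haL, ?_⟩
    rw [Subgroup.mem_centralizer_iff]
    intro h hh
    rw [Set.mem_singleton_iff] at hh
    rw [hh]
    exact hax.symm
  · rintro ⟨ha, ha1⟩
    have haL : a ∈ L := (Subgroup.map_subtype_le _) ha
    exact ⟨haL, ha1, a, ha, ha1, rfl⟩

theorem main (hG : IsMinSimpleOddOrder G) (hL : IsCoatom L) (hI : Cfsg.IsOfTypeI L)
    (hfrob : ∀ x ∈ Cfsg.fittingHallOf L, x ≠ 1 →
      L ⊓ Subgroup.centralizer ({x} : Set G) ≤ Cfsg.fittingHallOf L)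
    (hDade : ¬ Cfsg.IsTISubset (Cfsg.fittingHallOf L : Set G) →
      Cfsg.DadeHypothesis (Cfsg.typeA L) L (Cfsg.supportR L)) :
    (∀ χ ∈ Cfsg.inducedIrrAbove (Cfsg.fittingHall L) ⊥, Cfsg.IsIrrCharacter L χ) ∧
      Cfsg.IsCoherent (Cfsg.inducedIrrAbove (Cfsg.fittingHall L) ⊥) {1}ᶜ
        (Cfsg.dadeIsometry (Cfsg.typeA L) L (Cfsg.supportR L)) := by
  classical
  haveI : Finite G := Finite.of_fintype G
  have hF := frob_internal L hfrob
  have hAeq := typeA_eq L hI hfrob
  obtain ⟨⟨hsolvL, hoddL, hK1, hKtop, U, hU1, hcompl', -, -⟩, hcases⟩ := hI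
  have hcompl : Subgroup.IsComplement' (Cfsg.fittingHall ↥L) U := hcompl'
  set K : Subgroup ↥L := Cfsg.fittingHall ↥L with hKdef
  haveI hKn : K.Normal := Cfsg.fittingHall_normal ↥L
  refine ⟨fun χ hχ => FrobCoh.isIrr_of_mem K hF hχ, ?_⟩
  haveI := hsolvL
  have hsolvK : Group.IsSolvable ↥K := inferInstance
  haveI hnilK : Group.IsNilpotent ↥K := Cfsg.Agent.Helper7.fittingHall_isNilpotent ↥L
  have hA : ∀ x : ↥L, x ∈ K → x ≠ 1 → (x : G) ∈ Cfsg.typeA L := by
    intro x hx hx1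
    rw [hAeq]
    exact ⟨⟨x, hx, rfl⟩, fun h => hx1 (Subtype.ext h)⟩
  have hfpf : ∀ u ∈ U, u ≠ 1 → ∀ k ∈ K, u * k = k * u → k = 1 := by
    intro u hu hu1 k hk huk
    by_contra hk1
    have huK : u ∈ K := hF k hk hk1 u huk
    have : u ∈ K ⊓ U := Subgroup.mem_inf.mpr ⟨huK, hu⟩
    rw [hcompl.disjoint.eq_bot, Subgroup.mem_bot] at this
    exact hu1 this
  by_cases hTI : Cfsg.IsTISubset (Cfsg.fittingHallOf L : Set G)
  · -- the TI case: Sibley's theorem `S1524` and induction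
    set H : Subgroup G := Cfsg.fittingHallOf L with hHdef
    have hHL : H ≤ L := Subgroup.map_subtype_le _
    have hH1 : H ≠ ⊥ := by
      intro h
      apply hK1
      rw [eq_bot_iff]
      intro k hk
      have : (k : G) ∈ H := ⟨k, hk, rfl⟩
      rw [h, Subgroup.mem_bot] at this
      rw [Subgroup.mem_bot]
      exact Subtype.ext this
    have hHtop : H ≠ ⊤ := fun h => hL.1 (eq_top_iff.mpr (h ▸ hHL))
    have hHn : ∀ x ∈ L, ∀ h ∈ H, x * h * x⁻¹ ∈ H := by
      intro x hx h hh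
      have := Cfsg.Agent.Helper7.le_normalizer_fittingHallOf L hx
      rw [Subgroup.mem_set_normalizer_iff] at this
      exact (this h).mp hh
    have hN : Subgroup.normalizer (H : Set G) = L := by
      have hle := Cfsg.Agent.Helper7.le_normalizer_fittingHallOf L
      rcases eq_or_lt_of_le hle with h | h
      · exact h.symm
      · exact absurd (hL.2 _ h) (Cfsg.Agent.Helper4.BG144.normalizer_ne_top' hG hH1 hHtop)
    have hcoreH : ∀ g : G, ∀ v ∈ (H : Set G) \ {1}, g * v * g⁻¹ ∈ (H : Set G) \ {1} → g ∈ L := by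
      rintro g v ⟨hv, hv1⟩ ⟨hgv, -⟩
      by_contra hg
      apply hv1
      refine hTI g ?_ v hv hgv
      rw [hN]; exact hg
    obtain ⟨k₀, hk₀, hk₀1⟩ : ∃ k ∈ K, k ≠ 1 := by
      by_contra h
      refine hK1 ((Subgroup.eq_bot_iff_forall _).mpr (fun x hx => ?_))
      by_contra hx1
      exact h ⟨x, hx, hx1⟩
    have hAne : ((H : Set G) \ {1}).Nonempty :=
      ⟨(k₀ : G), ⟨k₀, hk₀, rfl⟩, fun h => hk₀1 (Subtype.ext h)⟩
    have hAinv : ∀ m ∈ L, ∀ x ∈ (H : Set G) \ {1}, m * x * m⁻¹ ∈ (H : Set G) \ {1} := by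
      rintro m hm x ⟨hx, hx1⟩
      refine ⟨hHn m hm x hx, ?_⟩
      intro h
      apply hx1
      have h' : m * x * m⁻¹ = 1 := h
      have : x = m⁻¹ * (m * x * m⁻¹) * m := by group
      rw [Set.mem_singleton_iff, this, h']; group
    have hTIA := Cfsg.Agent.Helper8.BG1538.ti_of_core hAne hAinv hcoreH
    have hD₀ : Cfsg.DadeHypothesis ((H : Set G) \ {1}) L (fun _ => ⊥) :=
      (Cfsg.Agent.S1497.result ((H : Set G) \ {1}) hAne (fun h => h.2 rfl) L).mp hTIA
    have hsupp : ∀ a ∈ (H : Set G) \ {1}, Cfsg.supportR L a = ⊥ := by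
      intro a ha
      apply supportR_eq_bot
      intro c hc
      apply hcoreH c a ha
      rw [Subgroup.mem_centralizer_iff] at hc
      have h1 : a * c = c * a := hc a (Set.mem_singleton a)
      have : c * a * c⁻¹ = a := by rw [← h1, mul_inv_cancel_right]
      rw [this]; exact ha
    have hD : Cfsg.DadeHypothesis (Cfsg.typeA L) L (Cfsg.supportR L) := by
      rw [hAeq]
      exact dade_congr hD₀ hsupp
    have hsuppA : ∀ a ∈ Cfsg.typeA L, Cfsg.supportR L a = ⊥ := by
      rw [hAeq]; exact hsupp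
    -- `S1524`
    set W₁ : Subgroup G := U.map L.subtype with hW₁def
    have hW₁L : W₁ ≤ L := Subgroup.map_subtype_le _
    have hW1 : W₁ ≠ ⊥ := by
      intro h
      apply hU1
      rw [eq_bot_iff]
      intro u hu
      have : (u : G) ∈ W₁ := ⟨u, hu, rfl⟩
      rw [h, Subgroup.mem_bot] at this
      rw [Subgroup.mem_bot]
      exact Subtype.ext this
    have hinf : H ⊓ W₁ = ⊥ := by
      rw [hHdef, hW₁def]
      unfold Cfsg.fittingHallOf
      rw [← Subgroup.map_inf _ _ L.subtype L.subtype_injective, hcompl.disjoint.eq_bot, Subgroup.map_bot]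
    have hsup : H ⊔ W₁ = L := by
      rw [hHdef, hW₁def]
      unfold Cfsg.fittingHallOf
      rw [← Subgroup.map_sup, hcompl.sup_eq_top, ← MonoidHom.range_eq_map, Subgroup.range_subtype]
    have hfpf' : ∀ w ∈ W₁, w ≠ 1 → ∀ h ∈ H, w * h = h * w → h = 1 := by
      rintro _ ⟨u, hu, rfl⟩ hu1 _ ⟨k, hk, rfl⟩ huk
      have h1 : u ≠ 1 := by
        rintro rfl
        exact hu1 rfl
      have h2 : u * k = k * u := Subtype.ext huk
      have := hfpf u hu h1 k hk h2
      rw [this]; rfl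
    have hnilH : Group.IsNilpotent ↥H := Cfsg.Agent.Helper27.BGTy.fittingHallOf_isNilpotent L
    have h24 := Cfsg.Agent.S1524.result H L W₁ hoddL hHL hW₁L hH1 hW1 hnilH hHn hinf hsup hfpf'
      hTI hN
    have hHK : H.subgroupOf L = K := by
      rw [hHdef]
      unfold Cfsg.fittingHallOf Subgroup.subgroupOf
      exact Subgroup.comap_map_eq_self_of_injective L.subtype_injective _
    rw [hHK] at h24
    obtain ⟨hne, τ₁, hτ₁, hagree⟩ := h24
    refine ⟨hne, τ₁, hτ₁, fun α hα => ?_⟩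
    rw [hagree α hα]
    have hprops := mem_zspan_props K hF hα.1
    have hαA : ∀ x : ↥L, (x : G) ∉ Cfsg.typeA L → α x = 0 := by
      intro x hx
      by_cases hxK : x ∈ K
      · by_cases hx1 : x = 1
        · rw [hx1]
          apply hα.2 1
          simp
        · exact absurd (hA x hxK hx1) hx
      · exact hprops.2.2 x hxK
    exact (dade_eq_indFun (Cfsg.typeA L) L (Cfsg.supportR L) hD hsuppA α hprops.1 hαA).symm
  · -- the non-TI case: coherence criterion `S1521`
    have hD := hDade hTI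
    obtain ⟨R, hS⟩ := exists_system_dade (Cfsg.typeA L) L (Cfsg.supportR L) K hF hD hA hoddL hK1
      hsolvK
    have hder : ⁅K, K⁆ < K := FrobCoh.commutator_lt K hK1 hsolvK
    have hH₁K : ⁅K, K⁆ ⊔ (⊥ : Subgroup ↥L) < K := by rw [sup_bot_eq]; exact hder
    have hKL : K < ⊤ := lt_top_iff_ne_top.mpr hKtop
    haveI hdn : (⁅K, K⁆ ⊔ (⊥ : Subgroup ↥L)).Normal := by rw [sup_bot_eq]; infer_instance
    have hfr : ∀ k ∈ K, k ∉ ⁅K, K⁆ ⊔ (⊥ : Subgroup ↥L) → ∀ x : ↥L,
        x * k * x⁻¹ * k⁻¹ ∈ ⁅K, K⁆ ⊔ (⊥ : Subgroup ↥L) → x ∈ K :=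
      FrobCoh.quot_frob K hF (⁅K, K⁆ ⊔ (⊥ : Subgroup ↥L)) hH₁K.le
    have hnilQ : Group.IsNilpotent (↥K ⧸ (⊥ : Subgroup ↥L).subgroupOf K) := inferInstance
    have hcardK : (⊥ : Subgroup ↥L).relIndex K = Nat.card (Cfsg.fittingHallOf L) := by
      rw [Subgroup.relIndex_bot_left]
      unfold Cfsg.fittingHallOf
      rw [Subgroup.card_map_of_injective L.subtype_injective]
    have hgood : (∃ N : Subgroup ↥L, N.Normal ∧ ⁅K, K⁆ ⊔ (⊥ : Subgroup ↥L) < N ∧ N < K) ∨
        4 * K.index ^ 2 + 1 < (⁅K, K⁆ ⊔ (⊥ : Subgroup ↥L)).relIndex K ∨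
        (¬ ∃ p m : ℕ, p.Prime ∧ (⊥ : Subgroup ↥L).relIndex K = p ^ m) ∨
        ⁅K, K⁆ ≤ (⊥ : Subgroup ↥L) ∨
        (∃ p m : ℕ, p.Prime ∧ (⊥ : Subgroup ↥L).relIndex K = p ^ m ∧ K.index ∣ p - 1) := by
      rcases hcases with h | ⟨hab, -, -⟩ | ⟨hexp, -⟩
      · exact absurd h hTI
      · -- `L_F` abelian
        right; right; right; left
        rw [Subgroup.commutator_le]
        intro a ha b hb
        rw [Subgroup.mem_bot, commutatorElement_eq_one_iff_mul_comm]
        have hab' := hab.is_comm.comm (⟨(a : G), ⟨a, ha, rfl⟩⟩ : ↥(Cfsg.fittingHallOf L))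
          ⟨(b : G), ⟨b, hb, rfl⟩⟩
        have h1 : (a : G) * (b : G) = (b : G) * (a : G) := congrArg Subtype.val hab'
        exact Subtype.ext h1
      · by_cases hpp : ∃ p m : ℕ, p.Prime ∧ (⊥ : Subgroup ↥L).relIndex K = p ^ m
        · right; right; right; right
          obtain ⟨p, m, hp, hpm⟩ := hpp
          refine ⟨p, m, hp, hpm, ?_⟩
          have hm0 : m ≠ 0 := by
            rintro rfl
            rw [pow_zero, Subgroup.relIndex_bot_left] at hpm
            exact hK1 (Subgroup.card_eq_one.mp hpm)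
          have hpd : p ∣ Nat.card (Cfsg.fittingHallOf L) := by
            rw [← hcardK, hpm]; exact dvd_pow_self p hm0
          have h1 := hexp p hp hpd
          rwa [exponent_quotient_eq_index K U hcompl hK1 hU1 hfpf hoddL] at h1
        · right; right; left
          exact hpp
    have h21 := Cfsg.Agent.S1521.result K hsolvK (Cfsg.dadeIsometry (Cfsg.typeA L) L (Cfsg.supportR L))
      R hS hoddL ⊥ bot_le hnilQ (⁅K, K⁆ ⊔ (⊥ : Subgroup ↥L)) rfl hH₁K hKL hfr hgood
    exact h21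

end Main

end Cfsg.Agent.Helper8.PF123
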