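import Mathlib
import Cfsg.Agent.Lib.Helper8.InvTI2

/-!
# Self-centralizing subgroups of prime order `p` with normalizer of order `p (p - 1)`:
rational character values (helper8)
-/

set_option autoImplicit false
set_option linter.unusedVariables false
set_option linter.unusedSectionVars false
set_option linter.style.haveILetI false

namespace Cfsg.Agent.Helper8.Rat5

open Cfsg Cfsg.Agent.Helper24 Cfsg.Agent.Helper5 Cfsg.Agent.Helper8
open Cfsg.Agent.Helper5.PrimeTI
open scoped ComplexConjugate

universe u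

section Trans

variable {G : Type u} [Group G]

/-- the normalizer is transitive on the nonidentity elements -/
theorem exists_conj [Finite G] (P : Subgroup G) {p : ℕ} (hp : p.Prime)
    (hcard : Nat.card P = p) (hcent : Subgroup.centralizer (P : Set G) ≤ P)
    (hN : Nat.card (Subgroup.normalizer (P : Set G)) = p * (p - 1))
    {x : G} (hx : x ∈ P) (hx1 : x ≠ 1) {k : G} (hk : k ∈ P) (hk1 : k ≠ 1) :
    ∃ g : G, g * x * g⁻¹ = k := by
  classical
  letI : MulAction (Subgroup.normalizer (P : Set G)) G :=
    MulAction.compHom G ((MulAut.conj : G →* MulAut G).comp (Subgroup.normalizer (P : Set G)).subtype)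
  have hsmul : ∀ (g : Subgroup.normalizer (P : Set G)) (y : G),
      g • y = (g : G) * y * (g : G)⁻¹ := fun g y => rfl
  have hstab : Nat.card (MulAction.stabilizer (Subgroup.normalizer (P : Set G)) x) = p := by
    rw [← hcard]
    apply Nat.card_congr
    refine ⟨fun g => ⟨g.1.1, ?_⟩, fun k => ⟨⟨k.1, Subgroup.le_normalizer k.2⟩, ?_⟩, ?_, ?_⟩
    · have h1 : (g.1 : G) * x * (g.1 : G)⁻¹ = x := by
        have := g.2
        rw [MulAction.mem_stabilizer_iff, hsmul] at this
        exact this
      apply centralizer_singleton_le P hp hcard hcent x hx hx1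
      rw [Subgroup.mem_centralizer_iff]
      intro z hz
      rw [Set.mem_singleton_iff] at hz
      rw [hz]
      calc x * (g.1 : G) = ((g.1 : G) * x * (g.1 : G)⁻¹) * (g.1 : G) := by rw [h1]
        _ = (g.1 : G) * x := by group
    · rw [MulAction.mem_stabilizer_iff, hsmul]
      have := comm_of_prime P hp hcard k.1 k.2 x hx
      simp only
      rw [this]
      group
    · intro g
      rfl
    · intro k
      rfl
  have horb : (MulAction.orbit (Subgroup.normalizer (P : Set G)) x).ncard = p - 1 := by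
    rw [← MulAction.index_stabilizer]
    have := Subgroup.card_mul_index (MulAction.stabilizer (Subgroup.normalizer (P : Set G)) x)
    rw [hstab, hN] at this
    exact Nat.eq_of_mul_eq_mul_left hp.pos this
  have hsub : MulAction.orbit (Subgroup.normalizer (P : Set G)) x ⊆ (P : Set G) \ {1} := by
    rintro y ⟨g, rfl⟩
    simp only [hsmul]
    refine ⟨?_, ?_⟩
    · exact (Subgroup.mem_normalizer_iff.mp g.2 x).mp hx
    · intro h
      rw [Set.mem_singleton_iff] at h
      apply hx1
      calc x = (g : G)⁻¹ * ((g : G) * x * (g : G)⁻¹) * (g : G) := by group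
        _ = 1 := by rw [h]; group
  have hcardP : ((P : Set G) \ {1}).ncard = p - 1 := by
    rw [Set.ncard_diff_singleton_of_mem (P.one_mem), ← hcard,
      ← Nat.card_coe_set_eq (P : Set G)]
    rfl
  have heq : MulAction.orbit (Subgroup.normalizer (P : Set G)) x = (P : Set G) \ {1} :=
    Set.eq_of_subset_of_ncard_le hsub (by rw [horb, hcardP]) (Set.toFinite _)
  have hmem : k ∈ MulAction.orbit (Subgroup.normalizer (P : Set G)) x := by
    rw [heq]
    exact ⟨hk, hk1⟩
  obtain ⟨g, hg⟩ := hmem
  exact ⟨g, hg⟩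

end Trans

section Values

variable {G : Type u} [Group G] [Fintype G]

/-- the sum of a character over a subgroup is a multiple of the order -/
theorem sum_char_subgroup (H : Subgroup G) [Fintype H] {θ : G → ℂ} (hθ : IsCharacter G θ) :
    ∃ m : ℕ, ∑ k : H, θ (k : G) = (Nat.card H : ℂ) * m := by
  have h2 := isCharacter_restrict H hθ
  letI : Fintype (IrrCharacter ↥H) := irrFintype
  obtain ⟨m, hm⟩ := classInner_char_nat h2 (isCharacter_one (G := ↥H))
  refine ⟨m, ?_⟩
  unfold classInner at hm
  simp only [map_one, mul_one] at hm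
  have hp0 : (Nat.card H : ℂ) ≠ 0 := by
    exact_mod_cast (Nat.card_pos (α := H)).ne'
  rw [← hm]
  field_simp

/-- the characters take rational integer values on `P ∖ 1`, congruent to the degree -/
theorem rational_values (P : Subgroup G) {p : ℕ} (hp : p.Prime)
    (hcard : Nat.card P = p) (hcent : Subgroup.centralizer (P : Set G) ≤ P)
    (hN : Nat.card (Subgroup.normalizer (P : Set G)) = p * (p - 1))
    {θ : G → ℂ} (hθ : IsCharacter G θ) :
    ∃ w : ℤ, (∀ k ∈ P, k ≠ 1 → θ k = w) ∧ ((charDegree θ : ℤ) ≡ w [ZMOD p]) := by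
  classical
  obtain ⟨x, hxP, hx1⟩ : ∃ x ∈ P, x ≠ 1 := by
    have h1 : 1 < Nat.card P := by rw [hcard]; exact hp.one_lt
    haveI : Nontrivial P := Finite.one_lt_card_iff_nontrivial.mp h1
    obtain ⟨y, hy⟩ := exists_ne (1 : P)
    exact ⟨y.1, y.2, fun h => hy (Subtype.ext h)⟩
  have hconst : ∀ k ∈ P, k ≠ 1 → θ k = θ x := by
    intro k hk hk1
    obtain ⟨g, hg⟩ := exists_conj P hp hcard hcent hN hxP hx1 hk hk1
    rw [← hg]
    exact isClassFunction_of_isCharacter hθ x g
  letI : Fintype P := Fintype.ofFinite P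
  obtain ⟨m, hm⟩ := sum_char_subgroup P hθ
  rw [hcard] at hm
  have hsplit : ∑ k : P, θ (k : G) = θ 1 + ((p - 1 : ℕ) : ℂ) * θ x := by
    rw [← Finset.add_sum_erase Finset.univ _ (Finset.mem_univ (1 : P))]
    congr 1
    rw [Finset.sum_congr rfl (g := fun _ => θ x)]
    · rw [Finset.sum_const, Finset.card_erase_of_mem (Finset.mem_univ _), Finset.card_univ,
        ← Nat.card_eq_fintype_card, hcard, nsmul_eq_mul]
    · intro k hk
      have hk1 : k ≠ 1 := Finset.ne_of_mem_erase hk
      exact hconst k.1 k.2 (fun h => hk1 (Subtype.ext h))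
  have hdeg : θ 1 = (charDegree θ : ℂ) := char_one_eq_charDegree hθ
  have hp1 : p - 1 ≠ 0 := by have := hp.two_le; omega
  have hmul : ((p - 1 : ℕ) : ℂ) * θ x = ((p * m - charDegree θ : ℤ) : ℂ) := by
    push_cast
    rw [← hm, hsplit, hdeg]
    ring
  obtain ⟨w, hw⟩ := TIFN.int_of_isIntegral_of_mul_eq (isIntegral_of_isCharacter hθ x) hp1 hmul
  refine ⟨w, fun k hk hk1 => by rw [hconst k hk hk1, hw], ?_⟩
  rw [hw] at hmul
  have hz : ((p - 1 : ℕ) : ℤ) * w = p * m - charDegree θ := by exact_mod_cast hmul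
  have hp1' : ((p - 1 : ℕ) : ℤ) = (p : ℤ) - 1 := by
    have := hp.one_le
    push_cast [Nat.cast_sub this]
    ring
  rw [hp1'] at hz
  rw [Int.modEq_iff_dvd]
  refine ⟨w - m, ?_⟩
  linear_combination -hz

end Values

end Cfsg.Agent.Helper8.Rat5
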