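import Mathlib
import Cfsg.Agent.Lib.Helper8.Rat5a

/-!
# Self-centralizing subgroups of order `5` with normalizer of order `20` in perfect groups:
the four nonprincipal characters not vanishing on the subgroup (helper8)
-/

set_option autoImplicit false
set_option linter.unusedVariables false
set_option linter.unusedSectionVars false
set_option linter.style.haveILetI false

namespace Cfsg.Agent.Helper8.Rat5

open Cfsg Cfsg.Agent.Helper24 Cfsg.Agent.Helper5 Cfsg.Agent.Helper8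
open Cfsg.Agent.Helper5.PrimeTI
open scoped ComplexConjugate

universe u

theorem sq_cases {z : ℤ} (h0 : z ≠ 0) (h1 : z ^ 2 ≠ 1) : 4 ≤ z ^ 2 := by
  have : z ≤ -2 ∨ 2 ≤ z := by
    by_contra hh
    push Not at hh
    have h3 : z = -1 ∨ z = 0 ∨ z = 1 := by omega
    rcases h3 with h | h | h
    · apply h1; rw [h]; norm_num
    · exact h0 h
    · apply h1; rw [h]; norm_num
  rcases this with h | h <;> nlinarith

theorem sq_eq_one_cases {z : ℤ} (h : z ^ 2 = 1) : z = 1 ∨ z = -1 := by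
  have h1 : (z - 1) * (z + 1) = 0 := by ring_nf; linarith
  rcases mul_eq_zero.mp h1 with h2 | h2
  · left; omega
  · right; omega

set_option maxHeartbeats 1600000 in
theorem e4_data {G : Type u} [Group G] [Fintype G] [Fintype (IrrCharacter G)] (P : Subgroup G)
    (hcard : Nat.card P = 5) (hcent : Subgroup.centralizer (P : Set G) ≤ P)
    (hN : Nat.card (Subgroup.normalizer (P : Set G)) = 20) (hperf : commutator G = ⊤) :
    ∃ (χ₁ χ₂ χ₃ χ₄ : IrrCharacter G) (δ₁ δ₂ δ₃ δ₄ : ℤ),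
      (δ₁ = 1 ∨ δ₁ = -1) ∧ (δ₂ = 1 ∨ δ₂ = -1) ∧ (δ₃ = 1 ∨ δ₃ = -1) ∧ (δ₄ = 1 ∨ δ₄ = -1) ∧
      charDegree (χ₁ : G → ℂ) ≤ charDegree (χ₂ : G → ℂ) ∧
      charDegree (χ₂ : G → ℂ) ≤ charDegree (χ₃ : G → ℂ) ∧
      charDegree (χ₃ : G → ℂ) ≤ charDegree (χ₄ : G → ℂ) ∧
      2 ≤ charDegree (χ₁ : G → ℂ) ∧
      ((charDegree (χ₁ : G → ℂ) : ℤ) ≡ δ₁ [ZMOD 5]) ∧
      ((charDegree (χ₂ : G → ℂ) : ℤ) ≡ δ₂ [ZMOD 5]) ∧
      ((charDegree (χ₃ : G → ℂ) : ℤ) ≡ δ₃ [ZMOD 5]) ∧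
      ((charDegree (χ₄ : G → ℂ) : ℤ) ≡ δ₄ [ZMOD 5]) ∧
      1 + δ₁ * (charDegree (χ₁ : G → ℂ) : ℤ) + δ₂ * (charDegree (χ₂ : G → ℂ) : ℤ) +
        δ₃ * (charDegree (χ₃ : G → ℂ) : ℤ) + δ₄ * (charDegree (χ₄ : G → ℂ) : ℤ) = 0 ∧
      (∀ (g : G) (c₁ c₂ c₃ c₄ : ℤ), (χ₁ : G → ℂ) g = c₁ → (χ₂ : G → ℂ) g = c₂ →
        (χ₃ : G → ℂ) g = c₃ → (χ₄ : G → ℂ) g = c₄ →
        1 + c₁ ^ 2 + c₂ ^ 2 + c₃ ^ 2 + c₄ ^ 2 ≤
          (Nat.card (Subgroup.centralizer ({g} : Set G)) : ℤ)) ∧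
      ∀ (f : IrrCharacter G → ℂ) (k : G), k ∈ P → k ≠ 1 →
        ∑ χ : IrrCharacter G, f χ * conj ((χ : G → ℂ) k) =
          f (principalChar G) + f χ₁ * δ₁ + f χ₂ * δ₂ + f χ₃ * δ₃ + f χ₄ * δ₄ := by
  classical
  have hp : Nat.Prime 5 := by norm_num
  have hN' : Nat.card (Subgroup.normalizer (P : Set G)) = 5 * (5 - 1) := by rw [hN]
  choose w hw hwmod using fun χ : IrrCharacter G =>
    rational_values P hp hcard hcent hN' (isCharacter_of_isIrrCharacter χ.2)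
  obtain ⟨x, hxP, hx1⟩ : ∃ x ∈ P, x ≠ 1 := by
    have h1 : 1 < Nat.card P := by rw [hcard]; norm_num
    haveI : Nontrivial P := Finite.one_lt_card_iff_nontrivial.mp h1
    obtain ⟨y, hy⟩ := exists_ne (1 : P)
    exact ⟨y.1, y.2, fun h => hy (Subtype.ext h)⟩
  set τ : IrrCharacter G := principalChar G with hτ
  have hτv : ∀ g : G, (τ : G → ℂ) g = 1 := fun g => rfl
  have hwτ : w τ = 1 := by
    have h1 := hw τ x hxP hx1
    rw [hτv] at h1
    have : ((1 : ℤ) : ℂ) = (w τ : ℂ) := by rw [← h1]; simp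
    exact (Int.cast_injective this).symm
  have hdτ : charDegree (τ : G → ℂ) = 1 := charDegree_one
  -- the sum of squares
  have hcx : Nat.card (Subgroup.centralizer ({x} : Set G)) = 5 := by
    have : Subgroup.centralizer ({x} : Set G) = P := by
      apply le_antisymm (centralizer_singleton_le P hp hcard hcent x hxP hx1)
      intro g hg
      rw [Subgroup.mem_centralizer_iff]
      intro z hz
      rw [Set.mem_singleton_iff] at hz
      rw [hz]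
      exact comm_of_prime P hp hcard x hxP g hg
    rw [this, hcard]
  have hsq : ∑ χ : IrrCharacter G, (w χ) ^ 2 = 5 := by
    have h := second_orthogonality' x x
    rw [if_pos (IsConj.refl x), hcx] at h
    have h2 : ∑ χ : IrrCharacter G, ((w χ : ℤ) : ℂ) ^ 2 = ((5 : ℤ) : ℂ) := by
      rw [← Finset.sum_congr rfl (fun χ _ => by
        rw [hw χ x hxP hx1, map_intCast, ← pow_two])] at h
      rw [h]; norm_num
    have h3 : ((∑ χ : IrrCharacter G, (w χ) ^ 2 : ℤ) : ℂ) = ((5 : ℤ) : ℂ) := by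
      rw [← h2]; push_cast; rfl
    exact Int.cast_injective h3
  have hdw : ∑ χ : IrrCharacter G, (charDegree (χ : G → ℂ) : ℤ) * w χ = 0 := by
    have h := FrobKer.sum_deg_mul (X := G) hx1
    have h2 : ((∑ χ : IrrCharacter G, (charDegree (χ : G → ℂ) : ℤ) * w χ : ℤ) : ℂ) = 0 := by
      rw [← h]
      push_cast
      refine Finset.sum_congr rfl fun χ _ => ?_
      rw [hw χ x hxP hx1, irr_one_eq_charDegree χ.2]
    exact_mod_cast h2
  -- the support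
  set S : Finset (IrrCharacter G) := (Finset.univ.erase τ).filter (fun χ => w χ ≠ 0) with hS
  have hSmem : ∀ χ, χ ∈ S ↔ χ ≠ τ ∧ w χ ≠ 0 := by
    intro χ
    rw [hS, Finset.mem_filter, Finset.mem_erase]
    simp
  have hsumS : ∀ {M : Type} [AddCommMonoid M] (F : IrrCharacter G → M),
      (∀ χ, w χ = 0 → F χ = 0) → ∑ χ : IrrCharacter G, F χ = F τ + ∑ χ ∈ S, F χ := by
    intro M _ F hF
    rw [← Finset.add_sum_erase Finset.univ F (Finset.mem_univ τ)]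
    congr 1
    rw [hS, Finset.sum_filter_of_ne]
    intro χ _ hne hw0
    exact hne (hF χ hw0)
  have hSsq : ∑ χ ∈ S, (w χ) ^ 2 = 4 := by
    have := hsumS (fun χ => (w χ) ^ 2) (fun χ h => by simp [h])
    rw [hsq, hwτ] at this
    linarith
  have hS1 : ∀ χ ∈ S, 1 ≤ (w χ) ^ 2 := by
    intro χ hχ
    have h0 := ((hSmem χ).mp hχ).2
    have h1 : 0 ≤ (w χ) ^ 2 := sq_nonneg _
    have h2 : (w χ) ^ 2 ≠ 0 := pow_ne_zero 2 h0
    omega
  have hSone : ∀ χ ∈ S, (w χ) ^ 2 = 1 := by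
    intro χ₀ hχ₀
    by_contra hne
    have h4 := sq_cases ((hSmem χ₀).mp hχ₀).2 hne
    have hsplit := Finset.add_sum_erase S (fun χ => (w χ) ^ 2) hχ₀
    have hnn : 0 ≤ ∑ χ ∈ S.erase χ₀, (w χ) ^ 2 := Finset.sum_nonneg fun χ _ => sq_nonneg _
    have hz : ∑ χ ∈ S.erase χ₀, (w χ) ^ 2 = 0 := by linarith
    have hw4 : (w χ₀) ^ 2 = 4 := by linarith
    have hempty : S.erase χ₀ = ∅ := by
      rw [Finset.eq_empty_iff_forall_notMem]
      intro χ hχ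
      have := (Finset.sum_eq_zero_iff_of_nonneg (fun i _ => sq_nonneg (w i))).mp hz χ hχ
      have h1 := hS1 χ (Finset.mem_of_mem_erase hχ)
      omega
    have hd := hsumS (fun χ => (charDegree (χ : G → ℂ) : ℤ) * w χ) (fun χ h => by simp [h])
    rw [hdw, ← Finset.add_sum_erase S _ hχ₀, hempty, Finset.sum_empty, hwτ, hdτ] at hd
    have : w χ₀ = 2 ∨ w χ₀ = -2 := by
      have h1 : (w χ₀ - 2) * (w χ₀ + 2) = 0 := by ring_nf; linarith
      rcases mul_eq_zero.mp h1 with h2 | h2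
      · left; omega
      · right; omega
    rcases this with h | h <;> rw [h] at hd <;> push_cast at hd <;> omega
  have hScard : S.card = 4 := by
    have : ∑ χ ∈ S, (w χ) ^ 2 = ∑ χ ∈ S, (1 : ℤ) := Finset.sum_congr rfl hSone
    rw [hSsq, Finset.sum_const, nsmul_eq_mul, mul_one] at this
    exact_mod_cast this.symm
  -- extraction in increasing order of degree
  have hSne : S.Nonempty := by rw [← Finset.card_pos, hScard]; norm_num
  obtain ⟨χ₁, hχ₁, hmin₁⟩ := Finset.exists_min_image S (fun χ => charDegree (χ : G → ℂ)) hSne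
  have hS₁card : (S.erase χ₁).card = 3 := by rw [Finset.card_erase_of_mem hχ₁, hScard]
  have hS₁ne : (S.erase χ₁).Nonempty := by rw [← Finset.card_pos, hS₁card]; norm_num
  obtain ⟨χ₂, hχ₂, hmin₂⟩ :=
    Finset.exists_min_image (S.erase χ₁) (fun χ => charDegree (χ : G → ℂ)) hS₁ne
  have hS₂card : ((S.erase χ₁).erase χ₂).card = 2 := by
    rw [Finset.card_erase_of_mem hχ₂, hS₁card]
  have hS₂ne : ((S.erase χ₁).erase χ₂).Nonempty := by
    rw [← Finset.card_pos, hS₂card]; norm_num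
  obtain ⟨χ₃, hχ₃, hmin₃⟩ :=
    Finset.exists_min_image ((S.erase χ₁).erase χ₂) (fun χ => charDegree (χ : G → ℂ)) hS₂ne
  have hS₃card : (((S.erase χ₁).erase χ₂).erase χ₃).card = 1 := by
    rw [Finset.card_erase_of_mem hχ₃, hS₂card]
  obtain ⟨χ₄, hχ₄⟩ := Finset.card_eq_one.mp hS₃card
  have hχ₄mem : χ₄ ∈ ((S.erase χ₁).erase χ₂).erase χ₃ := by rw [hχ₄]; exact Finset.mem_singleton_self _
  have hχ₂S : χ₂ ∈ S := Finset.mem_of_mem_erase hχ₂
  have hχ₃S₁ : χ₃ ∈ S.erase χ₁ := Finset.mem_of_mem_erase hχ₃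
  have hχ₃S : χ₃ ∈ S := Finset.mem_of_mem_erase hχ₃S₁
  have hχ₄S₂ : χ₄ ∈ (S.erase χ₁).erase χ₂ := Finset.mem_of_mem_erase hχ₄mem
  have hχ₄S₁ : χ₄ ∈ S.erase χ₁ := Finset.mem_of_mem_erase hχ₄S₂
  have hχ₄S : χ₄ ∈ S := Finset.mem_of_mem_erase hχ₄S₁
  have hS4 : ∀ {M : Type} [AddCommMonoid M] (F : IrrCharacter G → M),
      ∑ χ ∈ S, F χ = F χ₁ + (F χ₂ + (F χ₃ + F χ₄)) := by
    intro M _ F
    rw [← Finset.add_sum_erase S F hχ₁, ← Finset.add_sum_erase (S.erase χ₁) F hχ₂,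
      ← Finset.add_sum_erase ((S.erase χ₁).erase χ₂) F hχ₃, hχ₄, Finset.sum_singleton]
  -- distinctness
  have h12 : χ₂ ≠ χ₁ := Finset.ne_of_mem_erase hχ₂
  have h13 : χ₃ ≠ χ₁ := Finset.ne_of_mem_erase hχ₃S₁
  have h14 : χ₄ ≠ χ₁ := Finset.ne_of_mem_erase hχ₄S₁
  have h23 : χ₃ ≠ χ₂ := Finset.ne_of_mem_erase hχ₃
  have h24 : χ₄ ≠ χ₂ := Finset.ne_of_mem_erase hχ₄S₂
  have h34 : χ₄ ≠ χ₃ := Finset.ne_of_mem_erase hχ₄mem
  have hτ1 : χ₁ ≠ τ := ((hSmem χ₁).mp hχ₁).1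
  have hτ2 : χ₂ ≠ τ := ((hSmem χ₂).mp hχ₂S).1
  have hτ3 : χ₃ ≠ τ := ((hSmem χ₃).mp hχ₃S).1
  have hτ4 : χ₄ ≠ τ := ((hSmem χ₄).mp hχ₄S).1
  -- the general sum formula
  have hsum : ∀ (f : IrrCharacter G → ℂ), ∑ χ : IrrCharacter G, f χ * (w χ : ℂ) =
      f τ + f χ₁ * (w χ₁ : ℂ) + f χ₂ * (w χ₂ : ℂ) + f χ₃ * (w χ₃ : ℂ) + f χ₄ * (w χ₄ : ℂ) := by
    intro f
    rw [hsumS (fun χ => f χ * (w χ : ℂ)) (fun χ h => by simp [h]), hS4, hwτ]
    push_cast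
    ring
  have hdrel : 1 + w χ₁ * (charDegree (χ₁ : G → ℂ) : ℤ) + w χ₂ * (charDegree (χ₂ : G → ℂ) : ℤ) +
      w χ₃ * (charDegree (χ₃ : G → ℂ) : ℤ) + w χ₄ * (charDegree (χ₄ : G → ℂ) : ℤ) = 0 := by
    have hd := hsumS (fun χ => (charDegree (χ : G → ℂ) : ℤ) * w χ) (fun χ h => by simp [h])
    rw [hdw, hS4, hwτ, hdτ] at hd
    push_cast at hd
    linarith
  have hdeg1 : 2 ≤ charDegree (χ₁ : G → ℂ) := by
    have hpos := charDegree_pos χ₁.2
    by_contra hcon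
    have h1 : charDegree (χ₁ : G → ℂ) = 1 := by omega
    apply hτ1
    exact Subtype.ext (linear_trivial hperf χ₁.2 h1)
  refine ⟨χ₁, χ₂, χ₃, χ₄, w χ₁, w χ₂, w χ₃, w χ₄, sq_eq_one_cases (hSone χ₁ hχ₁),
    sq_eq_one_cases (hSone χ₂ hχ₂S), sq_eq_one_cases (hSone χ₃ hχ₃S),
    sq_eq_one_cases (hSone χ₄ hχ₄S), hmin₁ χ₂ hχ₂S, hmin₂ χ₃ hχ₃S₁, hmin₃ χ₄ hχ₄S₂, hdeg1,
    hwmod χ₁, hwmod χ₂, hwmod χ₃, hwmod χ₄, hdrel, ?_, ?_⟩
  · -- the bound
    intro g c₁ c₂ c₃ c₄ hc₁ hc₂ hc₃ hc₄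
    have h := second_orthogonality' g g
    rw [if_pos (IsConj.refl g)] at h
    have hns : ∀ χ : IrrCharacter G, (χ : G → ℂ) g * conj ((χ : G → ℂ) g) =
        ((Complex.normSq ((χ : G → ℂ) g) : ℝ) : ℂ) := fun χ => Complex.mul_conj _
    rw [Finset.sum_congr rfl (fun χ _ => hns χ), ← Complex.ofReal_sum] at h
    have hR : ∑ χ : IrrCharacter G, Complex.normSq ((χ : G → ℂ) g) =
        (Nat.card (Subgroup.centralizer ({g} : Set G)) : ℝ) := by
      have : ((∑ χ : IrrCharacter G, Complex.normSq ((χ : G → ℂ) g) : ℝ) : ℂ) =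
          ((Nat.card (Subgroup.centralizer ({g} : Set G)) : ℝ) : ℂ) := by
        rw [h]; simp
      exact Complex.ofReal_injective this
    have hsub : ∑ χ ∈ insert τ S, Complex.normSq ((χ : G → ℂ) g) ≤
        ∑ χ : IrrCharacter G, Complex.normSq ((χ : G → ℂ) g) :=
      Finset.sum_le_sum_of_subset_of_nonneg (Finset.subset_univ _)
        (fun χ _ _ => Complex.normSq_nonneg _)
    have hτS : τ ∉ S := fun h => ((hSmem τ).mp h).1 rfl
    rw [Finset.sum_insert hτS, hS4, hR, hτv, hc₁, hc₂, hc₃, hc₄] at hsub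
    simp only [Complex.normSq_one, Complex.normSq_intCast] at hsub
    have : ((1 + c₁ ^ 2 + c₂ ^ 2 + c₃ ^ 2 + c₄ ^ 2 : ℤ) : ℝ) ≤
        ((Nat.card (Subgroup.centralizer ({g} : Set G)) : ℤ) : ℝ) := by
      push_cast
      have e : ∀ c : ℤ, ((c : ℝ)) * (c : ℝ) = (c : ℝ) ^ 2 := fun c => by ring
      simp only [e] at hsub
      linarith
    exact_mod_cast this
  · intro f k hk hk1
    rw [← hsum f]
    refine Finset.sum_congr rfl fun χ _ => ?_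
    rw [hw χ k hk hk1, map_intCast]

end Cfsg.Agent.Helper8.Rat5
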