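import Mathlib

/-!
# Arithmetic for the order `4320` (helper8)
-/

set_option autoImplicit false

namespace Cfsg.Agent.Helper8.Rat5

/-- the divisors of `4320` -/
def L4320 : List ℕ := [1, 2, 3, 4, 5, 6, 8, 9, 10, 12, 15, 16, 18, 20, 24, 27, 30, 32, 36, 40, 45,
  48, 54, 60, 72, 80, 90, 96, 108, 120, 135, 144, 160, 180, 216, 240, 270, 288, 360, 432, 480, 540,
  720, 864, 1080, 1440, 2160, 4320]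

theorem mem_L4320_aux : ∀ q < 66, ∀ r < 66, (66 * q + r) ∣ 4320 → (66 * q + r) ∈ L4320 := by
  decide +kernel

theorem mem_L4320 {m : ℕ} (h : m ∣ 4320) : m ∈ L4320 := by
  have hle : m ≤ 4320 := Nat.le_of_dvd (by norm_num) h
  have h1 := mem_L4320_aux (m / 66) (by omega) (m % 66) (Nat.mod_lt _ (by norm_num))
  rw [Nat.div_add_mod] at h1
  exact h1 h

/-- the possible degrees -/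
def Ldeg : List ℕ := [4, 6, 9, 16, 24, 36, 54]

set_option synthInstance.maxSize 4000 in
set_option synthInstance.maxHeartbeats 800000 in
theorem deg_list : ∀ d < 66, d ∣ 864 → (d % 5 = 1 ∨ d % 5 = 4) → 2 ≤ d → d ∈ Ldeg := by
  decide +kernel

/-- the sign attached to a degree -/
def sg (d : ℕ) : ℤ := if d % 5 = 1 then 1 else -1

/-- the character value attached to a degree and a multiplicity -/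
def cv (d j : ℕ) : ℤ := (d : ℤ) - 2 * (j : ℤ)

def relv (d₁ d₂ d₃ d₄ j₁ j₂ j₃ j₄ : ℕ) : ℤ :=
  1 + sg d₁ * cv d₁ j₁ + sg d₂ * cv d₂ j₂ + sg d₃ * cv d₃ j₃ + sg d₄ * cv d₄ j₄

def Tv (d₁ d₂ d₃ d₄ j₁ j₂ j₃ j₄ : ℕ) : ℤ :=
  864 + sg d₁ * cv d₁ j₁ ^ 2 * ((864 / d₁ : ℕ) : ℤ) + sg d₂ * cv d₂ j₂ ^ 2 * ((864 / d₂ : ℕ) : ℤ) +
    sg d₃ * cv d₃ j₃ ^ 2 * ((864 / d₃ : ℕ) : ℤ) + sg d₄ * cv d₄ j₄ ^ 2 * ((864 / d₄ : ℕ) : ℤ)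

def Bv (d₁ d₂ d₃ d₄ j₁ j₂ j₃ j₄ : ℕ) : ℤ :=
  1 + cv d₁ j₁ ^ 2 + cv d₂ j₂ ^ 2 + cv d₃ j₃ ^ 2 + cv d₄ j₄ ^ 2

set_option synthInstance.maxSize 4000 in
set_option synthInstance.maxHeartbeats 800000 in
theorem deg_pattern : ∀ d₁ ∈ Ldeg, ∀ d₂ ∈ Ldeg, ∀ d₃ ∈ Ldeg, ∀ d₄ ∈ Ldeg, d₁ ≤ d₂ → d₂ ≤ d₃ →
    d₃ ≤ d₄ → 1 + sg d₁ * (d₁ : ℤ) + sg d₂ * (d₂ : ℤ) + sg d₃ * (d₃ : ℤ) + sg d₄ * (d₄ : ℤ) = 0 →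
    1 + d₁ ^ 2 + d₂ ^ 2 + d₃ ^ 2 + d₄ ^ 2 ≤ 4320 →
    (d₁ = 4 ∧ d₂ = 4 ∧ d₃ = 9 ∧ d₄ = 16) ∨ (d₁ = 4 ∧ d₂ = 6 ∧ d₃ = 6 ∧ d₄ = 9) ∨
    (d₁ = 4 ∧ d₂ = 9 ∧ d₃ = 24 ∧ d₄ = 36) ∨ (d₁ = 9 ∧ d₂ = 16 ∧ d₃ = 16 ∧ d₄ = 24) := by
  decide +kernel

set_option synthInstance.maxSize 4000 in
set_option synthInstance.maxHeartbeats 800000 in
theorem no_t_A : ∀ j₁ < 5, ∀ j₂ < 5, ∀ j₃ < 10, ∀ j₄ < 17, relv 4 4 9 16 j₁ j₂ j₃ j₄ = 0 →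
    ∀ m ∈ L4320, Bv 4 4 9 16 j₁ j₂ j₃ j₄ ≤ (m : ℤ) → (m : ℤ) ^ 2 = Tv 4 4 9 16 j₁ j₂ j₃ j₄ →
    False := by
  decide +kernel

set_option synthInstance.maxSize 4000 in
set_option synthInstance.maxHeartbeats 800000 in
theorem t_B : ∀ j₁ < 5, ∀ j₂ < 7, ∀ j₃ < 7, ∀ j₄ < 10, relv 4 6 6 9 j₁ j₂ j₃ j₄ = 0 →
    ∀ m ∈ L4320, Bv 4 6 6 9 j₁ j₂ j₃ j₄ ≤ (m : ℤ) → (m : ℤ) ^ 2 = Tv 4 6 6 9 j₁ j₂ j₃ j₄ →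
    m = 24 ∨ m = 48 := by
  decide +kernel

set_option synthInstance.maxSize 4000 in
set_option synthInstance.maxHeartbeats 800000 in
theorem z_B : ∀ j₁ < 5, ∀ j₂ < 7, ∀ j₃ < 7, ∀ j₄ < 10, relv 4 6 6 9 j₁ j₂ j₃ j₄ = 0 →
    0 = Tv 4 6 6 9 j₁ j₂ j₃ j₄ → j₁ = 0 := by
  decide +kernel

set_option synthInstance.maxSize 4000 in
set_option synthInstance.maxHeartbeats 800000 in
theorem no_t_C : ∀ j₁ < 5, ∀ j₂ < 10, ∀ j₃ < 25, ∀ j₄ < 37, relv 4 9 24 36 j₁ j₂ j₃ j₄ = 0 →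
    ∀ m ∈ L4320, Bv 4 9 24 36 j₁ j₂ j₃ j₄ ≤ (m : ℤ) → (m : ℤ) ^ 2 = Tv 4 9 24 36 j₁ j₂ j₃ j₄ →
    False := by
  decide +kernel

set_option synthInstance.maxSize 4000 in
set_option synthInstance.maxHeartbeats 800000 in
theorem no_t_D : ∀ j₁ < 10, ∀ j₂ < 17, ∀ j₃ < 17, ∀ j₄ < 25, relv 9 16 16 24 j₁ j₂ j₃ j₄ = 0 →
    ∀ m ∈ L4320, Bv 9 16 16 24 j₁ j₂ j₃ j₄ ≤ (m : ℤ) → (m : ℤ) ^ 2 = Tv 9 16 16 24 j₁ j₂ j₃ j₄ →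
    False := by
  decide +kernel

end Cfsg.Agent.Helper8.Rat5
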