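import Mathlib

/-!
# From the class multiplication relation to an integer equation (order `4320`, helper8)
-/

set_option autoImplicit false

namespace Cfsg.Agent.Helper8.Rat5

theorem div_eq_of_dvd {d : ℕ} (h : d ∣ 864) (c : ℂ) :
    c / (d : ℂ) = c * ((864 / d : ℕ) : ℂ) / 864 := by
  obtain ⟨e, he⟩ := h
  have hd0 : d ≠ 0 := by rintro rfl; simp at he
  have hdiv : 864 / d = e := Nat.div_eq_of_eq_mul_right (Nat.pos_of_ne_zero hd0) he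
  have hdC : (d : ℂ) ≠ 0 := by exact_mod_cast hd0
  have hde : (d : ℂ) * (e : ℂ) = 864 := by exact_mod_cast he.symm
  rw [hdiv, div_eq_div_iff hdC (by norm_num)]
  linear_combination (-c) * hde

theorem T_of_sum {m d₁ d₂ d₃ d₄ : ℕ} (h₁ : d₁ ∣ 864) (h₂ : d₂ ∣ 864) (h₃ : d₃ ∣ 864)
    (h₄ : d₄ ∣ 864) {δ₁ δ₂ δ₃ δ₄ c₁ c₂ c₃ c₄ : ℤ}
    (h : (5 : ℂ) * (m : ℂ) ^ 2 = 4320 * (1 + (c₁ : ℂ) ^ 2 / (d₁ : ℂ) * δ₁ +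
      (c₂ : ℂ) ^ 2 / (d₂ : ℂ) * δ₂ + (c₃ : ℂ) ^ 2 / (d₃ : ℂ) * δ₃ +
      (c₄ : ℂ) ^ 2 / (d₄ : ℂ) * δ₄)) :
    (m : ℤ) ^ 2 = 864 + δ₁ * c₁ ^ 2 * ((864 / d₁ : ℕ) : ℤ) + δ₂ * c₂ ^ 2 * ((864 / d₂ : ℕ) : ℤ) +
      δ₃ * c₃ ^ 2 * ((864 / d₃ : ℕ) : ℤ) + δ₄ * c₄ ^ 2 * ((864 / d₄ : ℕ) : ℤ) := by
  rw [div_eq_of_dvd h₁, div_eq_of_dvd h₂, div_eq_of_dvd h₃, div_eq_of_dvd h₄] at h
  have h2 : ((m : ℤ) : ℂ) ^ 2 = ((864 + δ₁ * c₁ ^ 2 * ((864 / d₁ : ℕ) : ℤ) +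
      δ₂ * c₂ ^ 2 * ((864 / d₂ : ℕ) : ℤ) + δ₃ * c₃ ^ 2 * ((864 / d₃ : ℕ) : ℤ) +
      δ₄ * c₄ ^ 2 * ((864 / d₄ : ℕ) : ℤ) : ℤ) : ℂ) := by
    simp only [Int.cast_add, Int.cast_mul, Int.cast_pow, Int.cast_natCast, Int.cast_ofNat]
    linear_combination (1 / 5 : ℂ) * h
  exact_mod_cast h2

end Cfsg.Agent.Helper8.Rat5
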