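import Mathlib
import Cfsg.Agent.Lib.Helper8.RegOrbDefs
import Cfsg.Agent.Lib.Helper8.RegOrbA

set_option autoImplicit false

namespace Cfsg.Agent.Helper8.RegOrb

universe u

section basic
variable {N : Type*} [CommGroup N]

theorem eq_one_of_pow_coprime [Finite N] {m : ℕ} (hm : (Nat.card N).Coprime m) {v : N}
    (hv : v ^ m = 1) : v = 1 := by
  have h1 : orderOf v ∣ m := orderOf_dvd_of_pow_eq_one hv
  have h2 : orderOf v ∣ Nat.card N := orderOf_dvd_natCard v
  have h3 : orderOf v ∣ Nat.gcd (Nat.card N) m := Nat.dvd_gcd h2 h1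
  rw [hm] at h3
  exact orderOf_eq_one_iff.mp (Nat.dvd_one.mp h3)

theorem fixOf_anti {K K' : Subgroup (MulAut N)} (h : K ≤ K') : fixOf K' ≤ fixOf K := by
  intro v hv k hk
  exact hv k (h hk)

theorem fixOf_sup (K K' : Subgroup (MulAut N)) : fixOf (K ⊔ K') = fixOf K ⊓ fixOf K' := by
  apply le_antisymm
  · exact le_inf (fixOf_anti le_sup_left) (fixOf_anti le_sup_right)
  · intro v hv
    obtain ⟨h1, h2⟩ := hv
    intro k hk
    -- the stabilizer of v is a subgroup containing K and K'
    let S : Subgroup (MulAut N) :=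
      { carrier := {σ | σ v = v}
        one_mem' := by simp
        mul_mem' := by
          intro σ τ hσ hτ
          have h1 : σ v = v := hσ
          have h2 : τ v = v := hτ
          show (σ * τ) v = v
          rw [MulAut.mul_apply, h2, h1]
        inv_mem' := by
          intro σ hσ
          have h1 : σ v = v := hσ
          show σ⁻¹ v = v
          calc σ⁻¹ v = σ⁻¹ (σ v) := by rw [h1]
            _ = v := by simp }
    have hle : K ⊔ K' ≤ S := sup_le (fun x hx => h1 x hx) (fun x hx => h2 x hx)
    exact hle hk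

theorem fixOf_bot : fixOf (⊥ : Subgroup (MulAut N)) = ⊤ := by
  apply top_unique
  intro v _ k hk
  rw [Subgroup.mem_bot] at hk
  subst hk
  rfl

/-- conjugate subgroup `h K h⁻¹` -/
def conjSub (h : MulAut N) (K : Subgroup (MulAut N)) : Subgroup (MulAut N) :=
  K.map (MulAut.conj h).toMonoidHom

theorem mem_conjSub {h : MulAut N} {K : Subgroup (MulAut N)} {x : MulAut N} :
    x ∈ conjSub h K ↔ h⁻¹ * x * h ∈ K := by
  unfold conjSub
  constructor
  · rintro ⟨k, hk, rfl⟩
    have : h⁻¹ * ((MulAut.conj h).toMonoidHom k) * h = k := by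
      simp [MulAut.conj_apply, mul_assoc]
    rw [this]; exact hk
  · intro hx
    refine ⟨h⁻¹ * x * h, hx, ?_⟩
    simp [MulAut.conj_apply, mul_assoc]

theorem conj_mem_conjSub {h : MulAut N} {K : Subgroup (MulAut N)} {k : MulAut N} (hk : k ∈ K) :
    h * k * h⁻¹ ∈ conjSub h K := by
  rw [mem_conjSub]
  have : h⁻¹ * (h * k * h⁻¹) * h = k := by group
  rw [this]; exact hk

theorem card_conjSub (h : MulAut N) (K : Subgroup (MulAut N)) :
    Nat.card (conjSub h K) = Nat.card K := by
  unfold conjSub
  exact Subgroup.card_map_of_injective (MulAut.conj h).injective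

theorem apply_mem_fixOf_conjSub {h : MulAut N} {K : Subgroup (MulAut N)} {v : N}
    (hv : v ∈ fixOf K) : h v ∈ fixOf (conjSub h K) := by
  intro x hx
  rw [mem_conjSub] at hx
  have h1 := hv _ hx
  have h2 : (h⁻¹ * x * h) v = h⁻¹ (x (h v)) := by simp [MulAut.mul_apply]
  rw [h2] at h1
  have h3 := congrArg h h1
  simpa using h3

theorem conjSub_one (K : Subgroup (MulAut N)) : conjSub 1 K = K := by
  ext x; rw [mem_conjSub]; simp

theorem conjSub_mul (g h : MulAut N) (K : Subgroup (MulAut N)) :
    conjSub (g * h) K = conjSub g (conjSub h K) := by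
  ext x
  rw [mem_conjSub, mem_conjSub, mem_conjSub]
  have : (g * h)⁻¹ * x * (g * h) = h⁻¹ * (g⁻¹ * x * g) * h := by group
  rw [this]

theorem mem_fixOf_of_apply_mem {h : MulAut N} {K : Subgroup (MulAut N)} {v : N}
    (hv : h v ∈ fixOf (conjSub h K)) : v ∈ fixOf K := by
  have h1 := apply_mem_fixOf_conjSub (h := h⁻¹) hv
  rw [← conjSub_mul] at h1
  simpa [conjSub_one] using h1

end basic

section avg
variable {N : Type*} [CommGroup N] [Finite N]

/-- `avg E v = ∏_{e ∈ E} e v` -/
noncomputable def avg (E : Subgroup (MulAut N)) (v : N) : N :=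
  ∏ᶠ e : E, (e : MulAut N) v

theorem hfms {α : Type*} [Finite α] (f : α → N) : Function.HasFiniteMulSupport f :=
  Set.toFinite _

theorem avg_mul (E : Subgroup (MulAut N)) (v w : N) : avg E (v * w) = avg E v * avg E w := by
  unfold avg
  rw [← finprod_mul_distrib (hfms _) (hfms _)]
  apply finprod_congr
  intro e
  simp

theorem avg_one (E : Subgroup (MulAut N)) : avg E (1 : N) = 1 := by
  unfold avg
  simp

theorem avg_inv (E : Subgroup (MulAut N)) (v : N) : avg E v⁻¹ = (avg E v)⁻¹ := by
  have h := avg_mul E v v⁻¹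
  rw [mul_inv_cancel, avg_one] at h
  exact (eq_inv_of_mul_eq_one_right h.symm)

theorem avg_mem_fixOf (E : Subgroup (MulAut N)) (v : N) : avg E v ∈ fixOf E := by
  intro e' he'
  unfold avg
  rw [map_finprod e' (hfms _)]
  -- reindex by left multiplication with e'
  have hbij : Function.Bijective (fun e : E => (⟨e' * e.1, E.mul_mem he' e.2⟩ : E)) := by
    constructor
    · intro x y hxy
      have := congrArg Subtype.val hxy
      simp only at this
      exact Subtype.ext (mul_left_cancel this)
    · intro y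
      refine ⟨⟨e'⁻¹ * y.1, E.mul_mem (E.inv_mem he') y.2⟩, ?_⟩
      apply Subtype.ext
      simp
  apply finprod_eq_of_bijective _ hbij
  intro x
  simp [MulAut.mul_apply]

theorem avg_of_mem_fixOf (E : Subgroup (MulAut N)) {v : N} (hv : v ∈ fixOf E) :
    avg E v = v ^ Nat.card E := by
  unfold avg
  have h1 : ∀ e : E, (e : MulAut N) v = v := fun e => hv e.1 e.2
  simp only [h1]
  haveI : Fintype E := Fintype.ofFinite E
  rw [finprod_eq_prod_of_fintype, Finset.prod_const, Finset.card_univ, Nat.card_eq_fintype_card]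

theorem apply_avg (E : Subgroup (MulAut N)) (h : MulAut N) (v : N) :
    h (avg E v) = avg (conjSub h E) (h v) := by
  unfold avg
  rw [map_finprod h (hfms _)]
  have hbij : Function.Bijective
      (fun e : E => (⟨h * e.1 * h⁻¹, conj_mem_conjSub e.2⟩ : conjSub h E)) := by
    constructor
    · intro x y hxy
      have := congrArg Subtype.val hxy
      simp only at this
      apply Subtype.ext
      have h2 : h⁻¹ * (h * x.1 * h⁻¹) * h = h⁻¹ * (h * y.1 * h⁻¹) * h := by rw [this]
      simpa [mul_assoc] using h2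
    · intro y
      refine ⟨⟨h⁻¹ * y.1 * h, mem_conjSub.mp y.2⟩, ?_⟩
      apply Subtype.ext
      simp only
      group
  apply finprod_eq_of_bijective _ hbij
  intro x
  simp [MulAut.mul_apply]

end avg

end Cfsg.Agent.Helper8.RegOrb
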