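import Mathlib
import Cfsg.Agent.Lib.Helper8.RegOrbDefs
import Cfsg.Agent.Lib.Helper8.RegOrbA
import Cfsg.Agent.Lib.Helper8.RegOrbB

set_option autoImplicit false

namespace Cfsg.Agent.Helper8.RegOrb

universe u

/-- The data of a (hypothetical) counterexample to the key lemma, with the induction hypothesis. -/
structure Ctx (N : Type u) [CommGroup N] [Finite N] (p : ℕ) [Fact p.Prime] where
  H : Subgroup (MulAut N)
  M : Subgroup (MulAut N)
  a : MulAut N
  hcop : (Nat.card N).Coprime p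
  hMH : M ≤ H
  hnorm : ∀ h ∈ H, ∀ m ∈ M, h * m * h⁻¹ ∈ M
  hMp : IsPGroup p M
  ha : a ∈ M
  ha1 : a ≠ 1
  hcov : ∀ v : N, ∃ h ∈ H, (h * a * h⁻¹) v = v
  IH : ∀ (N₁ : Type u) [CommGroup N₁] [Finite N₁], Nat.card N₁ < Nat.card N →
      (Nat.card N₁).Coprime p →
      ∀ (H M : Subgroup (MulAut N₁)), M ≤ H → (∀ h ∈ H, ∀ m ∈ M, h * m * h⁻¹ ∈ M) →
      IsPGroup p M → ∀ a ∈ M, a ≠ 1 → ∃ v : N₁, ∀ h ∈ H, (h * a * h⁻¹) v ≠ v

variable {N : Type u} [CommGroup N] [Finite N] {p : ℕ} [Fact p.Prime]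

namespace Ctx

/-- `a` acts trivially on every proper `H`-invariant subgroup. -/
theorem triv_on (X : Ctx N p) (N' : Subgroup N) (hN' : N' ≠ ⊤)
    (hinv : ∀ h ∈ X.H, ∀ v, h v ∈ N' ↔ v ∈ N') : ∀ w ∈ N', X.a w = w := by
  by_contra hne
  push Not at hne
  obtain ⟨w₀, hw₀, haw⟩ := hne
  obtain ⟨w, _, hw2⟩ := restrict_step X.IH X.hcop N' hN' X.H X.M (fun h hh => hinv h hh)
    X.hMH X.hnorm X.hMp X.a X.ha w₀ hw₀ haw
  obtain ⟨h, hh, hfix⟩ := X.hcov w
  exact hw2 h hh hfix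

theorem conjSub_eq (X : Ctx N p) (E : Subgroup (MulAut N))
    (hEinv : ∀ h ∈ X.H, ∀ e ∈ E, h * e * h⁻¹ ∈ E) {h : MulAut N} (hh : h ∈ X.H) :
    conjSub h E = E := by
  ext x
  rw [mem_conjSub]
  constructor
  · intro hx
    have := hEinv h hh _ hx
    have h2 : h * (h⁻¹ * x * h) * h⁻¹ = x := by group
    rwa [h2] at this
  · intro hx
    have := hEinv h⁻¹ (X.H.inv_mem hh) _ hx
    simpa using this

theorem card_pow (X : Ctx N p) (E : Subgroup (MulAut N)) (hEM : E ≤ X.M) :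
    ∃ k : ℕ, Nat.card E = p ^ k :=
  (X.hMp.to_le hEM).exists_card_eq

theorem coprime_card (X : Ctx N p) (E : Subgroup (MulAut N)) (hEM : E ≤ X.M) :
    (Nat.card N).Coprime (Nat.card E) := by
  obtain ⟨k, hk⟩ := X.card_pow E hEM
  rw [hk]
  exact Nat.Coprime.pow_right k X.hcop

/-- For a nontrivial `H`-invariant subgroup `E` of `M`, there are no common fixed points. -/
theorem fixOf_eq_bot (X : Ctx N p) (E : Subgroup (MulAut N)) (hEM : E ≤ X.M) (hE1 : E ≠ ⊥)
    (hEinv : ∀ h ∈ X.H, ∀ e ∈ E, h * e * h⁻¹ ∈ E) : fixOf E = ⊥ := by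
  by_contra hne
  let avgHom : N →* N := ⟨⟨avg E, avg_one E⟩, avg_mul E⟩
  have havg : ∀ v, avgHom v = avg E v := fun _ => rfl
  have hcomm : ∀ h ∈ X.H, ∀ v, avg E (h v) = h (avg E v) := by
    intro h hh v
    rw [apply_avg, X.conjSub_eq E hEinv hh]
  have hcopE := X.coprime_card E hEM
  -- kernel invariant
  have hKinv : ∀ h ∈ X.H, ∀ v, h v ∈ avgHom.ker ↔ v ∈ avgHom.ker := by
    intro h hh v
    rw [MonoidHom.mem_ker, MonoidHom.mem_ker, havg, havg, hcomm h hh v]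
    constructor
    · intro h1
      have := congrArg (h⁻¹ : MulAut N) h1
      simpa using this
    · intro h1
      rw [h1]; simp
  have hFinv : ∀ h ∈ X.H, ∀ v, h v ∈ fixOf E ↔ v ∈ fixOf E := by
    intro h hh v
    constructor
    · intro h1
      have h2 : h v ∈ fixOf (conjSub h E) := by rw [X.conjSub_eq E hEinv hh]; exact h1
      exact mem_fixOf_of_apply_mem h2
    · intro h1
      have := apply_mem_fixOf_conjSub (h := h) h1
      rwa [X.conjSub_eq E hEinv hh] at this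
  -- kernel is proper
  have hK : avgHom.ker ≠ ⊤ := by
    intro htop
    apply hne
    apply (Subgroup.eq_bot_iff_forall _).mpr
    intro v hv
    have h1 : v ∈ avgHom.ker := by rw [htop]; trivial
    rw [MonoidHom.mem_ker, havg, avg_of_mem_fixOf E hv] at h1
    exact eq_one_of_pow_coprime hcopE h1
  have hF : fixOf E ≠ ⊤ := by
    intro htop
    apply hE1
    apply (Subgroup.eq_bot_iff_forall _).mpr
    intro e he
    apply MulEquiv.ext
    intro v
    have : v ∈ fixOf E := by rw [htop]; trivial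
    exact this e he
  have h1 := X.triv_on avgHom.ker hK hKinv
  have h2 := X.triv_on (fixOf E) hF hFinv
  apply X.ha1
  apply MulEquiv.ext
  intro v
  show X.a v = v
  obtain ⟨q, hq⟩ : ∃ q, Nat.card E = q := ⟨_, rfl⟩
  rw [hq] at hcopE
  have hA : avg E v ∈ fixOf E := avg_mem_fixOf E v
  have hB : v ^ q * (avg E v)⁻¹ ∈ avgHom.ker := by
    rw [MonoidHom.mem_ker, map_mul, map_pow, map_inv, havg, havg, avg_of_mem_fixOf E hA, hq]
    exact mul_inv_cancel _
  have e1 : X.a (avg E v) = avg E v := h2 _ hA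
  have e2 : X.a (v ^ q * (avg E v)⁻¹) = v ^ q * (avg E v)⁻¹ := h1 _ hB
  have e3 : X.a (v ^ q) = v ^ q := by
    have : v ^ q = (v ^ q * (avg E v)⁻¹) * avg E v := by simp
    rw [this, map_mul, e1, e2]
  have e4 : (X.a v * v⁻¹) ^ q = 1 := by
    rw [mul_pow, inv_pow, ← map_pow, e3]
    exact mul_inv_cancel _
  have e5 := eq_one_of_pow_coprime hcopE e4
  exact mul_inv_eq_one.mp e5

end Ctx

end Cfsg.Agent.Helper8.RegOrb
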