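import Mathlib
import Cfsg.Agent.Lib.Helper8.RegOrbC
import Cfsg.Agent.Lib.Helper19.S4330P1

set_option autoImplicit false

namespace Cfsg.Agent.Helper8.RegOrb

open Cfsg.Agent.Helper19.S4330P1 (gen_hyp indep_hyp sup_hyp_eq card_sup_of_commute)

universe u

variable {N : Type u} [CommGroup N] [Finite N] {p : ℕ} [Fact p.Prime]

/-- the subgroup of points fixed by a single automorphism -/
def fixPt (σ : MulAut N) : Subgroup N where
  carrier := {v | σ v = v}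
  one_mem' := by simp
  mul_mem' := by
    intro a b ha hb
    have h1 : σ a = a := ha
    have h2 : σ b = b := hb
    show σ (a * b) = a * b
    rw [map_mul, h1, h2]
  inv_mem' := by
    intro a ha
    have h1 : σ a = a := ha
    show σ a⁻¹ = a⁻¹
    rw [map_inv, h1]

/-- the centralizer in `MulAut N` of an element, as a subgroup -/
def cenOf (σ : MulAut N) : Subgroup (MulAut N) := Subgroup.centralizer {σ}

theorem mem_cenOf {σ τ : MulAut N} : τ ∈ cenOf σ ↔ σ * τ = τ * σ := by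
  unfold cenOf
  rw [Subgroup.mem_centralizer_iff]
  constructor
  · intro h; exact h σ rfl
  · intro h x hx
    rw [Set.mem_singleton_iff] at hx
    subst hx
    exact h

namespace Ctx

theorem conjSub_le (X : Ctx N p) (E : Subgroup (MulAut N))
    (hEinv : ∀ h ∈ X.H, ∀ e ∈ E, h * e * h⁻¹ ∈ E) {h : MulAut N} (hh : h ∈ X.H)
    {K : Subgroup (MulAut N)} (hK : K ≤ E) : conjSub h K ≤ E := by
  intro x hx
  rw [mem_conjSub] at hx
  have h1 := hEinv h hh _ (hK hx)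
  have h2 : h * (h⁻¹ * x * h) * h⁻¹ = x := by group
  rwa [h2] at h1

theorem isHyp_conjSub (X : Ctx N p) (E : Subgroup (MulAut N))
    (hEinv : ∀ h ∈ X.H, ∀ e ∈ E, h * e * h⁻¹ ∈ E) {h : MulAut N} (hh : h ∈ X.H)
    {K : Subgroup (MulAut N)} (hK : IsHyp p K E) : IsHyp p (conjSub h K) E := by
  refine ⟨X.conjSub_le E hEinv hh hK.1, ?_⟩
  rw [card_conjSub]
  exact hK.2

/-- some hyperplane fixed space is moved by `a` -/
theorem exists_hyp_moved (X : Ctx N p) (E : Subgroup (MulAut N))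
    (hEc : ∀ x ∈ E, ∀ y ∈ E, x * y = y * x) (hEp : ∀ x ∈ E, x ^ p = 1) (hfix : fixOf E = ⊥) :
    ∃ K, IsHyp p K E ∧ ∃ w ∈ fixOf K, X.a w ≠ w := by
  by_contra hcon
  push Not at hcon
  have hgen := gen_hyp X.hcop E hEc hEp hfix
  have hle : (⨆ K : {K : Subgroup (MulAut N) // IsHyp p K E}, fixOf K.1) ≤ fixPt X.a := by
    apply iSup_le
    intro K w hw
    exact hcon K.1 K.2 w hw
  rw [hgen] at hle
  apply X.ha1
  apply MulEquiv.ext
  intro v
  exact hle (Subgroup.mem_top v)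

theorem nontrivial_N (X : Ctx N p) : ∃ v : N, v ≠ 1 := by
  by_contra hcon
  push Not at hcon
  apply X.ha1
  apply MulEquiv.ext
  intro v
  rw [hcon v, map_one]; rfl

/-- the case `a ∉ C_M(E)` -/
theorem fa_step (X : Ctx N p) (Z E : Subgroup (MulAut N)) (hZE : Z ≤ E) (hEM : E ≤ X.M)
    (hZcen : ∀ x ∈ Z, ∀ m ∈ X.M, x * m = m * x) (hZfix : fixOf Z = ⊥) (hZp : Nat.card Z = p)
    (hEinv : ∀ h ∈ X.H, ∀ e ∈ E, h * e * h⁻¹ ∈ E)
    (hEc : ∀ x ∈ E, ∀ y ∈ E, x * y = y * x) (hEp : ∀ x ∈ E, x ^ p = 1)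
    (hcomm : ∀ e ∈ E, ∀ m ∈ X.M, e * m * e⁻¹ * m⁻¹ ∈ Z)
    (hane : ¬ ∀ e ∈ E, X.a * e = e * X.a) : False := by
  have hfixE : fixOf E = ⊥ := by
    apply le_bot_iff.mp
    rw [← hZfix]
    exact fixOf_anti hZE
  -- a hyperplane with nontrivial fixed points
  have hex : ∃ K₀, IsHyp p K₀ E ∧ fixOf K₀ ≠ ⊥ := by
    obtain ⟨K, hK, w, hw, hne⟩ := X.exists_hyp_moved E hEc hEp hfixE
    refine ⟨K, hK, ?_⟩
    intro hbot
    rw [hbot, Subgroup.mem_bot] at hw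
    apply hne
    rw [hw, map_one]
  obtain ⟨K₀, hK₀, hK₀fix⟩ := hex
  obtain ⟨v, hvK, hv1⟩ : ∃ v ∈ fixOf K₀, v ≠ 1 := by
    by_contra hcon
    push Not at hcon
    apply hK₀fix
    exact (Subgroup.eq_bot_iff_forall _).mpr hcon
  obtain ⟨h, hh, hfix⟩ := X.hcov v
  set g := h * X.a * h⁻¹ with hg
  have hgM : g ∈ X.M := X.hnorm h hh _ X.ha
  have hgH : g ∈ X.H := X.hMH hgM
  -- g normalizes K₀
  have hKK : conjSub g K₀ = K₀ := by
    by_contra hne
    have hK' := X.isHyp_conjSub E hEinv hgH hK₀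
    have hsup := sup_hyp_eq hK₀ hK' hne
    have h1 : v ∈ fixOf (conjSub g K₀) := by
      have := apply_mem_fixOf_conjSub (h := g) hvK
      rwa [hfix] at this
    have h2 : v ∈ fixOf (K₀ ⊔ conjSub g K₀) := by
      rw [fixOf_sup]; exact ⟨hvK, h1⟩
    rw [hsup, hfixE, Subgroup.mem_bot] at h2
    exact hv1 h2
  -- Z ⊓ K₀ = ⊥
  have hZK : Z ⊓ K₀ = ⊥ := by
    haveI : Fact (Nat.card Z).Prime := ⟨by rw [hZp]; exact Fact.out⟩
    rcases Subgroup.eq_bot_or_eq_top_of_prime_card ((Z ⊓ K₀).subgroupOf Z) with h1 | h1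
    · rw [Subgroup.subgroupOf_eq_bot] at h1
      rw [disjoint_iff, inf_comm, ← inf_assoc, inf_idem] at h1
      exact h1
    · exfalso
      rw [Subgroup.subgroupOf_eq_top] at h1
      have hZK₀ : Z ≤ K₀ := fun x hx => (h1 hx).2
      apply hK₀fix
      apply le_bot_iff.mp
      rw [← hZfix]
      exact fixOf_anti hZK₀
  -- g centralizes K₀
  have hgK : ∀ k ∈ K₀, g * k = k * g := by
    intro k hk
    have h1 : g * k * g⁻¹ ∈ K₀ := by
      have := conj_mem_conjSub (h := g) hk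
      rwa [hKK] at this
    have h2 : k * g * k⁻¹ * g⁻¹ ∈ Z := hcomm k (hK₀.1 hk) g hgM
    have h3 : g * k * g⁻¹ * k⁻¹ ∈ Z := by
      have := Z.inv_mem h2
      have e : (k * g * k⁻¹ * g⁻¹)⁻¹ = g * k * g⁻¹ * k⁻¹ := by group
      rwa [e] at this
    have h4 : g * k * g⁻¹ * k⁻¹ ∈ K₀ := K₀.mul_mem h1 (K₀.inv_mem hk)
    have h5 : g * k * g⁻¹ * k⁻¹ ∈ Z ⊓ K₀ := ⟨h3, h4⟩
    rw [hZK, Subgroup.mem_bot] at h5
    have h6 : g * k = (g * k * g⁻¹ * k⁻¹) * (k * g) := by group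
    rw [h6, h5, one_mul]
  have hgZ : ∀ x ∈ Z, g * x = x * g := fun x hx => (hZcen x hx g hgM).symm
  -- E = K₀ ⊔ Z
  have hsupE : K₀ ⊔ Z = E := by
    apply Subgroup.eq_of_le_of_card_ge (sup_le hK₀.1 hZE)
    rw [card_sup_of_commute K₀ Z (fun a ha b hb => hEc a (hK₀.1 ha) b (hZE hb))
      (by rw [inf_comm]; exact hZK), hZp, hK₀.2]
  have hgE : E ≤ cenOf g := by
    rw [← hsupE]
    apply sup_le
    · intro k hk; exact mem_cenOf.mpr (hgK k hk)
    · intro x hx; exact mem_cenOf.mpr (hgZ x hx)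
  apply hane
  intro e he
  have h1 : h * e * h⁻¹ ∈ E := hEinv h hh e he
  have h2 : g * (h * e * h⁻¹) = (h * e * h⁻¹) * g := mem_cenOf.mp (hgE h1)
  have h3 : X.a = h⁻¹ * g * h := by rw [hg]; group
  rw [h3]
  calc h⁻¹ * g * h * e = h⁻¹ * (g * (h * e * h⁻¹)) * h := by group
    _ = h⁻¹ * ((h * e * h⁻¹) * g) * h := by rw [h2]
    _ = e * (h⁻¹ * g * h) := by group

/-- the case `a ∈ C_M(E)`: induction through a hyperplane fixed space -/
theorem is_step (X : Ctx N p) (E : Subgroup (MulAut N)) (hEM : E ≤ X.M)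
    (hEcard : p ^ 2 ≤ Nat.card E)
    (hEinv : ∀ h ∈ X.H, ∀ e ∈ E, h * e * h⁻¹ ∈ E)
    (hEc : ∀ x ∈ E, ∀ y ∈ E, x * y = y * x) (hEp : ∀ x ∈ E, x ^ p = 1)
    (hacomm : ∀ e ∈ E, X.a * e = e * X.a) : False := by
  classical
  have hp1 : 1 < p := (Fact.out : p.Prime).one_lt
  have hE1 : E ≠ ⊥ := by
    intro h
    rw [h, Subgroup.card_bot] at hEcard
    have : 1 < p ^ 2 := Nat.one_lt_pow (by norm_num) hp1
    omega
  have hfixE := X.fixOf_eq_bot E hEM hE1 hEinv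
  obtain ⟨K₁, hK₁, w₀, hw₀, haw⟩ := X.exists_hyp_moved E hEc hEp hfixE
  -- K₁ is nontrivial
  have hK₁card : p ≤ Nat.card K₁ := by
    have h1 := hK₁.2
    rw [pow_two, ← h1] at hEcard
    exact Nat.le_of_mul_le_mul_right hEcard (by omega)
  have hK₁ne : K₁ ≠ ⊥ := by
    intro h
    rw [h, Subgroup.card_bot] at hK₁card
    omega
  -- the stabilizer of K₁ in H
  let H₁ : Subgroup (MulAut N) :=
    { carrier := {h | h ∈ X.H ∧ conjSub h K₁ = K₁}
      one_mem' := ⟨X.H.one_mem, conjSub_one K₁⟩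
      mul_mem' := by
        rintro x y ⟨hx, hx2⟩ ⟨hy, hy2⟩
        exact ⟨X.H.mul_mem hx hy, by rw [conjSub_mul, hy2, hx2]⟩
      inv_mem' := by
        rintro x ⟨hx, hx2⟩
        refine ⟨X.H.inv_mem hx, ?_⟩
        calc conjSub x⁻¹ K₁ = conjSub x⁻¹ (conjSub x K₁) := by rw [hx2]
          _ = K₁ := by rw [← conjSub_mul, inv_mul_cancel, conjSub_one] }
  have hH₁ : ∀ h, h ∈ H₁ ↔ h ∈ X.H ∧ conjSub h K₁ = K₁ := fun _ => Iff.rfl
  let M₁ : Subgroup (MulAut N) := X.M ⊓ Subgroup.centralizer (E : Set (MulAut N))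
  have hM₁ : ∀ m, m ∈ M₁ ↔ m ∈ X.M ∧ ∀ e ∈ E, e * m = m * e := by
    intro m
    show m ∈ X.M ⊓ Subgroup.centralizer (E : Set (MulAut N)) ↔ _
    rw [Subgroup.mem_inf, Subgroup.mem_centralizer_iff]
    rfl
  -- conjugates of `a` by `H` lie in M₁
  have hconjM₁ : ∀ h ∈ X.H, ∀ m ∈ M₁, h * m * h⁻¹ ∈ M₁ := by
    intro h hh m hm
    rw [hM₁] at hm ⊢
    refine ⟨X.hnorm h hh m hm.1, ?_⟩
    intro e he
    have h1 : h⁻¹ * e * h ∈ E := by
      have := hEinv h⁻¹ (X.H.inv_mem hh) e he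
      simpa using this
    have h2 := hm.2 _ h1
    calc e * (h * m * h⁻¹) = h * ((h⁻¹ * e * h) * m) * h⁻¹ := by group
      _ = h * (m * (h⁻¹ * e * h)) * h⁻¹ := by rw [h2]
      _ = h * m * h⁻¹ * e := by group
  have hM₁H₁ : M₁ ≤ H₁ := by
    intro m hm
    rw [hM₁] at hm
    rw [hH₁]
    refine ⟨X.hMH hm.1, ?_⟩
    ext x
    rw [mem_conjSub]
    constructor
    · intro hx
      have h1 := hm.2 _ (hK₁.1 hx)
      have h2 : x = m * (m⁻¹ * x * m) * m⁻¹ := by group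
      rw [h2, ← h1]
      have h3 : m⁻¹ * x * m * m * m⁻¹ = m⁻¹ * x * m := by group
      rw [h3]; exact hx
    · intro hx
      have h1 := hm.2 _ (hK₁.1 hx)
      have h2 : m⁻¹ * x * m = m⁻¹ * (x * m) := by group
      rw [h2, h1]
      have h3 : m⁻¹ * (m * x) = x := by group
      rw [h3]; exact hx
  have haM₁ : X.a ∈ M₁ := by
    rw [hM₁]
    exact ⟨X.ha, fun e he => (hacomm e he).symm⟩
  -- N₁ = fixOf K₁ is proper and H₁-invariant
  have hN₁ : fixOf K₁ ≠ ⊤ := by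
    intro htop
    apply hK₁ne
    apply (Subgroup.eq_bot_iff_forall _).mpr
    intro k hk
    apply MulEquiv.ext
    intro v
    have : v ∈ fixOf K₁ := by rw [htop]; trivial
    exact this k hk
  have hstab : H₁ ≤ stab (fixOf K₁) := by
    intro h hh
    rw [hH₁] at hh
    rw [mem_stab]
    intro v
    constructor
    · intro h1
      have h2 : h v ∈ fixOf (conjSub h K₁) := by rw [hh.2]; exact h1
      exact mem_fixOf_of_apply_mem h2
    · intro h1
      have := apply_mem_fixOf_conjSub (h := h) h1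
      rwa [hh.2] at this
  obtain ⟨w, hw, hwH₁⟩ := restrict_step X.IH X.hcop (fixOf K₁) hN₁ H₁ M₁ hstab hM₁H₁
    (fun h hh m hm => hconjM₁ h ((hH₁ h).mp hh).1 m hm) (X.hMp.to_le inf_le_left) X.a haM₁
    w₀ hw₀ haw
  -- the orbit of K₁
  let Oset : Set (Subgroup (MulAut N)) := {K | ∃ h ∈ X.H, K = conjSub h K₁}
  let O : Finset (Subgroup (MulAut N)) := (Set.toFinite Oset).toFinset
  have hO : ∀ K, K ∈ O ↔ ∃ h ∈ X.H, K = conjSub h K₁ := by
    intro K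
    simp only [O, Set.Finite.mem_toFinset]
    rfl
  let ρ : Subgroup (MulAut N) → MulAut N := fun K =>
    if hK : ∃ h ∈ X.H, K = conjSub h K₁ then Classical.choose hK else 1
  have hρ : ∀ K ∈ O, ρ K ∈ X.H ∧ K = conjSub (ρ K) K₁ := by
    intro K hK
    have hK' := (hO K).mp hK
    have : ρ K = Classical.choose hK' := by
      simp only [ρ, dif_pos hK']
    rw [this]
    exact Classical.choose_spec hK'
  obtain ⟨h, hh, hfix⟩ := X.hcov (∏ K ∈ O, ρ K w)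
  set g := h * X.a * h⁻¹ with hg
  have hgM₁ : g ∈ M₁ := hconjM₁ h hh _ haM₁
  have hgM₁' := (hM₁ g).mp hgM₁
  -- each piece lies in the right fixed space
  have hmem : ∀ K ∈ O, ρ K w ∈ fixOf K := by
    intro K hK
    have h1 := apply_mem_fixOf_conjSub (h := ρ K) hw
    rw [← (hρ K hK).2] at h1
    exact h1
  have hKE : ∀ K ∈ O, IsHyp p K E := by
    intro K hK
    have h1 := hρ K hK
    rw [h1.2]
    exact X.isHyp_conjSub E hEinv h1.1 hK₁
  have hmem2 : ∀ K ∈ O, g (ρ K w) * (ρ K w)⁻¹ ∈ fixOf K := by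
    intro K hK
    apply (fixOf K).mul_mem _ ((fixOf K).inv_mem (hmem K hK))
    intro k hk
    have h1 := hgM₁'.2 k ((hKE K hK).1 hk)
    have h2 : k (g (ρ K w)) = (k * g) (ρ K w) := rfl
    rw [h2, h1]
    show g (k (ρ K w)) = g (ρ K w)
    rw [hmem K hK k hk]
  have hprod : ∏ K ∈ O, (g (ρ K w) * (ρ K w)⁻¹) = 1 := by
    rw [Finset.prod_mul_distrib, Finset.prod_inv_distrib, ← map_prod, hfix]
    exact mul_inv_cancel _
  have hall := indep_hyp X.hcop E hEc hEp hfixE O hKE (fun K => g (ρ K w) * (ρ K w)⁻¹) hmem2 hprod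
  have hKstar : conjSub h K₁ ∈ O := (hO _).mpr ⟨h, hh, rfl⟩
  have h1 := hall _ hKstar
  have h2 := hρ _ hKstar
  set r := ρ (conjSub h K₁) with hr
  have h3 : g (r w) = r w := mul_inv_eq_one.mp h1
  have h4 : r⁻¹ * h ∈ H₁ := by
    rw [hH₁]
    refine ⟨X.H.mul_mem (X.H.inv_mem h2.1) hh, ?_⟩
    rw [conjSub_mul, h2.2, ← conjSub_mul, inv_mul_cancel, conjSub_one]
  apply hwH₁ _ h4
  have h5 : r⁻¹ * h * X.a * (r⁻¹ * h)⁻¹ = r⁻¹ * g * r := by rw [hg]; group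
  rw [h5]
  show r⁻¹ (g (r w)) = w
  rw [h3]
  simp

end Ctx

end Cfsg.Agent.Helper8.RegOrb
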