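import Mathlib
import Cfsg.Agent.Lib.Helper8.RegOrbD
import Cfsg.Agent.Lib.Helper25.S4330P4

set_option autoImplicit false

namespace Cfsg.Agent.Helper8.RegOrb

open Cfsg.Agent.Helper19.S4330P1 (mem_fixOf_zpowers)
open Cfsg.Agent.Helper25.S4330P4 (comm_le_of_no_E)

universe u

variable {N : Type u} [CommGroup N] [Finite N] {p : ℕ} [Fact p.Prime]

/-- `Ω₁(Z(M))` as a subgroup of `MulAut N` -/
def omegaZ (p : ℕ) (M : Subgroup (MulAut N)) : Subgroup (MulAut N) where
  carrier := {x | x ∈ M ∧ x ^ p = 1 ∧ ∀ m ∈ M, x * m = m * x}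
  one_mem' := ⟨M.one_mem, one_pow p, by intro m _; simp⟩
  mul_mem' := by
    rintro x y ⟨hx, hxp, hxc⟩ ⟨hy, hyp, hyc⟩
    refine ⟨M.mul_mem hx hy, ?_, ?_⟩
    · have hc : Commute x y := hxc y hy
      rw [hc.mul_pow, hxp, hyp, one_mul]
    · intro m hm
      rw [mul_assoc, hyc m hm, ← mul_assoc, hxc m hm, mul_assoc]
  inv_mem' := by
    rintro x ⟨hx, hxp, hxc⟩
    refine ⟨M.inv_mem hx, by rw [inv_pow, hxp, inv_one], ?_⟩
    intro m hm
    have h1 := hxc m hm
    calc x⁻¹ * m = x⁻¹ * (m * x) * x⁻¹ := by group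
      _ = x⁻¹ * (x * m) * x⁻¹ := by rw [h1]
      _ = m * x⁻¹ := by group

theorem mem_omegaZ {M : Subgroup (MulAut N)} {x : MulAut N} :
    x ∈ omegaZ p M ↔ x ∈ M ∧ x ^ p = 1 ∧ ∀ m ∈ M, x * m = m * x := Iff.rfl

theorem omegaZ_ne_bot {M : Subgroup (MulAut N)} (hMp : IsPGroup p M) (hM : M ≠ ⊥) :
    omegaZ p M ≠ ⊥ := by
  haveI : Nontrivial M := (Subgroup.nontrivial_iff_ne_bot M).mpr hM
  haveI := hMp.center_nontrivial
  have hcp : IsPGroup p (Subgroup.center M) := hMp.to_subgroup _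
  rcases hcp.card_eq_or_dvd with h1 | h1
  · exfalso
    have := (Subgroup.card_eq_one (H := Subgroup.center M)).mp h1
    exact (Subgroup.nontrivial_iff_ne_bot _).mp inferInstance this
  · obtain ⟨c, hc⟩ := exists_prime_orderOf_dvd_card' (G := Subgroup.center M) p h1
    intro hbot
    have hmem : ((c : M) : MulAut N) ∈ omegaZ p M := by
      refine ⟨(c : M).2, ?_, ?_⟩
      · have h2 : c ^ p = 1 := by rw [← hc]; exact pow_orderOf_eq_one c
        have h3 : (((c ^ p : Subgroup.center M) : M) : MulAut N) = 1 := by rw [h2]; rfl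
        simpa using h3
      · intro m hm
        have h2 := Subgroup.mem_center_iff.mp c.2 ⟨m, hm⟩
        have h3 : ((⟨m, hm⟩ * (c : M) : M) : MulAut N) = (((c : M) * ⟨m, hm⟩ : M) : MulAut N) := by
          rw [h2]
        simpa using h3.symm
    rw [hbot, Subgroup.mem_bot] at hmem
    have hc1 : c = 1 := by
      apply Subtype.ext
      apply Subtype.ext
      simpa using hmem
    rw [hc1, orderOf_one] at hc
    exact (Fact.out : p.Prime).one_lt.ne hc

namespace Ctx

/-- the contradiction, given the regular orbit lemma for `N` -/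
theorem contra (X : Ctx N p) (hp2 : p ≠ 2)
    (reg : ∀ (W : Subgroup (MulAut N)), IsPGroup p W → ∀ z : MulAut N, z ∈ W → z ^ p = 1 →
      (∀ g ∈ W, z * g = g * z) → (∀ v : N, z v = v → v = 1) →
      (∀ x ∈ W, ∀ y ∈ W, x * y * x⁻¹ * y⁻¹ ∈ Subgroup.zpowers z) →
      (∀ x ∈ W, (∀ g ∈ W, x * g = g * x) → x ^ p = 1 → x ∈ Subgroup.zpowers z) →
      ∃ v : N, ∀ g ∈ W, g v = v → g = 1) : False := by
  have hpp : p.Prime := Fact.out
  set Z := omegaZ p X.M with hZdef
  have hZM : Z ≤ X.M := fun x hx => hx.1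
  have hMne : X.M ≠ ⊥ := by
    intro h
    have := X.ha
    rw [h, Subgroup.mem_bot] at this
    exact X.ha1 this
  have hZne : Z ≠ ⊥ := omegaZ_ne_bot X.hMp hMne
  have hZinv : ∀ h ∈ X.H, ∀ e ∈ Z, h * e * h⁻¹ ∈ Z := by
    intro h hh e he
    obtain ⟨he1, he2, he3⟩ := he
    refine ⟨X.hnorm h hh e he1, ?_, ?_⟩
    · rw [conj_pow, he2]; group
    · intro m hm
      have h1 : h⁻¹ * m * h ∈ X.M := by
        have := X.hnorm h⁻¹ (X.H.inv_mem hh) m hm
        simpa using this
      have h2 := he3 _ h1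
      calc h * e * h⁻¹ * m = h * (e * (h⁻¹ * m * h)) * h⁻¹ := by group
        _ = h * ((h⁻¹ * m * h) * e) * h⁻¹ := by rw [h2]
        _ = m * (h * e * h⁻¹) := by group
  have hZc : ∀ x ∈ Z, ∀ y ∈ Z, x * y = y * x := fun x hx y hy => hx.2.2 y hy.1
  have hZp : ∀ x ∈ Z, x ^ p = 1 := fun x hx => hx.2.1
  have hZcen : ∀ x ∈ Z, ∀ m ∈ X.M, x * m = m * x := fun x hx m hm => hx.2.2 m hm
  obtain ⟨k, hk⟩ := X.card_pow Z hZM
  have hk0 : k ≠ 0 := by
    rintro rfl
    rw [pow_zero] at hk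
    exact hZne ((Subgroup.card_eq_one).mp hk)
  by_cases hcase : Nat.card Z = p
  · -- Case II
    have hZfix : fixOf Z = ⊥ := X.fixOf_eq_bot Z hZM hZne hZinv
    by_cases hE : ∃ E : Subgroup (MulAut N), Z ≤ E ∧ E ≤ X.M ∧ E ≠ Z ∧
        (∀ h ∈ X.H, ∀ e ∈ E, h * e * h⁻¹ ∈ E) ∧
        (∀ x ∈ E, ∀ y ∈ E, x * y = y * x) ∧ (∀ x ∈ E, x ^ p = 1) ∧
        (∀ e ∈ E, ∀ m ∈ X.M, e * m * e⁻¹ * m⁻¹ ∈ Z)
    · obtain ⟨E, hZE, hEM, hEZ, hEinv, hEc, hEp, hEcomm⟩ := hE
      by_cases hac : ∀ e ∈ E, X.a * e = e * X.a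
      · -- p² ≤ card E
        obtain ⟨j, hj⟩ := X.card_pow E hEM
        have hdvd : Nat.card Z ∣ Nat.card E := Subgroup.card_dvd_of_le hZE
        have hj2 : 2 ≤ j := by
          by_contra hlt
          push Not at hlt
          have hle : Nat.card E ≤ Nat.card Z := by
            rw [hj, hcase]
            calc p ^ j ≤ p ^ 1 := Nat.pow_le_pow_right hpp.pos (by omega)
              _ = p := pow_one p
          exact hEZ (Subgroup.eq_of_le_of_card_ge hZE hle).symm
        have hcard : p ^ 2 ≤ Nat.card E := by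
          rw [hj]; exact Nat.pow_le_pow_right hpp.pos hj2
        exact X.is_step E hEM hcard hEinv hEc hEp hac
      · exact X.fa_step Z E hZE hEM hZcen hZfix hcase hEinv hEc hEp hEcomm hac
    · -- base case
      have hcomm := comm_le_of_no_E hp2 X.H X.M Z X.hMH X.hnorm X.hMp
        (fun x => Iff.rfl) hcase hE
      haveI : Fact (Nat.card Z).Prime := ⟨by rw [hcase]; exact hpp⟩
      haveI : IsCyclic Z := isCyclic_of_prime_card (p := Nat.card Z) rfl
      obtain ⟨z, hz⟩ := IsCyclic.exists_generator (α := Z)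
      have hzZ : Subgroup.zpowers (z : MulAut N) = Z := by
        ext x
        constructor
        · intro hx
          obtain ⟨n, rfl⟩ := Subgroup.mem_zpowers_iff.mp hx
          exact Z.zpow_mem z.2 n
        · intro hx
          obtain ⟨n, hn⟩ := Subgroup.mem_zpowers_iff.mp (hz ⟨x, hx⟩)
          rw [Subgroup.mem_zpowers_iff]
          refine ⟨n, ?_⟩
          have := congrArg (fun t : Z => (t : MulAut N)) hn
          simpa using this
      have hzfix : ∀ v : N, (z : MulAut N) v = v → v = 1 := by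
        intro v hv
        have h1 : v ∈ fixOf (Subgroup.zpowers (z : MulAut N)) := mem_fixOf_zpowers.mpr hv
        rw [hzZ, hZfix, Subgroup.mem_bot] at h1
        exact h1
      obtain ⟨v, hv⟩ := reg X.M X.hMp (z : MulAut N) (hZM z.2) (hZp _ z.2)
        (fun g hg => hZcen _ z.2 g hg) hzfix
        (fun x hx y hy => by rw [hzZ]; exact hcomm x hx y hy)
        (fun x hx hxc hxp => by rw [hzZ]; exact ⟨hx, hxp, hxc⟩)
      obtain ⟨h, hh, hfix⟩ := X.hcov v
      have h1 := hv _ (X.hnorm h hh _ X.ha) hfix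
      apply X.ha1
      have h2 : X.a = h⁻¹ * (h * X.a * h⁻¹) * h := by group
      rw [h2, h1]; group
  · -- Case I
    have hk2 : 2 ≤ k := by
      by_contra hlt
      push Not at hlt
      have : k = 1 := by omega
      rw [this, pow_one] at hk
      exact hcase hk
    have hcard : p ^ 2 ≤ Nat.card Z := by
      rw [hk]; exact Nat.pow_le_pow_right hpp.pos hk2
    exact X.is_step Z hZM hcard hZinv hZc hZp
      (fun e he => (hZcen e he _ X.ha).symm)

end Ctx

end Cfsg.Agent.Helper8.RegOrb
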