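import Mathlib
import Cfsg.Agent.Lib.Helper8.RegOrbE

set_option autoImplicit false

namespace Cfsg.Agent.Helper8.RegOrb

universe u

/-- The key lemma, assuming the regular orbit lemma. -/
theorem key_of_reg {p : ℕ} [Fact p.Prime] (hp2 : p ≠ 2)
    (reg : ∀ (N : Type u) [CommGroup N] [Finite N] [Nontrivial N],
      (Nat.card N).Coprime p → ∀ (W : Subgroup (MulAut N)), IsPGroup p W →
      ∀ z : MulAut N, z ∈ W → z ^ p = 1 →
      (∀ g ∈ W, z * g = g * z) → (∀ v : N, z v = v → v = 1) →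
      (∀ x ∈ W, ∀ y ∈ W, x * y * x⁻¹ * y⁻¹ ∈ Subgroup.zpowers z) →
      (∀ x ∈ W, (∀ g ∈ W, x * g = g * x) → x ^ p = 1 → x ∈ Subgroup.zpowers z) →
      ∃ v : N, ∀ g ∈ W, g v = v → g = 1) :
    ∀ n : ℕ, ∀ (N : Type u) [CommGroup N] [Finite N], Nat.card N = n →
      (Nat.card N).Coprime p →
      ∀ (H M : Subgroup (MulAut N)), M ≤ H → (∀ h ∈ H, ∀ m ∈ M, h * m * h⁻¹ ∈ M) →
      IsPGroup p M → ∀ a ∈ M, a ≠ 1 → ∃ v : N, ∀ h ∈ H, (h * a * h⁻¹) v ≠ v := by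
  intro n
  induction n using Nat.strong_induction_on with
  | _ n ih =>
    intro N _ _ hn hcop H M hMH hnorm hMp a ha ha1
    by_contra hcon
    push Not at hcon
    let X : Ctx N p :=
      { H := H, M := M, a := a, hcop := hcop, hMH := hMH, hnorm := hnorm, hMp := hMp,
        ha := ha, ha1 := ha1, hcov := hcon,
        IH := by
          intro N₁ _ _ hlt hcop₁ H₁ M₁ h1 h2 h3 a₁ h4 h5
          exact ih (Nat.card N₁) (hn ▸ hlt) N₁ rfl hcop₁ H₁ M₁ h1 h2 h3 a₁ h4 h5 }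
    obtain ⟨v, hv⟩ := X.nontrivial_N
    haveI : Nontrivial N := ⟨⟨v, 1, hv⟩⟩
    exact X.contra hp2 (reg N hcop)

end Cfsg.Agent.Helper8.RegOrb
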