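import Mathlib
import Cfsg.Agent.Lib.Helper8.S3805ArithDefs
import Cfsg.Agent.Lib.Helper24.S3805STRUCT
import Cfsg.Agent.Lib.Helper1.S3805GRID
import Cfsg.Agent.Lib.Helper1.S3805KILL

/-!
# S3805, piece ARITH (helper8): assembly of CELL/STRUCT (helper24), GRID/KILL (helper1).
-/

set_option autoImplicit false

namespace Cfsg.Agent.Helper8.S3805A

variable {ι : Type*} [Fintype ι] [DecidableEq ι]

/-- ARITH: the lattice data, the degree equations and the seven class-constant equations force `g = 36`. -/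
theorem arith (o : ι) (d : ι → ℚ) (A B : Fin 3 → ι → ℤ) (g : ℚ) (hg : 0 < g)
    (hd : ∀ X, 0 < d X) (hdo : d o = 1) (h : Lat o A B)
    (hAd : ∀ k, ∑ X, (A k X : ℚ) * d X = 0) (hBd : ∀ j, ∑ X, (B j X : ℚ) * d X = 0)
    (hE : Eqs d A B g) : g = 36 := by
  rcases struct o A B h with hgr | ⟨k0, j0, hex⟩
  · exact grid o d A B g hg hd hdo hAd hBd hgr hE
  · exact (kill o d A B g hg hd k0 j0 hex hE).elim

end Cfsg.Agent.Helper8.S3805A
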