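import Mathlib
/-!
# SD-ARITH: arithmetic of a family of distinct powers of two with sum `2 * (n / 2)`
(helper8 plan `plans/SD_plan.md`; pieces SD-ARITH + SD-LEG filled by helper6)
-/

set_option autoImplicit false
set_option linter.unusedSectionVars false
set_option linter.unusedVariables false

namespace Cfsg.Agent.Helper8.SD

namespace ARITH

/-- the binary digit sum and the number of bit indices -/
theorem length_bitIndices (n : ℕ) : n.bitIndices.length = (Nat.digits 2 n).sum := by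
  induction n using Nat.strong_induction_on with
  | _ n ih =>
  rcases Nat.eq_zero_or_pos n with h0 | hpos
  · subst h0; simp
  · have hlt : n / 2 < n := Nat.div_lt_self hpos (by norm_num)
    have hd : Nat.digits 2 n = (n % 2) :: Nat.digits 2 (n / 2) :=
      Nat.digits_def' (by norm_num) hpos
    rw [hd, List.sum_cons, ← ih _ hlt]
    rcases Nat.mod_two_eq_zero_or_one n with h | h
    · have hn : n = 2 * (n / 2) := by omega
      rw [h]
      conv_lhs => rw [hn]
      rw [Nat.bitIndices_two_mul, List.length_map, zero_add]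
    · have hn : n = 2 * (n / 2) + 1 := by omega
      rw [h]
      conv_lhs => rw [hn]
      rw [Nat.bitIndices_two_mul_add_one, List.length_cons, List.length_map, add_comm]

theorem digits_sum_step (n : ℕ) : (Nat.digits 2 n).sum = n % 2 + (Nat.digits 2 (n / 2)).sum := by
  rcases Nat.eq_zero_or_pos n with h0 | hpos
  · subst h0; simp
  · rw [Nat.digits_def' (by norm_num) hpos, List.sum_cons]

variable {ι : Type} [DecidableEq ι]

/-- a family of distinct powers of two indexed by a finset `T`, with sum `N`: the image of the exponents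
is the set of bit indices of `N` -/
theorem exps_eq (T : Finset ι) (c : ι → ℕ) (hpow : ∀ i ∈ T, ∃ a : ℕ, c i = 2 ^ a)
    (hinj : ∀ i ∈ T, ∀ j ∈ T, c i = c j → i = j) (N : ℕ) (hsum : ∑ i ∈ T, c i = N) :
    (T.image (fun i => Nat.log 2 (c i))).card = T.card ∧
      T.image (fun i => Nat.log 2 (c i)) = N.bitIndices.toFinset := by
  have hc : ∀ i ∈ T, c i = 2 ^ Nat.log 2 (c i) := by
    intro i hi
    obtain ⟨a, ha⟩ := hpow i hi
    rw [ha, Nat.log_pow (by norm_num)]
  have hinj' : Set.InjOn (fun i => Nat.log 2 (c i)) (T : Set ι) := by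
    intro i hi j hj h
    apply hinj i hi j hj
    rw [hc i hi, hc j hj]
    exact congrArg (fun a => 2 ^ a) h
  refine ⟨Finset.card_image_of_injOn hinj', ?_⟩
  have h1 : ∑ a ∈ T.image (fun i => Nat.log 2 (c i)), 2 ^ a = N := by
    rw [Finset.sum_image hinj', ← hsum]
    exact Finset.sum_congr rfl (fun i hi => (hc i hi).symm)
  rw [← h1, Finset.toFinset_bitIndices_sum_two_pow]

theorem card_eq_length (T : Finset ι) (c : ι → ℕ) (hpow : ∀ i ∈ T, ∃ a : ℕ, c i = 2 ^ a)
    (hinj : ∀ i ∈ T, ∀ j ∈ T, c i = c j → i = j) (N : ℕ) (hsum : ∑ i ∈ T, c i = N) :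
    T.card = N.bitIndices.length := by
  obtain ⟨h1, h2⟩ := exps_eq T c hpow hinj N hsum
  rw [← h1, h2, List.toFinset_card_of_nodup Nat.bitIndices_nodup]

/-- `2` or divisible by `4` -/
theorem two_or_four_dvd {x : ℕ} (hpow : ∃ a : ℕ, x = 2 ^ a) (h2 : 2 ≤ x) : x = 2 ∨ 4 ∣ x := by
  obtain ⟨a, rfl⟩ := hpow
  rcases Nat.lt_or_ge a 2 with h | h
  · interval_cases a
    · omega
    · left; norm_num
  · right
    exact pow_dvd_pow 2 h

end ARITH

variable {ι : Type} [Fintype ι] [DecidableEq ι] (c : ι → ℕ) (n : ℕ)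

theorem ar_two (hpow : ∀ i, ∃ a : ℕ, c i = 2 ^ a) (h2 : ∀ i, 2 ≤ c i)
    (hinj : ∀ i j, c i = c j → i = j) (hsum : ∑ i, c i = 2 * (n / 2))
    (hmod : n % 4 = 2 ∨ n % 4 = 3) : ∃ j₀, c j₀ = 2 := by
  by_contra hcon
  push Not at hcon
  have h4 : 4 ∣ ∑ i, c i := by
    apply Finset.dvd_sum
    intro i _
    rcases ARITH.two_or_four_dvd (hpow i) (h2 i) with h | h
    · exact absurd h (hcon i)
    · exact h
  rw [hsum] at h4
  omega

theorem ar_four (hpow : ∀ i, ∃ a : ℕ, c i = 2 ^ a) (h2 : ∀ i, 2 ≤ c i)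
    (hinj : ∀ i j, c i = c j → i = j) (hsum : ∑ i, c i = 2 * (n / 2))
    (hmod : n % 4 = 0 ∨ n % 4 = 1) : ∀ i, 4 ≤ c i := by
  intro i₀
  rcases ARITH.two_or_four_dvd (hpow i₀) (h2 i₀) with h | h
  · exfalso
    have h4 : 4 ∣ ∑ i ∈ Finset.univ.erase i₀, c i := by
      apply Finset.dvd_sum
      intro i hi
      rcases ARITH.two_or_four_dvd (hpow i) (h2 i) with h' | h'
      · exact absurd (hinj i i₀ (h'.trans h.symm)) (Finset.ne_of_mem_erase hi)
      · exact h'
    have := Finset.add_sum_erase Finset.univ c (Finset.mem_univ i₀)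
    rw [hsum, h] at this
    omega
  · exact Nat.le_of_dvd (by have := h2 i₀; omega) h

theorem ar_iff (hpow : ∀ i, ∃ a : ℕ, c i = 2 ^ a) (h2 : ∀ i, 2 ≤ c i)
    (hinj : ∀ i j, c i = c j → i = j) (hsum : ∑ i, c i = 2 * (n / 2))
    (hmod : n % 4 = 2 ∨ n % 4 = 3) (hn : 4 ≤ n) (j₀ : ι) (hj₀ : c j₀ = 2) :
    (∃ i₁ i₂ : ι, i₁ ≠ j₀ ∧ i₂ ≠ j₀ ∧ i₁ ≠ i₂) ↔ ∀ r : ℕ, 4 * (n / 4) ≠ 2 ^ r := by
  have hrest : ∑ i ∈ Finset.univ.erase j₀, c i = 4 * (n / 4) := by
    have := Finset.add_sum_erase Finset.univ c (Finset.mem_univ j₀)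
    rw [hsum, hj₀] at this
    omega
  have hcard := ARITH.card_eq_length (Finset.univ.erase j₀) c (fun i _ => hpow i)
    (fun i _ j _ h => hinj i j h) _ hrest
  constructor
  · rintro ⟨i₁, i₂, h1, h2', h12⟩ r hr
    rw [hr, Nat.bitIndices_two_pow, List.length_singleton] at hcard
    have hsub : ({i₁, i₂} : Finset ι) ⊆ Finset.univ.erase j₀ := by
      intro x hx
      rw [Finset.mem_insert, Finset.mem_singleton] at hx
      rcases hx with rfl | rfl
      · exact Finset.mem_erase.mpr ⟨h1, Finset.mem_univ _⟩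
      · exact Finset.mem_erase.mpr ⟨h2', Finset.mem_univ _⟩
    have := Finset.card_le_card hsub
    rw [Finset.card_pair h12, hcard] at this
    omega
  · intro hr
    have hpos : 0 < 4 * (n / 4) := by omega
    -- the rest is nonempty
    have hne : (Finset.univ.erase j₀).Nonempty := by
      by_contra hcon
      rw [Finset.not_nonempty_iff_eq_empty] at hcon
      rw [hcon, Finset.sum_empty] at hrest
      omega
    obtain ⟨i₁, hi₁⟩ := hne
    have hne2 : ((Finset.univ.erase j₀).erase i₁).Nonempty := by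
      by_contra hcon
      rw [Finset.not_nonempty_iff_eq_empty] at hcon
      have := Finset.add_sum_erase (Finset.univ.erase j₀) c hi₁
      rw [hcon, Finset.sum_empty, add_zero, hrest] at this
      obtain ⟨a, ha⟩ := hpow i₁
      exact hr a (this.symm.trans ha)
    obtain ⟨i₂, hi₂⟩ := hne2
    refine ⟨i₁, i₂, Finset.ne_of_mem_erase hi₁, ?_, ?_⟩
    · exact Finset.ne_of_mem_erase (Finset.mem_of_mem_erase hi₂)
    · exact (Finset.ne_of_mem_erase hi₂).symm

theorem ar_eight (hsum : ∑ i, c i = 2 * (n / 2)) (hn : 8 ≤ n) (huniq : ∀ i j : ι, i = j) (i : ι) :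
    8 ≤ c i := by
  have huniv : (Finset.univ : Finset ι) = {i} := by
    ext j
    simp [huniq j i]
  rw [huniv, Finset.sum_singleton] at hsum
  omega

theorem ar_nonempty (hsum : ∑ i, c i = 2 * (n / 2)) (hn : 2 ≤ n) : Nonempty ι := by
  by_contra hcon
  rw [not_nonempty_iff] at hcon
  rw [Finset.univ_eq_empty, Finset.sum_empty] at hsum
  omega

/-- Legendre: the `2`-adic valuation of `n !` from the binary expansion of `n` -/
theorem ar_legendre (hpow : ∀ i, ∃ a : ℕ, c i = 2 ^ a) (h2 : ∀ i, 2 ≤ c i)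
    (hinj : ∀ i j, c i = c j → i = j) (hsum : ∑ i, c i = 2 * (n / 2)) :
    padicValNat 2 n.factorial = ∑ i, (c i - 1) := by
  have : Fact (Nat.Prime 2) := ⟨Nat.prime_two⟩
  have hL := sub_one_mul_padicValNat_factorial (p := 2) n
  rw [show (2 - 1 : ℕ) = 1 from rfl, one_mul] at hL
  have hcard := ARITH.card_eq_length Finset.univ c (fun i _ => hpow i)
    (fun i _ j _ h => hinj i j h) _ hsum
  rw [ARITH.length_bitIndices] at hcard
  have hd1 := ARITH.digits_sum_step n
  have hd2 := ARITH.digits_sum_step (2 * (n / 2))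
  rw [Nat.mul_mod_right, zero_add, Nat.mul_div_cancel_left _ (by norm_num : 0 < 2)] at hd2
  -- `∑ (c i - 1) = ∑ c i - card`
  have hs : ∑ i, (c i - 1) + Finset.univ.card (α := ι) = ∑ i, c i := by
    rw [Finset.card_eq_sum_ones, ← Finset.sum_add_distrib]
    apply Finset.sum_congr rfl
    intro i _
    have := h2 i
    omega
  rw [hsum] at hs
  rw [hL]
  have hle : (Nat.digits 2 n).sum ≤ n := Nat.digit_sum_le 2 n
  omega

end Cfsg.Agent.Helper8.SD
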