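import Mathlib
import Cfsg.Agent.Lib.Helper8.SDDefs
/-!
# SD-FAM: the product of subgroups with pairwise disjoint supports  (helper8 plan `plans/SD_plan.md`)
-/

set_option autoImplicit false

namespace Cfsg.Agent.Helper8.SD

open Equiv

variable {Ω : Type*} [DecidableEq Ω] [Fintype Ω]

namespace Fam

set_option linter.unusedSectionVars false

/-- permutations supported on disjoint finsets commute -/
theorem commute_of_supp {B₁ B₂ : Finset Ω} (hd : Disjoint B₁ B₂) {σ ρ : Perm Ω}
    (hσ : ∀ x, x ∉ B₁ → σ x = x) (hρ : ∀ x, x ∉ B₂ → ρ x = x) : Commute σ ρ := by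
  apply Perm.Disjoint.commute
  intro x
  by_cases hx : x ∈ B₁
  · right
    exact hρ x (Finset.disjoint_left.mp hd hx)
  · left
    exact hσ x hx

/-- the subgroup of the permutations fixing every point outside `B`... here: fixing every point of `S` -/
def fixS (S : Finset Ω) : Subgroup (Perm Ω) where
  carrier := {σ | ∀ x ∈ S, σ x = x}
  one_mem' := fun _ _ => rfl
  mul_mem' := by
    intro a b ha hb x hx
    rw [Perm.mul_apply, hb x hx, ha x hx]
  inv_mem' := by
    intro a ha x hx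
    rw [Perm.inv_eq_iff_eq, ha x hx]

theorem mem_fixS {S : Finset Ω} {σ : Perm Ω} : σ ∈ fixS S ↔ ∀ x ∈ S, σ x = x := Iff.rfl

end Fam

theorem exists_fam_hom {ι : Type} [Fintype ι] [DecidableEq ι] (B : ι → Finset Ω)
    (Qs : ι → Subgroup (Perm Ω)) (hsupp : ∀ i, ∀ σ ∈ Qs i, ∀ x, x ∉ B i → σ x = x)
    (hdisj : ∀ i j, i ≠ j → Disjoint (B i) (B j)) :
    ∃ Φ : (∀ i, ↥(Qs i)) →* Perm Ω, Function.Injective Φ ∧ Φ.range = ⨆ i, Qs i ∧
      ∀ q, Perm.sign (Φ q) = ∏ i, Perm.sign ((q i : Perm Ω)) := by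
  have hcomm : Pairwise fun i j : ι => ∀ x y : Perm Ω, x ∈ Qs i → y ∈ Qs j → Commute x y := by
    intro i j hij x y hx hy
    exact Fam.commute_of_supp (hdisj i j hij) (hsupp i x hx) (hsupp j y hy)
  have hind : iSupIndep Qs := by
    intro i
    rw [disjoint_iff_inf_le]
    intro σ hσ
    rw [Subgroup.mem_bot]
    obtain ⟨h1, h2⟩ := Subgroup.mem_inf.mp hσ
    have hle : (⨆ (j) (_ : j ≠ i), Qs j) ≤ Fam.fixS (B i) := by
      refine iSup_le fun j => iSup_le fun hj => ?_
      intro ρ hρ x hx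
      exact hsupp j ρ hρ x (Finset.disjoint_right.mp (hdisj j i hj) hx)
    have h3 := hle h2
    ext x
    by_cases hx : x ∈ B i
    · exact h3 x hx
    · exact hsupp i σ h1 x hx
  refine ⟨Subgroup.noncommPiCoprod hcomm, Subgroup.injective_noncommPiCoprod_of_iSupIndep hind,
    Subgroup.noncommPiCoprod_range, ?_⟩
  intro q
  have h1 := Subgroup.noncommPiCoprod_apply hcomm q
  rw [h1]
  exact (Finset.map_noncommProd Finset.univ (fun i => ((q i : Perm Ω))) _ Perm.sign).trans
    (Finset.noncommProd_eq_prod _ _)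

end Cfsg.Agent.Helper8.SD
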