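import Mathlib
import Cfsg.Agent.Lib.Helper8.SDDefs
import Cfsg.Agent.Lib.Helper8.SDWnf
import Cfsg.Agent.Lib.Helper8.SDWcen
/-!
# SD-WCP: an internal wreath product `A ≀ C₂` is not a nontrivial central product
(helper8 plan `plans/SD_plan.md`)
-/

set_option autoImplicit false
set_option linter.unusedSectionVars false
set_option linter.unusedVariables false

namespace Cfsg.Agent.Helper8.SD

variable {G : Type*} [Group G] {A : Subgroup G} {τ : G}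

namespace WCP

/-- elements of the join of two elementwise commuting subgroups are products -/
theorem exists_mul_of_mem_sup' {S₁ S₂ : Subgroup G}
    (hc : ∀ a ∈ S₁, ∀ b ∈ S₂, a * b = b * a) {w : G} (hw : w ∈ S₁ ⊔ S₂) :
    ∃ a ∈ S₁, ∃ b ∈ S₂, w = a * b := by
  let T : Subgroup G :=
    { carrier := {w | ∃ a ∈ S₁, ∃ b ∈ S₂, w = a * b}
      one_mem' := ⟨1, one_mem _, 1, one_mem _, by simp⟩
      mul_mem' := by
        rintro _ _ ⟨a, ha, b, hb, rfl⟩ ⟨a', ha', b', hb', rfl⟩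
        refine ⟨a * a', mul_mem ha ha', b * b', mul_mem hb hb', ?_⟩
        calc a * b * (a' * b') = a * (b * a') * b' := by group
          _ = a * (a' * b) * b' := by rw [hc a' ha' b hb]
          _ = a * a' * (b * b') := by group
      inv_mem' := by
        rintro _ ⟨a, ha, b, hb, rfl⟩
        refine ⟨a⁻¹, inv_mem ha, b⁻¹, inv_mem hb, ?_⟩
        rw [mul_inv_rev, hc a⁻¹ (inv_mem ha) b⁻¹ (inv_mem hb)] }
  have h1 : S₁ ≤ T := fun a ha => ⟨a, ha, 1, one_mem _, by simp⟩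
  have h2 : S₂ ≤ T := fun b hb => ⟨1, one_mem _, b, hb, by simp⟩
  exact (sup_le h1 h2) hw

theorem le_dblG : A ≤ dblG A τ := le_sup_left.trans le_sup_left

theorem tau_mem : τ ∈ dblG A τ := Subgroup.mem_sup_right (Subgroup.mem_zpowers τ)

/-- rule 1: product of two normal forms -/
theorem nf_mul (h : WrHyp A τ) {a b a' b' : G} (ha : a ∈ A) (hb : b ∈ A) (ha' : a' ∈ A)
    (hb' : b' ∈ A) :
    a * (τ * b * τ⁻¹) * (a' * (τ * b' * τ⁻¹)) = (a * a') * (τ * (b * b') * τ⁻¹) := by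
  have := h.comm a' ha' b hb
  calc a * (τ * b * τ⁻¹) * (a' * (τ * b' * τ⁻¹))
      = a * ((τ * b * τ⁻¹) * a') * (τ * b' * τ⁻¹) := by group
    _ = a * (a' * (τ * b * τ⁻¹)) * (τ * b' * τ⁻¹) := by rw [this]
    _ = _ := by group

/-- rule 2: conjugation by `τ` swaps the two coordinates -/
theorem conj_nf (h : WrHyp A τ) {a b : G} (ha : a ∈ A) (hb : b ∈ A) :
    τ * (a * (τ * b * τ⁻¹)) * τ⁻¹ = b * (τ * a * τ⁻¹) := by
  calc τ * (a * (τ * b * τ⁻¹)) * τ⁻¹ = (τ * a * τ⁻¹) * ((τ * τ) * b * (τ * τ)⁻¹) := by group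
    _ = (τ * a * τ⁻¹) * b := by rw [h.sq]; group
    _ = b * (τ * a * τ⁻¹) := (h.comm b hb a ha).symm

/-- inverse of a normal form -/
theorem nf_inv (h : WrHyp A τ) {a b : G} (ha : a ∈ A) (hb : b ∈ A) :
    (a * (τ * b * τ⁻¹))⁻¹ = a⁻¹ * (τ * b⁻¹ * τ⁻¹) := by
  have := h.comm a⁻¹ (inv_mem ha) b⁻¹ (inv_mem hb)
  rw [this]; group

/-- if `c d^τ` commutes with `u v^τ τ` then `c u = u d` -/
theorem comm_nf (h : WrHyp A τ) {u v c d : G} (hu : u ∈ A) (hv : v ∈ A) (hc : c ∈ A) (hd : d ∈ A)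
    (e : c * (τ * d * τ⁻¹) * (u * (τ * v * τ⁻¹) * τ) =
      u * (τ * v * τ⁻¹) * τ * (c * (τ * d * τ⁻¹))) :
    c * u = u * d := by
  have e1 : c * (τ * d * τ⁻¹) * (u * (τ * v * τ⁻¹) * τ) =
      (c * u) * (τ * (d * v) * τ⁻¹) * τ := by
    rw [← nf_mul h hc hd hu hv]; group
  have e2 : u * (τ * v * τ⁻¹) * τ * (c * (τ * d * τ⁻¹)) =
      (u * d) * (τ * (v * c) * τ⁻¹) * τ := by
    rw [← nf_mul h hu hv hd hc, ← conj_nf h hc hd]; group
  rw [e1, e2] at e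
  exact (nf_unique h (mul_mem hc hu) (mul_mem hd hv) (mul_mem hu hd) (mul_mem hv hc)
    (mul_right_cancel e)).1

/-- `X` is normalized by `X ⊔ Y` -/
theorem conj_mem {X Y : Subgroup G} (hc : ∀ x ∈ X, ∀ y ∈ Y, x * y = y * x) {g x : G}
    (hg : g ∈ X ⊔ Y) (hx : x ∈ X) : g * x * g⁻¹ ∈ X := by
  obtain ⟨x₁, hx₁, y₁, hy₁, rfl⟩ := exists_mul_of_mem_sup' hc hg
  have : x₁ * y₁ * x * (x₁ * y₁)⁻¹ = x₁ * x * x₁⁻¹ := by
    calc x₁ * y₁ * x * (x₁ * y₁)⁻¹ = x₁ * (y₁ * x) * y₁⁻¹ * x₁⁻¹ := by group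
      _ = x₁ * (x * y₁) * y₁⁻¹ * x₁⁻¹ := by rw [hc x hx y₁ hy₁]
      _ = _ := by group
  rw [this]
  exact mul_mem (mul_mem hx₁ hx) (inv_mem hx₁)

/-- Lemma A: if `X` has an element outside `N`, the elements of `Y ∩ N` are central. -/
theorem lemmaA (h : WrHyp A τ) (X Y : Subgroup G)
    (hc : ∀ x ∈ X, ∀ y ∈ Y, x * y = y * x) (hXY : X ⊔ Y = dblG A τ)
    {u v : G} (hu : u ∈ A) (hv : v ∈ A) (hx : u * (τ * v * τ⁻¹) * τ ∈ X)
    {c d : G} (hcA : c ∈ A) (hd : d ∈ A) (hy : c * (τ * d * τ⁻¹) ∈ Y) :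
    ∀ w ∈ dblG A τ, c * (τ * d * τ⁻¹) * w = w * (c * (τ * d * τ⁻¹)) := by
  have e0 : c * u = u * d := comm_nf h hu hv hcA hd (hc _ hx _ hy).symm
  have hcen : ∀ g ∈ A, c * g = g * c := by
    intro g hg
    have hgW : g ∈ X ⊔ Y := by rw [hXY]; exact le_dblG hg
    have hxg := conj_mem hc hgW hx
    have e := (hc _ hxg _ hy).symm
    -- `e : y * (g x g⁻¹) = (g x g⁻¹) * y`
    have e' : (g⁻¹ * c * g) * (τ * d * τ⁻¹) * (u * (τ * v * τ⁻¹) * τ) =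
        u * (τ * v * τ⁻¹) * τ * ((g⁻¹ * c * g) * (τ * d * τ⁻¹)) := by
      have hk : (g⁻¹ * c * g) * (τ * d * τ⁻¹) = g⁻¹ * (c * (τ * d * τ⁻¹)) * g := by
        calc (g⁻¹ * c * g) * (τ * d * τ⁻¹) = g⁻¹ * c * (g * (τ * d * τ⁻¹)) := by group
          _ = g⁻¹ * c * ((τ * d * τ⁻¹) * g) := by rw [h.comm g hg d hd]
          _ = _ := by group
      rw [hk]
      calc g⁻¹ * (c * (τ * d * τ⁻¹)) * g * (u * (τ * v * τ⁻¹) * τ)
          = g⁻¹ * ((c * (τ * d * τ⁻¹)) * (g * (u * (τ * v * τ⁻¹) * τ) * g⁻¹)) * g := by group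
        _ = g⁻¹ * ((g * (u * (τ * v * τ⁻¹) * τ) * g⁻¹) * (c * (τ * d * τ⁻¹))) * g := by rw [e]
        _ = _ := by group
    have e1 := comm_nf h hu hv (mul_mem (mul_mem (inv_mem hg) hcA) hg) hd e'
    -- `g⁻¹ c g u = u d = c u`
    have e2 : g⁻¹ * c * g = c := mul_right_cancel (e1.trans e0.symm)
    calc c * g = g * (g⁻¹ * c * g) := by group
      _ = g * c := by rw [e2]
  have hcd : c = d := by
    have : u * c = u * d := by rw [← hcen u hu]; exact e0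
    exact mul_left_cancel this
  subst hcd
  exact central_of_diag h c hcA hcen

/-- Lemma B: if `X` has an element outside `N` and `X ∩ N` is central then `X` is central. -/
theorem lemmaB (h : WrHyp A τ) (X Y : Subgroup G) (hX : X ≤ dblG A τ)
    (hc : ∀ x ∈ X, ∀ y ∈ Y, x * y = y * x) (hXY : X ⊔ Y = dblG A τ)
    (hN : ∀ a ∈ A, ∀ b ∈ A, a * (τ * b * τ⁻¹) ∈ X →
      ∀ w ∈ dblG A τ, a * (τ * b * τ⁻¹) * w = w * (a * (τ * b * τ⁻¹))) :
    ∀ x ∈ X, ∀ w ∈ dblG A τ, x * w = w * x := by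
  -- `X` is abelian
  have hab : ∀ x ∈ X, ∀ x' ∈ X, x * x' = x' * x := by
    intro x hx x' hx'
    obtain ⟨a, ha, b, hb, e | e⟩ := (mem_dblG_iff h x).1 (hX hx)
    · subst e; exact hN a ha b hb hx x' (hX hx')
    obtain ⟨a', ha', b', hb', e' | e'⟩ := (mem_dblG_iff h x').1 (hX hx')
    · subst e'; exact (hN a' ha' b' hb' hx' x (hX hx)).symm
    -- both outside `N`: `x * x'⁻¹ ∈ X ∩ N`
    have hn : x * x'⁻¹ = (a * a'⁻¹) * (τ * (b * b'⁻¹) * τ⁻¹) := by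
      rw [← nf_mul h ha hb (inv_mem ha') (inv_mem hb'), ← nf_inv h ha' hb', e, e']; group
    have hnX : x * x'⁻¹ ∈ X := mul_mem hx (inv_mem hx')
    have hcn := hN _ (mul_mem ha (inv_mem ha')) _ (mul_mem hb (inv_mem hb')) (hn ▸ hnX) x' (hX hx')
    rw [← hn] at hcn
    -- `x x'⁻¹ x' = x' x x'⁻¹`
    calc x * x' = (x * x'⁻¹ * x') * x' := by group
      _ = (x' * (x * x'⁻¹)) * x' := by rw [hcn]
      _ = x' * x := by group
  intro x hx w hw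
  rw [← hXY] at hw
  obtain ⟨x₁, hx₁, y₁, hy₁, rfl⟩ := exists_mul_of_mem_sup' hc hw
  calc x * (x₁ * y₁) = (x * x₁) * y₁ := by group
    _ = (x₁ * x) * y₁ := by rw [hab x hx x₁ hx₁]
    _ = x₁ * (x * y₁) := by group
    _ = x₁ * (y₁ * x) := by rw [hc x hx y₁ hy₁]
    _ = _ := by group

end WCP

open WCP in
theorem cp_dblG (h : WrHyp A τ) (X Y : Subgroup G) (hX : X ≤ dblG A τ) (hY : Y ≤ dblG A τ)
    (hc : ∀ x ∈ X, ∀ y ∈ Y, x * y = y * x) (hXY : X ⊔ Y = dblG A τ) :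
    (∀ x ∈ X, ∀ v ∈ dblG A τ, x * v = v * x) ∨ (∀ y ∈ Y, ∀ v ∈ dblG A τ, y * v = v * y) := by
  have hc' : ∀ y ∈ Y, ∀ x ∈ X, y * x = x * y := fun y hy x hx => (hc x hx y hy).symm
  have hYX : Y ⊔ X = dblG A τ := by rw [sup_comm]; exact hXY
  by_cases hXN : ∃ u ∈ A, ∃ v ∈ A, u * (τ * v * τ⁻¹) * τ ∈ X
  · obtain ⟨u, hu, v, hv, hx⟩ := hXN
    by_cases hYN : ∃ u ∈ A, ∃ v ∈ A, u * (τ * v * τ⁻¹) * τ ∈ Y
    · obtain ⟨u', hu', v', hv', hy⟩ := hYN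
      left
      exact lemmaB h X Y hX hc hXY
        (fun a ha b hb hab => lemmaA h Y X hc' hYX hu' hv' hy ha hb hab)
    · right
      intro y hy
      obtain ⟨a, ha, b, hb, e | e⟩ := (mem_dblG_iff h y).1 (hY hy)
      · subst e; exact lemmaA h X Y hc hXY hu hv hx ha hb hy
      · exact absurd ⟨a, ha, b, hb, e ▸ hy⟩ hYN
  · by_cases hYN : ∃ u ∈ A, ∃ v ∈ A, u * (τ * v * τ⁻¹) * τ ∈ Y
    · obtain ⟨u', hu', v', hv', hy⟩ := hYN
      left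
      intro x hx
      obtain ⟨a, ha, b, hb, e | e⟩ := (mem_dblG_iff h x).1 (hX hx)
      · subst e; exact lemmaA h Y X hc' hYX hu' hv' hy ha hb hx
      · exact absurd ⟨a, ha, b, hb, e ▸ hx⟩ hXN
    · exfalso
      have hτ : τ ∈ X ⊔ Y := by rw [hXY]; exact tau_mem
      obtain ⟨x, hx, y, hy, e⟩ := exists_mul_of_mem_sup' hc hτ
      obtain ⟨a, ha, b, hb, e1 | e1⟩ := (mem_dblG_iff h x).1 (hX hx)
      · obtain ⟨a', ha', b', hb', e2 | e2⟩ := (mem_dblG_iff h y).1 (hY hy)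
        · rw [e1, e2, nf_mul h ha hb ha' hb'] at e
          exact h.notin _ (mul_mem ha ha') _ (mul_mem hb hb') e.symm
        · exact hYN ⟨a', ha', b', hb', e2 ▸ hy⟩
      · exact hXN ⟨a, ha, b, hb, e1 ▸ hx⟩

end Cfsg.Agent.Helper8.SD
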