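import Mathlib
import Cfsg.Agent.Lib.Helper8.SDDefs
import Cfsg.Agent.Lib.Helper8.SDWnf
import Cfsg.Agent.Lib.Helper8.SDWcen
import Cfsg.Agent.Lib.Helper8.SDWcp
import Cfsg.Agent.Lib.Helper8.SDWalt
import Cfsg.Agent.Lib.Helper8.SDWperm
import Cfsg.Agent.Lib.Helper5.SDWstep2
import Cfsg.Agent.Lib.Helper18.SDWstep3
/-!
# SD-WSTEP: the properties `WProps` of an iterated wreath product, by induction
(helper8 plan `plans/SD_plan.md`)
-/

set_option autoImplicit false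
set_option linter.unusedSectionVars false
set_option linter.unusedVariables false

namespace Cfsg.Agent.Helper8.SD

open Equiv

variable {Ω : Type*} [DecidableEq Ω] [Fintype Ω]

theorem wprops_single (x : Ω) : WProps (⊥ : Subgroup (Perm Ω)) {x} := by
  refine ⟨?_, ?_, ⟨0, by simp⟩, ?_, ?_, ?_, ?_⟩
  · intro σ hσ y _
    rw [Subgroup.mem_bot.mp hσ, Perm.one_apply]
  · rw [Subgroup.card_bot, Finset.card_singleton]
    norm_num
  · intro h
    rw [Finset.card_singleton] at h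
    omega
  · intro h
    rw [Finset.card_singleton] at h
    omega
  · intro X Y _ _ _ _
    left
    intro y _ q hq
    rw [Subgroup.mem_bot.mp hq, mul_one, one_mul]
  · intro h
    rw [Finset.card_singleton] at h
    omega

section step

variable {A : Subgroup (Perm Ω)} {B₁ : Finset Ω} {τ : Perm Ω}

/-- WSTEP1 -/
theorem step_card (hA : WProps A B₁) (hne : B₁.Nonempty) (hτ2 : τ * τ = 1)
    (hτB : ∀ x ∈ B₁, τ x ∉ B₁) (hτfix : ∀ x, x ∉ B₁ → τ x ∉ B₁ → τ x = x) :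
    Nat.card (dblG A τ) = 2 ^ ((B₁ ∪ B₁.image τ).card - 1) ∧
      ∃ a : ℕ, (B₁ ∪ B₁.image τ).card = 2 ^ a := by
  have hW := wrHyp_of_perm A B₁ τ hA.supp hne hτ2 hτB
  have hb : 1 ≤ B₁.card := Finset.card_pos.mpr hne
  rw [card_union_image B₁ τ hτB]
  constructor
  · rw [card_dblG hW, hA.card, ← pow_mul, ← pow_succ']
    congr 1
    omega
  · obtain ⟨a, ha⟩ := hA.pow
    exact ⟨a + 1, by rw [ha, pow_succ']⟩

/-- WSTEP1 -/
theorem step_odd (hA : WProps A B₁) (hne : B₁.Nonempty) (hτ2 : τ * τ = 1)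
    (hτB : ∀ x ∈ B₁, τ x ∉ B₁) (hτfix : ∀ x, x ∉ B₁ → τ x ∉ B₁ → τ x = x) :
    ∃ t ∈ dblG A τ, t * t = 1 ∧ Perm.sign t = -1 := by
  have hb : 1 ≤ B₁.card := Finset.card_pos.mpr hne
  by_cases h2 : 2 ≤ B₁.card
  · obtain ⟨t, ht, htt, hts⟩ := hA.odd h2
    exact ⟨t, (le_sup_left.trans le_sup_left : A ≤ dblG A τ) ht, htt, hts⟩
  · have h1 : B₁.card = 1 := by omega
    refine ⟨τ, ?_, hτ2, ?_⟩
    · exact (le_sup_right : Subgroup.zpowers τ ≤ dblG A τ) (Subgroup.mem_zpowers τ)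
    · rw [sign_tau B₁ τ hτ2 hτB hτfix, h1, pow_one]

/-- WSTEP2 -/
theorem step_cen (hA : WProps A B₁) (hne : B₁.Nonempty) (hτ2 : τ * τ = 1)
    (hτB : ∀ x ∈ B₁, τ x ∉ B₁) (hτfix : ∀ x, x ∉ B₁ → τ x ∉ B₁ → τ x = x) :
    ∃ z ∈ dblG A τ, z ≠ 1 ∧ z * z = 1 ∧
      (∀ c ∈ dblG A τ, (∀ q ∈ dblG A τ, c * q = q * c) ↔ (c = 1 ∨ c = z)) ∧
      (4 ≤ (B₁ ∪ B₁.image τ).card → Perm.sign z = 1 ∧ ∃ g ∈ dblG A τ, g * g = z) :=
  WSTEP2.step_cen hA hne hτ2 hτB hτfix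

/-- WSTEP3 -/
theorem step_cenAlt (hA : WProps A B₁) (hne : B₁.Nonempty) (hτ2 : τ * τ = 1)
    (hτB : ∀ x ∈ B₁, τ x ∉ B₁) (hτfix : ∀ x, x ∉ B₁ → τ x ∉ B₁ → τ x = x)
    (h8 : 8 ≤ (B₁ ∪ B₁.image τ).card) :
    ∀ c ∈ dblG A τ, Perm.sign c = 1 →
      (∀ q ∈ dblG A τ, Perm.sign q = 1 → c * q = q * c) → ∀ q ∈ dblG A τ, c * q = q * c :=
  STEP3.step_cenAlt hA hne hτ2 hτB hτfix h8

end step

/-- blocks are nonempty -/
theorem IsW.nonempty {Q : Subgroup (Perm Ω)} {B : Finset Ω} (h : IsW Q B) : B.Nonempty := by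
  induction h with
  | single x => exact Finset.singleton_nonempty x
  | wreath τ hA hτ2 hτB hτfix ih => exact ih.mono Finset.subset_union_left

/-- every iterated wreath product has the properties `WProps` -/
theorem isW_props {Q : Subgroup (Perm Ω)} {B : Finset Ω} (h : IsW Q B) : WProps Q B := by
  induction h with
  | single x => exact wprops_single x
  | wreath τ hA hτ2 hτB hτfix ih =>
    rename_i A B₁
    have hne := hA.nonempty
    have hW := wrHyp_of_perm A B₁ τ ih.supp hne hτ2 hτB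
    have hc := step_card ih hne hτ2 hτB hτfix
    refine ⟨supp_dblG A B₁ τ ih.supp hτ2 hτfix, hc.1, hc.2, fun _ => step_odd ih hne hτ2 hτB hτfix,
      fun _ => step_cen ih hne hτ2 hτB hτfix, ?_, step_cenAlt ih hne hτ2 hτB hτfix⟩
    intro X Y hX hY hcomm hXY
    exact cp_dblG hW X Y hX hY hcomm hXY

end Cfsg.Agent.Helper8.SD
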