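import Mathlib
import Cfsg.Agent.Lib.Helper8.SDDefs
import Cfsg.Agent.Lib.Helper8.SDWstep
import Cfsg.Agent.Lib.Helper8.SDFam
import Cfsg.Agent.Lib.Helper8.SDArith
/-!
# SD-CARD: the model subgroup has the order of a Sylow `2`-subgroup of `Sym(n)`
(helper8 plan `plans/SD_plan.md`)
-/

set_option autoImplicit false

namespace Cfsg.Agent.Helper8.SD

open Equiv

theorem card_model (n : ℕ) {ι : Type} [Fintype ι] [DecidableEq ι] (B : ι → Finset (Fin n))
    (Qs : ι → Subgroup (Perm (Fin n))) (hW : ∀ i, IsW (Qs i) (B i)) (h2 : ∀ i, 2 ≤ (B i).card)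
    (hdisj : ∀ i j, i ≠ j → Disjoint (B i) (B j))
    (hinj : ∀ i j, (B i).card = (B j).card → i = j) (hsum : ∑ i, (B i).card = 2 * (n / 2)) :
    Nat.card ↥(⨆ i, Qs i) = 2 ^ padicValNat 2 n.factorial := by
  have hP : ∀ i, WProps (Qs i) (B i) := fun i => isW_props (hW i)
  obtain ⟨Φ, hΦinj, hΦrange, -⟩ :=
    exists_fam_hom (Ω := Fin n) B Qs (fun i => (hP i).supp) hdisj
  have hleg := ar_legendre (fun i => (B i).card) n (fun i => (hP i).pow) h2 hinj hsum
  rw [← hΦrange, hleg]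
  have h1 : Nat.card ↥Φ.range = Nat.card (∀ i, ↥(Qs i)) :=
    (Nat.card_congr (MonoidHom.ofInjective hΦinj).toEquiv).symm
  rw [h1, Nat.card_pi, ← Finset.prod_pow_eq_pow_sum]
  exact Finset.prod_congr rfl (fun i _ => (hP i).card)

end Cfsg.Agent.Helper8.SD
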