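import Mathlib
import Cfsg.Agent.Lib.Helper8.SDDefs
/-!
# SD-DEC: transport of `Decomp`  (helper8 plan `plans/SD_plan.md`)
-/

set_option autoImplicit false

namespace Cfsg.Agent.Helper8.SD

namespace DEC

/-- the image of a decomposition under an injective homomorphism -/
theorem decomp_map {G G' : Type*} [Group G] [Group G'] (f : G →* G') (hf : Function.Injective f)
    (P : Subgroup G) (h : Decomp P) : Decomp (P.map f) := by
  obtain ⟨S₁, S₂, h1, h2, hle1, hle2, hcomm, hinf, hsup⟩ := h
  refine ⟨S₁.map f, S₂.map f, ?_, ?_, Subgroup.map_mono hle1, Subgroup.map_mono hle2, ?_, ?_, ?_⟩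
  · rwa [Ne, Subgroup.map_eq_bot_iff_of_injective _ hf]
  · rwa [Ne, Subgroup.map_eq_bot_iff_of_injective _ hf]
  · rintro _ ⟨a, ha, rfl⟩ _ ⟨b, hb, rfl⟩
    rw [← map_mul, ← map_mul, hcomm a ha b hb]
  · rw [← Subgroup.map_inf _ _ f hf, hinf, Subgroup.map_bot]
  · rw [← Subgroup.map_sup, hsup]

/-- pulling a decomposition back along an injective homomorphism -/
theorem decomp_of_map {G G' : Type*} [Group G] [Group G'] (f : G →* G') (hf : Function.Injective f)
    (P : Subgroup G) (h : Decomp (P.map f)) : Decomp P := by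
  obtain ⟨T₁, T₂, h1, h2, hle1, hle2, hcomm, hinf, hsup⟩ := h
  have hr : P.map f ≤ f.range := by
    rintro _ ⟨a, _, rfl⟩
    exact ⟨a, rfl⟩
  have e1 : (T₁.comap f).map f = T₁ := Subgroup.map_comap_eq_self (hle1.trans hr)
  have e2 : (T₂.comap f).map f = T₂ := Subgroup.map_comap_eq_self (hle2.trans hr)
  refine ⟨T₁.comap f, T₂.comap f, ?_, ?_, ?_, ?_, ?_, ?_, ?_⟩
  · intro h0
    rw [h0, Subgroup.map_bot] at e1
    exact h1 e1.symm
  · intro h0
    rw [h0, Subgroup.map_bot] at e2
    exact h2 e2.symm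
  · rw [← Subgroup.map_le_map_iff_of_injective hf, e1]
    exact hle1
  · rw [← Subgroup.map_le_map_iff_of_injective hf, e2]
    exact hle2
  · intro a ha b hb
    apply hf
    rw [map_mul, map_mul]
    exact hcomm (f a) ha (f b) hb
  · apply Subgroup.map_injective hf
    rw [Subgroup.map_inf _ _ f hf, e1, e2, hinf, Subgroup.map_bot]
  · apply Subgroup.map_injective hf
    rw [Subgroup.map_sup, e1, e2, hsup]

end DEC

/-- `Decomp` is invariant under an injective homomorphism. -/
theorem decomp_map_iff {G G' : Type*} [Group G] [Group G'] (f : G →* G') (hf : Function.Injective f)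
    (P : Subgroup G) : Decomp (P.map f) ↔ Decomp P :=
  ⟨DEC.decomp_of_map f hf P, DEC.decomp_map f hf P⟩

/-- `Decomp` of a subgroup of a subgroup. -/
theorem decomp_subgroupOf_iff {G : Type*} [Group G] (H P : Subgroup G) (hP : P ≤ H) :
    Decomp (P.subgroupOf H) ↔ Decomp P := by
  have h := decomp_map_iff H.subtype H.subtype_injective (P.subgroupOf H)
  rw [Subgroup.map_subgroupOf_eq_of_le hP] at h
  exact h.symm

/-- `Decomp` is invariant under conjugation. -/
theorem decomp_conj_iff {G : Type*} [Group G] (g : G) (P : Subgroup G) :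
    Decomp (P.map (MulAut.conj g).toMonoidHom) ↔ Decomp P :=
  decomp_map_iff (MulAut.conj g).toMonoidHom (MulAut.conj g).injective P

namespace DEC

/-- a nontrivial subgroup of a finite `2`-subgroup `P` contains a non-identity element commuting with
all of its elements -/
theorem exists_central {G : Type*} [Group G] (P : Subgroup G) [Finite P] (m : ℕ)
    (hcard : Nat.card P = 2 ^ m) (S : Subgroup G) (hS : S ≤ P) (hne : S ≠ ⊥) :
    ∃ c ∈ S, c ≠ 1 ∧ ∀ s ∈ S, c * s = s * c := by
  haveI : Fact (Nat.Prime 2) := ⟨Nat.prime_two⟩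
  have hP : IsPGroup 2 P := IsPGroup.of_card hcard
  have hS2 : IsPGroup 2 S := hP.to_le hS
  haveI : Finite S := Finite.of_injective (Subgroup.inclusion hS) (Subgroup.inclusion_injective hS)
  haveI : Nontrivial S := (Subgroup.nontrivial_iff_ne_bot S).2 hne
  haveI : Nontrivial (Subgroup.center S) := hS2.center_nontrivial
  obtain ⟨c, hc⟩ := exists_ne (1 : Subgroup.center S)
  refine ⟨((c : S) : G), (c : S).2, ?_, ?_⟩
  · intro h1
    apply hc
    apply Subtype.ext
    apply Subtype.ext
    exact h1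
  · intro s hs
    have h := Subgroup.mem_center_iff.1 c.2 ⟨s, hs⟩
    have h' := congrArg (Subtype.val : S → G) h
    simpa using h'.symm

end DEC

/-- a finite `2`-group whose centre has at most two elements is indecomposable -/
theorem not_decomp_of_center {G : Type*} [Group G] (P : Subgroup G) [Finite P] (m : ℕ)
    (hcard : Nat.card P = 2 ^ m) (z : G)
    (hcen : ∀ c ∈ P, (∀ q ∈ P, c * q = q * c) → c = 1 ∨ c = z) : ¬ Decomp P := by
  rintro ⟨S₁, S₂, h1, h2, hle1, hle2, hcomm, hinf, hsup⟩
  obtain ⟨c₁, hc₁, hc₁1, hc₁c⟩ := DEC.exists_central P m hcard S₁ hle1 h1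
  obtain ⟨c₂, hc₂, hc₂1, hc₂c⟩ := DEC.exists_central P m hcard S₂ hle2 h2
  have key1 : ∀ q ∈ P, c₁ * q = q * c₁ := by
    intro q hq
    have hle : S₁ ⊔ S₂ ≤ Subgroup.centralizer ({c₁} : Set G) := by
      apply sup_le
      · intro s hs
        rw [Subgroup.mem_centralizer_iff]
        intro x hx
        rw [Set.mem_singleton_iff] at hx
        rw [hx]
        exact hc₁c s hs
      · intro s hs
        rw [Subgroup.mem_centralizer_iff]
        intro x hx
        rw [Set.mem_singleton_iff] at hx
        rw [hx]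
        exact hcomm c₁ hc₁ s hs
    rw [hsup] at hle
    have := Subgroup.mem_centralizer_iff.1 (hle hq) c₁ (Set.mem_singleton _)
    exact this
  have key2 : ∀ q ∈ P, c₂ * q = q * c₂ := by
    intro q hq
    have hle : S₁ ⊔ S₂ ≤ Subgroup.centralizer ({c₂} : Set G) := by
      apply sup_le
      · intro s hs
        rw [Subgroup.mem_centralizer_iff]
        intro x hx
        rw [Set.mem_singleton_iff] at hx
        rw [hx]
        exact (hcomm s hs c₂ hc₂).symm
      · intro s hs
        rw [Subgroup.mem_centralizer_iff]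
        intro x hx
        rw [Set.mem_singleton_iff] at hx
        rw [hx]
        exact hc₂c s hs
    rw [hsup] at hle
    have := Subgroup.mem_centralizer_iff.1 (hle hq) c₂ (Set.mem_singleton _)
    exact this
  have e1 : c₁ = z := (hcen c₁ (hle1 hc₁) key1).resolve_left hc₁1
  have e2 : c₂ = z := (hcen c₂ (hle2 hc₂) key2).resolve_left hc₂1
  have hz : z ∈ S₁ ⊓ S₂ := ⟨e1 ▸ hc₁, e2 ▸ hc₂⟩
  rw [hinf, Subgroup.mem_bot] at hz
  exact hc₁1 (e1.trans hz)

end Cfsg.Agent.Helper8.SD
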