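import Mathlib
import Cfsg.Agent.Lib.Helper8.SDDefs
import Cfsg.Agent.Lib.Helper8.SDDec
/-!
# SD-SYL: every Sylow `2`-subgroup of `Alt(n)` is conjugate to the even part of the model
(helper8 plan `plans/SD_plan.md`)
-/

set_option autoImplicit false

namespace Cfsg.Agent.Helper8.SD

open Equiv

/-- cardinality of `H.subgroupOf K` -/
theorem syl_card_subgroupOf {G : Type*} [Group G] (H K : Subgroup G) :
    Nat.card (H.subgroupOf K) = Nat.card (H ⊓ K : Subgroup G) := by
  have h := Subgroup.subgroupOf_map_subtype H K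
  rw [← h]
  exact Nat.card_congr
    ((H.subgroupOf K).equivMapOfInjective K.subtype K.subtype_injective).toEquiv

/-- the even part of a subgroup with an odd element has index two -/
theorem syl_card_even (n : ℕ) (Qf : Subgroup (Perm (Fin n))) (hodd : ∃ t ∈ Qf, Perm.sign t = -1) :
    Nat.card (Qf ⊓ alternatingGroup (Fin n) : Subgroup (Perm (Fin n))) * 2 = Nat.card Qf := by
  classical
  obtain ⟨t, ht, hts⟩ := hodd
  let f : Qf →* ℤˣ := (Perm.sign).comp Qf.subtype
  have hker : f.ker = (alternatingGroup (Fin n)).subgroupOf Qf := by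
    ext x
    simp [f, MonoidHom.mem_ker, Subgroup.mem_subgroupOf, Perm.mem_alternatingGroup]
  have hsurj : Function.Surjective f := by
    intro u
    rcases Int.units_eq_one_or u with h | h
    · exact ⟨1, by simp [h]⟩
    · exact ⟨⟨t, ht⟩, by simp [f, h, hts]⟩
  have h1 : f.ker.index = Nat.card ℤˣ := by
    rw [Subgroup.index_ker, MonoidHom.range_eq_top.mpr hsurj]
    exact Nat.card_congr Subgroup.topEquiv.toEquiv
  have h2 : Nat.card ℤˣ = 2 := by
    rw [Nat.card_eq_fintype_card]; rfl
  have h3 := Subgroup.card_mul_index f.ker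
  rw [h1, h2, hker, syl_card_subgroupOf, inf_comm] at h3
  exact h3

theorem sylow_transfer (n : ℕ) (Qf : Subgroup (Perm (Fin n)))
    (hcard : Nat.card Qf = 2 ^ padicValNat 2 n.factorial) (hodd : ∃ t ∈ Qf, Perm.sign t = -1)
    (P : Sylow 2 (alternatingGroup (Fin n))) :
    Decomp (P : Subgroup (alternatingGroup (Fin n))) ↔ Decomp (Qf ⊓ alternatingGroup (Fin n)) := by
  classical
  have : Fact (Nat.Prime 2) := ⟨Nat.prime_two⟩
  -- `Fin n` is nontrivial
  have hnt : Nontrivial (Fin n) := by
    obtain ⟨t, -, hts⟩ := hodd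
    by_contra hn
    rw [not_nontrivial_iff_subsingleton] at hn
    have : t = 1 := Subsingleton.elim _ _
    rw [this, map_one] at hts
    exact absurd hts (by decide)
  -- cardinalities
  have hA : 2 * Nat.card (alternatingGroup (Fin n)) = n.factorial := by
    rw [Nat.card_eq_fintype_card, two_mul_card_alternatingGroup, Fintype.card_perm,
      Fintype.card_fin]
  have hE := syl_card_even n Qf hodd
  have hRcard0 : Nat.card ((Qf ⊓ alternatingGroup (Fin n)).subgroupOf (alternatingGroup (Fin n)))
      = Nat.card (Qf ⊓ alternatingGroup (Fin n) : Subgroup (Perm (Fin n))) := by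
    rw [syl_card_subgroupOf, inf_assoc, inf_idem]
  have hApos : Nat.card (alternatingGroup (Fin n)) ≠ 0 := Nat.card_pos.ne'
  have hval : padicValNat 2 n.factorial
      = padicValNat 2 (Nat.card (alternatingGroup (Fin n))) + 1 := by
    rw [← hA, padicValNat.mul (by norm_num) hApos, padicValNat_self, add_comm]
  have hRcard : Nat.card ((Qf ⊓ alternatingGroup (Fin n)).subgroupOf (alternatingGroup (Fin n)))
      = 2 ^ (Nat.card (alternatingGroup (Fin n))).factorization 2 := by
    rw [Nat.factorization_def _ Nat.prime_two, hRcard0]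
    have h4 : Nat.card (Qf ⊓ alternatingGroup (Fin n) : Subgroup (Perm (Fin n))) * 2
        = 2 ^ padicValNat 2 (Nat.card (alternatingGroup (Fin n))) * 2 := by
      rw [hE, hcard, hval, pow_succ]
    exact Nat.eq_of_mul_eq_mul_right (by norm_num) h4
  -- the even part is a Sylow subgroup
  let RS : Sylow 2 (alternatingGroup (Fin n)) :=
    Sylow.ofCard ((Qf ⊓ alternatingGroup (Fin n)).subgroupOf (alternatingGroup (Fin n))) hRcard
  have hRS : (RS : Subgroup (alternatingGroup (Fin n)))
      = (Qf ⊓ alternatingGroup (Fin n)).subgroupOf (alternatingGroup (Fin n)) := rfl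
  obtain ⟨g, hg⟩ := MulAction.exists_smul_eq (alternatingGroup (Fin n)) RS P
  have hPR : (P : Subgroup (alternatingGroup (Fin n)))
      = ((Qf ⊓ alternatingGroup (Fin n)).subgroupOf (alternatingGroup (Fin n))).map
          (MulAut.conj g).toMonoidHom := by
    rw [← hg, Sylow.coe_subgroup_smul, hRS]
    rfl
  rw [hPR, decomp_conj_iff,
    decomp_subgroupOf_iff (alternatingGroup (Fin n)) (Qf ⊓ alternatingGroup (Fin n)) inf_le_right]

end Cfsg.Agent.Helper8.SD
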