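import Mathlib
import Cfsg.Agent.Lib.Helper8.SDDefs
/-!
# SD-THMK: the even part of a product of at least two "wreath-like" groups is indecomposable
(helper8 plan `plans/SD_plan.md`, Theorem K)
-/

set_option autoImplicit false
set_option linter.unusedSectionVars false
set_option linter.unusedVariables false

namespace Cfsg.Agent.Helper8.SD

namespace THMK

/-- elements of the join of two elementwise commuting subgroups are products -/
theorem exists_mul_of_mem_sup {G : Type*} [Group G] {S₁ S₂ : Subgroup G}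
    (hc : ∀ a ∈ S₁, ∀ b ∈ S₂, a * b = b * a) {w : G} (hw : w ∈ S₁ ⊔ S₂) :
    ∃ a ∈ S₁, ∃ b ∈ S₂, w = a * b := by
  let T : Subgroup G :=
    { carrier := {w | ∃ a ∈ S₁, ∃ b ∈ S₂, w = a * b}
      one_mem' := ⟨1, one_mem _, 1, one_mem _, by simp⟩
      mul_mem' := by
        rintro _ _ ⟨a, ha, b, hb, rfl⟩ ⟨a', ha', b', hb', rfl⟩
        refine ⟨a * a', mul_mem ha ha', b * b', mul_mem hb hb', ?_⟩
        calc a * b * (a' * b') = a * (b * a') * b' := by group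
          _ = a * (a' * b) * b' := by rw [hc a' ha' b hb]
          _ = a * a' * (b * b') := by group
      inv_mem' := by
        rintro _ ⟨a, ha, b, hb, rfl⟩
        refine ⟨a⁻¹, inv_mem ha, b⁻¹, inv_mem hb, ?_⟩
        rw [mul_inv_rev, hc a⁻¹ (inv_mem ha) b⁻¹ (inv_mem hb)] }
  have h1 : S₁ ≤ T := fun a ha => ⟨a, ha, 1, one_mem _, by simp⟩
  have h2 : S₂ ≤ T := fun b hb => ⟨1, one_mem _, b, hb, by simp⟩
  exact (sup_le h1 h2) hw

variable {ι : Type} [Fintype ι] [DecidableEq ι] {H : ι → Type*} [∀ i, Group (H i)]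

theorem sgnPi_mulSingle (ε : ∀ i, H i →* ℤˣ) (i : ι) (h : H i) :
    sgnPi ε (Pi.mulSingle i h) = ε i h := by
  rw [sgnPi_apply, Finset.prod_eq_single i]
  · simp
  · intro j _ hji; simp [Pi.mulSingle_eq_of_ne hji]
  · intro h; exact absurd (Finset.mem_univ i) h

theorem exists_ne (i₁ i₂ : ι) (h12 : i₁ ≠ i₂) (i : ι) : ∃ j, j ≠ i := by
  by_cases h : i = i₁
  · exact ⟨i₂, fun h' => h12 (h'.trans h).symm⟩
  · exact ⟨i₁, fun h' => h h'.symm⟩

/-- the square of `mulSingle i g * mulSingle j t` for `i ≠ j` -/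
theorem sq_mulSingle_mul {i j : ι} (hij : i ≠ j) (g : H i) (t : H j) :
    (Pi.mulSingle i g * Pi.mulSingle j t) * (Pi.mulSingle i g * Pi.mulSingle j t) =
      Pi.mulSingle i (g * g) * Pi.mulSingle j (t * t) := by
  have hcm : Commute (Pi.mulSingle i g : ∀ i, H i) (Pi.mulSingle j t) :=
    Pi.mulSingle_commute hij g t
  rw [Pi.mulSingle_mul, Pi.mulSingle_mul]
  calc (Pi.mulSingle i g * Pi.mulSingle j t) * (Pi.mulSingle i g * Pi.mulSingle j t)
      = Pi.mulSingle i g * (Pi.mulSingle j t * Pi.mulSingle i g) * Pi.mulSingle j t := by group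
    _ = Pi.mulSingle i g * (Pi.mulSingle i g * Pi.mulSingle j t) * Pi.mulSingle j t := by
        rw [hcm.eq]
    _ = _ := by group

/-- the projection of the even part onto every coordinate is onto -/
theorem exists_even (ε : ∀ i, H i →* ℤˣ) (hodd : ∀ i, ∃ t : H i, t * t = 1 ∧ ε i t = -1)
    (i₁ i₂ : ι) (h12 : i₁ ≠ i₂) (i : ι) (h : H i) :
    ∃ w ∈ (sgnPi ε).ker, w i = h := by
  obtain ⟨j, hj⟩ := exists_ne i₁ i₂ h12 i
  rcases Int.units_eq_one_or (ε i h) with he | he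
  · refine ⟨Pi.mulSingle i h, ?_, by simp⟩
    rw [MonoidHom.mem_ker, sgnPi_mulSingle, he]
  · obtain ⟨t, ht2, htε⟩ := hodd j
    refine ⟨Pi.mulSingle i h * Pi.mulSingle j t, ?_, ?_⟩
    · rw [MonoidHom.mem_ker, map_mul, sgnPi_mulSingle, sgnPi_mulSingle, he, htε]; rfl
    · simp [Pi.mulSingle_eq_of_ne hj.symm]

/-- Step 2 of Theorem K: a factor all of whose coordinates are central is trivial. -/
theorem bot_of_central (ε : ∀ i, H i →* ℤˣ) (z : ∀ i, H i) (hz2 : ∀ i, z i * z i = 1)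
    (hcen : ∀ i (c : H i), (∀ q, c * q = q * c) → c = 1 ∨ c = z i)
    (hsq : ∀ i, ∃ g : H i, g * g = z i)
    (hodd : ∀ i, ∃ t : H i, t * t = 1 ∧ ε i t = -1)
    (i₁ i₂ : ι) (h12 : i₁ ≠ i₂) (S₁ S₂ : Subgroup (∀ i, H i))
    (hc : ∀ a ∈ S₁, ∀ b ∈ S₂, a * b = b * a) (hinf : S₁ ⊓ S₂ = ⊥)
    (hsup : S₁ ⊔ S₂ = (sgnPi ε).ker)
    (hcentral : ∀ i, ∀ s ∈ S₂, ∀ q : H i, s i * q = q * s i) : S₂ = ⊥ := by
  -- (a) elements of `S₂` are involutions
  have ha : ∀ s ∈ S₂, s * s = 1 := by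
    intro s hs
    funext i
    rcases hcen i (s i) (hcentral i s hs) with h | h
    · simp [h]
    · simp [h, hz2]
  -- (b) squares of even elements lie in `S₁`
  have hb : ∀ w ∈ (sgnPi ε).ker, w * w ∈ S₁ := by
    intro w hw
    rw [← hsup] at hw
    obtain ⟨a, ha', b, hb', rfl⟩ := exists_mul_of_mem_sup hc hw
    have : a * b * (a * b) = a * a * (b * b) := by
      calc a * b * (a * b) = a * (b * a) * b := by group
        _ = a * (a * b) * b := by rw [hc a ha' b hb']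
        _ = _ := by group
    rw [this, ha b hb', mul_one]
    exact mul_mem ha' ha'
  -- (c) `mulSingle i (z i) ∈ S₁`
  have hcz : ∀ i, Pi.mulSingle i (z i) ∈ S₁ := by
    intro i
    obtain ⟨g, hg⟩ := hsq i
    obtain ⟨j, hj⟩ := exists_ne i₁ i₂ h12 i
    rcases Int.units_eq_one_or (ε i g) with he | he
    · have hw : (Pi.mulSingle i g : ∀ i, H i) ∈ (sgnPi ε).ker := by
        rw [MonoidHom.mem_ker, sgnPi_mulSingle, he]
      have := hb _ hw
      rwa [← Pi.mulSingle_mul, hg] at this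
    · obtain ⟨t, ht2, htε⟩ := hodd j
      have hw : (Pi.mulSingle i g * Pi.mulSingle j t : ∀ i, H i) ∈ (sgnPi ε).ker := by
        rw [MonoidHom.mem_ker, map_mul, sgnPi_mulSingle, sgnPi_mulSingle, he, htε]; rfl
      have := hb _ hw
      rwa [sq_mulSingle_mul hj.symm, hg, ht2, Pi.mulSingle_one, mul_one] at this
  -- (d)
  rw [Subgroup.eq_bot_iff_forall]
  intro s hs
  have hs1 : s ∈ S₁ := by
    apply Subgroup.pi_mem_of_mulSingle_mem
    intro i
    rcases hcen i (s i) (hcentral i s hs) with h | h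
    · rw [h, Pi.mulSingle_one]; exact one_mem _
    · rw [h]; exact hcz i
  have : s ∈ S₁ ⊓ S₂ := ⟨hs1, hs⟩
  rw [hinf] at this
  exact (Subgroup.mem_bot).1 this

end THMK

open THMK in
theorem thmK {ι : Type} [Fintype ι] [DecidableEq ι] {H : ι → Type*} [∀ i, Group (H i)]
    (ε : ∀ i, H i →* ℤˣ) (z : ∀ i, H i) (hz2 : ∀ i, z i * z i = 1)
    (hcen : ∀ i (c : H i), (∀ q, c * q = q * c) → c = 1 ∨ c = z i)
    (hzε : ∀ i, ε i (z i) = 1) (hsq : ∀ i, ∃ g : H i, g * g = z i)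
    (hodd : ∀ i, ∃ t : H i, t * t = 1 ∧ ε i t = -1)
    (hcp : ∀ i (X Y : Subgroup (H i)), (∀ x ∈ X, ∀ y ∈ Y, x * y = y * x) → X ⊔ Y = ⊤ →
      (∀ x ∈ X, ∀ q, x * q = q * x) ∨ (∀ y ∈ Y, ∀ q, y * q = q * y))
    (i₁ i₂ : ι) (h12 : i₁ ≠ i₂) : ¬ Decomp (sgnPi ε).ker := by
  classical
  rintro ⟨S₁, S₂, h1, h2, hle1, hle2, hc, hinf, hsup⟩
  -- step 1
  have hcp' : ∀ i, (∀ s ∈ S₁, ∀ q : H i, s i * q = q * s i) ∨
      (∀ s ∈ S₂, ∀ q : H i, s i * q = q * s i) := by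
    intro i
    have hcomm : ∀ x ∈ S₁.map (Pi.evalMonoidHom H i), ∀ y ∈ S₂.map (Pi.evalMonoidHom H i),
        x * y = y * x := by
      rintro _ ⟨a, ha, rfl⟩ _ ⟨b, hb, rfl⟩
      rw [← map_mul, ← map_mul, hc a ha b hb]
    have hsup' : S₁.map (Pi.evalMonoidHom H i) ⊔ S₂.map (Pi.evalMonoidHom H i) = ⊤ := by
      rw [← Subgroup.map_sup, hsup, eq_top_iff]
      intro h _
      obtain ⟨w, hw, hwi⟩ := exists_even ε hodd i₁ i₂ h12 i h
      exact ⟨w, hw, hwi⟩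
    rcases hcp i _ _ hcomm hsup' with h | h
    · left; intro s hs q; exact h _ ⟨s, hs, rfl⟩ q
    · right; intro s hs q; exact h _ ⟨s, hs, rfl⟩ q
  -- step 2
  have hne2 : ¬ ∀ i, ∀ s ∈ S₂, ∀ q : H i, s i * q = q * s i := fun hcentral =>
    h2 (bot_of_central ε z hz2 hcen hsq hodd i₁ i₂ h12 S₁ S₂ hc hinf hsup hcentral)
  have hne1 : ¬ ∀ i, ∀ s ∈ S₁, ∀ q : H i, s i * q = q * s i := fun hcentral =>
    h1 (bot_of_central ε z hz2 hcen hsq hodd i₁ i₂ h12 S₂ S₁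
      (fun a ha b hb => (hc b hb a ha).symm) (by rw [inf_comm]; exact hinf)
      (by rw [sup_comm]; exact hsup) hcentral)
  push Not at hne1 hne2
  obtain ⟨j2, hj2⟩ := hne2
  obtain ⟨j1, hj1⟩ := hne1
  have hj2' : ¬ ∀ s ∈ S₂, ∀ q : H j2, s j2 * q = q * s j2 := by
    push Not; exact hj2
  have hj1' : ¬ ∀ s ∈ S₁, ∀ q : H j1, s j1 * q = q * s j1 := by
    push Not; exact hj1
  have hc1 : ∀ s ∈ S₂, ∀ q : H j1, s j1 * q = q * s j1 := (hcp' j1).resolve_left hj1'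
  -- step 3
  let ε' : ∀ i, H i →* ℤˣ := fun i =>
    if ∀ s ∈ S₂, ∀ q : H i, s i * q = q * s i then ε i else 1
  have hε'1 : ε' j1 = ε j1 := if_pos hc1
  have hε'2 : ε' j2 = 1 := if_neg hj2'
  have hval : ∀ i (c : H i), (∀ q, c * q = q * c) → ε i c = 1 := by
    intro i c hcq
    rcases hcen i c hcq with h | h
    · rw [h, map_one]
    · rw [h, hzε]
  have hE2 : ∀ s ∈ S₂, sgnPi ε' s = 1 := by
    intro s hs
    rw [sgnPi_apply]
    apply Finset.prod_eq_one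
    intro i _
    by_cases hi : ∀ s ∈ S₂, ∀ q : H i, s i * q = q * s i
    · have : ε' i = ε i := if_pos hi
      rw [this]; exact hval i _ (hi s hs)
    · have : ε' i = 1 := if_neg hi
      rw [this]; rfl
  have hE1 : ∀ s ∈ S₁, sgnPi ε' s = 1 := by
    intro s hs
    have hs' : sgnPi ε s = 1 := MonoidHom.mem_ker.1 (hle1 hs)
    rw [← hs', sgnPi_apply, sgnPi_apply]
    apply Finset.prod_congr rfl
    intro i _
    by_cases hi : ∀ s ∈ S₂, ∀ q : H i, s i * q = q * s i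
    · have : ε' i = ε i := if_pos hi
      rw [this]
    · have : ε' i = 1 := if_neg hi
      rw [this, hval i _ ((hcp' i).resolve_right hi s hs)]; rfl
  have hE : ∀ w ∈ (sgnPi ε).ker, sgnPi ε' w = 1 := by
    intro w hw
    rw [← hsup] at hw
    obtain ⟨a, ha, b, hb, rfl⟩ := exists_mul_of_mem_sup hc hw
    rw [map_mul, hE1 a ha, hE2 b hb, one_mul]
  obtain ⟨t1, -, ht1⟩ := hodd j1
  obtain ⟨t2, -, ht2⟩ := hodd j2
  have hw : (Pi.mulSingle j1 t1 * Pi.mulSingle j2 t2 : ∀ i, H i) ∈ (sgnPi ε).ker := by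
    rw [MonoidHom.mem_ker, map_mul, sgnPi_mulSingle, sgnPi_mulSingle, ht1, ht2]; rfl
  have := hE _ hw
  rw [map_mul, sgnPi_mulSingle, sgnPi_mulSingle, hε'1, hε'2, ht1, MonoidHom.one_apply] at this
  revert this
  decide

end Cfsg.Agent.Helper8.SD
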