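import Mathlib
import Cfsg.Agent.Lib.Helper8.SDDefs
import Cfsg.Agent.Lib.Helper8.SDDec
/-!
# SD-THML: the even part of `C₂ × ∏ H i` is isomorphic to `∏ H i`
(helper8 plan `plans/SD_plan.md`, Theorem L)
-/

set_option autoImplicit false
set_option linter.unusedSectionVars false
set_option linter.unusedVariables false
set_option linter.style.haveILetI false

namespace Cfsg.Agent.Helper8.SD

section ThmLAux

variable {ι : Type} [Fintype ι] [DecidableEq ι] {H : ι → Type*} [∀ i, Group (H i)]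

/-- the character `sgnPi` on a single coordinate -/
theorem thmL_sgnPi_mulSingle (ε : ∀ i, H i →* ℤˣ) (i : ι) (y : H i) :
    sgnPi ε (Pi.mulSingle i y) = ε i y := by
  rw [sgnPi_apply, Fintype.prod_eq_single i]
  · rw [Pi.mulSingle_eq_same]
  · intro k hk
    rw [Pi.mulSingle_eq_of_ne hk, map_one]

/-- the compensating element of the two-element factor -/
noncomputable def thmL_comp (ε : ∀ i, H i →* ℤˣ) (j₀ : ι) (t₀ : H j₀) (u : ℤˣ) : H j₀ :=
  if u = 1 then 1 else t₀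

theorem thmL_comp_eps (ε : ∀ i, H i →* ℤˣ) (j₀ : ι) (t₀ : H j₀) (hε : ε j₀ t₀ = -1) (u : ℤˣ) :
    ε j₀ (thmL_comp ε j₀ t₀ u) = u := by
  unfold thmL_comp
  rcases Int.units_eq_one_or u with h | h
  · simp [h]
  · rw [if_neg (by rw [h]; decide), hε, h]

/-- the lift of an element of `H i₁` to the kernel -/
noncomputable def thmL_lift (ε : ∀ i, H i →* ℤˣ) (j₀ : ι) (t₀ : H j₀) (i₁ : ι) (y : H i₁) :
    ∀ i, H i :=
  Pi.mulSingle i₁ y * Pi.mulSingle j₀ (thmL_comp ε j₀ t₀ (ε i₁ y))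

theorem thmL_lift_mem (ε : ∀ i, H i →* ℤˣ) (j₀ : ι) (t₀ : H j₀) (hε : ε j₀ t₀ = -1)
    (i₁ : ι) (y : H i₁) : thmL_lift ε j₀ t₀ i₁ y ∈ (sgnPi ε).ker := by
  rw [MonoidHom.mem_ker]
  unfold thmL_lift
  rw [map_mul, thmL_sgnPi_mulSingle, thmL_sgnPi_mulSingle, thmL_comp_eps ε j₀ t₀ hε]
  rcases Int.units_eq_one_or (ε i₁ y) with h | h <;> rw [h] <;> decide

theorem thmL_lift_same (ε : ∀ i, H i →* ℤˣ) (j₀ : ι) (t₀ : H j₀) (i₁ : ι) (hi : i₁ ≠ j₀)
    (y : H i₁) : thmL_lift ε j₀ t₀ i₁ y i₁ = y := by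
  unfold thmL_lift
  rw [Pi.mul_apply, Pi.mulSingle_eq_same, Pi.mulSingle_eq_of_ne hi, mul_one]

theorem thmL_lift_other (ε : ∀ i, H i →* ℤˣ) (j₀ : ι) (t₀ : H j₀) (i₁ : ι)
    (y : H i₁) (k : ι) (hk1 : k ≠ i₁) (hk0 : k ≠ j₀) : thmL_lift ε j₀ t₀ i₁ y k = 1 := by
  unfold thmL_lift
  rw [Pi.mul_apply, Pi.mulSingle_eq_of_ne hk1, Pi.mulSingle_eq_of_ne hk0, mul_one]

/-- an element of the kernel which is trivial off `j₀` is trivial -/
theorem thmL_eq_one (ε : ∀ i, H i →* ℤˣ) (j₀ : ι) (t₀ : H j₀)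
    (h2 : ∀ x : H j₀, x = 1 ∨ x = t₀) (hε : ε j₀ t₀ = -1) (x : ∀ i, H i)
    (hx : x ∈ (sgnPi ε).ker) (h : ∀ i, i ≠ j₀ → x i = 1) : x = 1 := by
  rw [MonoidHom.mem_ker, sgnPi_apply, Fintype.prod_eq_single j₀] at hx
  · funext i
    by_cases hi : i = j₀
    · subst hi
      rcases h2 (x i) with h' | h'
      · rw [h']; rfl
      · rw [h', hε] at hx
        exact absurd hx (by decide)
    · rw [h i hi]; rfl
  · intro k hk
    rw [h k hk, map_one]

end ThmLAux

theorem thmL {ι : Type} [Fintype ι] [DecidableEq ι] {H : ι → Type*} [∀ i, Group (H i)]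
    [∀ i, Finite (H i)] (ε : ∀ i, H i →* ℤˣ) (j₀ : ι) (t₀ : H j₀)
    (h2 : ∀ x : H j₀, x = 1 ∨ x = t₀) (hε : ε j₀ t₀ = -1)
    (hcard : ∀ i, i ≠ j₀ → ∃ m, 1 ≤ m ∧ Nat.card (H i) = 2 ^ m)
    (hcen : ∀ i, i ≠ j₀ → ∃ z : H i, ∀ c : H i, (∀ q, c * q = q * c) → c = 1 ∨ c = z) :
    Decomp (sgnPi ε).ker ↔ ∃ i₁ i₂ : ι, i₁ ≠ j₀ ∧ i₂ ≠ j₀ ∧ i₁ ≠ i₂ := by
  classical
  -- the two-element factor is commutative
  have hcomm0 : ∀ a b : H j₀, a * b = b * a := by
    intro a b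
    rcases h2 a with ha | ha <;> rcases h2 b with hb | hb <;> simp [ha, hb]
  -- nontrivial elements
  have hne : ∀ i, i ≠ j₀ → ∃ y : H i, y ≠ 1 := by
    intro i hi
    obtain ⟨m, hm, hc⟩ := hcard i hi
    have h1 : 1 < Nat.card (H i) := by
      rw [hc]
      calc 1 < 2 ^ 1 := by norm_num
        _ ≤ 2 ^ m := Nat.pow_le_pow_right (by norm_num) hm
    haveI : Nontrivial (H i) := (Finite.one_lt_card_iff_nontrivial).mp h1
    exact exists_ne 1
  constructor
  · -- a decomposition forces two indices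
    intro hD
    by_contra hno
    push Not at hno
    by_cases hex : ∃ i₁, i₁ ≠ j₀
    · obtain ⟨i₁, hi₁⟩ := hex
      have hall : ∀ i, i = j₀ ∨ i = i₁ := by
        intro i
        by_cases h : i = j₀
        · exact Or.inl h
        · right
          by_contra h'
          exact h' ((hno i₁ i hi₁ h).symm)
      -- the kernel is the image of the lift
      have hker : ∀ x ∈ (sgnPi ε).ker, x = thmL_lift ε j₀ t₀ i₁ (x i₁) := by
        intro x hx
        have hq : x * (thmL_lift ε j₀ t₀ i₁ (x i₁))⁻¹ = 1 := by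
          apply thmL_eq_one ε j₀ t₀ h2 hε _
            (Subgroup.mul_mem _ hx (Subgroup.inv_mem _ (thmL_lift_mem ε j₀ t₀ hε i₁ (x i₁))))
          intro i hi
          rcases hall i with h | h
          · exact absurd h hi
          · subst h
            rw [Pi.mul_apply, Pi.inv_apply, thmL_lift_same ε j₀ t₀ i hi₁, mul_inv_cancel]
        exact mul_inv_eq_one.mp hq
      obtain ⟨m, hm, hc⟩ := hcard i₁ hi₁
      obtain ⟨z, hz⟩ := hcen i₁ hi₁
      -- cardinality of the kernel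
      have hcardK : Nat.card (sgnPi ε).ker = 2 ^ m := by
        rw [← hc]
        apply Nat.card_congr
        refine Equiv.ofBijective (fun x => (x : ∀ i, H i) i₁) ⟨?_, ?_⟩
        · intro x y hxy
          apply Subtype.ext
          rw [hker x x.2, hker y y.2]
          have hxy' : (x : ∀ i, H i) i₁ = (y : ∀ i, H i) i₁ := hxy
          rw [hxy']
        · intro y
          exact ⟨⟨thmL_lift ε j₀ t₀ i₁ y, thmL_lift_mem ε j₀ t₀ hε i₁ y⟩,
            thmL_lift_same ε j₀ t₀ i₁ hi₁ y⟩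
      refine not_decomp_of_center (sgnPi ε).ker m hcardK (thmL_lift ε j₀ t₀ i₁ z) ?_ hD
      intro c hc' hcq
      have hci : ∀ q : H i₁, c i₁ * q = q * c i₁ := by
        intro q
        have := hcq _ (thmL_lift_mem ε j₀ t₀ hε i₁ q)
        have h3 := congrFun this i₁
        rw [Pi.mul_apply, Pi.mul_apply, thmL_lift_same ε j₀ t₀ i₁ hi₁] at h3
        exact h3
      rcases hz (c i₁) hci with h | h
      · left
        rw [hker c hc', h]
        apply thmL_eq_one ε j₀ t₀ h2 hε _ (thmL_lift_mem ε j₀ t₀ hε i₁ 1)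
        intro i hi
        rcases hall i with h' | h'
        · exact absurd h' hi
        · subst h'
          rw [thmL_lift_same ε j₀ t₀ i hi₁]
      · right
        rw [hker c hc', h]
    · -- no other index: the kernel is trivial
      push Not at hex
      obtain ⟨S₁, S₂, hS₁, -, hle, -⟩ := hD
      apply hS₁
      rw [eq_bot_iff]
      intro x hx
      rw [Subgroup.mem_bot]
      exact thmL_eq_one ε j₀ t₀ h2 hε x (hle hx) (fun i hi => absurd (hex i) hi)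
  · -- two indices give a decomposition
    rintro ⟨i₁, i₂, hi₁, hi₂, h12⟩
    let S₁ : Subgroup (∀ i, H i) :=
      { carrier := {x | x ∈ (sgnPi ε).ker ∧ ∀ i, i ≠ i₁ → i ≠ j₀ → x i = 1}
        one_mem' := ⟨Subgroup.one_mem _, fun _ _ _ => rfl⟩
        mul_mem' := by
          rintro a b ⟨ha, ha'⟩ ⟨hb, hb'⟩
          refine ⟨Subgroup.mul_mem _ ha hb, fun i h1 h0 => ?_⟩
          rw [Pi.mul_apply, ha' i h1 h0, hb' i h1 h0, mul_one]
        inv_mem' := by
          rintro a ⟨ha, ha'⟩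
          refine ⟨Subgroup.inv_mem _ ha, fun i h1 h0 => ?_⟩
          rw [Pi.inv_apply, ha' i h1 h0, inv_one] }
    let S₂ : Subgroup (∀ i, H i) :=
      { carrier := {x | x ∈ (sgnPi ε).ker ∧ x i₁ = 1}
        one_mem' := ⟨Subgroup.one_mem _, rfl⟩
        mul_mem' := by
          rintro a b ⟨ha, ha'⟩ ⟨hb, hb'⟩
          refine ⟨Subgroup.mul_mem _ ha hb, ?_⟩
          rw [Pi.mul_apply, ha', hb', mul_one]
        inv_mem' := by
          rintro a ⟨ha, ha'⟩
          refine ⟨Subgroup.inv_mem _ ha, ?_⟩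
          rw [Pi.inv_apply, ha', inv_one] }
    have hm1 : ∀ x, x ∈ S₁ ↔ (x ∈ (sgnPi ε).ker ∧ ∀ i, i ≠ i₁ → i ≠ j₀ → x i = 1) :=
      fun x => Iff.rfl
    have hm2 : ∀ x, x ∈ S₂ ↔ (x ∈ (sgnPi ε).ker ∧ x i₁ = 1) := fun x => Iff.rfl
    refine ⟨S₁, S₂, ?_, ?_, ?_, ?_, ?_, ?_, ?_⟩
    · -- S₁ ≠ ⊥
      obtain ⟨y, hy⟩ := hne i₁ hi₁
      intro hbot
      have hmem : thmL_lift ε j₀ t₀ i₁ y ∈ S₁ :=
        (hm1 _).mpr ⟨thmL_lift_mem ε j₀ t₀ hε i₁ y,
          fun i h1 h0 => thmL_lift_other ε j₀ t₀ i₁ y i h1 h0⟩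
      rw [hbot, Subgroup.mem_bot] at hmem
      apply hy
      have := congrFun hmem i₁
      rw [thmL_lift_same ε j₀ t₀ i₁ hi₁] at this
      exact this
    · -- S₂ ≠ ⊥
      obtain ⟨y, hy⟩ := hne i₂ hi₂
      intro hbot
      have hmem : thmL_lift ε j₀ t₀ i₂ y ∈ S₂ :=
        (hm2 _).mpr ⟨thmL_lift_mem ε j₀ t₀ hε i₂ y,
          thmL_lift_other ε j₀ t₀ i₂ y i₁ h12 hi₁⟩
      rw [hbot, Subgroup.mem_bot] at hmem
      apply hy
      have := congrFun hmem i₂
      rw [thmL_lift_same ε j₀ t₀ i₂ hi₂] at this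
      exact this
    · intro x hx; exact ((hm1 x).mp hx).1
    · intro x hx; exact ((hm2 x).mp hx).1
    · -- commute
      intro a ha b hb
      obtain ⟨-, ha'⟩ := (hm1 a).mp ha
      obtain ⟨-, hb'⟩ := (hm2 b).mp hb
      funext i
      rw [Pi.mul_apply, Pi.mul_apply]
      by_cases h0 : i = j₀
      · subst h0; exact hcomm0 _ _
      · by_cases h1 : i = i₁
        · subst h1; rw [hb', mul_one, one_mul]
        · rw [ha' i h1 h0, mul_one, one_mul]
    · -- trivial intersection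
      rw [eq_bot_iff]
      intro x hx
      rw [Subgroup.mem_inf] at hx
      obtain ⟨hxK, hx1⟩ := (hm1 x).mp hx.1
      obtain ⟨-, hx2⟩ := (hm2 x).mp hx.2
      rw [Subgroup.mem_bot]
      apply thmL_eq_one ε j₀ t₀ h2 hε x hxK
      intro i hi
      by_cases h1 : i = i₁
      · subst h1; exact hx2
      · exact hx1 i h1 hi
    · -- generation
      apply le_antisymm
      · exact sup_le (fun x hx => ((hm1 x).mp hx).1) (fun x hx => ((hm2 x).mp hx).1)
      · intro x hx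
        have ha : thmL_lift ε j₀ t₀ i₁ (x i₁) ∈ S₁ :=
          (hm1 _).mpr ⟨thmL_lift_mem ε j₀ t₀ hε i₁ (x i₁),
            fun i h1 h0 => thmL_lift_other ε j₀ t₀ i₁ (x i₁) i h1 h0⟩
        have hb : (thmL_lift ε j₀ t₀ i₁ (x i₁))⁻¹ * x ∈ S₂ := by
          refine (hm2 _).mpr ⟨Subgroup.mul_mem _ (Subgroup.inv_mem _
            (thmL_lift_mem ε j₀ t₀ hε i₁ (x i₁))) hx, ?_⟩
          rw [Pi.mul_apply, Pi.inv_apply, thmL_lift_same ε j₀ t₀ i₁ hi₁, inv_mul_cancel]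
        have : x = thmL_lift ε j₀ t₀ i₁ (x i₁) * ((thmL_lift ε j₀ t₀ i₁ (x i₁))⁻¹ * x) := by
          rw [mul_inv_cancel_left]
        rw [this]
        exact Subgroup.mul_mem_sup ha hb

end Cfsg.Agent.Helper8.SD
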