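import Mathlib
import Cfsg.Agent.Lib.Helper8.SDDefs
/-!
# SD-V45: the Sylow `2`-subgroups of `Alt(4)` and `Alt(5)` are four-groups
(helper8 plan `plans/SD_plan.md`)
-/

set_option autoImplicit false
set_option linter.style.haveILetI false

namespace Cfsg.Agent.Helper8.SD

open Equiv

namespace V45

/-- no element of order `4` in `Alt(4)` -/
theorem sq_of_pow_four4 : ∀ g : Perm (Fin 4), Perm.sign g = 1 → g ^ 4 = 1 → g ^ 2 = 1 := by
  decide +kernel

/-- no element of order `4` in `Alt(5)` -/
theorem sq_of_pow_four5 : ∀ g : Perm (Fin 5), Perm.sign g = 1 → g ^ 4 = 1 → g ^ 2 = 1 := by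
  decide +kernel

theorem sq_of_pow_four (n : ℕ) (hn : n = 4 ∨ n = 5) (g : alternatingGroup (Fin n))
    (h4 : g ^ 4 = 1) : g ^ 2 = 1 := by
  rcases hn with rfl | rfl
  · have h1 : Perm.sign (g : Perm (Fin 4)) = 1 := Perm.mem_alternatingGroup.mp g.2
    have h2 : (g : Perm (Fin 4)) ^ 4 = 1 := by
      have := congrArg (Subtype.val) h4
      simpa using this
    apply Subtype.ext
    have := sq_of_pow_four4 _ h1 h2
    simpa using this
  · have h1 : Perm.sign (g : Perm (Fin 5)) = 1 := Perm.mem_alternatingGroup.mp g.2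
    have h2 : (g : Perm (Fin 5)) ^ 4 = 1 := by
      have := congrArg (Subtype.val) h4
      simpa using this
    apply Subtype.ext
    have := sq_of_pow_four5 _ h1 h2
    simpa using this

theorem card_alt (n : ℕ) (hn : n = 4 ∨ n = 5) :
    (Nat.card (alternatingGroup (Fin n))).factorization 2 = 2 := by
  rcases hn with rfl | rfl
  · have h : Nat.card (alternatingGroup (Fin 4)) = 2 ^ 2 * 3 := by
      rw [Nat.card_eq_fintype_card]
      have := two_mul_card_alternatingGroup (α := Fin 4)
      rw [Fintype.card_perm, Fintype.card_fin] at this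
      have h24 : Nat.factorial 4 = 24 := by decide
      omega
    rw [h, Nat.factorization_mul (by norm_num) (by norm_num), Nat.Prime.factorization_pow
      Nat.prime_two, Finsupp.add_apply, Finsupp.single_eq_same,
      Nat.factorization_eq_zero_of_not_dvd (by norm_num : ¬ 2 ∣ 3)]
  · have h : Nat.card (alternatingGroup (Fin 5)) = 2 ^ 2 * 15 := by
      rw [Nat.card_eq_fintype_card]
      have := two_mul_card_alternatingGroup (α := Fin 5)
      rw [Fintype.card_perm, Fintype.card_fin] at this
      have h120 : Nat.factorial 5 = 120 := by decide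
      omega
    rw [h, Nat.factorization_mul (by norm_num) (by norm_num), Nat.Prime.factorization_pow
      Nat.prime_two, Finsupp.add_apply, Finsupp.single_eq_same,
      Nat.factorization_eq_zero_of_not_dvd (by norm_num : ¬ 2 ∣ 15)]

/-- a group of order `4` and exponent `2` inside any group is decomposable -/
theorem decomp_of_four {G : Type*} [Group G] (P : Subgroup G) (hcard : Nat.card P = 4)
    (hexp : ∀ g ∈ P, g ^ 2 = 1) : Decomp P := by
  classical
  haveI : Finite P := Nat.finite_of_card_ne_zero (by rw [hcard]; norm_num)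
  -- `P` is commutative
  have hinv : ∀ g ∈ P, g⁻¹ = g := by
    intro g hg
    have := hexp g hg
    rw [pow_two] at this
    exact inv_eq_of_mul_eq_one_right this
  have hcomm : ∀ a ∈ P, ∀ b ∈ P, a * b = b * a := by
    intro a ha b hb
    have h1 := hinv (a * b) (P.mul_mem ha hb)
    rw [mul_inv_rev, hinv a ha, hinv b hb] at h1
    exact h1.symm
  -- a nontrivial element
  obtain ⟨a, haP, ha1⟩ : ∃ a ∈ P, a ≠ 1 := by
    by_contra hne
    push Not at hne
    have : P = ⊥ := (Subgroup.eq_bot_iff_forall P).mpr hne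
    rw [this, Subgroup.card_bot] at hcard
    norm_num at hcard
  have hoa : orderOf a = 2 := orderOf_eq_prime (hexp a haP) ha1
  have hS1 : Nat.card (Subgroup.zpowers a) = 2 := by rw [Nat.card_zpowers, hoa]
  have hS1P : Subgroup.zpowers a ≤ P := (Subgroup.zpowers_le).mpr haP
  -- an element outside `⟨a⟩`
  obtain ⟨b, hbP, hbS⟩ : ∃ b ∈ P, b ∉ Subgroup.zpowers a := by
    by_contra hne
    push Not at hne
    have hle' : P ≤ Subgroup.zpowers a := hne
    haveI : Finite (Subgroup.zpowers a) := Nat.finite_of_card_ne_zero (by rw [hS1]; norm_num)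
    have h2 := Subgroup.card_le_of_le hle'
    rw [hcard, hS1] at h2
    norm_num at h2
  have hb1 : b ≠ 1 := fun h => hbS (h ▸ (Subgroup.zpowers a).one_mem)
  have hob : orderOf b = 2 := orderOf_eq_prime (hexp b hbP) hb1
  have hS2P : Subgroup.zpowers b ≤ P := (Subgroup.zpowers_le).mpr hbP
  have hmemb : ∀ x ∈ Subgroup.zpowers b, x = 1 ∨ x = b := by
    intro x hx
    obtain ⟨k, rfl⟩ := Subgroup.mem_zpowers_iff.mp hx
    rcases Int.emod_two_eq_zero_or_one k with h | h
    · left
      have : (2 : ℤ) ∣ k := Int.dvd_of_emod_eq_zero h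
      obtain ⟨m, rfl⟩ := this
      rw [zpow_mul, zpow_ofNat, hexp b hbP, one_zpow]
    · right
      have hk : k = 2 * (k / 2) + 1 := by omega
      rw [hk, zpow_add, zpow_mul, zpow_ofNat, hexp b hbP, one_zpow, one_mul, zpow_one]
  refine ⟨Subgroup.zpowers a, Subgroup.zpowers b, ?_, ?_, hS1P, hS2P, ?_, ?_, ?_⟩
  · intro h
    rw [Subgroup.zpowers_eq_bot] at h
    exact ha1 h
  · intro h
    rw [Subgroup.zpowers_eq_bot] at h
    exact hb1 h
  · intro x hx y hy
    exact hcomm x (hS1P hx) y (hS2P hy)
  · rw [Subgroup.eq_bot_iff_forall]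
    intro x hx
    rcases hmemb x hx.2 with h | h
    · exact h
    · exact absurd (h ▸ hx.1) hbS
  · -- `⟨a⟩ ⊔ ⟨b⟩ = P`
    have hle : Subgroup.zpowers a ⊔ Subgroup.zpowers b ≤ P := sup_le hS1P hS2P
    apply Subgroup.eq_of_le_of_card_ge hle
    rw [hcard]
    -- the join properly contains `⟨a⟩`, so its order is a proper multiple of `2`
    have h1 : Subgroup.zpowers a ≤ Subgroup.zpowers a ⊔ Subgroup.zpowers b := le_sup_left
    have h2 := Subgroup.card_dvd_of_le h1
    rw [hS1] at h2
    have h3 : Nat.card (Subgroup.zpowers a ⊔ Subgroup.zpowers b : Subgroup G) ≠ 2 := by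
      intro h
      have h4 : Subgroup.zpowers a = Subgroup.zpowers a ⊔ Subgroup.zpowers b := by
        haveI : Finite (Subgroup.zpowers a ⊔ Subgroup.zpowers b : Subgroup G) :=
          Nat.finite_of_card_ne_zero (by rw [h]; norm_num)
        apply Subgroup.eq_of_le_of_card_ge h1
        rw [h, hS1]
      apply hbS
      rw [h4]
      exact (le_sup_right : Subgroup.zpowers b ≤ _) (Subgroup.mem_zpowers b)
    have h5 : 0 < Nat.card (Subgroup.zpowers a ⊔ Subgroup.zpowers b : Subgroup G) := by
      haveI : Finite (Subgroup.zpowers a ⊔ Subgroup.zpowers b : Subgroup G) :=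
        Finite.of_injective (Subgroup.inclusion hle) (Subgroup.inclusion_injective hle)
      exact Nat.card_pos
    obtain ⟨m, hm⟩ := h2
    omega

end V45

theorem decomp_small (n : ℕ) (hn : n = 4 ∨ n = 5) (P : Sylow 2 (alternatingGroup (Fin n))) :
    Decomp (P : Subgroup (alternatingGroup (Fin n))) := by
  have hcard : Nat.card (P : Subgroup (alternatingGroup (Fin n))) = 4 := by
    rw [Sylow.card_eq_multiplicity, V45.card_alt n hn]
    norm_num
  apply V45.decomp_of_four _ hcard
  intro g hg
  apply V45.sq_of_pow_four n hn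
  have h1 : orderOf (⟨g, hg⟩ : (P : Subgroup (alternatingGroup (Fin n)))) ∣ 4 := by
    rw [← hcard]
    exact orderOf_dvd_natCard _
  have h2 : (⟨g, hg⟩ : (P : Subgroup (alternatingGroup (Fin n)))) ^ 4 = 1 :=
    orderOf_dvd_iff_pow_eq_one.mp h1
  have := congrArg Subtype.val h2
  simpa using this

end Cfsg.Agent.Helper8.SD
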