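import Mathlib
import Cfsg.Agent.Lib.Helper8.SDDefs
import Cfsg.Agent.Lib.Helper8.SDDec
import Cfsg.Agent.Lib.Helper8.SDWstep
import Cfsg.Agent.Lib.Helper8.SDWex
import Cfsg.Agent.Lib.Helper8.SDFam
import Cfsg.Agent.Lib.Helper8.SDArith
import Cfsg.Agent.Lib.Helper8.SDCard
import Cfsg.Agent.Lib.Helper8.SDSyl
import Cfsg.Agent.Lib.Helper8.SDV45
import Cfsg.Agent.Lib.Helper8.SDThmK
import Cfsg.Agent.Lib.Helper8.SDThmL
/-!
# SD-MAIN: direct decomposability of the Sylow `2`-subgroups of `Alt(n)` (assembly, helper8)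
-/

set_option autoImplicit false

namespace Cfsg.Agent.Helper8.SD

open Equiv

/-- in a group of order two every element is `1` or the given non-identity element -/
theorem eq_one_or_eq_of_card_two {G : Type*} [Group G] (h : Nat.card G = 2) (t : G) (ht : t ≠ 1)
    (x : G) : x = 1 ∨ x = t := by
  obtain ⟨a, b, hab, huniv⟩ := Nat.card_eq_two_iff.mp h
  have h1 : (1 : G) ∈ ({a, b} : Set G) := by rw [huniv]; exact Set.mem_univ _
  have h2 : t ∈ ({a, b} : Set G) := by rw [huniv]; exact Set.mem_univ _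
  have h3 : x ∈ ({a, b} : Set G) := by rw [huniv]; exact Set.mem_univ _
  simp only [Set.mem_insert_iff, Set.mem_singleton_iff] at h1 h2 h3
  rcases h1 with h1 | h1 <;> rcases h2 with h2 | h2 <;> rcases h3 with h3 | h3
  · exact absurd (h2.trans h1.symm) ht
  · exact absurd (h2.trans h1.symm) ht
  · exact Or.inl (h3.trans h1.symm)
  · exact Or.inr (h3.trans h2.symm)
  · exact Or.inr (h3.trans h2.symm)
  · exact Or.inl (h3.trans h1.symm)
  · exact absurd (h2.trans h1.symm) ht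
  · exact absurd (h2.trans h1.symm) ht

section family

variable {n : ℕ} {ι : Type} [Fintype ι] [DecidableEq ι] (B : ι → Finset (Fin n))
  (Qs : ι → Subgroup (Perm (Fin n)))

/-- the sign characters of the members of the family -/
def epsF (i : ι) : ↥(Qs i) →* ℤˣ := Perm.sign.comp (Qs i).subtype

theorem epsF_apply (i : ι) (q : ↥(Qs i)) : epsF Qs i q = Perm.sign (q : Perm (Fin n)) := rfl

/-- the even part of the model is the image of the kernel of the product sign -/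
theorem decomp_even_iff (hP : ∀ i, WProps (Qs i) (B i))
    (hdisj : ∀ i j, i ≠ j → Disjoint (B i) (B j)) :
    Decomp ((⨆ i, Qs i) ⊓ alternatingGroup (Fin n)) ↔ Decomp (sgnPi (epsF Qs)).ker := by
  obtain ⟨Φ, hΦinj, hΦrange, hΦsign⟩ := exists_fam_hom B Qs (fun i => (hP i).supp) hdisj
  have hker : (⨆ i, Qs i) ⊓ alternatingGroup (Fin n) = (sgnPi (epsF Qs)).ker.map Φ := by
    ext σ
    rw [Subgroup.mem_inf, Subgroup.mem_map]
    constructor
    · rintro ⟨h1, h2'⟩
      rw [← hΦrange] at h1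
      obtain ⟨q, rfl⟩ := h1
      refine ⟨q, ?_, rfl⟩
      rw [MonoidHom.mem_ker, sgnPi_apply]
      have h3 := hΦsign q
      rw [Perm.mem_alternatingGroup] at h2'
      rw [h2'] at h3
      exact h3.symm
    · rintro ⟨q, hq, rfl⟩
      rw [MonoidHom.mem_ker, sgnPi_apply] at hq
      refine ⟨?_, ?_⟩
      · rw [← hΦrange]
        exact ⟨q, rfl⟩
      · rw [Perm.mem_alternatingGroup, hΦsign q]
        exact hq
  rw [hker, decomp_map_iff Φ hΦinj]

/-- case `n % 4 ∈ {2, 3}` -/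
theorem caseA (hP : ∀ i, WProps (Qs i) (B i)) (h2 : ∀ i, 2 ≤ (B i).card) (j₀ : ι)
    (hj₀ : (B j₀).card = 2) :
    Decomp (sgnPi (epsF Qs)).ker ↔ ∃ i₁ i₂ : ι, i₁ ≠ j₀ ∧ i₂ ≠ j₀ ∧ i₁ ≠ i₂ := by
  obtain ⟨t, ht, _, hts⟩ := (hP j₀).odd (h2 j₀)
  have hc2 : Nat.card ↥(Qs j₀) = 2 := by
    rw [(hP j₀).card, hj₀]
    norm_num
  have ht1 : (⟨t, ht⟩ : ↥(Qs j₀)) ≠ 1 := by
    intro h
    have h' : t = 1 := congrArg Subtype.val h
    rw [h', map_one] at hts
    exact absurd hts (by decide)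
  refine thmL (epsF Qs) j₀ ⟨t, ht⟩ (eq_one_or_eq_of_card_two hc2 _ ht1) hts ?_ ?_
  · intro i _
    refine ⟨(B i).card - 1, ?_, (hP i).card⟩
    have := h2 i
    omega
  · intro i _
    obtain ⟨z, hz, _, _, hzc, _⟩ := (hP i).cen (h2 i)
    refine ⟨⟨z, hz⟩, ?_⟩
    intro c hc
    have h1 := (hzc c.1 c.2).mp (fun q hq => congrArg Subtype.val (hc ⟨q, hq⟩))
    rcases h1 with h1 | h1
    · exact Or.inl (Subtype.ext h1)
    · exact Or.inr (Subtype.ext h1)

/-- case `n % 4 ∈ {0, 1}`, at least two blocks -/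
theorem caseB (hP : ∀ i, WProps (Qs i) (B i)) (h4 : ∀ i, 4 ≤ (B i).card) (i₁ i₂ : ι)
    (h12 : i₁ ≠ i₂) : ¬ Decomp (sgnPi (epsF Qs)).ker := by
  have h2 : ∀ i, 2 ≤ (B i).card := fun i => le_trans (by norm_num) (h4 i)
  choose z hzQ _ hzz hzc hz4 using fun i => (hP i).cen (h2 i)
  refine thmK (epsF Qs) (fun i => ⟨z i, hzQ i⟩) ?_ ?_ ?_ ?_ ?_ ?_ i₁ i₂ h12
  · intro i
    exact Subtype.ext (hzz i)
  · intro i c hc
    have h1 := (hzc i c.1 c.2).mp (fun q hq => congrArg Subtype.val (hc ⟨q, hq⟩))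
    rcases h1 with h1 | h1
    · exact Or.inl (Subtype.ext h1)
    · exact Or.inr (Subtype.ext h1)
  · intro i
    exact (hz4 i (h4 i)).1
  · intro i
    obtain ⟨g, hg, hgg⟩ := (hz4 i (h4 i)).2
    exact ⟨⟨g, hg⟩, Subtype.ext hgg⟩
  · intro i
    obtain ⟨t, ht, htt, hts⟩ := (hP i).odd (h2 i)
    exact ⟨⟨t, ht⟩, Subtype.ext htt, hts⟩
  · intro i X Y hc hXY
    have hsup : X.map (Qs i).subtype ⊔ Y.map (Qs i).subtype = Qs i := by
      rw [← Subgroup.map_sup, hXY, ← MonoidHom.range_eq_map, Subgroup.range_subtype]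
    have hXle : X.map (Qs i).subtype ≤ Qs i := by
      rintro _ ⟨x, _, rfl⟩
      exact x.2
    have hYle : Y.map (Qs i).subtype ≤ Qs i := by
      rintro _ ⟨y, _, rfl⟩
      exact y.2
    have hcomm : ∀ x ∈ X.map (Qs i).subtype, ∀ y ∈ Y.map (Qs i).subtype, x * y = y * x := by
      rintro _ ⟨x, hx, rfl⟩ _ ⟨y, hy, rfl⟩
      exact congrArg Subtype.val (hc x hx y hy)
    rcases (hP i).cp _ _ hXle hYle hcomm hsup with h | h
    · left
      intro x hx q
      exact Subtype.ext (h x.1 ⟨x, hx, rfl⟩ q.1 q.2)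
    · right
      intro y hy q
      exact Subtype.ext (h y.1 ⟨y, hy, rfl⟩ q.1 q.2)

/-- case `n % 4 ∈ {0, 1}`, a single block of size at least `8` -/
theorem caseC (Q : Subgroup (Perm (Fin n))) (B₀ : Finset (Fin n)) (hP : WProps Q B₀)
    (h8 : 8 ≤ B₀.card) : ¬ Decomp (Q ⊓ alternatingGroup (Fin n)) := by
  have h2 : 2 ≤ B₀.card := le_trans (by norm_num) h8
  obtain ⟨z, _, _, _, hzc, _⟩ := hP.cen h2
  have hdvd : Nat.card ↥(Q ⊓ alternatingGroup (Fin n)) ∣ 2 ^ (B₀.card - 1) := by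
    rw [← hP.card]
    exact Subgroup.card_dvd_of_le inf_le_left
  obtain ⟨m, _, hm⟩ := (Nat.dvd_prime_pow Nat.prime_two).mp hdvd
  refine not_decomp_of_center _ m hm z ?_
  intro c hc hcomm
  have hcQ : c ∈ Q := hc.1
  have hcs : Perm.sign c = 1 := Perm.mem_alternatingGroup.mp hc.2
  have hall : ∀ q ∈ Q, c * q = q * c :=
    hP.cenAlt h8 c hcQ hcs (fun q hq hqs => hcomm q ⟨hq, Perm.mem_alternatingGroup.mpr hqs⟩)
  exact (hzc c hcQ).mp hall

end family

/-- **Main theorem.** -/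
theorem main (n : ℕ) (hn : 4 ≤ n) (P : Sylow 2 (alternatingGroup (Fin n))) :
    Decomp (P : Subgroup (alternatingGroup (Fin n))) ↔
      (n = 4 ∨ n = 5 ∨ ((n % 4 = 2 ∨ n % 4 = 3) ∧ ∀ r : ℕ, 4 * (n / 4) ≠ 2 ^ r)) := by
  by_cases h45 : n = 4 ∨ n = 5
  · constructor
    · intro _
      rcases h45 with h | h
      · exact Or.inl h
      · exact Or.inr (Or.inl h)
    · intro _
      exact decomp_small n h45 P
  have hn4 : n ≠ 4 := fun h => h45 (Or.inl h)
  have hn5 : n ≠ 5 := fun h => h45 (Or.inr h)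
  obtain ⟨ι, _, _, B, Qs, hW, h2, hdisj, hinj, hsum⟩ := exists_model n
  have hP : ∀ i, WProps (Qs i) (B i) := fun i => isW_props (hW i)
  have hcard := card_model n B Qs hW h2 hdisj hinj hsum
  obtain ⟨i₀⟩ : Nonempty ι := ar_nonempty (fun i => (B i).card) n hsum (by omega)
  have hodd : ∃ t ∈ ⨆ i, Qs i, Perm.sign t = -1 := by
    obtain ⟨t, ht, _, hts⟩ := (hP i₀).odd (h2 i₀)
    exact ⟨t, (le_iSup Qs i₀) ht, hts⟩
  rw [sylow_transfer n (⨆ i, Qs i) hcard hodd P]
  have hpow : ∀ i, ∃ a : ℕ, (B i).card = 2 ^ a := fun i => (hP i).pow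
  by_cases hmod : n % 4 = 2 ∨ n % 4 = 3
  · obtain ⟨j₀, hj₀⟩ := ar_two (fun i => (B i).card) n hpow h2 hinj hsum hmod
    rw [decomp_even_iff B Qs hP hdisj, caseA B Qs hP h2 j₀ hj₀,
      ar_iff (fun i => (B i).card) n hpow h2 hinj hsum hmod hn j₀ hj₀]
    constructor
    · intro h
      exact Or.inr (Or.inr ⟨hmod, h⟩)
    · rintro (h | h | ⟨_, h⟩)
      · exact absurd h hn4
      · exact absurd h hn5
      · exact h
  · have hmod' : n % 4 = 0 ∨ n % 4 = 1 := by omega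
    have hn8 : 8 ≤ n := by omega
    have h4 := ar_four (fun i => (B i).card) n hpow h2 hinj hsum hmod'
    constructor
    · intro hD
      exfalso
      by_cases hex : ∃ i₁ i₂ : ι, i₁ ≠ i₂
      · obtain ⟨i₁, i₂, h12⟩ := hex
        rw [decomp_even_iff B Qs hP hdisj] at hD
        exact caseB B Qs hP h4 i₁ i₂ h12 hD
      · have huniq : ∀ i j : ι, i = j := by
          intro i j
          by_contra hij
          exact hex ⟨i, j, hij⟩
        have h8 := ar_eight (fun i => (B i).card) n hsum hn8 huniq i₀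
        have hsup : (⨆ i, Qs i) = Qs i₀ := by
          apply le_antisymm
          · apply iSup_le
            intro i
            rw [huniq i i₀]
          · exact le_iSup Qs i₀
        rw [hsup] at hD
        exact caseC (Qs i₀) (B i₀) (hP i₀) h8 hD
    · rintro (h | h | ⟨h, _⟩)
      · exact absurd h hn4
      · exact absurd h hn5
      · exact absurd h hmod

end Cfsg.Agent.Helper8.SD
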