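import Mathlib
import Cfsg.Agent.Lib.Helper8.SecRep10

/-!
# Rank of `g - 1` on a section (helper8 library)

If `c` centralises `C₁ / L₁` for a subgroup `L₁ ≤ C₁ ≤ L` with `|L : C₁| ≤ ℓ²`, then `secLin c - 1`
has rank at most two.
-/

set_option autoImplicit false
set_option linter.unusedSectionVars false

namespace Cfsg.Agent.Helper8.SecRep

open Module TensorProduct Cfsg.Agent.Helper8.FrobLin

section BCRank

variable {k : Type*} [Field k] (K : Type*) [Field K] [Algebra k K]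
  {V₀ : Type*} [AddCommGroup V₀] [Module k V₀] [FiniteDimensional k V₀]

/-- base change does not increase the rank -/
theorem finrank_range_baseChange_le (f₀ : V₀ →ₗ[k] V₀) :
    finrank K (LinearMap.range (f₀.baseChange K)) ≤ finrank k (LinearMap.range f₀) := by
  set R₀ := LinearMap.range f₀ with hR₀
  set p : V₀ →ₗ[k] R₀ := f₀.rangeRestrict with hp
  set ι : R₀ →ₗ[k] V₀ := R₀.subtype with hι
  have h1 : ι ∘ₗ p = f₀ := by
    apply LinearMap.ext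
    intro v
    rfl
  have h2 : f₀.baseChange K = (ι.baseChange K) ∘ₗ (p.baseChange K) := by
    rw [← LinearMap.baseChange_comp, h1]
  have h3 : LinearMap.range (f₀.baseChange K) ≤ LinearMap.range (ι.baseChange K) := by
    rw [h2]
    exact LinearMap.range_comp_le_range _ _
  calc finrank K (LinearMap.range (f₀.baseChange K))
      ≤ finrank K (LinearMap.range (ι.baseChange K)) := Submodule.finrank_mono h3
    _ ≤ finrank K (K ⊗[k] R₀) := LinearMap.finrank_range_le _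
    _ = finrank k R₀ := Module.finrank_baseChange

end BCRank

section Rank

variable {X : Type*} [Group X] [Finite X] {L L₁ : Subgroup X} {ℓ : ℕ} [Fact ℓ.Prime]
  (h : IsSec L L₁ ℓ) (Γ : Subgroup X) (hΓ : Γ ≤ nn L L₁)

theorem mk_mem_ker_sub_one (c : ↥Γ) (C₁ : Subgroup X) (hC₁L : C₁ ≤ L)
    (htriv : ∀ g ∈ C₁, (c : X) * g * (c : X)⁻¹ * g⁻¹ ∈ L₁) (x : ↥C₁) :
    secMk h ⟨(x : X), hC₁L x.2⟩ ∈ LinearMap.ker (secLin₀ h Γ hΓ c - 1) := by
  rw [LinearMap.mem_ker, LinearMap.sub_apply, secLin₀_mk, sub_eq_zero]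
  have h1 : (1 : SecW h →ₗ[ZMod ℓ] SecW h) (secMk h ⟨(x : X), hC₁L x.2⟩) =
      secMk h ⟨(x : X), hC₁L x.2⟩ := rfl
  rw [h1, secMk_eq_iff]
  have h2 := htriv (x : X)⁻¹ (C₁.inv_mem x.2)
  have h3 : ((c : X) * (x : X) * (c : X)⁻¹)⁻¹ * (x : X) =
      (c : X) * (x : X)⁻¹ * (c : X)⁻¹ * (x : X)⁻¹⁻¹ := by group
  show ((c : X) * (x : X) * (c : X)⁻¹)⁻¹ * (x : X) ∈ L₁
  rw [h3]
  exact h2

theorem card_le_ker_mul (c : ↥Γ) (C₁ : Subgroup X) (hC₁L : C₁ ≤ L)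
    (htriv : ∀ g ∈ C₁, (c : X) * g * (c : X)⁻¹ * g⁻¹ ∈ L₁) :
    Nat.card ↥C₁ ≤ Nat.card ↥(LinearMap.ker (secLin₀ h Γ hΓ c - 1)) * Nat.card ↥L₁ := by
  classical
  set Kr := LinearMap.ker (secLin₀ h Γ hΓ c - 1) with hKr
  let φ : ↥C₁ → ↥Kr := fun x =>
    ⟨secMk h ⟨(x : X), hC₁L x.2⟩, mk_mem_ker_sub_one h Γ hΓ c C₁ hC₁L htriv x⟩
  let rep : ↥Kr → ↥C₁ := fun w => if hw : ∃ x, φ x = w then hw.choose else 1
  have hrep : ∀ x : ↥C₁, φ (rep (φ x)) = φ x := by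
    intro x
    have hw : ∃ y, φ y = φ x := ⟨x, rfl⟩
    show φ (if hw : ∃ y, φ y = φ x then hw.choose else 1) = φ x
    rw [dif_pos hw]
    exact hw.choose_spec
  have hmem : ∀ x : ↥C₁, ((rep (φ x) : ↥C₁) : X)⁻¹ * (x : X) ∈ L₁ := by
    intro x
    have h1 := congrArg Subtype.val (hrep x)
    have h2 : secMk h ⟨((rep (φ x) : ↥C₁) : X), hC₁L (rep (φ x)).2⟩ =
        secMk h ⟨(x : X), hC₁L x.2⟩ := h1
    rw [secMk_eq_iff] at h2
    exact h2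
  let ψ : ↥C₁ → ↥Kr × ↥L₁ := fun x => (φ x, ⟨((rep (φ x) : ↥C₁) : X)⁻¹ * (x : X), hmem x⟩)
  have hinj : Function.Injective ψ := by
    intro x y hxy
    have h1 : φ x = φ y := congrArg Prod.fst hxy
    have h2 : ((rep (φ x) : ↥C₁) : X)⁻¹ * (x : X) = ((rep (φ y) : ↥C₁) : X)⁻¹ * (y : X) :=
      congrArg (fun z : ↥Kr × ↥L₁ => ((z.2 : ↥L₁) : X)) hxy
    rw [h1] at h2
    apply Subtype.ext
    exact mul_left_cancel h2
  have := Nat.card_le_card_of_injective ψ hinj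
  rwa [Nat.card_prod] at this

/-- **rank bound**: if `c` centralises `C₁ / L₁` and `|L : C₁| ≤ ℓ²` then `secLin c - 1` has rank at
most two. -/
theorem finrank_range_secLin_sub_one_le (c : ↥Γ) (C₁ : Subgroup X) (hC₁L : C₁ ≤ L)
    (hcard : Nat.card ↥L ≤ ℓ ^ 2 * Nat.card ↥C₁)
    (htriv : ∀ g ∈ C₁, (c : X) * g * (c : X)⁻¹ * g⁻¹ ∈ L₁) :
    finrank (LK ℓ) (LinearMap.range (secLin h Γ hΓ c - 1)) ≤ 2 := by
  set f₀ : SecW h →ₗ[ZMod ℓ] SecW h := secLin₀ h Γ hΓ c - 1 with hf₀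
  have hbc : secLin h Γ hΓ c - 1 = f₀.baseChange (LK ℓ) := by
    unfold secLin
    rw [bc_apply, hf₀, LinearMap.baseChange_sub]
    congr 1
    exact (LinearMap.baseChange_id (R := ZMod ℓ) (A := LK ℓ) (M := SecW h)).symm
  rw [hbc]
  refine (finrank_range_baseChange_le (LK ℓ) f₀).trans ?_
  have hrn := LinearMap.finrank_range_add_finrank_ker f₀
  have h1 := card_le_ker_mul h Γ hΓ c C₁ hC₁L htriv
  have h2 := card_secW h
  have h3 : Nat.card (SecW h) = ℓ ^ finrank (ZMod ℓ) (SecW h) := card_zmod_module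
  have h4 : Nat.card ↥(LinearMap.ker f₀) = ℓ ^ finrank (ZMod ℓ) ↥(LinearMap.ker f₀) :=
    card_submodule_zmod _
  have hL₁pos : 0 < Nat.card ↥L₁ := Nat.card_pos
  have h5 : Nat.card (SecW h) * Nat.card ↥L₁ ≤
      (ℓ ^ 2 * Nat.card ↥(LinearMap.ker f₀)) * Nat.card ↥L₁ := by
    rw [h2]
    calc Nat.card ↥L ≤ ℓ ^ 2 * Nat.card ↥C₁ := hcard
      _ ≤ ℓ ^ 2 * (Nat.card ↥(LinearMap.ker f₀) * Nat.card ↥L₁) := Nat.mul_le_mul_left _ h1
      _ = _ := by ring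
  have h6 : Nat.card (SecW h) ≤ ℓ ^ 2 * Nat.card ↥(LinearMap.ker f₀) :=
    Nat.le_of_mul_le_mul_right h5 hL₁pos
  rw [h3, h4, ← pow_add] at h6
  have hℓ : 1 < ℓ := (Fact.out : ℓ.Prime).one_lt
  have h7 := (Nat.pow_le_pow_iff_right hℓ).mp h6
  omega

end Rank

end Cfsg.Agent.Helper8.SecRep
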