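import Mathlib

/-!
# `m² = c k²` with `c` exactly divisible by a prime (helper8)
-/

set_option autoImplicit false

namespace Cfsg.Agent.Helper8.SqArith

theorem eq_zero_of_sq_eq_mul_sq {q c' : ℕ} (hq : q.Prime) (hc : ¬ q ∣ c') :
    ∀ (m k : ℕ), m * m = (q * c') * (k * k) → m = 0 := by
  intro m
  induction m using Nat.strong_induction_on with
  | _ m ih =>
    intro k h
    by_contra hm
    have hmpos : 0 < m := Nat.pos_of_ne_zero hm
    have hqm : q ∣ m := by
      have : q ∣ m * m := ⟨c' * (k * k), by rw [h]; ring⟩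
      exact ((Nat.Prime.dvd_mul hq).mp this).elim id id
    obtain ⟨m₁, rfl⟩ := hqm
    have hqpos : 0 < q := hq.pos
    have h1 : q * (m₁ * m₁) = c' * (k * k) := by
      have : q * (q * (m₁ * m₁)) = q * (c' * (k * k)) := by
        calc q * (q * (m₁ * m₁)) = q * m₁ * (q * m₁) := by ring
          _ = q * c' * (k * k) := h
          _ = q * (c' * (k * k)) := by ring
      exact Nat.eq_of_mul_eq_mul_left hqpos this
    have hqk : q ∣ k := by
      have : q ∣ c' * (k * k) := ⟨m₁ * m₁, h1.symm⟩
      rcases (Nat.Prime.dvd_mul hq).mp this with h2 | h2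
      · exact absurd h2 hc
      · exact ((Nat.Prime.dvd_mul hq).mp h2).elim id id
    obtain ⟨k₁, rfl⟩ := hqk
    have h2 : m₁ * m₁ = (q * c') * (k₁ * k₁) := by
      have : q * (m₁ * m₁) = q * ((q * c') * (k₁ * k₁)) := by
        rw [h1]; ring
      exact Nat.eq_of_mul_eq_mul_left hqpos this
    have hm₁ : 0 < m₁ := by
      rcases Nat.eq_zero_or_pos m₁ with h0 | h0
      · rw [h0] at hm; simp at hm
      · exact h0
    have hlt : m₁ < q * m₁ := by
      have : 2 ≤ q := hq.two_le
      nlinarith
    have := ih m₁ hlt k₁ h2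
    omega

end Cfsg.Agent.Helper8.SqArith
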