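import Mathlib
import Cfsg.Agent.Lib.Helper27.SyDefs

/-!
# S1774 piece SY-CONJ: conjugating a side; transport
-/

set_option autoImplicit false

namespace Cfsg.Agent.Helper27.Sy

variable {G : Type*} [Group G]

theorem syconj_mem_map {Q : Subgroup G} (g y : G) :
    y ∈ Q.map (MulAut.conj g).toMonoidHom ↔ g⁻¹ * y * g ∈ Q := by
  constructor
  · rintro ⟨x, hx, rfl⟩
    have : g⁻¹ * ((MulAut.conj g).toMonoidHom x) * g = x := by
      simp [MulAut.conj_apply, mul_assoc]
    rw [this]; exact hx
  · intro h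
    refine ⟨g⁻¹ * y * g, h, ?_⟩
    simp [MulAut.conj_apply, mul_assoc]

/-- moving an equation `u = v` through conjugation. -/
theorem syconj_eq_iff (g u v : G) : g⁻¹ * u * g = g⁻¹ * v * g ↔ u = v := by
  constructor
  · intro h
    have := congrArg (fun t => g * t * g⁻¹) h
    simpa [mul_assoc] using this
  · rintro rfl; rfl

section CONJ
variable {z : G} {Q : Subgroup G}

theorem Side.conj (h : Side z Q) (g : G) :
    Side (g * z * g⁻¹) (Q.map (MulAut.conj g).toMonoidHom) := by
  have key : ∀ u : G, g⁻¹ * (g * u * g⁻¹) * g = u := by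
    intro u; simp [mul_assoc]
  refine
    { zz := ?_, z1 := ?_, zQ := ?_, cen := ?_, sq := ?_, comm := ?_, inv1 := ?_, nrm := ?_,
      self := ?_ }
  · calc g * z * g⁻¹ * (g * z * g⁻¹) = g * (z * z) * g⁻¹ := by simp [mul_assoc]
      _ = 1 := by rw [h.zz]; simp
  · intro h1
    apply h.z1
    have := congrArg (fun t => g⁻¹ * t * g) h1
    simpa [mul_assoc] using this
  · rw [syconj_mem_map, key]; exact h.zQ
  · intro x hx
    rw [syconj_mem_map] at hx
    have := h.cen _ hx
    -- (g⁻¹ x g) z = z (g⁻¹ x g)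
    have h2 := congrArg (fun t => g * t * g⁻¹) this
    simpa [mul_assoc] using h2
  · intro x hx
    rw [syconj_mem_map] at hx
    rcases h.sq _ hx with h1 | h1
    · left
      have h2 := congrArg (fun t => g * t * g⁻¹) h1
      simpa [mul_assoc] using h2
    · right
      have h2 := congrArg (fun t => g * t * g⁻¹) h1
      simpa [mul_assoc] using h2
  · intro x hx y hy
    rw [syconj_mem_map] at hx hy
    rcases h.comm _ hx _ hy with h1 | h1
    · left
      have h2 := congrArg (fun t => g * t * g⁻¹) h1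
      simpa [mul_assoc] using h2
    · right
      have h2 := congrArg (fun t => g * t * g⁻¹) h1
      simpa [mul_assoc] using h2
  · intro c hc hcen hcc
    rw [syconj_mem_map] at hc
    have hcen' : ∀ x ∈ Q, (g⁻¹ * c * g) * x = x * (g⁻¹ * c * g) := by
      intro x hx
      have hx' : g * x * g⁻¹ ∈ Q.map (MulAut.conj g).toMonoidHom := by
        rw [syconj_mem_map, key]; exact hx
      have h1 := hcen _ hx'
      have h2 := congrArg (fun t => g⁻¹ * t * g) h1
      simpa [mul_assoc] using h2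
    have hcc' : (g⁻¹ * c * g) * (g⁻¹ * c * g) = 1 := by
      have h2 := congrArg (fun t => g⁻¹ * t * g) hcc
      simpa [mul_assoc] using h2
    rcases h.inv1 _ hc hcen' hcc' with h1 | h1
    · left
      have h2 := congrArg (fun t => g * t * g⁻¹) h1
      simpa [mul_assoc] using h2
    · right
      have h2 := congrArg (fun t => g * t * g⁻¹) h1
      simpa [mul_assoc] using h2
  · intro c hc x hx
    rw [syconj_mem_map] at hx ⊢
    have hc' : (g⁻¹ * c * g) * z = z * (g⁻¹ * c * g) := by
      have h2 := congrArg (fun t => g⁻¹ * t * g) hc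
      simpa [mul_assoc] using h2
    have h1 := h.nrm _ hc' _ hx
    have e : g⁻¹ * (c * x * c⁻¹) * g = g⁻¹ * c * g * (g⁻¹ * x * g) * (g⁻¹ * c * g)⁻¹ := by
      simp [mul_assoc]
    rw [e]; exact h1
  · intro c hc hcen
    rw [syconj_mem_map]
    have hc' : (g⁻¹ * c * g) * z = z * (g⁻¹ * c * g) := by
      have h2 := congrArg (fun t => g⁻¹ * t * g) hc
      simpa [mul_assoc] using h2
    apply h.self _ hc'
    intro x hx
    have hx' : g * x * g⁻¹ ∈ Q.map (MulAut.conj g).toMonoidHom := by
      rw [syconj_mem_map, key]; exact hx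
    have h1 := hcen _ hx'
    have h2 := congrArg (fun t => g⁻¹ * t * g) h1
    simpa [mul_assoc] using h2

theorem Side.transport (h : Side z Q) (g n : G) (hn : n * z * n⁻¹ = g * z * g⁻¹) :
    ∀ x ∈ Q, n * x * n⁻¹ ∈ Q.map (MulAut.conj g).toMonoidHom := by
  intro x hx
  rw [syconj_mem_map]
  have hc : (g⁻¹ * n) * z = z * (g⁻¹ * n) := by
    have h1 : n * z = g * z * g⁻¹ * n := by
      rw [← hn]; simp [mul_assoc]
    calc g⁻¹ * n * z = g⁻¹ * (n * z) := by rw [mul_assoc]
      _ = g⁻¹ * (g * z * g⁻¹ * n) := by rw [h1]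
      _ = z * (g⁻¹ * n) := by simp [mul_assoc]
  have h1 := h.nrm _ hc _ hx
  have e : g⁻¹ * (n * x * n⁻¹) * g = g⁻¹ * n * x * (g⁻¹ * n)⁻¹ := by
    simp [mul_assoc]
  rw [e]; exact h1

theorem Side.cfg (h : Side z Q) (g : G) (hne : g * z * g⁻¹ ≠ z) (hin : g * z * g⁻¹ ∈ Q) :
    Cfg z (g * z * g⁻¹) Q (Q.map (MulAut.conj g).toMonoidHom) :=
  { S := h
    Sa := h.conj g
    aQ := hin
    ne := hne
    tr := fun n hn => h.transport g n hn }
end CONJ

end Cfsg.Agent.Helper27.Sy
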