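import Mathlib

/-!
# Signed units and norm-three integer vectors (helper8)

Combinatorial framework for the decomposition of the induced characters attached to a cyclic
TI-subgroup: integer vectors on a finite index type, the standard inner product, signed
coordinate vectors ("units"), and the expansion of a vector of norm `3` along a list of
independent units.
-/

set_option autoImplicit false

namespace Cfsg.Agent.Helper8.TIComb

set_option linter.unusedSectionVars false

variable {Ξ : Type*} [Fintype Ξ] [DecidableEq Ξ]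

/-- the standard inner product of integer vectors -/
def ip (f g : Ξ → ℤ) : ℤ := ∑ ξ, f ξ * g ξ

theorem ip_comm (f g : Ξ → ℤ) : ip f g = ip g f := by
  unfold ip
  exact Finset.sum_congr rfl fun ξ _ => mul_comm _ _

/-- a signed coordinate -/
structure SU (Ξ : Type*) where
  pt : Ξ
  sg : ℤ
  hs : sg = 1 ∨ sg = -1

/-- the coefficient of `f` along the unit `e` -/
def co (f : Ξ → ℤ) (e : SU Ξ) : ℤ := e.sg * f e.pt

/-- vectors of norm three -/
def N3 (f : Ξ → ℤ) : Prop := ip f f = 3

/-- independence of a list of units: distinct points -/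
def Indep (L : List (SU Ξ)) : Prop := (L.map SU.pt).Nodup

theorem SU.sg_mul_self (e : SU Ξ) : e.sg * e.sg = 1 := by
  rcases e.hs with h | h <;> rw [h] <;> norm_num

theorem SU.natAbs_sg (e : SU Ξ) : e.sg.natAbs = 1 := by
  rcases e.hs with h | h <;> rw [h] <;> rfl

theorem natAbs_co (f : Ξ → ℤ) (e : SU Ξ) : (co f e).natAbs = (f e.pt).natAbs := by
  unfold co
  rw [Int.natAbs_mul, SU.natAbs_sg, one_mul]

theorem N3.entry {f : Ξ → ℤ} (hf : N3 f) (ξ : Ξ) : f ξ = -1 ∨ f ξ = 0 ∨ f ξ = 1 := by
  have h1 : f ξ * f ξ ≤ ip f f := by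
    unfold ip
    exact Finset.single_le_sum (f := fun ξ => f ξ * f ξ) (fun i _ => mul_self_nonneg _)
      (Finset.mem_univ ξ)
  rw [hf] at h1
  have h2 : -1 ≤ f ξ := by nlinarith
  have h3 : f ξ ≤ 1 := by nlinarith
  omega

theorem N3.co_entry {f : Ξ → ℤ} (hf : N3 f) (e : SU Ξ) :
    co f e = -1 ∨ co f e = 0 ∨ co f e = 1 := by
  unfold co
  rcases e.hs with h | h <;> rcases hf.entry e.pt with h' | h' | h' <;> rw [h, h'] <;> norm_num

theorem N3.natAbs_eq {f : Ξ → ℤ} (hf : N3 f) (ξ : Ξ) : ((f ξ).natAbs : ℤ) = f ξ * f ξ := by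
  rcases hf.entry ξ with h | h | h <;> rw [h] <;> norm_num

theorem N3.sum_natAbs {f : Ξ → ℤ} (hf : N3 f) : ∑ ξ, (f ξ).natAbs = 3 := by
  have : ((∑ ξ, (f ξ).natAbs : ℕ) : ℤ) = 3 := by
    rw [Nat.cast_sum, ← hf]
    unfold ip
    exact Finset.sum_congr rfl fun ξ _ => hf.natAbs_eq ξ
  exact_mod_cast this

/-- the support of a norm three vector -/
def supp (f : Ξ → ℤ) : Finset Ξ := Finset.univ.filter fun ξ => f ξ ≠ 0

theorem N3.card_supp {f : Ξ → ℤ} (hf : N3 f) : (supp f).card = 3 := by
  have h := hf.sum_natAbs
  have h2 : ∑ ξ, (f ξ).natAbs = ∑ ξ ∈ supp f, 1 := by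
    unfold supp
    rw [Finset.sum_filter]
    apply Finset.sum_congr rfl
    intro ξ _
    rcases hf.entry ξ with h | h | h <;> rw [h] <;> simp
  rw [h2] at h
  simpa using h

/-- Bessel's inequality for a norm three vector along independent units -/
theorem bessel {L : List (SU Ξ)} (hL : Indep L) {f : Ξ → ℤ} (hf : N3 f) :
    (L.map fun e => (co f e).natAbs).sum ≤ 3 := by
  have h1 : (L.map fun e => (co f e).natAbs) = (L.map SU.pt).map fun ξ => (f ξ).natAbs := by
    rw [List.map_map]
    apply List.map_congr_left
    intro e _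
    exact natAbs_co f e
  rw [h1, ← hf.sum_natAbs, ← List.sum_toFinset _ hL]
  exact Finset.sum_le_sum_of_subset (Finset.subset_univ _)

/-- the expansion of a norm three vector along a list of independent units: the remaining part
of the support gives new units, independent of the given ones -/
theorem expand {L : List (SU Ξ)} (hL : Indep L) {f : Ξ → ℤ} (hf : N3 f) :
    ∃ L' : List (SU Ξ), Indep (L ++ L') ∧
      L'.length + (L.map fun e => (co f e).natAbs).sum = 3 ∧
      (∀ e ∈ L', co f e = 1) ∧
      ∀ h : Ξ → ℤ, ip h f = (L.map fun e => co f e * co h e).sum + (L'.map fun e => co h e).sum := by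
  classical
  set K : Finset Ξ := (L.map SU.pt).toFinset with hK
  set S : Finset Ξ := supp f with hS
  have hsg : ∀ ξ ∈ S \ K, f ξ = 1 ∨ f ξ = -1 := by
    intro ξ hξ
    have : f ξ ≠ 0 := by
      have := (Finset.mem_sdiff.mp hξ).1
      rw [hS] at this
      unfold supp at this
      exact (Finset.mem_filter.mp this).2
    rcases hf.entry ξ with h | h | h
    · exact Or.inr h
    · exact absurd h this
    · exact Or.inl h
  set New : List {ξ // ξ ∈ S \ K} := (S \ K).attach.toList with hNew
  set L' : List (SU Ξ) := New.map fun ξ => ⟨ξ.1, f ξ.1, hsg ξ.1 ξ.2⟩ with hL'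
  have hL'pt : L'.map SU.pt = New.map Subtype.val := by
    rw [hL', List.map_map]
    rfl
  have hNewnodup : (New.map Subtype.val).Nodup := by
    rw [hNew]
    exact (List.Nodup.map Subtype.val_injective (Finset.nodup_toList _))
  have hNewmem : ∀ ξ, ξ ∈ New.map Subtype.val ↔ ξ ∈ S \ K := by
    intro ξ
    rw [hNew, List.mem_map]
    constructor
    · rintro ⟨a, _, rfl⟩
      exact a.2
    · intro h
      exact ⟨⟨ξ, h⟩, by simp, rfl⟩
  have hNewfin : (New.map Subtype.val).toFinset = S \ K := by
    ext ξ
    rw [List.mem_toFinset, hNewmem]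
  refine ⟨L', ?_, ?_, ?_, ?_⟩
  · unfold Indep
    rw [List.map_append, List.nodup_append]
    refine ⟨hL, ?_, ?_⟩
    · rw [hL'pt]; exact hNewnodup
    · intro a ha b hb hab
      rw [hL'pt, hNewmem] at hb
      have : b ∈ K := by
        rw [hK, List.mem_toFinset, ← hab]; exact ha
      exact (Finset.mem_sdiff.mp hb).2 this
  · have h1 : L'.length = (S \ K).card := by
      rw [hL', List.length_map, hNew, Finset.length_toList, Finset.card_attach]
    have h2 : (L.map fun e => (co f e).natAbs).sum = (S ∩ K).card := by
      have h1 : (L.map fun e => (co f e).natAbs) = (L.map SU.pt).map fun ξ => (f ξ).natAbs := by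
        rw [List.map_map]
        apply List.map_congr_left
        intro e _
        exact natAbs_co f e
      rw [h1, ← List.sum_toFinset _ hL, ← hK, Finset.card_eq_sum_ones, Finset.inter_comm,
        ← Finset.filter_mem_eq_inter, Finset.sum_filter]
      apply Finset.sum_congr rfl
      intro ξ _
      by_cases hξ : ξ ∈ S
      · rw [if_pos hξ]
        rw [hS] at hξ
        unfold supp at hξ
        have := (Finset.mem_filter.mp hξ).2
        rcases hf.entry ξ with h | h | h
        · rw [h]; rfl
        · exact absurd h this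
        · rw [h]; rfl
      · rw [if_neg hξ]
        rw [hS] at hξ
        unfold supp at hξ
        have : f ξ = 0 := by
          by_contra h
          exact hξ (Finset.mem_filter.mpr ⟨Finset.mem_univ _, h⟩)
        rw [this]; rfl
    rw [h1, h2, Finset.card_sdiff_add_card_inter, hS, hf.card_supp]
  · intro e he
    rw [hL', List.mem_map] at he
    obtain ⟨ξ, _, rfl⟩ := he
    unfold co
    simp only
    rcases hsg ξ.1 ξ.2 with h | h <;> rw [h] <;> norm_num
  · intro h
    have e1 : (L.map fun e => co f e * co h e) = (L.map SU.pt).map fun ξ => f ξ * h ξ := by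
      rw [List.map_map]
      apply List.map_congr_left
      intro e _
      unfold co
      simp only [Function.comp]
      have := e.sg_mul_self
      linear_combination (f e.pt * h e.pt) * this
    have e2 : (L'.map fun e => co h e) = (New.map Subtype.val).map fun ξ => f ξ * h ξ := by
      rw [hL', List.map_map, List.map_map]
      apply List.map_congr_left
      intro ξ _
      unfold co
      simp only [Function.comp]
    rw [e1, e2, ← List.sum_toFinset _ hL, ← List.sum_toFinset _ hNewnodup, hNewfin, ← hK]
    have e3 : ip h f = ∑ ξ ∈ S, f ξ * h ξ := by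
      unfold ip
      rw [hS]
      unfold supp
      rw [Finset.sum_filter]
      apply Finset.sum_congr rfl
      intro ξ _
      by_cases hξ : f ξ = 0
      · simp [hξ]
      · rw [if_pos hξ, mul_comm]
    have e4 : ∑ ξ ∈ K, f ξ * h ξ = ∑ ξ ∈ S ∩ K, f ξ * h ξ := by
      rw [Finset.inter_comm, ← Finset.filter_mem_eq_inter, Finset.sum_filter]
      apply Finset.sum_congr rfl
      intro ξ _
      by_cases hξ : ξ ∈ S
      · rw [if_pos hξ]
      · rw [if_neg hξ]
        rw [hS] at hξ
        unfold supp at hξ
        have : f ξ = 0 := by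
          by_contra h
          exact hξ (Finset.mem_filter.mpr ⟨Finset.mem_univ _, h⟩)
        rw [this, zero_mul]
    rw [e3, e4, add_comm, ← Finset.sum_union (Finset.disjoint_sdiff_inter S K),
      Finset.sdiff_union_inter]

end Cfsg.Agent.Helper8.TIComb
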