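import Mathlib
import Cfsg.Agent.Lib.Helper8.TIComb1

/-!
# Pairs of norm-three vectors (helper8)
-/

set_option autoImplicit false
set_option linter.unusedSectionVars false

namespace Cfsg.Agent.Helper8.TIComb

variable {Ξ : Type*} [Fintype Ξ] [DecidableEq Ξ]

/-- the opposite unit -/
def SU.neg (e : SU Ξ) : SU Ξ := ⟨e.pt, -e.sg, by rcases e.hs with h | h <;> rw [h] <;> norm_num⟩

@[simp] theorem SU.neg_pt (e : SU Ξ) : e.neg.pt = e.pt := rfl

theorem co_neg (f : Ξ → ℤ) (e : SU Ξ) : co f e.neg = -co f e := by
  unfold co SU.neg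
  simp

theorem co_natAbs_of_pt_eq (f : Ξ → ℤ) {e e' : SU Ξ} (h : e.pt = e'.pt) :
    (co f e).natAbs = (co f e').natAbs := by
  rw [natAbs_co, natAbs_co, h]

theorem indep_single (e : SU Ξ) : Indep [e] := by
  unfold Indep; simp

theorem indep_nil : Indep ([] : List (SU Ξ)) := by
  unfold Indep; simp

/-- decoding a trit -/
def tr (t : Fin 3) : ℤ := (t : ℤ) - 1

theorem tr_surj (c : ℤ) (h : c = -1 ∨ c = 0 ∨ c = 1) : ∃ t : Fin 3, tr t = c := by
  rcases h with h | h | h
  · exact ⟨0, by rw [h]; rfl⟩
  · exact ⟨1, by rw [h]; rfl⟩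
  · exact ⟨2, by rw [h]; rfl⟩

section Pair

variable {f g h : Ξ → ℤ}

/-- two norm three vectors with inner product one, together with a vector having inner products
of different parity with them: a common unit occurs with the same sign -/
theorem nonneg_of_pair (hf : N3 f) (hg : N3 g) (hfg : ip f g = 1) (hw : ip h f + ip h g = 1)
    (e : SU Ξ) (he : co f e = 1) : 0 ≤ co g e := by
  by_contra hneg
  have hge : co g e = -1 := by
    rcases hg.co_entry e with h | h | h <;> omega
  obtain ⟨L', hind, hlen, hco, hip⟩ := expand (indep_single e) hf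
  simp only [List.map_cons, List.map_nil, List.sum_cons, List.sum_nil, add_zero, he] at hlen hip
  have hl2 : L'.length = 2 := by
    omega
  obtain ⟨e2, e3, rfl⟩ := List.length_eq_two.mp hl2
  simp only [List.map_cons, List.map_nil, List.sum_cons, List.sum_nil, add_zero, one_mul] at hip
  have hg1 := hip g
  rw [ip_comm, hfg, hge] at hg1
  have c2 := hg.co_entry e2
  have c3 := hg.co_entry e3
  have h2 : co g e2 = 1 := by omega
  have h3 : co g e3 = 1 := by omega
  obtain ⟨L'', -, hlen', -, hip'⟩ := expand hind hg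
  simp only [List.cons_append, List.nil_append, List.map_cons, List.map_nil, List.sum_cons,
    List.sum_nil, add_zero, hge, h2, h3] at hlen' hip'
  have hl0 : L''.length = 0 := by
    omega
  rw [List.length_eq_zero_iff] at hl0
  subst hl0
  simp only [List.map_nil, List.sum_nil, add_zero, one_mul] at hip'
  have k1 := hip h
  have k2 := hip' h
  omega

/-- a common unit -/
theorem exists_common (hf : N3 f) (hg : N3 g) (hfg : ip f g = 1) (hw : ip h f + ip h g = 1) :
    ∃ e : SU Ξ, co f e = 1 ∧ co g e = 1 := by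
  obtain ⟨L', -, hlen, hco, hip⟩ := expand indep_nil hf
  simp only [List.map_nil, List.sum_nil, add_zero, zero_add] at hlen hip
  obtain ⟨e1, e2, e3, rfl⟩ := List.length_eq_three.mp hlen
  simp only [List.map_cons, List.map_nil, List.sum_cons, List.sum_nil, add_zero] at hip
  have hg1 := hip g
  rw [ip_comm, hfg] at hg1
  have n1 := nonneg_of_pair hf hg hfg hw e1 (hco e1 (by simp))
  have n2 := nonneg_of_pair hf hg hfg hw e2 (hco e2 (by simp))
  have n3 := nonneg_of_pair hf hg hfg hw e3 (hco e3 (by simp))
  have c1 := hg.co_entry e1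
  have c2 := hg.co_entry e2
  have c3 := hg.co_entry e3
  by_cases h1 : co g e1 = 1
  · exact ⟨e1, hco e1 (by simp), h1⟩
  by_cases h2 : co g e2 = 1
  · exact ⟨e2, hco e2 (by simp), h2⟩
  exact ⟨e3, hco e3 (by simp), by omega⟩

/-- apart from the common unit the supports are disjoint -/
theorem excl_of_pair (hf : N3 f) (hg : N3 g) (hfg : ip f g = 1) (hw : ip h f + ip h g = 1)
    (e : SU Ξ) (he : co f e = 1) (he' : co g e = 1) (e' : SU Ξ) (hpt : e'.pt ≠ e.pt) :
    co f e' = 0 ∨ co g e' = 0 := by
  by_contra hcon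
  push Not at hcon
  obtain ⟨h1, h2⟩ := hcon
  -- normalise the sign
  obtain ⟨e'', hpt'', hf'', hg''⟩ : ∃ e'' : SU Ξ, e''.pt = e'.pt ∧ co f e'' = 1 ∧ co g e'' ≠ 0 := by
    rcases hf.co_entry e' with h | h | h
    · exact ⟨e'.neg, rfl, by rw [co_neg, h]; norm_num, by rw [co_neg]; omega⟩
    · exact absurd h h1
    · exact ⟨e', rfl, h, h2⟩
  have hn := nonneg_of_pair hf hg hfg hw e'' hf''
  have hg1 : co g e'' = 1 := by
    rcases hg.co_entry e'' with h | h | h <;> omega
  have hind : Indep [e, e''] := by
    unfold Indep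
    simp only [List.map_cons, List.map_nil, List.nodup_cons, List.mem_cons, List.mem_nil_iff,
      or_false, not_false_eq_true, List.nodup_nil, and_true]
    rw [hpt'']
    exact fun h => hpt h.symm
  obtain ⟨L', hind', hlen, hco, hip⟩ := expand hind hf
  simp only [List.map_cons, List.map_nil, List.sum_cons, List.sum_nil, add_zero, he, hf''] at hlen hip
  have hl1 : L'.length = 1 := by
    omega
  obtain ⟨e3, rfl⟩ := List.length_eq_one_iff.mp hl1
  simp only [List.map_cons, List.map_nil, List.sum_cons, List.sum_nil, add_zero, one_mul] at hip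
  have k := hip g
  rw [ip_comm, hfg, he', hg1] at k
  have hn3 := nonneg_of_pair hf hg hfg hw e3 (hco e3 (by simp))
  omega

/-- orthogonal norm three vectors sharing a point share a second one, with the opposite
relative sign -/
theorem exists_second_of_orth (hf : N3 f) (hg : N3 g) (hfg : ip f g = 0)
    (e : SU Ξ) (he : co f e = 1) (he' : co g e ≠ 0) :
    ∃ e' : SU Ξ, e'.pt ≠ e.pt ∧ co f e' = 1 ∧ co g e' = -co g e := by
  obtain ⟨L', hind, hlen, hco, hip⟩ := expand (indep_single e) hf
  simp only [List.map_cons, List.map_nil, List.sum_cons, List.sum_nil, add_zero, he] at hlen hip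
  have hl2 : L'.length = 2 := by
    omega
  obtain ⟨e2, e3, rfl⟩ := List.length_eq_two.mp hl2
  simp only [List.map_cons, List.map_nil, List.sum_cons, List.sum_nil, add_zero, one_mul] at hip
  have k := hip g
  rw [ip_comm, hfg] at k
  have c1 := hg.co_entry e
  have c2 := hg.co_entry e2
  have c3 := hg.co_entry e3
  unfold Indep at hind
  simp only [List.cons_append, List.nil_append, List.map_cons, List.map_nil, List.nodup_cons,
    List.mem_cons, List.mem_nil_iff, or_false, not_or, List.nodup_nil, and_true,
    not_false_eq_true] at hind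
  by_cases h2 : co g e2 = -co g e
  · exact ⟨e2, fun h => hind.1.1 h.symm, hco e2 (by simp), h2⟩
  · exact ⟨e3, fun h => hind.1.2 h.symm, hco e3 (by simp), by omega⟩

end Pair

end Cfsg.Agent.Helper8.TIComb
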