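import Mathlib
import Cfsg.Agent.Lib.Helper8.TIComb2

/-!
# Finite case analyses for the block lemmas (helper8)

Each statement concerns a few integers in `{-1, 0, 1}` (coefficients of a norm three vector along
independent units) subject to linear relations and the bound `3` on the number of nonzero ones.
They are proved by exhaustive evaluation on trits.
-/

set_option autoImplicit false
set_option synthInstance.maxSize 4000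
set_option synthInstance.maxHeartbeats 2000000
set_option maxHeartbeats 2000000

namespace Cfsg.Agent.Helper8.TIComb

/-- the property of being a trit value -/
def T3 (c : ℤ) : Prop := c = -1 ∨ c = 0 ∨ c = 1

theorem fin_b0_tr : ∀ ty t0 t0' : Fin 3, tr ty + tr t0 + tr t0' = 0 →
    ∀ t1 t1' : Fin 3, tr ty + tr t1 + tr t1' = 0 →
    ∀ t2 t2' : Fin 3, tr ty + tr t2 + tr t2' = 0 → tr t0 + tr t1 + tr t2 = 1 →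
    (tr ty).natAbs + (tr t0).natAbs + (tr t0').natAbs + (tr t1).natAbs + (tr t1').natAbs
      + (tr t2).natAbs + (tr t2').natAbs ≤ 3 →
    tr ty = 0 ∧
      ((tr t0 = 1 ∧ tr t0' = -1 ∧ tr t1 = 0 ∧ tr t1' = 0 ∧ tr t2 = 0 ∧ tr t2' = 0) ∨
       (tr t0 = 0 ∧ tr t0' = 0 ∧ tr t1 = 1 ∧ tr t1' = -1 ∧ tr t2 = 0 ∧ tr t2' = 0) ∨
       (tr t0 = 0 ∧ tr t0' = 0 ∧ tr t1 = 0 ∧ tr t1' = 0 ∧ tr t2 = 1 ∧ tr t2' = -1)) := by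
  decide

theorem fin_b0 (cy c0 c0' c1 c1' c2 c2' : ℤ) (hy : T3 cy) (h0 : T3 c0) (h0' : T3 c0')
    (h1 : T3 c1) (h1' : T3 c1') (h2 : T3 c2) (h2' : T3 c2')
    (e0 : cy + c0 + c0' = 0) (e1 : cy + c1 + c1' = 0) (e2 : cy + c2 + c2' = 0)
    (e3 : c0 + c1 + c2 = 1)
    (hb : cy.natAbs + c0.natAbs + c0'.natAbs + c1.natAbs + c1'.natAbs + c2.natAbs + c2'.natAbs ≤ 3) :
    cy = 0 ∧
      ((c0 = 1 ∧ c0' = -1 ∧ c1 = 0 ∧ c1' = 0 ∧ c2 = 0 ∧ c2' = 0) ∨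
       (c0 = 0 ∧ c0' = 0 ∧ c1 = 1 ∧ c1' = -1 ∧ c2 = 0 ∧ c2' = 0) ∨
       (c0 = 0 ∧ c0' = 0 ∧ c1 = 0 ∧ c1' = 0 ∧ c2 = 1 ∧ c2' = -1)) := by
  obtain ⟨ty, rfl⟩ := tr_surj cy hy
  obtain ⟨t0, rfl⟩ := tr_surj c0 h0
  obtain ⟨t0', rfl⟩ := tr_surj c0' h0'
  obtain ⟨t1, rfl⟩ := tr_surj c1 h1
  obtain ⟨t1', rfl⟩ := tr_surj c1' h1'
  obtain ⟨t2, rfl⟩ := tr_surj c2 h2
  obtain ⟨t2', rfl⟩ := tr_surj c2' h2'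
  exact fin_b0_tr ty t0 t0' e0 t1 t1' e1 t2 t2' e2 e3 hb

theorem fin_b1_tr : ∀ ty t0 t0' : Fin 3, tr ty + tr t0 + tr t0' = 1 →
    ∀ t1 t1' : Fin 3, tr ty + tr t1 + tr t1' = 0 →
    ∀ t2 t2' : Fin 3, tr ty + tr t2 + tr t2' = 0 → tr t0 + tr t1 + tr t2 = 0 →
    ∀ te : Fin 3, tr t0 - tr t0' + tr te = 1 →
    (tr ty).natAbs + (tr t0).natAbs + (tr t0').natAbs + (tr t1).natAbs + (tr t1').natAbs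
      + (tr t2).natAbs + (tr t2').natAbs + (tr te).natAbs ≤ 3 →
    (tr ty = 0 ∧ tr t0 = 1 ∧ tr t0' = 0 ∧ tr t1 = -1 ∧ tr t1' = 1 ∧ tr t2 = 0 ∧ tr t2' = 0
        ∧ tr te = 0) ∨
    (tr ty = 0 ∧ tr t0 = 1 ∧ tr t0' = 0 ∧ tr t1 = 0 ∧ tr t1' = 0 ∧ tr t2 = -1 ∧ tr t2' = 1
        ∧ tr te = 0) := by
  decide

theorem fin_b1 (cy c0 c0' c1 c1' c2 c2' ce : ℤ) (hy : T3 cy) (h0 : T3 c0) (h0' : T3 c0')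
    (h1 : T3 c1) (h1' : T3 c1') (h2 : T3 c2) (h2' : T3 c2') (he : T3 ce)
    (e0 : cy + c0 + c0' = 1) (e1 : cy + c1 + c1' = 0) (e2 : cy + c2 + c2' = 0)
    (e3 : c0 + c1 + c2 = 0) (e4 : c0 - c0' + ce = 1)
    (hb : cy.natAbs + c0.natAbs + c0'.natAbs + c1.natAbs + c1'.natAbs + c2.natAbs + c2'.natAbs
      + ce.natAbs ≤ 3) :
    (cy = 0 ∧ c0 = 1 ∧ c0' = 0 ∧ c1 = -1 ∧ c1' = 1 ∧ c2 = 0 ∧ c2' = 0 ∧ ce = 0) ∨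
    (cy = 0 ∧ c0 = 1 ∧ c0' = 0 ∧ c1 = 0 ∧ c1' = 0 ∧ c2 = -1 ∧ c2' = 1 ∧ ce = 0) := by
  obtain ⟨ty, rfl⟩ := tr_surj cy hy
  obtain ⟨t0, rfl⟩ := tr_surj c0 h0
  obtain ⟨t0', rfl⟩ := tr_surj c0' h0'
  obtain ⟨t1, rfl⟩ := tr_surj c1 h1
  obtain ⟨t1', rfl⟩ := tr_surj c1' h1'
  obtain ⟨t2, rfl⟩ := tr_surj c2 h2
  obtain ⟨t2', rfl⟩ := tr_surj c2' h2'
  obtain ⟨te, rfl⟩ := tr_surj ce he
  exact fin_b1_tr ty t0 t0' e0 t1 t1' e1 t2 t2' e2 e3 te e4 hb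

theorem fin_b2_tr : ∀ ty t0 t0' : Fin 3, tr ty + tr t0 + tr t0' = 0 →
    ∀ t1 t1' : Fin 3, tr ty + tr t1 + tr t1' = 1 → tr t0 - tr t1 + tr t1' = 1 →
    ∀ t2 t2' : Fin 3, tr ty + tr t2 + tr t2' = 0 → tr t0 + tr t1 + tr t2 = 0 →
    ∀ te : Fin 3, tr t0 - tr t0' + tr te = 1 →
    (tr ty).natAbs + (tr t0).natAbs + (tr t0').natAbs + (tr t1).natAbs + (tr t1').natAbs
      + (tr t2).natAbs + (tr t2').natAbs + (tr te).natAbs ≤ 3 →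
    tr ty = 0 ∧ tr t0 = 0 ∧ tr t0' = 0 ∧ tr t1 = 0 ∧ tr t1' = 1 ∧ tr t2 = 0 ∧ tr t2' = 0
        ∧ tr te = 1 := by
  decide

theorem fin_b2 (cy c0 c0' c1 c1' c2 c2' ce : ℤ) (hy : T3 cy) (h0 : T3 c0) (h0' : T3 c0')
    (h1 : T3 c1) (h1' : T3 c1') (h2 : T3 c2) (h2' : T3 c2') (he : T3 ce)
    (e0 : cy + c0 + c0' = 0) (e1 : cy + c1 + c1' = 1) (e5 : c0 - c1 + c1' = 1)
    (e2 : cy + c2 + c2' = 0)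
    (e3 : c0 + c1 + c2 = 0) (e4 : c0 - c0' + ce = 1)
    (hb : cy.natAbs + c0.natAbs + c0'.natAbs + c1.natAbs + c1'.natAbs + c2.natAbs + c2'.natAbs
      + ce.natAbs ≤ 3) :
    cy = 0 ∧ c0 = 0 ∧ c0' = 0 ∧ c1 = 0 ∧ c1' = 1 ∧ c2 = 0 ∧ c2' = 0 ∧ ce = 1 := by
  obtain ⟨ty, rfl⟩ := tr_surj cy hy
  obtain ⟨t0, rfl⟩ := tr_surj c0 h0
  obtain ⟨t0', rfl⟩ := tr_surj c0' h0'
  obtain ⟨t1, rfl⟩ := tr_surj c1 h1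
  obtain ⟨t1', rfl⟩ := tr_surj c1' h1'
  obtain ⟨t2, rfl⟩ := tr_surj c2 h2
  obtain ⟨t2', rfl⟩ := tr_surj c2' h2'
  obtain ⟨te, rfl⟩ := tr_surj ce he
  exact fin_b2_tr ty t0 t0' e0 t1 t1' e1 e5 t2 t2' e2 e3 te e4 hb

theorem fin_b3_tr : ∀ ty t0 t0' t1 t1' : Fin 3,
    tr ty + tr t0 + tr t0' = 0 → tr ty + tr t1 + tr t1' = 0 →
    tr t0 - tr t1 + tr t1' = 1 →
    ∀ t2 t2' : Fin 3, tr ty + tr t2 + tr t2' = 1 → tr t0 + tr t1 + tr t2 = 0 →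
    ∀ te : Fin 3, tr t0 - tr t0' + tr te = 1 →
    ∀ tf : Fin 3, tr t1' + tr te + tr tf = 1 →
    (tr ty).natAbs + (tr t0).natAbs + (tr t0').natAbs + (tr t1).natAbs + (tr t1').natAbs
      + (tr t2).natAbs + (tr t2').natAbs + (tr te).natAbs + (tr tf).natAbs ≤ 3 → False := by
  decide

theorem fin_b3 (cy c0 c0' c1 c1' c2 c2' ce cf : ℤ) (hy : T3 cy) (h0 : T3 c0) (h0' : T3 c0')
    (h1 : T3 c1) (h1' : T3 c1') (h2 : T3 c2) (h2' : T3 c2') (he : T3 ce) (hf : T3 cf)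
    (e0 : cy + c0 + c0' = 0) (e1 : cy + c1 + c1' = 0) (e5 : c0 - c1 + c1' = 1)
    (e2 : cy + c2 + c2' = 1)
    (e3 : c0 + c1 + c2 = 0) (e4 : c0 - c0' + ce = 1) (e6 : c1' + ce + cf = 1)
    (hb : cy.natAbs + c0.natAbs + c0'.natAbs + c1.natAbs + c1'.natAbs + c2.natAbs + c2'.natAbs
      + ce.natAbs + cf.natAbs ≤ 3) : False := by
  obtain ⟨ty, rfl⟩ := tr_surj cy hy
  obtain ⟨t0, rfl⟩ := tr_surj c0 h0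
  obtain ⟨t0', rfl⟩ := tr_surj c0' h0'
  obtain ⟨t1, rfl⟩ := tr_surj c1 h1
  obtain ⟨t1', rfl⟩ := tr_surj c1' h1'
  obtain ⟨t2, rfl⟩ := tr_surj c2 h2
  obtain ⟨t2', rfl⟩ := tr_surj c2' h2'
  obtain ⟨te, rfl⟩ := tr_surj ce he
  obtain ⟨tf, rfl⟩ := tr_surj cf hf
  exact fin_b3_tr ty t0 t0' t1 t1' e0 e1 e5 t2 t2' e2 e3 te e4 tf e6 hb

/-- the fourth vector of a row along the units of the first three -/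
theorem fin_row_tr : ∀ tx tp tp' : Fin 3, 0 ≤ tr tx → 0 ≤ tr tp → 0 ≤ tr tp' →
    tr tx + tr tp + tr tp' = 1 →
    ∀ tq tq' : Fin 3, 0 ≤ tr tq → 0 ≤ tr tq' → tr tx + tr tq + tr tq' = 1 →
    ∀ t : Fin 3, 0 ≤ tr t → tr tp + tr tq + tr t = 1 →
    (tr tx).natAbs + (tr tp).natAbs + (tr tp').natAbs + (tr tq).natAbs + (tr tq').natAbs
      + (tr t).natAbs ≤ 3 →
    (tr tx = 1 ∧ tr tp = 0 ∧ tr tp' = 0 ∧ tr tq = 0 ∧ tr tq' = 0 ∧ tr t = 1) ∨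
    (tr tx = 0 ∧ tr tp = 1 ∧ tr tp' = 0 ∧ tr tq = 0 ∧ tr tq' = 1 ∧ tr t = 0) ∨
    (tr tx = 0 ∧ tr tp = 0 ∧ tr tp' = 1 ∧ tr tq = 1 ∧ tr tq' = 0 ∧ tr t = 0) ∨
    (tr tx = 0 ∧ tr tp = 0 ∧ tr tp' = 1 ∧ tr tq = 0 ∧ tr tq' = 1 ∧ tr t = 1) := by
  decide

theorem fin_row (cx cp cp' cq cq' cr : ℤ) (hx : T3 cx) (hp : T3 cp) (hp' : T3 cp')
    (hq : T3 cq) (hq' : T3 cq') (hr : T3 cr)
    (nx : 0 ≤ cx) (np : 0 ≤ cp) (np' : 0 ≤ cp') (nq : 0 ≤ cq) (nq' : 0 ≤ cq') (nr : 0 ≤ cr)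
    (e0 : cx + cp + cp' = 1) (e1 : cx + cq + cq' = 1) (e2 : cp + cq + cr = 1)
    (hb : cx.natAbs + cp.natAbs + cp'.natAbs + cq.natAbs + cq'.natAbs + cr.natAbs ≤ 3) :
    (cx = 1 ∧ cp = 0 ∧ cp' = 0 ∧ cq = 0 ∧ cq' = 0 ∧ cr = 1) ∨
    (cx = 0 ∧ cp = 1 ∧ cp' = 0 ∧ cq = 0 ∧ cq' = 1 ∧ cr = 0) ∨
    (cx = 0 ∧ cp = 0 ∧ cp' = 1 ∧ cq = 1 ∧ cq' = 0 ∧ cr = 0) ∨
    (cx = 0 ∧ cp = 0 ∧ cp' = 1 ∧ cq = 0 ∧ cq' = 1 ∧ cr = 1) := by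
  obtain ⟨tx, rfl⟩ := tr_surj cx hx
  obtain ⟨tp, rfl⟩ := tr_surj cp hp
  obtain ⟨tp', rfl⟩ := tr_surj cp' hp'
  obtain ⟨tq, rfl⟩ := tr_surj cq hq
  obtain ⟨tq', rfl⟩ := tr_surj cq' hq'
  obtain ⟨t, rfl⟩ := tr_surj cr hr
  exact fin_row_tr tx tp tp' nx np np' e0 tq tq' nq nq' e1 t nr e2 hb

end Cfsg.Agent.Helper8.TIComb
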