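import Mathlib
import Cfsg.Agent.Lib.Helper8.TIComb3

/-!
# Blocks of two rows and four columns (helper8)

A block consists of two families `a`, `b` of four norm three vectors each, with the inner
products of the virtual characters attached to a cyclic TI-subgroup.  This file contains the
elementary consequences, the centre lemma and the exclusion of the "complete quadrilateral"
configuration.
-/

set_option autoImplicit false
set_option linter.unusedSectionVars false

namespace Cfsg.Agent.Helper8.TIComb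

variable {Ξ : Type*} [Fintype Ξ] [DecidableEq Ξ]

/-- independence only depends on the set of points (for lists of the same length) -/
theorem Indep.of_mem_iff {L L' : List (SU Ξ)} (h : Indep L) (hlen : L'.length = L.length)
    (hmem : ∀ ξ, ξ ∈ L'.map SU.pt ↔ ξ ∈ L.map SU.pt) : Indep L' := by
  unfold Indep at h ⊢
  have h1 : (L'.map SU.pt).toFinset = (L.map SU.pt).toFinset := by
    ext ξ
    rw [List.mem_toFinset, List.mem_toFinset]
    exact hmem ξ
  have h2 : (L.map SU.pt).toFinset.card = L.length := by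
    rw [List.toFinset_card_of_nodup h, List.length_map]
  have h3 : (L'.map SU.pt).toFinset.card = (L'.map SU.pt).length := by
    rw [h1, h2, List.length_map, hlen]
  rw [List.card_toFinset] at h3
  have := List.dedup_sublist (L'.map SU.pt)
  have h4 := this.eq_of_length h3
  rw [← h4]
  exact List.nodup_dedup _

theorem T3_co {f : Ξ → ℤ} (hf : N3 f) (e : SU Ξ) : T3 (co f e) := hf.co_entry e

/-- a block: two rows of four norm three vectors -/
structure Block (a b : Fin 4 → Ξ → ℤ) : Prop where
  na : ∀ j, N3 (a j)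
  nb : ∀ j, N3 (b j)
  aa : ∀ j l, j ≠ l → ip (a j) (a l) = 1
  bb : ∀ j l, j ≠ l → ip (b j) (b l) = 1
  ab : ∀ j l, ip (a j) (b l) = if j = l then 1 else 0

namespace Block

variable {a b : Fin 4 → Ξ → ℤ}

theorem swap (B : Block a b) : Block b a where
  na := B.nb
  nb := B.na
  aa := B.bb
  bb := B.aa
  ab j l := by
    rw [ip_comm, B.ab]
    by_cases h : j = l
    · rw [if_pos h, if_pos h.symm]
    · rw [if_neg h, if_neg (Ne.symm h)]

theorem hw (B : Block a b) {j l : Fin 4} (h : j ≠ l) :
    ip (b j) (a j) + ip (b j) (a l) = 1 := by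
  rw [ip_comm (b j) (a j), ip_comm (b j) (a l), B.ab, B.ab, if_pos rfl, if_neg (Ne.symm h)]
  norm_num

theorem nonneg (B : Block a b) {j l : Fin 4} (h : j ≠ l) (e : SU Ξ) (he : co (a j) e = 1) :
    0 ≤ co (a l) e :=
  nonneg_of_pair (B.na j) (B.na l) (B.aa j l h) (B.hw h) e he

theorem common (B : Block a b) {j l : Fin 4} (h : j ≠ l) :
    ∃ e : SU Ξ, co (a j) e = 1 ∧ co (a l) e = 1 :=
  exists_common (B.na j) (B.na l) (B.aa j l h) (B.hw h)

theorem excl (B : Block a b) {j l : Fin 4} (h : j ≠ l) (e : SU Ξ) (he : co (a j) e = 1)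
    (he' : co (a l) e = 1) (e' : SU Ξ) (hpt : e'.pt ≠ e.pt) : co (a j) e' = 0 ∨ co (a l) e' = 0 :=
  excl_of_pair (B.na j) (B.na l) (B.aa j l h) (B.hw h) e he he' e' hpt

/-- a unit common to the four vectors of the first row does not occur in the second row -/
theorem center (B : Block a b) (x : SU Ξ) (hx : ∀ j, co (a j) x = 1) (l : Fin 4) :
    co (b l) x = 0 := by
  by_contra hne
  have key : ∀ j, j ≠ l → ∃ e : SU Ξ, e.pt ≠ x.pt ∧ co (a j) e = 1 ∧ co (b l) e ≠ 0 := by
    intro j hj
    obtain ⟨e, h1, h2, h3⟩ := exists_second_of_orth (B.na j) (B.nb l)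
      (by rw [B.ab, if_neg hj]) x (hx j) hne
    refine ⟨e, h1, h2, ?_⟩
    rw [h3]
    simpa using hne
  have : Nonempty (SU Ξ) := ⟨x⟩
  choose! E hE using key
  have hdist : ∀ j j', j ≠ l → j' ≠ l → j ≠ j' → (E j).pt ≠ (E j').pt := by
    intro j j' hj hj' hjj' heq
    rcases B.excl hjj' x (hx j) (hx j') (E j) (hE j hj).1 with h | h
    · rw [(hE j hj).2.1] at h
      exact one_ne_zero h
    · have := co_natAbs_of_pt_eq (a j') heq
      rw [h, (hE j' hj').2.1] at this
      simp at this
  have h1 : l + 1 ≠ l := (by decide : ∀ l : Fin 4, l + 1 ≠ l) l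
  have h2 : l + 2 ≠ l := (by decide : ∀ l : Fin 4, l + 2 ≠ l) l
  have h3 : l + 3 ≠ l := (by decide : ∀ l : Fin 4, l + 3 ≠ l) l
  have h12 : l + 1 ≠ l + 2 := (by decide : ∀ l : Fin 4, l + 1 ≠ l + 2) l
  have h13 : l + 1 ≠ l + 3 := (by decide : ∀ l : Fin 4, l + 1 ≠ l + 3) l
  have h23 : l + 2 ≠ l + 3 := (by decide : ∀ l : Fin 4, l + 2 ≠ l + 3) l
  have hind : Indep [x, E (l + 1), E (l + 2), E (l + 3)] := by
    unfold Indep
    simp only [List.map_cons, List.map_nil, List.nodup_cons, List.mem_cons, List.mem_nil_iff,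
      or_false, not_or, List.nodup_nil, and_true, not_false_eq_true]
    exact ⟨⟨(hE _ h1).1.symm, (hE _ h2).1.symm, (hE _ h3).1.symm⟩,
      ⟨hdist _ _ h1 h2 h12, hdist _ _ h1 h3 h13⟩, hdist _ _ h2 h3 h23⟩
  have hb := bessel hind (B.nb l)
  simp only [List.map_cons, List.map_nil, List.sum_cons, List.sum_nil, add_zero] at hb
  have k1 := (hE _ h1).2.2
  have k2 := (hE _ h2).2.2
  have k3 := (hE _ h3).2.2
  omega

/-- the complete quadrilateral configuration is impossible -/
theorem lemmaK (B : Block a b) (x p p' q q' r : SU Ξ)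
    (f0 : ∀ k, ip k (a 0) = co k x + co k p + co k p')
    (f1 : ∀ k, ip k (a 1) = co k x + co k q + co k q')
    (f2 : ∀ k, ip k (a 2) = co k p + co k q + co k r)
    (f3 : ∀ k, ip k (a 3) = co k p' + co k q' + co k r) : False := by
  have h0 := f0 (b 0)
  have h1 := f1 (b 0)
  have h2 := f2 (b 0)
  have h3 := f3 (b 0)
  rw [ip_comm, B.ab] at h0 h1 h2 h3
  rw [if_pos rfl] at h0
  rw [if_neg (by decide)] at h1 h2 h3
  omega

end Block

end Cfsg.Agent.Helper8.TIComb
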