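import Mathlib
import Cfsg.Agent.Lib.Helper8.TIComb4

/-!
# The pencil configuration (helper8)

Three vectors `A i = y + u i + u' i` through a common unit `y` and a fourth one
`A0 = u 0 + u 1 + u 2`, together with a second row `B i`, `B0` having the block inner products
with them: this is impossible.
-/

set_option autoImplicit false
set_option linter.unusedSectionVars false

namespace Cfsg.Agent.Helper8.TIComb

variable {Ξ : Type*} [Fintype Ξ] [DecidableEq Ξ]

/-- the pencil configuration -/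
structure PConf (A B : Fin 3 → Ξ → ℤ) (A0 B0 : Ξ → ℤ) (y : SU Ξ) (u u' : Fin 3 → SU Ξ) :
    Prop where
  ind : Indep [y, u 0, u' 0, u 1, u' 1, u 2, u' 2]
  fA : ∀ i k, ip k (A i) = co k y + co k (u i) + co k (u' i)
  fA0 : ∀ k, ip k A0 = ∑ i, co k (u i)
  nB : ∀ i, N3 (B i)
  nB0 : N3 B0
  BB : ∀ i j, i ≠ j → ip (B i) (B j) = 1
  BB0 : ∀ i, ip (B i) B0 = 1
  BA : ∀ i j, ip (B i) (A j) = if i = j then 1 else 0
  BA0 : ∀ i, ip (B i) A0 = 0
  B0A : ∀ i, ip B0 (A i) = 0
  B0A0 : ip B0 A0 = 1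

namespace PConf

variable {A B : Fin 3 → Ξ → ℤ} {A0 B0 : Ξ → ℤ} {y : SU Ξ} {u u' : Fin 3 → SU Ξ}

/-- relabelling the three lines of the pencil -/
theorem comp (P : PConf A B A0 B0 y u u') (σ : Fin 3 → Fin 3) (hσ : Function.Bijective σ)
    (hind : Indep [y, u (σ 0), u' (σ 0), u (σ 1), u' (σ 1), u (σ 2), u' (σ 2)]) :
    PConf (fun i => A (σ i)) (fun i => B (σ i)) A0 B0 y (fun i => u (σ i)) (fun i => u' (σ i)) where
  ind := hind
  fA i k := P.fA (σ i) k
  fA0 k := by
    rw [P.fA0 k]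
    exact (Equiv.sum_comp (Equiv.ofBijective σ hσ) (fun i => co k (u i))).symm
  nB i := P.nB (σ i)
  nB0 := P.nB0
  BB i j h := P.BB _ _ (hσ.1.ne h)
  BB0 i := P.BB0 (σ i)
  BA i j := by
    rw [P.BA]
    by_cases h : i = j
    · rw [if_pos h, if_pos (by rw [h])]
    · rw [if_neg h, if_neg (hσ.1.ne h)]
  BA0 i := P.BA0 (σ i)
  B0A i := P.B0A (σ i)
  B0A0 := P.B0A0

/-- third stage: the first two vectors of the second row are known -/
theorem stage3 (P : PConf A B A0 B0 y u u') (e : SU Ξ)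
    (hind : Indep [y, u 0, u' 0, u 1, u' 1, u 2, u' 2, e])
    (hB0 : ∀ h, ip h B0 = co h (u 0) - co h (u' 0) + co h e)
    (hB0' : ∀ h, ip h (B 0) = co h (u 0) - co h (u 1) + co h (u' 1)) : False := by
  -- the vector `B 1`
  have r0 := P.fA 0 (B 1)
  have r1 := P.fA 1 (B 1)
  have r2 := P.fA 2 (B 1)
  have r3 := P.fA0 (B 1)
  have r4 := hB0 (B 1)
  have r5 := hB0' (B 1)
  rw [P.BA, if_neg (by decide)] at r0
  rw [P.BA, if_pos rfl] at r1
  rw [P.BA, if_neg (by decide)] at r2
  rw [P.BA0, Fin.sum_univ_three] at r3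
  rw [P.BB0] at r4
  rw [P.BB 1 0 (by decide)] at r5
  have hb := bessel hind (P.nB 1)
  simp only [List.map_cons, List.map_nil, List.sum_cons, List.sum_nil, add_zero] at hb
  obtain ⟨cy, c0, c0', c1, c1', c2, c2', ce⟩ := fin_b2 _ _ _ _ _ _ _ _
    (T3_co (P.nB 1) y) (T3_co (P.nB 1) (u 0)) (T3_co (P.nB 1) (u' 0))
    (T3_co (P.nB 1) (u 1)) (T3_co (P.nB 1) (u' 1)) (T3_co (P.nB 1) (u 2))
    (T3_co (P.nB 1) (u' 2)) (T3_co (P.nB 1) e)
    r0.symm r1.symm r5.symm r2.symm r3.symm r4.symm (by omega)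
  obtain ⟨L', hind', hlen, hco, hip⟩ := expand hind (P.nB 1)
  simp only [List.map_cons, List.map_nil, List.sum_cons, List.sum_nil, add_zero,
    cy, c0, c0', c1, c1', c2, c2', ce] at hlen hip
  have hl1 : L'.length = 1 := by
    omega
  obtain ⟨f, rfl⟩ := List.length_eq_one_iff.mp hl1
  simp only [List.cons_append, List.nil_append] at hind'
  have hB1 : ∀ h, ip h (B 1) = co h (u' 1) + co h e + co h f := by
    intro h
    rw [hip h]
    simp only [List.map_cons, List.map_nil, List.sum_cons, List.sum_nil]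
    ring
  -- the vector `B 2`
  have s0 := P.fA 0 (B 2)
  have s1 := P.fA 1 (B 2)
  have s2 := P.fA 2 (B 2)
  have s3 := P.fA0 (B 2)
  have s4 := hB0 (B 2)
  have s5 := hB0' (B 2)
  have s6 := hB1 (B 2)
  rw [P.BA, if_neg (by decide)] at s0
  rw [P.BA, if_neg (by decide)] at s1
  rw [P.BA, if_pos rfl] at s2
  rw [P.BA0, Fin.sum_univ_three] at s3
  rw [P.BB0] at s4
  rw [P.BB 2 0 (by decide)] at s5
  rw [P.BB 2 1 (by decide)] at s6
  have hb' := bessel hind' (P.nB 2)
  simp only [List.map_cons, List.map_nil, List.sum_cons, List.sum_nil, add_zero] at hb'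
  exact fin_b3 _ _ _ _ _ _ _ _ _
    (T3_co (P.nB 2) y) (T3_co (P.nB 2) (u 0)) (T3_co (P.nB 2) (u' 0))
    (T3_co (P.nB 2) (u 1)) (T3_co (P.nB 2) (u' 1)) (T3_co (P.nB 2) (u 2))
    (T3_co (P.nB 2) (u' 2)) (T3_co (P.nB 2) e) (T3_co (P.nB 2) f)
    s0.symm s1.symm s5.symm s2.symm s3.symm s4.symm s6.symm (by omega)

/-- second stage: the special vector of the second row is known -/
theorem stage2 (P : PConf A B A0 B0 y u u') (e : SU Ξ)
    (hind : Indep [y, u 0, u' 0, u 1, u' 1, u 2, u' 2, e])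
    (hB0 : ∀ h, ip h B0 = co h (u 0) - co h (u' 0) + co h e) : False := by
  have r0 := P.fA 0 (B 0)
  have r1 := P.fA 1 (B 0)
  have r2 := P.fA 2 (B 0)
  have r3 := P.fA0 (B 0)
  have r4 := hB0 (B 0)
  rw [P.BA, if_pos rfl] at r0
  rw [P.BA, if_neg (by decide)] at r1
  rw [P.BA, if_neg (by decide)] at r2
  rw [P.BA0, Fin.sum_univ_three] at r3
  rw [P.BB0] at r4
  have hb := bessel hind (P.nB 0)
  simp only [List.map_cons, List.map_nil, List.sum_cons, List.sum_nil, add_zero] at hb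
  obtain ⟨L', -, hlen, -, hip⟩ := expand hind (P.nB 0)
  rcases fin_b1 _ _ _ _ _ _ _ _
    (T3_co (P.nB 0) y) (T3_co (P.nB 0) (u 0)) (T3_co (P.nB 0) (u' 0))
    (T3_co (P.nB 0) (u 1)) (T3_co (P.nB 0) (u' 1)) (T3_co (P.nB 0) (u 2))
    (T3_co (P.nB 0) (u' 2)) (T3_co (P.nB 0) e)
    r0.symm r1.symm r2.symm r3.symm r4.symm (by omega) with
    ⟨cy, c0, c0', c1, c1', c2, c2', ce⟩ | ⟨cy, c0, c0', c1, c1', c2, c2', ce⟩
  · simp only [List.map_cons, List.map_nil, List.sum_cons, List.sum_nil, add_zero,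
      cy, c0, c0', c1, c1', c2, c2', ce] at hlen hip
    have hl0 : L'.length = 0 := by
      omega
    rw [List.length_eq_zero_iff] at hl0
    subst hl0
    refine P.stage3 e hind hB0 ?_
    intro h
    rw [hip h]
    simp only [List.map_nil, List.sum_nil]
    ring
  · simp only [List.map_cons, List.map_nil, List.sum_cons, List.sum_nil, add_zero,
      cy, c0, c0', c1, c1', c2, c2', ce] at hlen hip
    have hl0 : L'.length = 0 := by
      omega
    rw [List.length_eq_zero_iff] at hl0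
    subst hl0
    have hσ : Function.Bijective (![0, 2, 1] : Fin 3 → Fin 3) := by decide
    have hind7 : Indep [y, u 0, u' 0, u 2, u' 2, u 1, u' 1] := by
      refine P.ind.of_mem_iff rfl ?_
      intro ξ
      simp only [List.map_cons, List.map_nil, List.mem_cons, List.mem_nil_iff, or_false]
      simp only [or_comm, or_left_comm, or_assoc]
    have hind8 : Indep [y, u 0, u' 0, u 2, u' 2, u 1, u' 1, e] := by
      refine hind.of_mem_iff rfl ?_
      intro ξ
      simp only [List.map_cons, List.map_nil, List.mem_cons, List.mem_nil_iff, or_false]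
      simp only [or_comm, or_left_comm, or_assoc]
    refine (P.comp ![0, 2, 1] hσ hind7).stage3 e hind8 hB0 ?_
    intro h
    show ip h (B 0) = co h (u 0) - co h (u 2) + co h (u' 2)
    rw [hip h]
    simp only [List.map_nil, List.sum_nil]
    ring

/-- first stage, normalised: the special vector of the second row meets the first line -/
theorem case0 (P : PConf A B A0 B0 y u u') (cy : co B0 y = 0) (c0 : co B0 (u 0) = 1)
    (c0' : co B0 (u' 0) = -1) (c1 : co B0 (u 1) = 0) (c1' : co B0 (u' 1) = 0)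
    (c2 : co B0 (u 2) = 0) (c2' : co B0 (u' 2) = 0) : False := by
  obtain ⟨L', hind', hlen, -, hip⟩ := expand P.ind P.nB0
  simp only [List.map_cons, List.map_nil, List.sum_cons, List.sum_nil, add_zero,
    cy, c0, c0', c1, c1', c2, c2'] at hlen hip
  have hl1 : L'.length = 1 := by
    omega
  obtain ⟨e, rfl⟩ := List.length_eq_one_iff.mp hl1
  simp only [List.cons_append, List.nil_append] at hind'
  refine P.stage2 e hind' ?_
  intro h
  rw [hip h]
  simp only [List.map_cons, List.map_nil, List.sum_cons, List.sum_nil]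
  ring

/-- the pencil configuration is impossible -/
theorem false (P : PConf A B A0 B0 y u u') : False := by
  have r0 := P.fA 0 B0
  have r1 := P.fA 1 B0
  have r2 := P.fA 2 B0
  have r3 := P.fA0 B0
  rw [P.B0A] at r0 r1 r2
  rw [P.B0A0, Fin.sum_univ_three] at r3
  have hb := bessel P.ind P.nB0
  simp only [List.map_cons, List.map_nil, List.sum_cons, List.sum_nil, add_zero] at hb
  obtain ⟨cy, hc⟩ := fin_b0 _ _ _ _ _ _ _
    (T3_co P.nB0 y) (T3_co P.nB0 (u 0)) (T3_co P.nB0 (u' 0))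
    (T3_co P.nB0 (u 1)) (T3_co P.nB0 (u' 1)) (T3_co P.nB0 (u 2))
    (T3_co P.nB0 (u' 2)) r0.symm r1.symm r2.symm r3.symm (by omega)
  rcases hc with ⟨c0, c0', c1, c1', c2, c2'⟩ | ⟨c0, c0', c1, c1', c2, c2'⟩ |
    ⟨c0, c0', c1, c1', c2, c2'⟩
  · exact P.case0 cy c0 c0' c1 c1' c2 c2'
  · have hσ : Function.Bijective (![1, 0, 2] : Fin 3 → Fin 3) := by decide
    have hind7 : Indep [y, u 1, u' 1, u 0, u' 0, u 2, u' 2] := by
      refine P.ind.of_mem_iff rfl ?_
      intro ξ
      simp only [List.map_cons, List.map_nil, List.mem_cons, List.mem_nil_iff, or_false]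
      simp only [or_comm, or_left_comm, or_assoc]
    exact (P.comp ![1, 0, 2] hσ hind7).case0 cy c1 c1' c0 c0' c2 c2'
  · have hσ : Function.Bijective (![2, 1, 0] : Fin 3 → Fin 3) := by decide
    have hind7 : Indep [y, u 2, u' 2, u 1, u' 1, u 0, u' 0] := by
      refine P.ind.of_mem_iff rfl ?_
      intro ξ
      simp only [List.map_cons, List.map_nil, List.mem_cons, List.mem_nil_iff, or_false]
      simp only [or_comm, or_left_comm, or_assoc]
    exact (P.comp ![2, 1, 0] hσ hind7).case0 cy c2 c2' c1 c1' c0 c0'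

end PConf

end Cfsg.Agent.Helper8.TIComb
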