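import Mathlib
import Cfsg.Agent.Lib.Helper8.TIComb5

/-!
# The row lemma (helper8)

In a block, a unit common to two vectors of the first row is common to the whole row.
-/

set_option autoImplicit false
set_option linter.unusedSectionVars false

namespace Cfsg.Agent.Helper8.TIComb

variable {Ξ : Type*} [Fintype Ξ] [DecidableEq Ξ]

namespace Block

variable {a b : Fin 4 → Ξ → ℤ}

/-- a pencil configuration inside a block -/
theorem toPConf (B : Block a b) (τ : Fin 3 → Fin 4) (hτ : Function.Injective τ) (t0 : Fin 4)
    (ht0 : ∀ i, τ i ≠ t0) (y : SU Ξ) (u u' : Fin 3 → SU Ξ)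
    (hind : Indep [y, u 0, u' 0, u 1, u' 1, u 2, u' 2])
    (fA : ∀ i k, ip k (a (τ i)) = co k y + co k (u i) + co k (u' i))
    (fA0 : ∀ k, ip k (a t0) = co k (u 0) + co k (u 1) + co k (u 2)) :
    PConf (fun i => a (τ i)) (fun i => b (τ i)) (a t0) (b t0) y u u' where
  ind := hind
  fA := fA
  fA0 k := by
    rw [Fin.sum_univ_three]
    exact fA0 k
  nB i := B.nb _
  nB0 := B.nb _
  BB i j h := B.bb _ _ (hτ.ne h)
  BB0 i := B.bb _ _ (ht0 i)
  BA i j := by
    rw [ip_comm, B.ab]
    by_cases h : i = j
    · rw [if_pos h, if_pos (by rw [h])]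
    · rw [if_neg h, if_neg (fun h' => h (hτ h').symm)]
  BA0 i := by rw [ip_comm, B.ab, if_neg (ht0 i).symm]
  B0A i := by rw [ip_comm, B.ab, if_neg (ht0 i)]
  B0A0 := by rw [ip_comm, B.ab, if_pos rfl]

theorem row_aux (B : Block a b) (x p p' q q' : SU Ξ)
    (hind : Indep [x, p, p', q, q'])
    (f0 : ∀ k, ip k (a 0) = co k x + co k p + co k p')
    (f1 : ∀ k, ip k (a 1) = co k x + co k q + co k q')
    (h0x : co (a 0) x = 1) (h0p : co (a 0) p = 1) (h0p' : co (a 0) p' = 1)
    (h1q : co (a 1) q = 1) (h1q' : co (a 1) q' = 1)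
    (h2x : co (a 2) x = 0) (h2p : co (a 2) p = 1) (h2p' : co (a 2) p' = 0)
    (h2q : co (a 2) q = 1) (h2q' : co (a 2) q' = 0) : False := by
  obtain ⟨L', hind6, hlen, hco, hip⟩ := expand hind (B.na 2)
  simp only [List.map_cons, List.map_nil, List.sum_cons, List.sum_nil, add_zero,
    h2x, h2p, h2p', h2q, h2q'] at hlen hip
  have hl1 : L'.length = 1 := by
    omega
  obtain ⟨r, rfl⟩ := List.length_eq_one_iff.mp hl1
  simp only [List.cons_append, List.nil_append] at hind6
  have h2r : co (a 2) r = 1 := hco r (by simp)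
  have f2 : ∀ k, ip k (a 2) = co k p + co k q + co k r := by
    intro k
    rw [hip k]
    simp only [List.map_cons, List.map_nil, List.sum_cons, List.sum_nil]
    ring
  clear hip hco hlen hl1
  have nx := B.nonneg (show (0 : Fin 4) ≠ 3 by decide) x h0x
  have np := B.nonneg (show (0 : Fin 4) ≠ 3 by decide) p h0p
  have np' := B.nonneg (show (0 : Fin 4) ≠ 3 by decide) p' h0p'
  have nq := B.nonneg (show (1 : Fin 4) ≠ 3 by decide) q h1q
  have nq' := B.nonneg (show (1 : Fin 4) ≠ 3 by decide) q' h1q'
  have nr := B.nonneg (show (2 : Fin 4) ≠ 3 by decide) r h2r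
  have e0 := f0 (a 3)
  have e1 := f1 (a 3)
  have e2 := f2 (a 3)
  rw [B.aa 3 0 (by decide)] at e0
  rw [B.aa 3 1 (by decide)] at e1
  rw [B.aa 3 2 (by decide)] at e2
  have hb := bessel hind6 (B.na 3)
  simp only [List.map_cons, List.map_nil, List.sum_cons, List.sum_nil, add_zero] at hb
  obtain ⟨L', hind7, hlen, -, hip⟩ := expand hind6 (B.na 3)
  rcases fin_row _ _ _ _ _ _ (T3_co (B.na 3) x) (T3_co (B.na 3) p) (T3_co (B.na 3) p')
    (T3_co (B.na 3) q) (T3_co (B.na 3) q') (T3_co (B.na 3) r) nx np np' nq nq' nr
    e0.symm e1.symm e2.symm (by omega) with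
    ⟨cx, cp, cp', cq, cq', cr⟩ | ⟨cx, cp, cp', cq, cq', cr⟩ | ⟨cx, cp, cp', cq, cq', cr⟩ |
    ⟨cx, cp, cp', cq, cq', cr⟩
  · -- centre `x`
    simp only [List.map_cons, List.map_nil, List.sum_cons, List.sum_nil, add_zero,
      cx, cp, cp', cq, cq', cr] at hlen hip
    have hl1 : L'.length = 1 := by
      omega
    obtain ⟨s, rfl⟩ := List.length_eq_one_iff.mp hl1
    simp only [List.cons_append, List.nil_append] at hind7
    have f3 : ∀ k, ip k (a 3) = co k x + co k r + co k s := by
      intro k
      rw [hip k]
      simp only [List.map_cons, List.map_nil, List.sum_cons, List.sum_nil]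
      ring
    refine (B.toPConf ![0, 1, 3] (by decide) 2 (by decide) x ![p, q, r] ![p', q', s]
      hind7 ?_ f2).false
    intro i k
    fin_cases i
    · exact f0 k
    · exact f1 k
    · exact f3 k
  · -- centre `p`
    simp only [List.map_cons, List.map_nil, List.sum_cons, List.sum_nil, add_zero,
      cx, cp, cp', cq, cq', cr] at hlen hip
    have hl1 : L'.length = 1 := by
      omega
    obtain ⟨s, rfl⟩ := List.length_eq_one_iff.mp hl1
    simp only [List.cons_append, List.nil_append] at hind7
    have f3 : ∀ k, ip k (a 3) = co k p + co k q' + co k s := by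
      intro k
      rw [hip k]
      simp only [List.map_cons, List.map_nil, List.sum_cons, List.sum_nil]
      ring
    have hind7' : Indep [p, x, p', q, r, q', s] := by
      refine hind7.of_mem_iff rfl ?_
      intro ξ
      simp only [List.map_cons, List.map_nil, List.mem_cons, List.mem_nil_iff, or_false]
      simp only [or_comm, or_left_comm, or_assoc]
    refine (B.toPConf ![0, 2, 3] (by decide) 1 (by decide) p ![x, q, q'] ![p', r, s]
      hind7' ?_ f1).false
    intro i k
    fin_cases i
    · show ip k (a 0) = co k p + co k x + co k p'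
      rw [f0 k]
      ring
    · exact f2 k
    · exact f3 k
  · -- centre `q`
    simp only [List.map_cons, List.map_nil, List.sum_cons, List.sum_nil, add_zero,
      cx, cp, cp', cq, cq', cr] at hlen hip
    have hl1 : L'.length = 1 := by
      omega
    obtain ⟨s, rfl⟩ := List.length_eq_one_iff.mp hl1
    simp only [List.cons_append, List.nil_append] at hind7
    have f3 : ∀ k, ip k (a 3) = co k p' + co k q + co k s := by
      intro k
      rw [hip k]
      simp only [List.map_cons, List.map_nil, List.sum_cons, List.sum_nil]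
      ring
    have hind7' : Indep [q, x, q', p, r, p', s] := by
      refine hind7.of_mem_iff rfl ?_
      intro ξ
      simp only [List.map_cons, List.map_nil, List.mem_cons, List.mem_nil_iff, or_false]
      simp only [or_comm, or_left_comm, or_assoc]
    refine (B.toPConf ![1, 2, 3] (by decide) 0 (by decide) q ![x, p, p'] ![q', r, s]
      hind7' ?_ f0).false
    intro i k
    fin_cases i
    · show ip k (a 1) = co k q + co k x + co k q'
      rw [f1 k]
      ring
    · show ip k (a 2) = co k q + co k p + co k r
      rw [f2 k]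
      ring
    · show ip k (a 3) = co k q + co k p' + co k s
      rw [f3 k]
      ring
  · -- the complete quadrilateral
    simp only [List.map_cons, List.map_nil, List.sum_cons, List.sum_nil, add_zero,
      cx, cp, cp', cq, cq', cr] at hlen hip
    have hl0 : L'.length = 0 := by
      omega
    rw [List.length_eq_zero_iff] at hl0
    subst hl0
    have f3 : ∀ k, ip k (a 3) = co k p' + co k q' + co k r := by
      intro k
      rw [hip k]
      simp only [List.map_nil, List.sum_nil]
      ring
    exact B.lemmaK x p p' q q' r f0 f1 f2 f3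

/-- the row lemma: a unit common to two vectors of the first row is common to a third one -/
theorem row (B : Block a b) (x : SU Ξ) (h0 : co (a 0) x = 1) (h1 : co (a 1) x = 1) :
    co (a 2) x = 1 := by
  by_contra hne
  have n2 := B.nonneg (show (0 : Fin 4) ≠ 2 by decide) x h0
  have h2x : co (a 2) x = 0 := by
    rcases (B.na 2).co_entry x with h | h | h <;> omega
  obtain ⟨p, h0p, h2p⟩ := B.common (show (0 : Fin 4) ≠ 2 by decide)
  have hpx : p.pt ≠ x.pt := by
    intro h
    have := co_natAbs_of_pt_eq (a 2) h
    rw [h2p, h2x] at this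
    simp at this
  have h1p : co (a 1) p = 0 := by
    rcases B.excl (show (0 : Fin 4) ≠ 1 by decide) x h0 h1 p hpx with h | h
    · rw [h0p] at h
      exact absurd h one_ne_zero
    · exact h
  have hind2 : Indep [x, p] := by
    unfold Indep
    simp only [List.map_cons, List.map_nil, List.nodup_cons, List.mem_cons, List.mem_nil_iff,
      or_false, not_false_eq_true, List.nodup_nil, and_true]
    exact fun h => hpx h.symm
  obtain ⟨L', hind3, hlen, hco, hip⟩ := expand hind2 (B.na 0)
  simp only [List.map_cons, List.map_nil, List.sum_cons, List.sum_nil, add_zero,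
    h0, h0p] at hlen hip
  have hl1 : L'.length = 1 := by
    omega
  obtain ⟨p', rfl⟩ := List.length_eq_one_iff.mp hl1
  simp only [List.cons_append, List.nil_append] at hind3
  have h0p' : co (a 0) p' = 1 := hco p' (by simp)
  have f0 : ∀ k, ip k (a 0) = co k x + co k p + co k p' := by
    intro k
    rw [hip k]
    simp only [List.map_cons, List.map_nil, List.sum_cons, List.sum_nil]
    ring
  clear hip hco hlen hl1
  have hd3 := hind3
  unfold Indep at hd3
  simp only [List.map_cons, List.map_nil, List.nodup_cons, List.mem_cons, List.mem_nil_iff,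
    or_false, not_or, not_false_eq_true, List.nodup_nil, and_true] at hd3
  have hp'x : p'.pt ≠ x.pt := fun h => hd3.1.2 h.symm
  have hp'p : p'.pt ≠ p.pt := fun h => hd3.2 h.symm
  have h1p' : co (a 1) p' = 0 := by
    rcases B.excl (show (0 : Fin 4) ≠ 1 by decide) x h0 h1 p' hp'x with h | h
    · rw [h0p'] at h
      exact absurd h one_ne_zero
    · exact h
  have h2p' : co (a 2) p' = 0 := by
    rcases B.excl (show (0 : Fin 4) ≠ 2 by decide) p h0p h2p p' hp'p with h | h
    · rw [h0p'] at h
      exact absurd h one_ne_zero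
    · exact h
  obtain ⟨L', hind5, hlen, hco, hip⟩ := expand hind3 (B.na 1)
  simp only [List.map_cons, List.map_nil, List.sum_cons, List.sum_nil, add_zero,
    h1, h1p, h1p'] at hlen hip
  have hl2 : L'.length = 2 := by
    omega
  obtain ⟨q1, q2, rfl⟩ := List.length_eq_two.mp hl2
  simp only [List.cons_append, List.nil_append] at hind5
  have h1q1 : co (a 1) q1 = 1 := hco q1 (by simp)
  have h1q2 : co (a 1) q2 = 1 := hco q2 (by simp)
  have f1 : ∀ k, ip k (a 1) = co k x + co k q1 + co k q2 := by
    intro k
    rw [hip k]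
    simp only [List.map_cons, List.map_nil, List.sum_cons, List.sum_nil]
    ring
  clear hip hco hlen hl2
  have e := f1 (a 2)
  rw [B.aa 2 1 (by decide), h2x] at e
  have n1 := B.nonneg (show (1 : Fin 4) ≠ 2 by decide) q1 h1q1
  have n2' := B.nonneg (show (1 : Fin 4) ≠ 2 by decide) q2 h1q2
  have c1 := (B.na 2).co_entry q1
  have c2 := (B.na 2).co_entry q2
  by_cases hq : co (a 2) q1 = 1
  · have hq2 : co (a 2) q2 = 0 := by omega
    exact B.row_aux x p p' q1 q2 hind5 f0 f1 h0 h0p h0p' h1q1 h1q2 h2x h2p h2p' hq hq2
  · have hq1 : co (a 2) q1 = 0 := by omega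
    have hq2 : co (a 2) q2 = 1 := by omega
    have hind5' : Indep [x, p, p', q2, q1] := by
      refine hind5.of_mem_iff rfl ?_
      intro ξ
      simp only [List.map_cons, List.map_nil, List.mem_cons, List.mem_nil_iff, or_false]
      simp only [or_comm, or_left_comm, or_assoc]
    exact B.row_aux x p p' q2 q1 hind5' f0 (fun k => by rw [f1 k]; ring) h0 h0p h0p' h1q2 h1q1
      h2x h2p h2p' hq2 hq1

end Block

end Cfsg.Agent.Helper8.TIComb
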