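import Mathlib
import Cfsg.Agent.Lib.Helper8.TIComb6

/-!
# The global decomposition (helper8)

A rectangular array `β i j` of norm three vectors with inner products
`[i = k] + [j = l] + [i = k][j = l]` decomposes as `u i + v j + z i j` along pairwise independent
units, as soon as the array is large enough.
-/

set_option autoImplicit false
set_option linter.unusedSectionVars false

namespace Cfsg.Agent.Helper8.TIComb

variable {Ξ : Type*} [Fintype Ξ] [DecidableEq Ξ]

/-- the Gram relations -/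
structure Gram {I J : Type*} (β : I → J → Ξ → ℤ) : Prop where
  n3 : ∀ i j, N3 (β i j)
  row : ∀ i j l, j ≠ l → ip (β i j) (β i l) = 1
  col : ∀ i k j, i ≠ k → ip (β i j) (β k j) = 1
  orth : ∀ i k j l, i ≠ k → j ≠ l → ip (β i j) (β k l) = 0

/-- the decomposition -/
structure Decomp {I J : Type*} (β : I → J → Ξ → ℤ) (u : I → SU Ξ) (v : J → SU Ξ)
    (z : I → J → SU Ξ) : Prop where
  formula : ∀ i j k, ip k (β i j) = co k (u i) + co k (v j) + co k (z i j)
  cu : ∀ i j, co (β i j) (u i) = 1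
  cv : ∀ i j, co (β i j) (v j) = 1
  cz : ∀ i j, co (β i j) (z i j) = 1
  u_inj : ∀ i k, (u i).pt = (u k).pt → i = k
  v_inj : ∀ j l, (v j).pt = (v l).pt → j = l
  uv : ∀ i j, (u i).pt ≠ (v j).pt
  zu : ∀ i j k, (z i j).pt ≠ (u k).pt
  zv : ∀ i j l, (z i j).pt ≠ (v l).pt
  z_inj : ∀ i j k l, (z i j).pt = (z k l).pt → i = k ∧ j = l

theorem inj4 {J : Type*} (a b c d : J) (hab : a ≠ b) (hac : a ≠ c) (had : a ≠ d) (hbc : b ≠ c)
    (hbd : b ≠ d) (hcd : c ≠ d) : Function.Injective ![a, b, c, d] := by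
  intro s t h
  fin_cases s <;> fin_cases t <;> first | rfl | (exfalso; simp at h; first | exact hab h | exact hac h | exact had h | exact hbc h | exact hbd h | exact hcd h | exact hab h.symm | exact hac h.symm | exact had h.symm | exact hbc h.symm | exact hbd h.symm | exact hcd h.symm)

namespace Gram

variable {I J : Type*} {β : I → J → Ξ → ℤ}

theorem transpose (G : Gram β) : Gram (fun j i => β i j) where
  n3 j i := G.n3 i j
  row j i k h := G.col i k j h
  col j l i h := G.row i j l h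
  orth j l i k hjl hik := G.orth i k j l hik hjl

theorem block (G : Gram β) {i k : I} (hik : i ≠ k) (σ : Fin 4 → J) (hσ : Function.Injective σ) :
    Block (fun t => β i (σ t)) (fun t => β k (σ t)) where
  na t := G.n3 _ _
  nb t := G.n3 _ _
  aa t s h := G.row _ _ _ (hσ.ne h)
  bb t s h := G.row _ _ _ (hσ.ne h)
  ab t s := by
    by_cases h : t = s
    · rw [if_pos h, h]
      exact G.col _ _ _ hik
    · rw [if_neg h]
      exact G.orth _ _ _ _ hik (hσ.ne h)

theorem hw_row (G : Gram β) {i k : I} (hik : i ≠ k) {j l : J} (hjl : j ≠ l) :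
    ip (β k j) (β i j) + ip (β k j) (β i l) = 1 := by
  rw [G.col k i j hik.symm, G.orth k i j l hik.symm hjl]
  norm_num

theorem hw_col (G : Gram β) {i k : I} (hik : i ≠ k) {j l : J} (hjl : j ≠ l) :
    ip (β i l) (β i j) + ip (β i l) (β k j) = 1 := by
  rw [G.row i l j hjl.symm, G.orth i k l j hik hjl.symm]
  norm_num

/-- the centre of a row -/
theorem row_center [Fintype J] (G : Gram β) (hJ : 4 ≤ Fintype.card J) {i k : I} (hik : i ≠ k) :
    ∃ x : SU Ξ, ∀ j, co (β i j) x = 1 := by
  obtain ⟨σ⟩ := Function.Embedding.nonempty_of_card_le (α := Fin 4) (β := J) (by simpa using hJ)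
  have h01 : σ 0 ≠ σ 1 := σ.injective.ne (by decide)
  have h02 : σ 0 ≠ σ 2 := σ.injective.ne (by decide)
  have h03 : σ 0 ≠ σ 3 := σ.injective.ne (by decide)
  have h12 : σ 1 ≠ σ 2 := σ.injective.ne (by decide)
  have h13 : σ 1 ≠ σ 3 := σ.injective.ne (by decide)
  have h23 : σ 2 ≠ σ 3 := σ.injective.ne (by decide)
  obtain ⟨x, hx0, hx1⟩ := exists_common (G.n3 i (σ 0)) (G.n3 i (σ 1)) (G.row i _ _ h01)
    (G.hw_row hik h01)
  refine ⟨x, fun j => ?_⟩
  by_cases hj0 : j = σ 0
  · rw [hj0]; exact hx0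
  by_cases hj1 : j = σ 1
  · rw [hj1]; exact hx1
  -- a fourth column
  obtain ⟨t, ht0, ht1, htj⟩ : ∃ t : J, σ 0 ≠ t ∧ σ 1 ≠ t ∧ j ≠ t := by
    by_cases hj2 : j = σ 2
    · exact ⟨σ 3, h03, h13, by rw [hj2]; exact h23⟩
    · exact ⟨σ 2, h02, h12, hj2⟩
  have hinj := inj4 (σ 0) (σ 1) j t h01 (Ne.symm hj0) ht0 (Ne.symm hj1) ht1 htj
  exact (G.block hik _ hinj).row x hx0 hx1

theorem exists_inj4 [Fintype J] [DecidableEq J] (hJ : 4 ≤ Fintype.card J) (j : J) :
    ∃ σ : Fin 4 → J, Function.Injective σ ∧ σ 0 = j := by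
  obtain ⟨σ⟩ := Function.Embedding.nonempty_of_card_le (α := Fin 4) (β := J) (by simpa using hJ)
  refine ⟨fun t => Equiv.swap j (σ 0) (σ t), ?_, ?_⟩
  · exact (Equiv.swap j (σ 0)).injective.comp σ.injective
  · simp

theorem pt_ne_of_co (f : Ξ → ℤ) {e e' : SU Ξ} (h : co f e = 0) (h' : co f e' = 1) :
    e.pt ≠ e'.pt := by
  intro heq
  have := co_natAbs_of_pt_eq f heq
  rw [h, h'] at this
  simp at this

/-- given the centres of the rows and of the columns, the array decomposes -/
theorem assemble [Fintype I] [Fintype J] [DecidableEq I] [DecidableEq J] (G : Gram β)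
    (hI : 2 ≤ Fintype.card I) (hJ : 4 ≤ Fintype.card J) (u : I → SU Ξ) (v : J → SU Ξ)
    (hu : ∀ i j, co (β i j) (u i) = 1) (hv : ∀ i j, co (β i j) (v j) = 1) :
    ∃ z : I → J → SU Ξ, Decomp β u v z := by
  have exI : ∀ i : I, ∃ k, k ≠ i := Fintype.exists_ne_of_one_lt_card (by omega)
  have exJ : ∀ j : J, ∃ l, l ≠ j := Fintype.exists_ne_of_one_lt_card (by omega)
  have hzu : ∀ i k j, k ≠ i → co (β k j) (u i) = 0 := by
    intro i k j hki
    obtain ⟨σ, hσ, h0⟩ := exists_inj4 hJ j
    have := (G.block (Ne.symm hki) σ hσ).center (u i) (fun t => hu i (σ t)) 0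
    simpa only [h0] using this
  have huv : ∀ i j, (u i).pt ≠ (v j).pt := by
    intro i j
    obtain ⟨k, hk⟩ := exI i
    exact pt_ne_of_co (β k j) (hzu i k j hk) (hv k j)
  have hzv : ∀ i j l, l ≠ j → co (β i l) (v j) = 0 := by
    intro i j l hlj
    obtain ⟨k, hk⟩ := exI i
    rcases excl_of_pair (G.n3 i j) (G.n3 i l) (G.row i j l (Ne.symm hlj))
      (G.hw_row (Ne.symm hk) (Ne.symm hlj)) (u i) (hu i j) (hu i l) (v j) (huv i j).symm with h | h
    · rw [hv i j] at h
      exact absurd h one_ne_zero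
    · exact h
  have hex : ∀ i j, ∃ z : SU Ξ, Indep [u i, v j, z] ∧ co (β i j) z = 1 ∧
      ∀ k, ip k (β i j) = co k (u i) + co k (v j) + co k z := by
    intro i j
    have hind2 : Indep [u i, v j] := by
      unfold Indep
      simp only [List.map_cons, List.map_nil, List.nodup_cons, List.mem_cons, List.mem_nil_iff,
        or_false, not_false_eq_true, List.nodup_nil, and_true]
      exact huv i j
    obtain ⟨L', hind3, hlen, hco, hip⟩ := expand hind2 (G.n3 i j)
    simp only [List.map_cons, List.map_nil, List.sum_cons, List.sum_nil, add_zero,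
      hu i j, hv i j] at hlen hip
    have hl1 : L'.length = 1 := by
      omega
    obtain ⟨z, rfl⟩ := List.length_eq_one_iff.mp hl1
    simp only [List.cons_append, List.nil_append] at hind3
    refine ⟨z, hind3, hco z (by simp), ?_⟩
    intro k
    rw [hip k]
    simp only [List.map_cons, List.map_nil, List.sum_cons, List.sum_nil]
    ring
  choose z hz1 hz2 hz3 using hex
  have hzne : ∀ i j, (z i j).pt ≠ (u i).pt ∧ (z i j).pt ≠ (v j).pt := by
    intro i j
    have hd3 := hz1 i j
    unfold Indep at hd3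
    simp only [List.map_cons, List.map_nil, List.nodup_cons, List.mem_cons, List.mem_nil_iff,
      or_false, not_or, not_false_eq_true, List.nodup_nil, and_true] at hd3
    exact ⟨fun h => hd3.1.2 h.symm, fun h => hd3.2 h.symm⟩
  have hz_row : ∀ i j l, l ≠ j → co (β i l) (z i j) = 0 := by
    intro i j l hlj
    obtain ⟨k, hk⟩ := exI i
    rcases excl_of_pair (G.n3 i j) (G.n3 i l) (G.row i j l (Ne.symm hlj))
      (G.hw_row (Ne.symm hk) (Ne.symm hlj)) (u i) (hu i j) (hu i l) (z i j) (hzne i j).1 with h | h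
    · rw [hz2 i j] at h
      exact absurd h one_ne_zero
    · exact h
  have hz_col : ∀ i j k, k ≠ i → co (β k j) (z i j) = 0 := by
    intro i j k hki
    obtain ⟨l, hl⟩ := exJ j
    rcases excl_of_pair (G.n3 i j) (G.n3 k j) (G.col i k j (Ne.symm hki))
      (G.hw_col (Ne.symm hki) (Ne.symm hl)) (v j) (hv i j) (hv k j) (z i j) (hzne i j).2 with h | h
    · rw [hz2 i j] at h
      exact absurd h one_ne_zero
    · exact h
  have hz_orth : ∀ i j k l, k ≠ i → l ≠ j → co (β k l) (z i j) = 0 := by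
    intro i j k l hki hlj
    have := hz3 i j (β k l)
    rw [G.orth k i l j hki hlj, hzu i k l hki, hzv k j l hlj] at this
    omega
  have hz_all : ∀ i j k l, ¬(i = k ∧ j = l) → co (β k l) (z i j) = 0 := by
    intro i j k l hne
    by_cases hik : k = i
    · subst hik
      by_cases hjl : l = j
      · subst hjl
        exact absurd ⟨rfl, rfl⟩ hne
      · exact hz_row k j l hjl
    · by_cases hjl : l = j
      · subst hjl
        exact hz_col i l k hik
      · exact hz_orth i j k l hik hjl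
  refine ⟨z, ⟨fun i j k => hz3 i j k, hu, hv, hz2, ?_, ?_, huv, ?_, ?_, ?_⟩⟩
  · intro i k h
    by_contra hne
    obtain ⟨j⟩ : Nonempty J := Fintype.card_pos_iff.mp (by omega)
    exact pt_ne_of_co (β k j) (hzu i k j (Ne.symm hne)) (hu k j) h
  · intro j l h
    by_contra hne
    obtain ⟨i⟩ : Nonempty I := Fintype.card_pos_iff.mp (by omega)
    exact pt_ne_of_co (β i l) (hzv i j l (Ne.symm hne)) (hv i l) h
  · intro i j k
    by_cases hik : k = i
    · rw [hik]
      exact (hzne i j).1
    · exact (pt_ne_of_co (β i j) (hzu k i j (Ne.symm hik)) (hz2 i j)).symm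
  · intro i j l
    by_cases hjl : l = j
    · rw [hjl]
      exact (hzne i j).2
    · exact (pt_ne_of_co (β i j) (hzv i l j (Ne.symm hjl)) (hz2 i j)).symm
  · intro i j k l h
    by_contra hne
    exact pt_ne_of_co (β k l) (hz_all i j k l hne) (hz2 k l) h

theorem decomp_aux [Fintype I] [Fintype J] [DecidableEq I] [DecidableEq J] (G : Gram β)
    (hI : Fintype.card I = 2 ∨ 4 ≤ Fintype.card I) (hJ : 4 ≤ Fintype.card J) :
    ∃ (u : I → SU Ξ) (v : J → SU Ξ) (z : I → J → SU Ξ), Decomp β u v z := by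
  have hI2 : 2 ≤ Fintype.card I := by omega
  have exI : ∀ i : I, ∃ k, k ≠ i := Fintype.exists_ne_of_one_lt_card (by omega)
  have exJ : ∀ j : J, ∃ l, l ≠ j := Fintype.exists_ne_of_one_lt_card (by omega)
  have hrow : ∀ i, ∃ x : SU Ξ, ∀ j, co (β i j) x = 1 := by
    intro i
    obtain ⟨k, hk⟩ := exI i
    exact G.row_center hJ (Ne.symm hk)
  choose u hu using hrow
  have hcol : ∀ j, ∃ x : SU Ξ, ∀ i, co (β i j) x = 1 := by
    intro j
    obtain ⟨l, hl⟩ := exJ j
    rcases hI with h2 | h4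
    · rw [← Finset.card_univ, Finset.card_eq_two] at h2
      obtain ⟨i0, i1, hne, huniv⟩ := h2
      obtain ⟨x, hx0, hx1⟩ := exists_common (G.n3 i0 j) (G.n3 i1 j) (G.col i0 i1 j hne)
        (G.hw_col hne (Ne.symm hl))
      refine ⟨x, fun i => ?_⟩
      have hi : i ∈ (Finset.univ : Finset I) := Finset.mem_univ i
      rw [huniv] at hi
      simp only [Finset.mem_insert, Finset.mem_singleton] at hi
      rcases hi with rfl | rfl
      · exact hx0
      · exact hx1
    · exact G.transpose.row_center h4 (Ne.symm hl)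
  choose v hv using hcol
  obtain ⟨z, hz⟩ := G.assemble hI2 hJ u v hu (fun i j => hv j i)
  exact ⟨u, v, z, hz⟩

end Gram

theorem Decomp.transpose {I J : Type*} {β : I → J → Ξ → ℤ} {u : I → SU Ξ} {v : J → SU Ξ}
    {z : J → I → SU Ξ} (D : Decomp (fun j i => β i j) v u z) :
    Decomp β u v (fun i j => z j i) where
  formula i j k := by
    rw [D.formula j i k]
    ring
  cu i j := D.cv j i
  cv i j := D.cu j i
  cz i j := D.cz j i
  u_inj := D.v_inj
  v_inj := D.u_inj
  uv i j := (D.uv j i).symm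
  zu i j k := D.zv j i k
  zv i j l := D.zu j i l
  z_inj i j k l h := (D.z_inj j i l k h).symm

/-- the decomposition theorem -/
theorem Gram.decomp {I J : Type*} {β : I → J → Ξ → ℤ} [Fintype I] [Fintype J] [DecidableEq I]
    [DecidableEq J] (G : Gram β)
    (hI : Fintype.card I = 2 ∨ 4 ≤ Fintype.card I) (hJ : Fintype.card J = 2 ∨ 4 ≤ Fintype.card J)
    (h : 4 ≤ Fintype.card I ∨ 4 ≤ Fintype.card J) :
    ∃ (u : I → SU Ξ) (v : J → SU Ξ) (z : I → J → SU Ξ), Decomp β u v z := by
  rcases h with h | h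
  · obtain ⟨v, u, z, D⟩ := G.transpose.decomp_aux hJ h
    exact ⟨u, v, fun i j => z j i, D.transpose⟩
  · exact G.decomp_aux hI h

end Cfsg.Agent.Helper8.TIComb
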