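import Mathlib
import Cfsg.Agent.Lib.Helper8.TIComb7
import Cfsg.Agent.Lib.Helper8.CharExtra
import Cfsg.Agent.Lib.Helper24.CharLinear

/-!
# Generalized characters as integer vectors (helper8)

The multiplicity vector of a generalized character, signed irreducible characters attached to
signed units, and the translation of the combinatorial decomposition.
-/

set_option autoImplicit false
set_option linter.unusedSectionVars false

namespace Cfsg.Agent.Helper8.TIChar

open Cfsg Cfsg.Agent.Helper24 Cfsg.Agent.Helper8 Cfsg.Agent.Helper8.TIComb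
open scoped ComplexConjugate

universe u

variable {G : Type u} [Group G] [Fintype G]

/-- the multiplicity vector -/
noncomputable def coef (θ : G → ℂ) (μ : IrrCharacter G) : ℤ :=
  ⌊(Cfsg.classInner θ (μ : G → ℂ)).re⌋

theorem coef_spec {θ : G → ℂ} (hθ : Cfsg.IsGeneralizedCharacter G θ) (μ : IrrCharacter G) :
    ((coef θ μ : ℤ) : ℂ) = Cfsg.classInner θ (μ : G → ℂ) := by
  classical
  letI : Fintype (IrrCharacter G) := irrFintype
  obtain ⟨m, hm⟩ := genChar_inner_int hθ μ
  unfold coef
  rw [hm]
  simp

section Fin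

variable [Fintype (IrrCharacter G)]

theorem genChar_eq_sum {θ : G → ℂ} (hθ : Cfsg.IsGeneralizedCharacter G θ) :
    θ = ∑ μ : IrrCharacter G, ((coef θ μ : ℤ) : ℂ) • (μ : G → ℂ) := by
  have hexp := classFunction_expansion (isClassFunction_of_isGeneralizedCharacter hθ)
  conv_lhs => rw [hexp]
  refine Finset.sum_congr rfl fun μ _ => ?_
  rw [coef_spec hθ]

/-- Parseval -/
theorem ip_coef {θ η : G → ℂ} (hθ : Cfsg.IsGeneralizedCharacter G θ)
    (hη : Cfsg.IsGeneralizedCharacter G η) :
    ((ip (coef θ) (coef η) : ℤ) : ℂ) = Cfsg.classInner θ η := by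
  rw [classInner_eq_sum_mul (isClassFunction_of_isGeneralizedCharacter hθ)]
  unfold ip
  push_cast
  refine Finset.sum_congr rfl fun μ _ => ?_
  rw [coef_spec hθ, coef_spec hη, ← coef_spec hη, map_intCast]

/-- the signed irreducible character of a signed unit -/
noncomputable def fn (e : SU (IrrCharacter G)) : G → ℂ := ((e.sg : ℤ) : ℂ) • (e.pt : G → ℂ)

omit [Fintype (IrrCharacter G)] in
theorem fn_neg (e : SU (IrrCharacter G)) : fn e.neg = -fn e := by
  unfold fn SU.neg
  simp

omit [Fintype (IrrCharacter G)] in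
theorem fn_sirr (e : SU (IrrCharacter G)) :
    Cfsg.IsIrrCharacter G (fn e) ∨ Cfsg.IsIrrCharacter G (-fn e) := by
  unfold fn
  rcases e.hs with h | h
  · left
    rw [h]
    simpa using e.pt.2
  · right
    rw [h]
    simpa using e.pt.2

omit [Fintype (IrrCharacter G)] in
theorem fn_classFunction (e : SU (IrrCharacter G)) : Cfsg.IsClassFunction G (fn e) := by
  intro g h
  unfold fn
  simp only [Pi.smul_apply]
  rw [isClassFunction_of_isIrrCharacter e.pt.2 g h]

omit [Fintype (IrrCharacter G)] in
theorem classInner_fn_fn (e e' : SU (IrrCharacter G)) [Decidable (e.pt = e'.pt)] :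
    Cfsg.classInner (fn e) (fn e') = if e.pt = e'.pt then ((e.sg * e'.sg : ℤ) : ℂ) else 0 := by
  unfold fn
  rw [classInner_smul_left, classInner_smul_right, irr_orthogonality', map_intCast]
  by_cases h : e.pt = e'.pt
  · rw [if_pos h, if_pos h]
    push_cast
    ring
  · rw [if_neg h, if_neg h]
    ring

omit [Fintype (IrrCharacter G)] in
theorem ip_single [Fintype (IrrCharacter G)] [DecidableEq (IrrCharacter G)]
    (μ : IrrCharacter G) (f : IrrCharacter G → ℤ) :
    ip (Pi.single μ (1 : ℤ)) f = f μ := by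
  unfold ip
  rw [Finset.sum_eq_single μ]
  · simp
  · intro b _ hb
    simp [Pi.single_apply, hb]
  · intro h
    exact absurd (Finset.mem_univ _) h

omit [Fintype (IrrCharacter G)] in
theorem sum_co_single [Fintype (IrrCharacter G)] [DecidableEq (IrrCharacter G)]
    (e : SU (IrrCharacter G)) :
    ∑ μ : IrrCharacter G, ((co (Pi.single μ (1 : ℤ)) e : ℤ) : ℂ) • (μ : G → ℂ) = fn e := by
  unfold co fn
  rw [Finset.sum_eq_single e.pt]
  · simp
  · intro b _ hb
    simp [Pi.single_apply, Ne.symm hb]
  · intro h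
    exact absurd (Finset.mem_univ _) h

/-- translation of the combinatorial formula -/
theorem eq_of_formula [DecidableEq (IrrCharacter G)] {θ : G → ℂ}
    (hθ : Cfsg.IsGeneralizedCharacter G θ) (e1 e2 e3 : SU (IrrCharacter G))
    (h : ∀ k : IrrCharacter G → ℤ, ip k (coef θ) = co k e1 + co k e2 + co k e3) :
    θ = fn e1 + fn e2 + fn e3 := by
  conv_lhs => rw [genChar_eq_sum hθ]
  have hc : ∀ μ : IrrCharacter G, coef θ μ = co (Pi.single μ (1 : ℤ)) e1
      + co (Pi.single μ (1 : ℤ)) e2 + co (Pi.single μ (1 : ℤ)) e3 := by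
    intro μ
    rw [← h, ip_single]
  simp only [hc]
  push_cast
  simp only [add_smul, Finset.sum_add_distrib]
  rw [sum_co_single, sum_co_single, sum_co_single]

end Fin

end Cfsg.Agent.Helper8.TIChar
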