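import Mathlib
import Cfsg.Agent.Lib.Helper8.TIChar1
import Cfsg.Agent.Lib.Helper8.IndFun
import Cfsg.Agent.Lib.Helper8.Dual
import Cfsg.Agent.S1506

/-!
# The values on the TI-part follow from the other properties (helper8)
-/

set_option autoImplicit false
set_option linter.unusedSectionVars false

namespace Cfsg.Agent.Helper8.TIChar

open Cfsg Cfsg.Agent.Helper24 Cfsg.Agent.Helper8
open scoped ComplexConjugate

/-- orthogonality of the linear characters -/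
theorem hom_inner {A : Type*} [Group A] [Fintype A] (ω ω' : A →* ℂˣ) [Decidable (ω = ω')] :
    Cfsg.classInner (fun a : A => ((ω a : ℂˣ) : ℂ)) (fun a : A => ((ω' a : ℂˣ) : ℂ))
      = if ω = ω' then 1 else 0 := by
  classical
  rw [irr_orthogonality (isIrrCharacter_of_monoidHom ω) (isIrrCharacter_of_monoidHom ω')]
  by_cases h : ω = ω'
  · rw [if_pos h, if_pos (by rw [h])]
  · rw [if_neg h, if_neg]
    intro h'
    apply h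
    ext a
    exact congrFun h' a

theorem hom_inner' {A : Type*} [Group A] [Fintype A] (ω ω' : A →* ℂˣ) :
    Cfsg.classInner (fun a : A => ((ω a : ℂˣ) : ℂ)) (fun a : A => ((ω' a : ℂˣ) : ℂ))
      = @ite ℂ (ω = ω') (Classical.propDecidable _) 1 0 :=
  @hom_inner _ _ _ ω ω' (Classical.propDecidable _)

theorem classInner_sub_left {A : Type*} [Group A] [Fintype A] (φ₁ φ₂ ψ : A → ℂ) :
    Cfsg.classInner (fun a => φ₁ a - φ₂ a) ψ = Cfsg.classInner φ₁ ψ - Cfsg.classInner φ₂ ψ := by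
  simp only [classInner_def, sub_mul, Finset.sum_sub_distrib, mul_sub]

section Main

variable {G : Type*} [Group G] [Fintype G]

open Classical in
/-- the values of the family on the TI-part are forced by the other properties -/
theorem eq_on_of_rest (W₁ W₂ : Subgroup G) (hW : Cfsg.IsSelfNormalizingCyclic W₁ W₂)
    (χ : (↥(W₁ ⊔ W₂) →* ℂˣ) → (G → ℂ))
    (hcf : ∀ ω, Cfsg.IsClassFunction G (χ ω))
    (horth : ∀ ω ω', Cfsg.classInner (χ ω) (χ ω')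
      = @ite ℂ (ω = ω') (Classical.propDecidable _) 1 0)
    (hone : χ 1 = fun _ => 1)
    (hind : ∀ φ ψ : ↥(W₁ ⊔ W₂) →* ℂˣ, φ ≠ 1 → ψ ≠ 1 →
      (∀ w : ↥(W₁ ⊔ W₂), (w : G) ∈ W₂ → φ w = 1) → (∀ w : ↥(W₁ ⊔ W₂), (w : G) ∈ W₁ → ψ w = 1) →
      Cfsg.indFun (W₁ ⊔ W₂) (fun w => 1 - (φ w : ℂ) - (ψ w : ℂ) + (φ w : ℂ) * (ψ w : ℂ)) =
        fun g => 1 - χ φ g - χ ψ g + χ (φ * ψ) g)
    (ω₀ : ↥(W₁ ⊔ W₂) →* ℂˣ) (w : ↥(W₁ ⊔ W₂)) (hw₁ : (w : G) ∉ W₁) (hw₂ : (w : G) ∉ W₂) :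
    χ ω₀ w = (ω₀ w : ℂ) := by
  obtain ⟨hW1, hW2, hdisj, hcomm, hcyc, hnorm⟩ := hW
  have hA : ∀ x y : ↥(W₁ ⊔ W₂), x * y = y * x := by
    intro x y
    have := hcyc
    let _ := IsCyclic.commGroup (α := ↥(W₁ ⊔ W₂))
    exact mul_comm x y
  have hinf : W₁.subgroupOf (W₁ ⊔ W₂) ⊓ W₂.subgroupOf (W₁ ⊔ W₂) = ⊥ := by
    rw [eq_bot_iff]
    intro x hx
    obtain ⟨h1, h2⟩ := Subgroup.mem_inf.mp hx
    have : (x : G) ∈ W₁ ⊓ W₂ := Subgroup.mem_inf.mpr ⟨h1, h2⟩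
    rw [hdisj, Subgroup.mem_bot] at this
    rw [Subgroup.mem_bot]
    exact Subtype.ext this
  have := finite_hom hA
  have : Fintype ↥(W₁ ⊔ W₂) := Fintype.ofFinite _
  have : Fintype ↥(trivOn (W₂.subgroupOf (W₁ ⊔ W₂))) := Fintype.ofFinite _
  have : Fintype ↥(trivOn (W₁.subgroupOf (W₁ ⊔ W₂))) := Fintype.ofFinite _
  -- orthogonality on `W`
  have horthW : ∀ (φ : ↥(trivOn (W₂.subgroupOf (W₁ ⊔ W₂))))
      (ψ : ↥(trivOn (W₁.subgroupOf (W₁ ⊔ W₂)))),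
      Cfsg.classInner (fun h : ↥(W₁ ⊔ W₂) => χ ω₀ h - ((ω₀ h : ℂˣ) : ℂ))
        (fun w' : ↥(W₁ ⊔ W₂) => 1 - (((φ : ↥(W₁ ⊔ W₂) →* ℂˣ) w' : ℂˣ) : ℂ)
          - (((ψ : ↥(W₁ ⊔ W₂) →* ℂˣ) w' : ℂˣ) : ℂ)
          + (((φ : ↥(W₁ ⊔ W₂) →* ℂˣ) w' : ℂˣ) : ℂ) * (((ψ : ↥(W₁ ⊔ W₂) →* ℂˣ) w' : ℂˣ) : ℂ)) = 0 := by
    rintro ⟨φ, hφ⟩ ⟨ψ, hψ⟩
    simp only
    by_cases hφ1 : φ = 1
    · have : (fun w' : ↥(W₁ ⊔ W₂) => 1 - ((φ w' : ℂˣ) : ℂ) - ((ψ w' : ℂˣ) : ℂ)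
          + ((φ w' : ℂˣ) : ℂ) * ((ψ w' : ℂˣ) : ℂ)) = 0 := by
        ext w'
        rw [hφ1]
        simp
      rw [this, Helper24.classInner_zero_right]
    by_cases hψ1 : ψ = 1
    · have : (fun w' : ↥(W₁ ⊔ W₂) => 1 - ((φ w' : ℂˣ) : ℂ) - ((ψ w' : ℂˣ) : ℂ)
          + ((φ w' : ℂˣ) : ℂ) * ((ψ w' : ℂˣ) : ℂ)) = 0 := by
        ext w'
        rw [hψ1]
        simp
      rw [this, Helper24.classInner_zero_right]
    rw [classInner_sub_left (fun h : ↥(W₁ ⊔ W₂) => χ ω₀ h) (fun h => ((ω₀ h : ℂˣ) : ℂ)),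
      ← classInner_indFun_right (W₁ ⊔ W₂) _ (χ ω₀) (hcf ω₀),
      hind φ ψ hφ1 hψ1 (fun w' hw' => hφ w' hw') (fun w' hw' => hψ w' hw'),
      S1506.classInner_combo, show (fun _ : G => (1 : ℂ)) = χ 1 from hone.symm,
      horth, horth, horth, horth]
    have e1 : (fun w' : ↥(W₁ ⊔ W₂) => 1 - ((φ w' : ℂˣ) : ℂ) - ((ψ w' : ℂˣ) : ℂ)
          + ((φ w' : ℂˣ) : ℂ) * ((ψ w' : ℂˣ) : ℂ))
        = fun w' : ↥(W₁ ⊔ W₂) => 1 - (fun a => ((φ a : ℂˣ) : ℂ)) w' - (fun a => ((ψ a : ℂˣ) : ℂ)) w'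
          + (fun a => (((φ * ψ) a : ℂˣ) : ℂ)) w' := by
      ext w'
      simp
    have e2 : (fun _ : ↥(W₁ ⊔ W₂) => (1 : ℂ))
        = fun a => (((1 : ↥(W₁ ⊔ W₂) →* ℂˣ) a : ℂˣ) : ℂ) := by
      ext a
      simp
    rw [e1, S1506.classInner_combo, e2, hom_inner', hom_inner', hom_inner', hom_inner']
    ring
  -- the delta function at `w`
  have hdelta : (∑ φ : ↥(trivOn (W₂.subgroupOf (W₁ ⊔ W₂))),
      ∑ ψ : ↥(trivOn (W₁.subgroupOf (W₁ ⊔ W₂))),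
        ((((φ : ↥(W₁ ⊔ W₂) →* ℂˣ) w⁻¹ : ℂˣ) : ℂ) * (((ψ : ↥(W₁ ⊔ W₂) →* ℂˣ) w⁻¹ : ℂˣ) : ℂ)) •
        (fun w' : ↥(W₁ ⊔ W₂) => 1 - (((φ : ↥(W₁ ⊔ W₂) →* ℂˣ) w' : ℂˣ) : ℂ)
          - (((ψ : ↥(W₁ ⊔ W₂) →* ℂˣ) w' : ℂˣ) : ℂ)
          + (((φ : ↥(W₁ ⊔ W₂) →* ℂˣ) w' : ℂˣ) : ℂ) * (((ψ : ↥(W₁ ⊔ W₂) →* ℂˣ) w' : ℂˣ) : ℂ)))
      = fun w' : ↥(W₁ ⊔ W₂) => if w' = w then
          (Nat.card ↥(trivOn (W₂.subgroupOf (W₁ ⊔ W₂))) : ℂ)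
            * (Nat.card ↥(trivOn (W₁.subgroupOf (W₁ ⊔ W₂))) : ℂ) else 0 := by
    ext w'
    rw [← delta_expansion hA _ _ hinf w hw₁ hw₂ w']
    simp only [Finset.sum_apply, Pi.smul_apply, smul_eq_mul]
  have h0 : Cfsg.classInner (fun h : ↥(W₁ ⊔ W₂) => χ ω₀ h - ((ω₀ h : ℂˣ) : ℂ))
      (fun w' : ↥(W₁ ⊔ W₂) => if w' = w then
          (Nat.card ↥(trivOn (W₂.subgroupOf (W₁ ⊔ W₂))) : ℂ)
            * (Nat.card ↥(trivOn (W₁.subgroupOf (W₁ ⊔ W₂))) : ℂ) else 0) = 0 := by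
    rw [← hdelta, Helper24.classInner_sum_right]
    apply Finset.sum_eq_zero
    intro φ _
    rw [Helper24.classInner_sum_right]
    apply Finset.sum_eq_zero
    intro ψ _
    rw [Helper24.classInner_smul_right, horthW, mul_zero]
  rw [classInner_def] at h0
  have hcard : (Nat.card ↥(W₁ ⊔ W₂) : ℂ) ≠ 0 := by
    exact_mod_cast (Nat.card_pos (α := ↥(W₁ ⊔ W₂))).ne'
  have hN1 : (Nat.card ↥(trivOn (W₂.subgroupOf (W₁ ⊔ W₂))) : ℂ) ≠ 0 := by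
    exact_mod_cast (card_trivOn_pos hA _).ne'
  have hN2 : (Nat.card ↥(trivOn (W₁.subgroupOf (W₁ ⊔ W₂))) : ℂ) ≠ 0 := by
    exact_mod_cast (card_trivOn_pos hA _).ne'
  rw [Finset.sum_eq_single w] at h0
  · rw [if_pos rfl] at h0
    simp only [map_mul, map_natCast, mul_eq_zero, inv_eq_zero, hcard, hN1, hN2, false_or,
      or_false] at h0
    exact sub_eq_zero.mp h0
  · intro b _ hb
    rw [if_neg hb, map_zero, mul_zero]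
  · intro h
    exact absurd (Finset.mem_univ w) h

end Main

end Cfsg.Agent.Helper8.TIChar
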