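import Mathlib
import Cfsg.Agent.Lib.Helper8.TIChar2
import Cfsg.Agent.Lib.Helper8.CycTI3

/-!
# Auxiliary statements for the construction of the family (helper8)
-/

set_option autoImplicit false
set_option linter.unusedSectionVars false

namespace Cfsg.Agent.Helper8.TIChar

open Cfsg Cfsg.Agent.Helper24 Cfsg.Agent.Helper8 Cfsg.Agent.Helper8.TIComb
open scoped ComplexConjugate

section Opt

variable {α : Type*} [One α] [DecidableEq α]

/-- sorting out the trivial element -/
def optOf (a : α) : Option {a : α // a ≠ 1} := if h : a = 1 then none else some ⟨a, h⟩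

theorem optOf_one : optOf (1 : α) = none := dif_pos rfl

theorem optOf_ne {a : α} (h : a ≠ 1) : optOf a = some ⟨a, h⟩ := dif_neg h

theorem optOf_injective : Function.Injective (optOf : α → Option {a : α // a ≠ 1}) := by
  intro a b hab
  by_cases ha : a = 1
  · by_cases hb : b = 1
    · rw [ha, hb]
    · rw [ha, optOf_one, optOf_ne hb] at hab
      cases hab
  · by_cases hb : b = 1
    · rw [hb, optOf_one, optOf_ne ha] at hab
      cases hab
    · rw [optOf_ne ha, optOf_ne hb] at hab
      exact congrArg Subtype.val (Option.some.inj hab)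

theorem card_ne_one [Fintype α] :
    Fintype.card {a : α // a ≠ 1} = Fintype.card α - 1 := by
  have := Fintype.card_subtype_compl (fun a : α => a = 1)
  rw [Fintype.card_subtype_eq] at this
  exact this

end Opt

section Units

variable {Ξ : Type*} {I J : Type*}

/-- the units of the family, indexed by pairs -/
def unitOf (e₀ : TIComb.SU Ξ) (u : I → TIComb.SU Ξ) (v : J → TIComb.SU Ξ) (z : I → J → TIComb.SU Ξ) :
    Option I × Option J → TIComb.SU Ξ
  | (none, none) => e₀
  | (some i, none) => (u i).neg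
  | (none, some j) => (v j).neg
  | (some i, some j) => z i j

theorem unitOf_inj [Fintype Ξ] {β : I → J → Ξ → ℤ} {u : I → TIComb.SU Ξ} {v : J → TIComb.SU Ξ}
    {z : I → J → TIComb.SU Ξ} (D : Decomp β u v z) (e₀ : TIComb.SU Ξ) (h0u : ∀ i, e₀.pt ≠ (u i).pt)
    (h0v : ∀ j, e₀.pt ≠ (v j).pt) (h0z : ∀ i j, e₀.pt ≠ (z i j).pt) :
    ∀ a b, (unitOf e₀ u v z a).pt = (unitOf e₀ u v z b).pt → a = b := by
  rintro ⟨_ | i, _ | j⟩ ⟨_ | k, _ | l⟩ h
  · rfl
  · exact absurd h (h0v l)
  · exact absurd h (h0u k)
  · exact absurd h (h0z k l)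
  · exact absurd h.symm (h0v j)
  · rw [D.v_inj j l h]
  · exact absurd h.symm (D.uv k j)
  · exact absurd h.symm (D.zv k l j)
  · exact absurd h.symm (h0u i)
  · exact absurd h (D.uv i l)
  · rw [D.u_inj i k h]
  · exact absurd h.symm (D.zu k l i)
  · exact absurd h.symm (h0z i j)
  · exact absurd h (D.zv i j l)
  · exact absurd h (D.zu i j k)
  · obtain ⟨h1, h2⟩ := D.z_inj i j k l h
    rw [h1, h2]

end Units

/-- in a cyclic group two complementary subgroups cannot both have order three -/
theorem not_both_three {A : Type*} [Group A] [Finite A] [IsCyclic A] (A₁ A₂ : Subgroup A)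
    (hinf : A₁ ⊓ A₂ = ⊥) (hsup : A₁ ⊔ A₂ = ⊤) (h1 : Nat.card A₁ = 3) (h2 : Nat.card A₂ = 3) :
    False := by
  let _ := IsCyclic.commGroup (α := A)
  have hA : ∀ x y : A, x * y = y * x := mul_comm
  have hcard : Nat.card A = 9 := by
    rw [← (isComplement'_of_comm hA A₁ A₂ hinf hsup).card_mul_card, h1, h2]
  have hexp : Monoid.exponent A ∣ 3 := by
    apply Monoid.exponent_dvd_of_forall_pow_eq_one
    intro x
    have hx : x ∈ A₁ ⊔ A₂ := by
      rw [hsup]
      exact Subgroup.mem_top x
    obtain ⟨a, ha, b, hb, rfl⟩ := Subgroup.mem_sup.mp hx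
    have ha3 : a ^ 3 = 1 := by
      have := pow_card_eq_one' (G := A₁) (x := ⟨a, ha⟩)
      rw [h1] at this
      exact congrArg Subtype.val this
    have hb3 : b ^ 3 = 1 := by
      have := pow_card_eq_one' (G := A₂) (x := ⟨b, hb⟩)
      rw [h2] at this
      exact congrArg Subtype.val this
    rw [mul_pow, ha3, hb3, one_mul]
  rw [IsCyclic.exponent_eq_card, hcard] at hexp
  omega

end Cfsg.Agent.Helper8.TIChar
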