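import Mathlib
import Cfsg.Agent.Lib.Helper8.TIChar3
import Cfsg.Agent.Lib.Helper18.GenChar
import Cfsg.Agent.S1505

/-!
# Existence of the family attached to a self-normalising cyclic subgroup of odd order (helper8)
-/

set_option autoImplicit false
set_option linter.unusedSectionVars false

namespace Cfsg.Agent.Helper8.TIChar

open Cfsg Cfsg.Agent.Helper24 Cfsg.Agent.Helper8 Cfsg.Agent.Helper8.TIComb
open scoped ComplexConjugate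

section Main

variable {G : Type*} [Group G] [Fintype G]

theorem classInner_sub_sub (X Y : G → ℂ) :
    Cfsg.classInner (X - fun _ => 1) (Y - fun _ => 1)
      = Cfsg.classInner X Y - Cfsg.classInner X (fun _ => 1) - conj (Cfsg.classInner Y (fun _ => 1))
        + Cfsg.classInner (fun _ : G => (1 : ℂ)) (fun _ => 1) := by
  rw [← Cfsg.Agent.Helper8.classInner_conj_symm (fun _ : G => (1 : ℂ)) Y]
  simp only [classInner_def, Pi.sub_apply, map_sub, map_one, mul_sub, sub_mul, mul_one, one_mul,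
    Finset.sum_sub_distrib]
  ring

theorem classInner_one_one : Cfsg.classInner (fun _ : G => (1 : ℂ)) (fun _ => 1) = 1 := by
  classical
  rw [irr_orthogonality isIrrCharacter_one isIrrCharacter_one, if_pos rfl]

variable (W₁ W₂ : Subgroup G)

/-- the generalized character `Ind (1 - φ)(1 - ψ) - 1` -/
noncomputable def bfun (φ ψ : ↥(W₁ ⊔ W₂) →* ℂˣ) : G → ℂ :=
  Cfsg.indFun (W₁ ⊔ W₂) (fun w => 1 - (φ w : ℂ) - (ψ w : ℂ) + (φ w : ℂ) * (ψ w : ℂ)) - fun _ => 1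

theorem bfun_genChar (φ ψ : ↥(W₁ ⊔ W₂) →* ℂˣ) : Cfsg.IsGeneralizedCharacter G (bfun W₁ W₂ φ ψ) := by
  unfold bfun
  refine Helper18.isGenChar_sub (Helper18.isGenChar_indFun _ ?_) Helper18.isGenChar_one
  refine ⟨fun w => 1 + (((φ * ψ) w : ℂˣ) : ℂ), fun w => ((φ w : ℂˣ) : ℂ) + ((ψ w : ℂˣ) : ℂ), ?_, ?_, ?_⟩
  · exact isCharacter_add isCharacter_one
      (isCharacter_of_isIrrCharacter (isIrrCharacter_of_monoidHom (φ * ψ)))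
  · exact isCharacter_add (isCharacter_of_isIrrCharacter (isIrrCharacter_of_monoidHom φ))
      (isCharacter_of_isIrrCharacter (isIrrCharacter_of_monoidHom ψ))
  · funext w
    simp only [Pi.sub_apply, MonoidHom.mul_apply, Units.val_mul]
    ring

variable {W₁ W₂}

open Classical in
theorem bfun_inner (hW : Cfsg.IsSelfNormalizingCyclic W₁ W₂) (φ φ' ψ ψ' : ↥(W₁ ⊔ W₂) →* ℂˣ)
    (hφ : φ ≠ 1) (hφ' : φ' ≠ 1) (hψ : ψ ≠ 1) (hψ' : ψ' ≠ 1)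
    (hφ₂ : ∀ w : ↥(W₁ ⊔ W₂), (w : G) ∈ W₂ → φ w = 1)
    (hφ₂' : ∀ w : ↥(W₁ ⊔ W₂), (w : G) ∈ W₂ → φ' w = 1)
    (hψ₁ : ∀ w : ↥(W₁ ⊔ W₂), (w : G) ∈ W₁ → ψ w = 1)
    (hψ₁' : ∀ w : ↥(W₁ ⊔ W₂), (w : G) ∈ W₁ → ψ' w = 1) :
    Cfsg.classInner (bfun W₁ W₂ φ ψ) (fun _ => 1) = 0 ∧
    Cfsg.classInner (bfun W₁ W₂ φ ψ) (bfun W₁ W₂ φ' ψ')
      = (if φ = φ' then 1 else 0) + (if ψ = ψ' then 1 else 0)
        + (if φ = φ' then 1 else 0) * (if ψ = ψ' then 1 else 0) := by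
  obtain ⟨r1, r2⟩ := Cfsg.Agent.S1505.result W₁ W₂ hW φ φ' ψ ψ' hφ hφ' hψ hψ'
    (fun w hw => ⟨hφ₂ w hw, hφ₂' w hw⟩) (fun w hw => ⟨hψ₁ w hw, hψ₁' w hw⟩)
  obtain ⟨r1', -⟩ := Cfsg.Agent.S1505.result W₁ W₂ hW φ' φ ψ' ψ hφ' hφ hψ' hψ
    (fun w hw => ⟨hφ₂' w hw, hφ₂ w hw⟩) (fun w hw => ⟨hψ₁' w hw, hψ₁ w hw⟩)
  constructor
  · unfold bfun
    have : Cfsg.classInner (Cfsg.indFun (W₁ ⊔ W₂)
        (fun w => 1 - (φ w : ℂ) - (ψ w : ℂ) + (φ w : ℂ) * (ψ w : ℂ)) - fun _ => 1) (fun _ => 1)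
        = Cfsg.classInner (Cfsg.indFun (W₁ ⊔ W₂)
        (fun w => 1 - (φ w : ℂ) - (ψ w : ℂ) + (φ w : ℂ) * (ψ w : ℂ))) (fun _ => 1)
          - Cfsg.classInner (fun _ : G => (1 : ℂ)) (fun _ => 1) := by
      simp only [classInner_def, Pi.sub_apply, sub_mul, Finset.sum_sub_distrib, mul_sub]
    rw [this, r1, classInner_one_one, sub_self]
  · unfold bfun
    rw [classInner_sub_sub, r2, r1, r1', classInner_one_one, map_one]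
    ring

theorem ne_pt_of_zero {Ξ : Type*} (f : Ξ → ℤ) (e : TIComb.SU Ξ) (μ : Ξ) (hμ : f μ = 0)
    (he : co f e = 1) : μ ≠ e.pt := by
  rintro rfl
  unfold co at he
  rw [hμ, mul_zero] at he
  exact zero_ne_one he

theorem ite_iff_congr (P Q : Prop) [Decidable P] [Decidable Q] (h : P ↔ Q) :
    (if P then (1 : ℂ) else 0) = if Q then 1 else 0 := by
  by_cases hp : P
  · rw [if_pos hp, if_pos (h.mp hp)]
  · rw [if_neg hp, if_neg (fun q => hp (h.mpr q))]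

/-- **Existence of the family.** -/
theorem exists_family (W₁ W₂ : Subgroup G) (hW : Cfsg.IsSelfNormalizingCyclic W₁ W₂)
    (hodd : Odd (Nat.card ↥(W₁ ⊔ W₂))) :
    ∃ χ : (↥(W₁ ⊔ W₂) →* ℂˣ) → (G → ℂ), Cfsg.IsCyclicTIFamily W₁ W₂ χ := by
  classical
  obtain ⟨hA, hinf, hsup, hΦ, hΨ⟩ := CycTI.structure_data W₁ W₂ hW hodd
  haveI := finite_hom hA
  letI : Fintype (IrrCharacter G) := irrFintype
  letI : Fintype ↥(trivOn (W₂.subgroupOf (W₁ ⊔ W₂))) := Fintype.ofFinite _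
  letI : Fintype ↥(trivOn (W₁.subgroupOf (W₁ ⊔ W₂))) := Fintype.ofFinite _
  -- cardinalities
  obtain ⟨hc1, hc2⟩ := card_trivOn_of_compl hA _ _ hinf hsup
  have hmul : Nat.card ↥(W₁.subgroupOf (W₁ ⊔ W₂)) * Nat.card ↥(W₂.subgroupOf (W₁ ⊔ W₂))
      = Nat.card ↥(W₁ ⊔ W₂) := (isComplement'_of_comm hA _ _ hinf hsup).card_mul_card
  have hodd12 : Odd (Nat.card ↥(W₁.subgroupOf (W₁ ⊔ W₂))) ∧
      Odd (Nat.card ↥(W₂.subgroupOf (W₁ ⊔ W₂))) := by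
    rw [← hmul] at hodd
    exact Nat.odd_mul.mp hodd
  haveI : IsCyclic ↥(W₁ ⊔ W₂) := hW.2.2.2.2.1
  have hnot33 : ¬(Nat.card ↥(W₁.subgroupOf (W₁ ⊔ W₂)) = 3 ∧
      Nat.card ↥(W₂.subgroupOf (W₁ ⊔ W₂)) = 3) :=
    fun h => not_both_three _ _ hinf hsup h.1 h.2
  rw [hc1] at hΦ
  rw [hc2] at hΨ
  have hI : Fintype.card {φ : ↥(trivOn (W₂.subgroupOf (W₁ ⊔ W₂))) // φ ≠ 1}
      = Nat.card ↥(W₁.subgroupOf (W₁ ⊔ W₂)) - 1 := by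
    rw [card_ne_one, ← Nat.card_eq_fintype_card, hc1]
  have hJ : Fintype.card {ψ : ↥(trivOn (W₁.subgroupOf (W₁ ⊔ W₂))) // ψ ≠ 1}
      = Nat.card ↥(W₂.subgroupOf (W₁ ⊔ W₂)) - 1 := by
    rw [card_ne_one, ← Nat.card_eq_fintype_card, hc2]
  obtain ⟨n1, hn1⟩ := hodd12.1
  obtain ⟨n2, hn2⟩ := hodd12.2
  -- the vectors
  have hne1 : ∀ i : {φ : ↥(trivOn (W₂.subgroupOf (W₁ ⊔ W₂))) // φ ≠ 1},
      ((i.1 : ↥(trivOn (W₂.subgroupOf (W₁ ⊔ W₂)))) : ↥(W₁ ⊔ W₂) →* ℂˣ) ≠ 1 :=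
    fun i h => i.2 (Subtype.ext h)
  have hne2 : ∀ j : {ψ : ↥(trivOn (W₁.subgroupOf (W₁ ⊔ W₂))) // ψ ≠ 1},
      ((j.1 : ↥(trivOn (W₁.subgroupOf (W₁ ⊔ W₂)))) : ↥(W₁ ⊔ W₂) →* ℂˣ) ≠ 1 :=
    fun j h => j.2 (Subtype.ext h)
  have htr1 : ∀ i : {φ : ↥(trivOn (W₂.subgroupOf (W₁ ⊔ W₂))) // φ ≠ 1},
      ∀ w : ↥(W₁ ⊔ W₂), (w : G) ∈ W₂ →
        ((i.1 : ↥(trivOn (W₂.subgroupOf (W₁ ⊔ W₂)))) : ↥(W₁ ⊔ W₂) →* ℂˣ) w = 1 :=
    fun i w hw => i.1.2 w hw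
  have htr2 : ∀ j : {ψ : ↥(trivOn (W₁.subgroupOf (W₁ ⊔ W₂))) // ψ ≠ 1},
      ∀ w : ↥(W₁ ⊔ W₂), (w : G) ∈ W₁ →
        ((j.1 : ↥(trivOn (W₁.subgroupOf (W₁ ⊔ W₂)))) : ↥(W₁ ⊔ W₂) →* ℂˣ) w = 1 :=
    fun j w hw => j.1.2 w hw
  set β : {φ : ↥(trivOn (W₂.subgroupOf (W₁ ⊔ W₂))) // φ ≠ 1} →
      {ψ : ↥(trivOn (W₁.subgroupOf (W₁ ⊔ W₂))) // ψ ≠ 1} → IrrCharacter G → ℤ :=
    fun i j => coef (bfun W₁ W₂ ((i.1 : ↥(trivOn (W₂.subgroupOf (W₁ ⊔ W₂)))) : ↥(W₁ ⊔ W₂) →* ℂˣ)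
      ((j.1 : ↥(trivOn (W₁.subgroupOf (W₁ ⊔ W₂)))) : ↥(W₁ ⊔ W₂) →* ℂˣ)) with hβ
  have key : ∀ i k j l, ((ip (β i j) (β k l) : ℤ) : ℂ)
      = (if i = k then 1 else 0) + (if j = l then 1 else 0)
        + (if i = k then 1 else 0) * (if j = l then 1 else 0) := by
    intro i k j l
    rw [hβ, ip_coef (bfun_genChar W₁ W₂ _ _) (bfun_genChar W₁ W₂ _ _),
      (bfun_inner hW _ _ _ _ (hne1 i) (hne1 k) (hne2 j) (hne2 l) (htr1 i) (htr1 k) (htr2 j)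
        (htr2 l)).2]
    have e1 : (((i.1 : ↥(trivOn (W₂.subgroupOf (W₁ ⊔ W₂)))) : ↥(W₁ ⊔ W₂) →* ℂˣ)
        = ((k.1 : ↥(trivOn (W₂.subgroupOf (W₁ ⊔ W₂)))) : ↥(W₁ ⊔ W₂) →* ℂˣ)) ↔ i = k :=
      ⟨fun h => Subtype.ext (Subtype.ext h), fun h => by rw [h]⟩
    have e2 : (((j.1 : ↥(trivOn (W₁.subgroupOf (W₁ ⊔ W₂)))) : ↥(W₁ ⊔ W₂) →* ℂˣ)
        = ((l.1 : ↥(trivOn (W₁.subgroupOf (W₁ ⊔ W₂)))) : ↥(W₁ ⊔ W₂) →* ℂˣ)) ↔ j = l :=
      ⟨fun h => Subtype.ext (Subtype.ext h), fun h => by rw [h]⟩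
    rw [ite_iff_congr _ _ e1, ite_iff_congr _ _ e2]
  have hGram : Gram β := by
    refine ⟨?_, ?_, ?_, ?_⟩
    · intro i j
      have := key i i j j
      rw [if_pos rfl, if_pos rfl] at this
      have h3 : ((ip (β i j) (β i j) : ℤ) : ℂ) = ((3 : ℤ) : ℂ) := by
        rw [this]
        norm_num
      exact_mod_cast h3
    · intro i j l hjl
      have := key i i j l
      rw [if_pos rfl, if_neg hjl] at this
      have h3 : ((ip (β i j) (β i l) : ℤ) : ℂ) = ((1 : ℤ) : ℂ) := by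
        rw [this]
        norm_num
      exact_mod_cast h3
    · intro i k j hik
      have := key i k j j
      rw [if_neg hik, if_pos rfl] at this
      have h3 : ((ip (β i j) (β k j) : ℤ) : ℂ) = ((1 : ℤ) : ℂ) := by
        rw [this]
        norm_num
      exact_mod_cast h3
    · intro i k j l hik hjl
      have := key i k j l
      rw [if_neg hik, if_neg hjl] at this
      have h3 : ((ip (β i j) (β k l) : ℤ) : ℂ) = ((0 : ℤ) : ℂ) := by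
        rw [this]
        norm_num
      exact_mod_cast h3
  obtain ⟨u, v, z, D⟩ := hGram.decomp (by omega) (by omega) (by omega)
  -- the principal character
  set e₀ : TIComb.SU (IrrCharacter G) := ⟨principalChar G, 1, Or.inl rfl⟩ with he₀
  have hb0 : ∀ i j, β i j (principalChar G) = 0 := by
    intro i j
    have h1 := coef_spec (bfun_genChar W₁ W₂
      ((i.1 : ↥(trivOn (W₂.subgroupOf (W₁ ⊔ W₂)))) : ↥(W₁ ⊔ W₂) →* ℂˣ)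
      ((j.1 : ↥(trivOn (W₁.subgroupOf (W₁ ⊔ W₂)))) : ↥(W₁ ⊔ W₂) →* ℂˣ)) (principalChar G)
    have h2 := (bfun_inner hW _ _ _ _ (hne1 i) (hne1 i) (hne2 j) (hne2 j) (htr1 i) (htr1 i)
      (htr2 j) (htr2 j)).1
    have h3 : ((β i j (principalChar G) : ℤ) : ℂ) = ((0 : ℤ) : ℂ) := by
      rw [hβ]
      simp only
      rw [h1, Int.cast_zero]
      exact h2
    exact_mod_cast h3
  obtain ⟨i₀⟩ : Nonempty {φ : ↥(trivOn (W₂.subgroupOf (W₁ ⊔ W₂))) // φ ≠ 1} :=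
    Fintype.card_pos_iff.mp (by omega)
  obtain ⟨j₀⟩ : Nonempty {ψ : ↥(trivOn (W₁.subgroupOf (W₁ ⊔ W₂))) // ψ ≠ 1} :=
    Fintype.card_pos_iff.mp (by omega)
  have h0u : ∀ i, e₀.pt ≠ (u i).pt := fun i =>
    ne_pt_of_zero (β i j₀) (u i) (principalChar G) (hb0 i j₀) (D.cu i j₀)
  have h0v : ∀ j, e₀.pt ≠ (v j).pt := fun j =>
    ne_pt_of_zero (β i₀ j) (v j) (principalChar G) (hb0 i₀ j) (D.cv i₀ j)
  have h0z : ∀ i j, e₀.pt ≠ (z i j).pt := fun i j =>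
    ne_pt_of_zero (β i j) (z i j) (principalChar G) (hb0 i j) (D.cz i j)
  -- the parametrisation of the characters of `W`
  set eqv : ↥(trivOn (W₂.subgroupOf (W₁ ⊔ W₂))) × ↥(trivOn (W₁.subgroupOf (W₁ ⊔ W₂)))
      ≃ (↥(W₁ ⊔ W₂) →* ℂˣ) :=
    Equiv.ofBijective (mulPair (W₁.subgroupOf (W₁ ⊔ W₂)) (W₂.subgroupOf (W₁ ⊔ W₂)))
      (mulPair_bijective hA _ _ hinf hsup) with heqv
  set tag : (↥(W₁ ⊔ W₂) →* ℂˣ) →
      Option {φ : ↥(trivOn (W₂.subgroupOf (W₁ ⊔ W₂))) // φ ≠ 1} ×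
      Option {ψ : ↥(trivOn (W₁.subgroupOf (W₁ ⊔ W₂))) // ψ ≠ 1} :=
    fun ω => (optOf (eqv.symm ω).1, optOf (eqv.symm ω).2) with htag
  have htag_inj : Function.Injective tag := by
    intro a b h
    have h1 := optOf_injective (congrArg Prod.fst h)
    have h2 := optOf_injective (congrArg Prod.snd h)
    exact eqv.symm.injective (Prod.ext h1 h2)
  have htag_eq : ∀ (φ : ↥(trivOn (W₂.subgroupOf (W₁ ⊔ W₂))))
      (ψ : ↥(trivOn (W₁.subgroupOf (W₁ ⊔ W₂)))),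
      tag ((φ : ↥(W₁ ⊔ W₂) →* ℂˣ) * (ψ : ↥(W₁ ⊔ W₂) →* ℂˣ)) = (optOf φ, optOf ψ) := by
    intro φ ψ
    have : eqv.symm ((φ : ↥(W₁ ⊔ W₂) →* ℂˣ) * (ψ : ↥(W₁ ⊔ W₂) →* ℂˣ)) = (φ, ψ) :=
      eqv.symm_apply_apply (φ, ψ)
    rw [htag]
    simp only [this]
  set χ : (↥(W₁ ⊔ W₂) →* ℂˣ) → (G → ℂ) := fun ω => fn (unitOf e₀ u v z (tag ω)) with hχ
  have hirr : ∀ ω, Cfsg.IsIrrCharacter G (χ ω) ∨ Cfsg.IsIrrCharacter G (-χ ω) :=
    fun ω => fn_sirr _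
  have horth : ∀ ω ω', Cfsg.classInner (χ ω) (χ ω')
      = @ite ℂ (ω = ω') (Classical.propDecidable _) 1 0 := by
    intro ω ω'
    rw [hχ]
    simp only
    rw [classInner_fn_fn]
    by_cases h : ω = ω'
    · subst h
      rw [if_pos rfl, if_pos rfl, TIComb.SU.sg_mul_self]
      norm_num
    · rw [if_neg h, if_neg]
      intro hpt
      exact h (htag_inj (unitOf_inj D e₀ h0u h0v h0z _ _ hpt))
  have hone : χ 1 = fun _ => 1 := by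
    have h1 : tag 1 = (none, none) := by
      have := htag_eq 1 1
      rw [optOf_one, optOf_one] at this
      rw [← this]
      congr 1
      simp
    rw [hχ]
    simp only
    rw [h1]
    show fn e₀ = _
    unfold fn
    funext g
    simp [he₀, principalChar]
  have hind : ∀ φ ψ : ↥(W₁ ⊔ W₂) →* ℂˣ, φ ≠ 1 → ψ ≠ 1 →
      (∀ w : ↥(W₁ ⊔ W₂), (w : G) ∈ W₂ → φ w = 1) → (∀ w : ↥(W₁ ⊔ W₂), (w : G) ∈ W₁ → ψ w = 1) →
      Cfsg.indFun (W₁ ⊔ W₂) (fun w => 1 - (φ w : ℂ) - (ψ w : ℂ) + (φ w : ℂ) * (ψ w : ℂ)) =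
        fun g => 1 - χ φ g - χ ψ g + χ (φ * ψ) g := by
    intro φ ψ hφ hψ hφ₂ hψ₁
    set φ' : ↥(trivOn (W₂.subgroupOf (W₁ ⊔ W₂))) := ⟨φ, fun y hy => hφ₂ y hy⟩ with hφ'
    set ψ' : ↥(trivOn (W₁.subgroupOf (W₁ ⊔ W₂))) := ⟨ψ, fun y hy => hψ₁ y hy⟩ with hψ'
    have hφ'1 : φ' ≠ 1 := fun h => hφ (congrArg Subtype.val h)
    have hψ'1 : ψ' ≠ 1 := fun h => hψ (congrArg Subtype.val h)
    have t1 : tag φ = (some ⟨φ', hφ'1⟩, none) := by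
      have := htag_eq φ' 1
      rw [optOf_ne hφ'1, optOf_one] at this
      rw [← this]
      congr 1
      simp [hφ']
    have t2 : tag ψ = (none, some ⟨ψ', hψ'1⟩) := by
      have := htag_eq 1 ψ'
      rw [optOf_ne hψ'1, optOf_one] at this
      rw [← this]
      congr 1
      simp [hψ']
    have t3 : tag (φ * ψ) = (some ⟨φ', hφ'1⟩, some ⟨ψ', hψ'1⟩) := by
      have := htag_eq φ' ψ'
      rw [optOf_ne hφ'1, optOf_ne hψ'1] at this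
      exact this
    have hdec := eq_of_formula (bfun_genChar W₁ W₂ φ ψ) (u ⟨φ', hφ'1⟩) (v ⟨ψ', hψ'1⟩)
      (z ⟨φ', hφ'1⟩ ⟨ψ', hψ'1⟩) (fun k => D.formula ⟨φ', hφ'1⟩ ⟨ψ', hψ'1⟩ k)
    unfold bfun at hdec
    rw [sub_eq_iff_eq_add] at hdec
    rw [hdec, hχ]
    simp only
    rw [t1, t2, t3]
    funext g
    show _ = 1 - fn (u ⟨φ', hφ'1⟩).neg g - fn (v ⟨ψ', hψ'1⟩).neg g + fn (z ⟨φ', hφ'1⟩ ⟨ψ', hψ'1⟩) g
    rw [fn_neg, fn_neg]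
    simp only [Pi.add_apply, Pi.neg_apply]
    ring
  refine ⟨χ, ⟨hirr, horth, hone, ?_, hind⟩⟩
  exact eq_on_of_rest W₁ W₂ hW χ (fun ω => fn_classFunction _) horth hone hind

end Main

end Cfsg.Agent.Helper8.TIChar
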