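import Mathlib
import Cfsg.Agent.Lib.Helper21.PolySeq

set_option autoImplicit false

/-! The exact top coefficient of the Hall--Petrescu expansion of `(x y)^p`, for a filtration
`F` with `x ∈ F 1`, `y ∈ F 2`, `⁅F i, F j⁆ ≤ F (i + j)` and `F (p + 2) = ⊥` (or `≤ N`):
`x^{-p} (x y)^p = [y, x, ..., x]` (`p - 1` entries `x`) modulo `p`-th powers of elements
of `F 2`.  Built on the polynomial sequences of `Lib/Helper21/PolySeq`. -/

namespace Cfsg.Agent.Helper8.TopTerm

open scoped commutatorElement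
open Cfsg.Agent.Helper21.PolySeq

variable {G : Type*} [Group G] {F : ℕ → Subgroup G}

theorem iterate_D_one : ∀ i : ℕ, (D^[i]) (1 : ℕ → G) = 1 := by
  intro i
  induction i with
  | zero => rfl
  | succ i ih => rw [Function.iterate_succ_apply, D_one, ih]

theorem D_choose_zero (a : G) : D (fun n : ℕ => a ^ (n.choose 0)) = 1 := by
  funext n
  simp [D]

theorem D_choose_succ (a : G) (j : ℕ) :
    D (fun n : ℕ => a ^ (n.choose (j + 1))) = fun n => a ^ (n.choose j) := by
  funext n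
  simp only [D]
  rw [Nat.choose_succ_succ, pow_add, mul_inv_cancel_right]

theorem iterate_D_choose (a : G) : ∀ (j i : ℕ), j < i →
    (D^[i]) (fun n : ℕ => a ^ (n.choose j)) = 1 := by
  intro j
  induction j with
  | zero =>
    intro i hi
    obtain ⟨i', rfl⟩ : ∃ i', i = i' + 1 := ⟨i - 1, by omega⟩
    rw [Function.iterate_succ_apply, D_choose_zero, iterate_D_one]
  | succ j ih =>
    intro i hi
    obtain ⟨i', rfl⟩ : ∃ i', i = i' + 1 := ⟨i - 1, by omega⟩
    rw [Function.iterate_succ_apply, D_choose_succ]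
    exact ih i' (by omega)

theorem isPoly_const (hF : Antitone F) (r k : ℕ) {u : G} (hu : u ∈ F k) :
    IsPoly F r k (fun _ : ℕ => u) := by
  have h := isPoly_choose hF r 0 k u (by simpa using hu)
  simpa using h

/-- Additivity of the top difference. -/
theorem iterate_D_mul (hF : Antitone F) (hc : ∀ i j, ⁅F i, F j⁆ ≤ F (i + j)) {N : ℕ}
    (hN : F N = ⊥) : ∀ (r k : ℕ) (g h : ℕ → G), 1 ≤ k → N ≤ k + r + 1 →
    IsPoly F r k g → IsPoly F r k h → (D^[r]) (g * h) = (D^[r]) g * (D^[r]) h := by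
  intro r
  induction r with
  | zero =>
    intro k g h _ _ _ _
    rfl
  | succ r ih =>
    intro k g h hk hNk hg hh
    rw [Function.iterate_succ_apply, Function.iterate_succ_apply, Function.iterate_succ_apply,
      D_mul]
    have H := good hF hc r
    have hc1 : IsPoly F r (k + (k + 1)) ⁅g, D h⁆ := H.comm _ _ _ _ hg.of_succ hh.2
    have hc2 : IsPoly F r (k + 1) ⁅g, D h⁆ := hc1.mono hF (by omega)
    have hcz : (D^[r]) ⁅g, D h⁆ = 1 := by
      funext n
      have h1 := hc1.iterate_mem r le_rfl n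
      have h2 : F (r + (k + (k + 1))) ≤ F N := hF (by omega)
      have h3 := h2 h1
      rw [hN, Subgroup.mem_bot] at h3
      simpa using h3
    rw [ih (k + 1) (D g * ⁅g, D h⁆) (D h) (by omega) (by omega) (H.mul _ _ _ hg.2 hc2) hh.2,
      ih (k + 1) (D g) ⁅g, D h⁆ (by omega) (by omega) hg.2 hc2, hcz, mul_one]

theorem iterate_D_inv (hF : Antitone F) (hc : ∀ i j, ⁅F i, F j⁆ ≤ F (i + j)) {N : ℕ}
    (hN : F N = ⊥) (r k : ℕ) (g : ℕ → G) (hk : 1 ≤ k) (hNk : N ≤ k + r + 1)
    (hg : IsPoly F r k g) : (D^[r]) g⁻¹ = ((D^[r]) g)⁻¹ := by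
  have h1 := iterate_D_mul hF hc hN r k g g⁻¹ hk hNk hg ((good hF hc r).inv _ _ hg)
  rw [mul_inv_cancel, iterate_D_one] at h1
  exact (eq_inv_of_mul_eq_one_right h1.symm)

/-- Peeling with the top coefficient kept. -/
theorem peel_top (hF : Antitone F) (hc : ∀ i j, ⁅F i, F j⁆ ≤ F (i + j)) {p : ℕ} (hp : p.Prime)
    (hFp : F (p + 2) = ⊥) (hpow : ∀ u ∈ F 2, u ^ p = 1) :
    ∀ (d j : ℕ), j + d = p → 1 ≤ j → ∀ g : ℕ → G, IsPoly F p 1 g → (∀ i, i < j → g i = 1) →
      g p = (D^[p]) g 0 := by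
  intro d
  induction d with
  | zero =>
    intro j hj _ g _ hv
    obtain rfl : j = p := by omega
    exact (iterate_D_zero j g hv).symm
  | succ d ih =>
    intro j hj hj1 g hg hv
    have ha : g j ∈ F (j + 1) := by
      have h1 := hg.iterate_mem j (by omega) 0
      rwa [iterate_D_zero j g hv] at h1
    set a := g j with hadef
    set e : ℕ → G := fun n => a ^ (n.choose j) with hedef
    have he : IsPoly F p 1 e := isPoly_choose hF p j 1 a ha
    have H := good hF hc p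
    have hg' : IsPoly F p 1 (g * e⁻¹) := H.mul _ _ _ hg (H.inv _ _ he)
    have hv' : ∀ i, i < j + 1 → (g * e⁻¹) i = 1 := by
      intro i hi
      rcases Nat.lt_succ_iff_lt_or_eq.1 hi with h | h
      · simp [hedef, hv i h, Nat.choose_eq_zero_of_lt h]
      · subst h
        simp [hedef, hadef]
    have h2 := ih (j + 1) (by omega) (by omega) _ hg' hv'
    have ha2 : a ^ p = 1 := hpow a (hF (by omega : 2 ≤ j + 1) ha)
    have h3 : (g * e⁻¹) p = g p := by
      obtain ⟨m, hm⟩ := hp.dvd_choose_self (by omega : j ≠ 0) (by omega : j < p)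
      simp only [Pi.mul_apply, Pi.inv_apply, hedef]
      rw [hm, pow_mul, ha2, one_pow, inv_one, mul_one]
    have h4 : (D^[p]) (g * e⁻¹) = (D^[p]) g := by
      rw [iterate_D_mul hF hc hFp p 1 g e⁻¹ le_rfl (by omega) hg (H.inv _ _ he),
        iterate_D_inv hF hc hFp p 1 e le_rfl (by omega) he,
        iterate_D_choose a j p (by omega), inv_one, mul_one]
    rw [← h3, h2, h4]

/-- The conjugation sequence `n ↦ x^{-n} u x^n`. -/
def Q (x u : G) : ℕ → G := fun n => (x⁻¹) ^ n * u * x ^ n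

/-- The sequence `n ↦ x^{-n} (x y)^n`. -/
def P (x y : G) : ℕ → G := fun n => (x⁻¹) ^ n * (x * y) ^ n

/-- One commutation step `u ↦ x⁻¹ u x u⁻¹`. -/
def w (x u : G) : G := x⁻¹ * u * x * u⁻¹

theorem D_Q (x u : G) : D (Q x u) = Q x (w x u) := by
  funext n
  simp only [D, Q, w]
  rw [pow_succ (x⁻¹) n, pow_succ x n, pow_mul_comm' x n, inv_pow]
  generalize x ^ n = a
  group

theorem D_P (x y : G) : D (P x y) = Q x y := by
  funext n
  simp only [D, P, Q]
  rw [pow_succ (x⁻¹) n, pow_succ' (x * y) n, inv_pow]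
  generalize x ^ n = a
  generalize (x * y) ^ n = b
  group

theorem iterate_D_P (x y : G) : ∀ i : ℕ, (D^[i + 1]) (P x y) = Q x ((w x)^[i] y) := by
  intro i
  induction i with
  | zero => simp [D_P]
  | succ i ih =>
    rw [Function.iterate_succ_apply', ih, D_Q, Function.iterate_succ_apply']

theorem isPoly_Q (hF : Antitone F) (hc : ∀ i j, ⁅F i, F j⁆ ≤ F (i + j)) {x : G} (hx : x ∈ F 1)
    (r k : ℕ) {u : G} (hu : u ∈ F k) : IsPoly F r k (Q x u) := by
  have h1 : IsPoly F r 0 (fun n : ℕ => (x⁻¹) ^ n) := poly_pow hF (inv_mem hx) r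
  have h2 := (good hF hc r).conj hF h1 (isPoly_const hF r k hu)
  have h3 : Q x u = (fun n : ℕ => (x⁻¹) ^ n) * (fun _ : ℕ => u) * (fun n : ℕ => (x⁻¹) ^ n)⁻¹ := by
    funext n
    simp [Q]
  rw [h3]
  exact h2

theorem isPoly_P (hF : Antitone F) (hc : ∀ i j, ⁅F i, F j⁆ ≤ F (i + j)) {x y : G}
    (hx : x ∈ F 1) (hy : y ∈ F 2) (r : ℕ) : IsPoly F (r + 1) 1 (P x y) := by
  refine ⟨fun n => ?_, ?_⟩
  · exact mul_mem (pow_mem (inv_mem hx) _) (pow_mem (mul_mem hx (hF (by omega : 1 ≤ 2) hy)) _)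
  · rw [D_P]
    exact isPoly_Q hF hc hx r 2 hy

/-- **Top term**, trivial top: if `F (p + 2) = ⊥` and `F 2` has exponent `p`, then
`x^{-p} (x y)^p = [y, x, ..., x]`. -/
theorem top_term (hF : Antitone F) (hc : ∀ i j, ⁅F i, F j⁆ ≤ F (i + j)) {p : ℕ} (hp : p.Prime)
    (hFp : F (p + 2) = ⊥) (hpow : ∀ u ∈ F 2, u ^ p = 1) {x y : G} (hx : x ∈ F 1)
    (hy : y ∈ F 2) : (x⁻¹) ^ p * (x * y) ^ p = (w x)^[p - 1] y := by
  obtain ⟨q, rfl⟩ : ∃ q, p = q + 1 := ⟨p - 1, by have := hp.one_lt; omega⟩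
  have hP := isPoly_P hF hc hx hy q
  have h1 := peel_top hF hc hp hFp hpow q 1 (by omega) le_rfl (P x y) hP (by
    intro i hi
    obtain rfl : i = 0 := by omega
    simp [P])
  rw [iterate_D_P] at h1
  simpa [P, Q] using h1

/-- **Top term**, modulo a normal subgroup `N` containing `F (p + 2)` and the `p`-th powers
of the elements of `F 2`. -/
theorem top_term_mod (hF : Antitone F) (hc : ∀ i j, ⁅F i, F j⁆ ≤ F (i + j)) {p : ℕ}
    (hp : p.Prime) (N : Subgroup G) [N.Normal] (hFp : F (p + 2) ≤ N)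
    (hpow : ∀ u ∈ F 2, u ^ p ∈ N) {x y : G} (hx : x ∈ F 1) (hy : y ∈ F 2) :
    ((w x)^[p - 1] y)⁻¹ * ((x⁻¹) ^ p * (x * y) ^ p) ∈ N := by
  set f := QuotientGroup.mk' N with hf
  set F' : ℕ → Subgroup (G ⧸ N) := fun i => (F i).map f with hF'
  have hF'a : Antitone F' := fun i j hij => Subgroup.map_mono (hF hij)
  have hc' : ∀ i j, ⁅F' i, F' j⁆ ≤ F' (i + j) := by
    intro i j
    simp only [hF']
    rw [← Subgroup.map_commutator]
    exact Subgroup.map_mono (hc i j)
  have hFp' : F' (p + 2) = ⊥ := by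
    simp only [hF']
    rw [Subgroup.map_eq_bot_iff, hf, QuotientGroup.ker_mk']
    exact hFp
  have hpow' : ∀ u ∈ F' 2, u ^ p = 1 := by
    intro u hu
    obtain ⟨v, hv, rfl⟩ := hu
    rw [← map_pow, hf, QuotientGroup.mk'_apply, QuotientGroup.eq_one_iff]
    exact hpow v hv
  have h1 := top_term hF'a hc' hp hFp' hpow' (x := f x) (y := f y)
    (Subgroup.mem_map_of_mem f hx) (Subgroup.mem_map_of_mem f hy)
  have h2 : ∀ i : ℕ, (w (f x))^[i] (f y) = f ((w x)^[i] y) := by
    intro i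
    induction i with
    | zero => rfl
    | succ i ih =>
      rw [Function.iterate_succ_apply', Function.iterate_succ_apply', ih]
      simp [w]
  rw [h2] at h1
  have h3 : f ((x⁻¹) ^ p * (x * y) ^ p) = f ((w x)^[p - 1] y) := by
    rw [← h1]
    simp
  have h4 := (QuotientGroup.eq (s := N)).1 h3.symm
  exact h4

end Cfsg.Agent.Helper8.TopTerm
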