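import Mathlib
import Cfsg.Agent.Lib.Helper8.XSDefs
import Cfsg.Agent.Lib.Helper19.XSBASIC
import Cfsg.Agent.Lib.Helper4.XSINV

/-! S3299 piece XS-CHOOSE: an involution `u ∈ E ∖ K` with `C_S(u)` a Sylow 2-subgroup of `C_H(u)`. -/

set_option autoImplicit false

namespace Cfsg.Agent.Helper8.XS

open scoped Pointwise

theorem choose_mem_cent {G : Type*} [Group G] (x y : G) :
    x ∈ Subgroup.centralizer ({y} : Set G) ↔ y * x = x * y := by
  rw [Subgroup.mem_centralizer_iff]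
  constructor
  · intro h; exact h y rfl
  · intro h w hw
    rw [Set.mem_singleton_iff] at hw
    subst hw
    exact h

/-- Sylow's theorem inside a subgroup `H` containing the Sylow subgroup `S` of `G`:
every 2-subgroup of `H` is `H`-conjugate into `S`. -/
theorem choose_conj_into {G : Type*} [Group G] [Finite G] (S : Sylow 2 G) (H : Subgroup G)
    (hSH : (S : Subgroup G) ≤ H) (P : Subgroup G) (hP : IsPGroup 2 P) (hPH : P ≤ H) :
    ∃ h ∈ H, ∀ x ∈ P, h * x * h⁻¹ ∈ (S : Subgroup G) := by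
  classical
  have : Fact (Nat.Prime 2) := ⟨Nat.prime_two⟩
  set SH : Sylow 2 ↥H := S.subtype hSH with hSHdef
  have hPp : IsPGroup 2 (P.subgroupOf H) := hP.comap_subtype
  obtain ⟨T, hT⟩ := hPp.exists_le_sylow
  obtain ⟨h, hh⟩ := MulAction.exists_smul_eq (↥H) T SH
  refine ⟨(h : G), h.2, ?_⟩
  intro x hx
  have hxT : (⟨x, hPH hx⟩ : ↥H) ∈ (T : Subgroup ↥H) := hT (by rw [Subgroup.mem_subgroupOf]; exact hx)
  have h1 : MulAut.conj h • (⟨x, hPH hx⟩ : ↥H) ∈ MulAut.conj h • (T : Subgroup ↥H) :=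
    Subgroup.smul_mem_pointwise_smul _ _ _ hxT
  have h2 : MulAut.conj h • (T : Subgroup ↥H) = ((h • T : Sylow 2 ↥H) : Subgroup ↥H) :=
    Sylow.coe_subgroup_smul.symm
  rw [h2, hh] at h1
  have h3 : (MulAut.conj h • (⟨x, hPH hx⟩ : ↥H)) ∈ (S : Subgroup G).subgroupOf H := by
    simpa [hSHdef] using h1
  rw [Subgroup.mem_subgroupOf] at h3
  simpa [MulAut.smul_def, MulAut.conj_apply] using h3

theorem xs_choose {G : Type*} [Group G] [Finite G] {z : G} {E K : Subgroup G} {S : Sylow 2 G} (c : Ctx z E K S) :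
    ∃ u ∈ E, u ∉ K ∧ u * u = 1 ∧
      ∀ R : Subgroup G, IsPGroup 2 R → (S : Subgroup G) ⊓ Subgroup.centralizer {u} ≤ R →
        R ≤ Subgroup.centralizer {z} ⊓ Subgroup.centralizer {u} → R ≤ S := by
  classical
  have : Fact (Nat.Prime 2) := ⟨Nat.prime_two⟩
  obtain ⟨-, -, hidx, -, -⟩ := xs_basic c
  have : Finite E := inferInstance
  obtain ⟨u₀, hu₀E, hu₀K', hu₀⟩ := xs_invol c.xs c.hcard (E ⊓ K) inf_le_left hidx
  have hu₀K : u₀ ∉ K := fun h => hu₀K' ⟨hu₀E, h⟩
  set H : Subgroup G := Subgroup.centralizer ({z} : Set G) with hH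
  set D : Subgroup G := H ⊓ Subgroup.centralizer {u₀} with hD
  -- a Sylow 2-subgroup of `D`
  obtain ⟨PD⟩ : Nonempty (Sylow 2 ↥D) := inferInstance
  set P : Subgroup G := (PD : Subgroup ↥D).map D.subtype with hP
  have hPD : P ≤ D := by rw [hP]; exact Subgroup.map_subtype_le _
  have hPp : IsPGroup 2 P := by rw [hP]; exact PD.isPGroup'.map _
  have hPH : P ≤ H := hPD.trans inf_le_left
  obtain ⟨h, hhH, hconj⟩ := choose_conj_into S H c.hSH P hPp hPH
  have hhinv : h⁻¹ ∈ H := H.inv_mem hhH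
  refine ⟨h * u₀ * h⁻¹, c.hEn h hhH u₀ hu₀E, ?_, ?_, ?_⟩
  · intro hk
    apply hu₀K
    have := c.hKn h⁻¹ hhinv _ hk
    have h2 : h⁻¹ * (h * u₀ * h⁻¹) * h⁻¹⁻¹ = u₀ := by group
    rwa [h2] at this
  · calc h * u₀ * h⁻¹ * (h * u₀ * h⁻¹) = h * (u₀ * u₀) * h⁻¹ := by group
      _ = 1 := by rw [hu₀]; group
  · intro R hRp hQR hRC
    -- `R' = h⁻¹ R h ≤ D` contains `P`
    set R' : Subgroup G := R.map (MulAut.conj h⁻¹).toMonoidHom with hR'
    have hR'p : IsPGroup 2 R' := by rw [hR']; exact hRp.map _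
    have hR'D : R' ≤ D := by
      rintro _ ⟨r, hr, rfl⟩
      have hrC := hRC hr
      have hrH : r ∈ H := (Subgroup.mem_inf.mp hrC).1
      have hru : (h * u₀ * h⁻¹) * r = r * (h * u₀ * h⁻¹) := (choose_mem_cent _ _).mp (Subgroup.mem_inf.mp hrC).2
      refine Subgroup.mem_inf.mpr ⟨?_, ?_⟩
      · simp only [MulEquiv.coe_toMonoidHom, MulAut.conj_apply, inv_inv]
        exact H.mul_mem (H.mul_mem hhinv hrH) hhH
      · apply (choose_mem_cent _ _).mpr
        simp only [MulEquiv.coe_toMonoidHom, MulAut.conj_apply, inv_inv]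
        calc u₀ * (h⁻¹ * r * h) = h⁻¹ * ((h * u₀ * h⁻¹) * r) * h := by group
          _ = h⁻¹ * (r * (h * u₀ * h⁻¹)) * h := by rw [hru]
          _ = h⁻¹ * r * h * u₀ := by group
    have hPR' : P ≤ R' := by
      intro x hx
      have hxS : h * x * h⁻¹ ∈ (S : Subgroup G) := hconj x hx
      have hxu : x ∈ Subgroup.centralizer {u₀} := (Subgroup.mem_inf.mp (hPD hx)).2
      have hxu' : u₀ * x = x * u₀ := (choose_mem_cent _ _).mp hxu
      have hxC : h * x * h⁻¹ ∈ Subgroup.centralizer {h * u₀ * h⁻¹} := by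
        apply (choose_mem_cent _ _).mpr
        calc h * u₀ * h⁻¹ * (h * x * h⁻¹) = h * (u₀ * x) * h⁻¹ := by group
          _ = h * (x * u₀) * h⁻¹ := by rw [hxu']
          _ = h * x * h⁻¹ * (h * u₀ * h⁻¹) := by group
      have hxR : h * x * h⁻¹ ∈ R := hQR (Subgroup.mem_inf.mpr ⟨hxS, hxC⟩)
      refine ⟨h * x * h⁻¹, hxR, ?_⟩
      simp only [MulEquiv.coe_toMonoidHom, MulAut.conj_apply, inv_inv]
      group
    -- maximality of the Sylow subgroup `PD` of `D`
    have hmax : R'.subgroupOf D = (PD : Subgroup ↥D) := by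
      apply PD.is_maximal' hR'p.comap_subtype
      intro x hx
      show (x : G) ∈ R'
      apply hPR'
      exact ⟨x, hx, rfl⟩
    have hR'P : R' ≤ P := by
      intro x hx
      have hxD : x ∈ D := hR'D hx
      have : (⟨x, hxD⟩ : ↥D) ∈ R'.subgroupOf D := by rw [Subgroup.mem_subgroupOf]; exact hx
      rw [hmax] at this
      exact ⟨⟨x, hxD⟩, this, rfl⟩
    intro r hr
    have hr' : h⁻¹ * r * h ∈ R' := ⟨r, hr, by simp [MulAut.conj_apply]⟩
    have := hconj _ (hR'P hr')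
    have h2 : h * (h⁻¹ * r * h) * h⁻¹ = r := by group
    rwa [h2] at this

end Cfsg.Agent.Helper8.XS
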