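import Mathlib
import Cfsg.Agent.Lib.Helper8.XSDefs
import Cfsg.Agent.Lib.Helper4.XSKEY
import Cfsg.Agent.Lib.Helper4.XSNONAB
import Cfsg.Agent.Lib.Helper19.XSBASIC

/-! S3299 piece XS-FINAL: the contradiction. -/

set_option autoImplicit false

namespace Cfsg.Agent.Helper8.XS

theorem final_mem_cent {G : Type*} [Group G] (x y : G) :
    x ∈ Subgroup.centralizer ({y} : Set G) ↔ y * x = x * y := by
  rw [Subgroup.mem_centralizer_iff]
  constructor
  · intro h; exact h y rfl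
  · intro h w hw
    rw [Set.mem_singleton_iff] at hw
    subst hw
    exact h

theorem xs_final {G : Type*} [Group G] [Finite G] {z : G} {E K : Subgroup G} {S : Sylow 2 G} (c : Ctx z E K S)
    (u : G) (hu : u ∈ E) (huK : u ∉ K) (huu : u * u = 1)
    (a : G) (hau : a * u = u * a) (haz : a * z ≠ z * a)
    (haQ : ∀ q : G, q ∈ (S : Subgroup G) ⊓ Subgroup.centralizer {u} ↔
        a * q * a⁻¹ ∈ (S : Subgroup G) ⊓ Subgroup.centralizer {u}) : False := by
  obtain ⟨hzK, hcommK, -, -, -⟩ := xs_basic c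
  have hu1 : u ≠ 1 := fun h => huK (h ▸ K.one_mem)
  have huz : u ≠ z := fun h => huK (h ▸ hzK)
  have hcomm_of_S : ∀ s ∈ (S : Subgroup G), s * z = z * s := by
    intro s hs
    have := c.hSH hs
    rw [final_mem_cent] at this
    exact this.symm
  have hunc : ∃ y ∈ E, u * y ≠ y * u := by
    by_contra hcon
    push Not at hcon
    rcases c.xs.hcenter u hu hcon with h | h
    · exact hu1 h
    · exact huz h
  -- membership in `Q`
  have hQ : ∀ q : G, q ∈ (S : Subgroup G) ⊓ Subgroup.centralizer {u} ↔ q ∈ (S : Subgroup G) ∧ u * q = q * u := by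
    intro q
    rw [Subgroup.mem_inf, final_mem_cent]
  have hzQ : z ∈ (S : Subgroup G) ⊓ Subgroup.centralizer {u} := by
    rw [hQ]
    exact ⟨c.hES c.xs.hzE, c.xs.hcen u hu⟩
  set w := a * z * a⁻¹ with hw
  have hwQ : w ∈ (S : Subgroup G) ⊓ Subgroup.centralizer {u} := (haQ z).mp hzQ
  have hwS : w ∈ (S : Subgroup G) := ((hQ w).mp hwQ).1
  -- `w` is central in `Q`
  have hwc : ∀ q ∈ (S : Subgroup G) ⊓ Subgroup.centralizer {u}, w * q = q * w := by
    intro q hq
    have hq' : a⁻¹ * q * a ∈ (S : Subgroup G) ⊓ Subgroup.centralizer {u} := by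
      rw [haQ]
      have : a * (a⁻¹ * q * a) * a⁻¹ = q := by group
      rw [this]; exact hq
    have h1 := hcomm_of_S _ ((hQ _).mp hq').1
    calc w * q = a * (z * (a⁻¹ * q * a)) * a⁻¹ := by rw [hw]; group
      _ = a * ((a⁻¹ * q * a) * z) * a⁻¹ := by rw [h1]
      _ = q * w := by rw [hw]; group
  -- apply the key lemma to `w`
  have hwn : ∀ e ∈ E, w * e * w⁻¹ ∈ E := fun e he => c.hEn w (c.hSH hwS) e he
  have hwcE : ∀ f ∈ E, f * u = u * f → w * f = f * w := by
    intro f hf hfu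
    apply hwc
    rw [hQ]
    exact ⟨c.hES hf, hfu.symm⟩
  have hwne1 : w ≠ 1 := by
    intro h
    apply c.xs.hz1
    have : z = a⁻¹ * w * a := by rw [hw]; group
    rw [this, h]; group
  have hwnez : w ≠ z := by
    intro h
    apply haz
    calc a * z = a * z * a⁻¹ * a := by group
      _ = z * a := by rw [← hw, h]
  have hwneu : w ≠ u := by
    intro h
    apply huz
    have h2 : a * z * a⁻¹ = a * u * a⁻¹ := by
      rw [← hw, h, hau]; group
    exact (mul_left_cancel (mul_right_cancel h2)).symm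
  have hwuz : w = u * z := by
    rcases xs_key c.xs c.hcent u hu huu hunc w hwn hwcE with h | h | h | h
    · exact absurd h hwne1
    · exact absurd h hwneu
    · exact absurd h hwnez
    · exact h
  -- `z` is a commutator of two elements of `C_E(u)`
  obtain ⟨a₁, ha₁, b₁, hb₁, ha₁u, hb₁u, hab⟩ := xs_nonab c.xs c.hcard u hu hunc
  have hzab : a₁ * b₁ = z * (b₁ * a₁) := by
    rcases c.xs.hcomm a₁ ha₁ b₁ hb₁ with h | h
    · exact absurd h hab
    · exact h
  have hzcomm : z = a₁ * b₁ * a₁⁻¹ * b₁⁻¹ := by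
    rw [hzab]; group
  have ha₁Q : a₁ ∈ (S : Subgroup G) ⊓ Subgroup.centralizer {u} := by
    rw [hQ]; exact ⟨c.hES ha₁, ha₁u.symm⟩
  have hb₁Q : b₁ ∈ (S : Subgroup G) ⊓ Subgroup.centralizer {u} := by
    rw [hQ]; exact ⟨c.hES hb₁, hb₁u.symm⟩
  have ha₁' := (haQ a₁).mp ha₁Q
  have hb₁' := (haQ b₁).mp hb₁Q
  have hA : a * a₁ * a⁻¹ ∈ Subgroup.centralizer ({z} : Set G) := c.hSH ((hQ _).mp ha₁').1
  have hB : a * b₁ * a⁻¹ ∈ Subgroup.centralizer ({z} : Set G) := c.hSH ((hQ _).mp hb₁').1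
  have hwK : w ∈ K := by
    have := hcommK _ hA _ hB
    have h2 : w = a * a₁ * a⁻¹ * (a * b₁ * a⁻¹) * (a * a₁ * a⁻¹)⁻¹ * (a * b₁ * a⁻¹)⁻¹ := by
      rw [hw]
      conv_lhs => rw [hzcomm]
      group
    rw [h2]; exact this
  apply huK
  have : u = w * z := by
    rw [hwuz, mul_assoc, c.xs.hzz, mul_one]
  rw [this]
  exact K.mul_mem hwK hzK

end Cfsg.Agent.Helper8.XS
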