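import Mathlib
import Cfsg.Agent.Lib.Helper8.XSDefs

/-! S3299 piece XS-CONJ: transport of `XSp` under conjugation. -/

set_option autoImplicit false

namespace Cfsg.Agent.Helper8.XS

theorem conj_mem_map_conj {G : Type*} [Group G] (E : Subgroup G) (g x : G) :
    x ∈ E.map (MulAut.conj g).toMonoidHom ↔ g⁻¹ * x * g ∈ E := by
  constructor
  · rintro ⟨e, he, rfl⟩
    simpa [MulAut.conj_apply, mul_assoc] using he
  · intro h
    refine ⟨g⁻¹ * x * g, h, ?_⟩
    simp [MulAut.conj_apply, mul_assoc]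

theorem xsp_conj {G : Type*} [Group G] {E : Subgroup G} {z : G} (h : XSp E z) (g : G) :
    XSp (E.map (MulAut.conj g).toMonoidHom) (g * z * g⁻¹) := by
  have key : ∀ a b : G, g⁻¹ * a * g = g⁻¹ * b * g → a = b := by
    intro a b hab
    exact mul_left_cancel (mul_right_cancel hab)
  refine ⟨?_, ?_, ?_, ?_, ?_, ?_, ?_⟩
  · rw [conj_mem_map_conj]
    have : g⁻¹ * (g * z * g⁻¹) * g = z := by group
    rw [this]; exact h.hzE
  · intro hc
    apply h.hz1
    have : z = g⁻¹ * (g * z * g⁻¹) * g := by group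
    rw [this, hc]; group
  · calc g * z * g⁻¹ * (g * z * g⁻¹) = g * (z * z) * g⁻¹ := by group
      _ = 1 := by rw [h.hzz]; group
  · intro x hx
    rw [conj_mem_map_conj] at hx
    have := h.hcen _ hx
    apply key
    calc g⁻¹ * (x * (g * z * g⁻¹)) * g = (g⁻¹ * x * g) * z := by group
      _ = z * (g⁻¹ * x * g) := this
      _ = g⁻¹ * (g * z * g⁻¹ * x) * g := by group
  · intro w hw hwc
    rw [conj_mem_map_conj] at hw
    have hc : ∀ x ∈ E, (g⁻¹ * w * g) * x = x * (g⁻¹ * w * g) := by
      intro x hx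
      have hx' : g * x * g⁻¹ ∈ E.map (MulAut.conj g).toMonoidHom := by
        rw [conj_mem_map_conj]
        have : g⁻¹ * (g * x * g⁻¹) * g = x := by group
        rw [this]; exact hx
      have := hwc _ hx'
      calc (g⁻¹ * w * g) * x = g⁻¹ * (w * (g * x * g⁻¹)) * g := by group
        _ = g⁻¹ * ((g * x * g⁻¹) * w) * g := by rw [this]
        _ = x * (g⁻¹ * w * g) := by group
    rcases h.hcenter _ hw hc with h1 | h1
    · left
      have : w = g * (g⁻¹ * w * g) * g⁻¹ := by group
      rw [this, h1]; group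
    · right
      have : w = g * (g⁻¹ * w * g) * g⁻¹ := by group
      rw [this, h1]
  · intro x hx y hy
    rw [conj_mem_map_conj] at hx hy
    rcases h.hcomm _ hx _ hy with h1 | h1
    · left
      apply key
      calc g⁻¹ * (x * y) * g = (g⁻¹ * x * g) * (g⁻¹ * y * g) := by group
        _ = (g⁻¹ * y * g) * (g⁻¹ * x * g) := h1
        _ = g⁻¹ * (y * x) * g := by group
    · right
      apply key
      calc g⁻¹ * (x * y) * g = (g⁻¹ * x * g) * (g⁻¹ * y * g) := by group
        _ = z * ((g⁻¹ * y * g) * (g⁻¹ * x * g)) := h1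
        _ = g⁻¹ * (g * z * g⁻¹ * (y * x)) * g := by group
  · intro x hx
    rw [conj_mem_map_conj] at hx
    rcases h.hsq _ hx with h1 | h1
    · left
      apply key
      calc g⁻¹ * (x * x) * g = (g⁻¹ * x * g) * (g⁻¹ * x * g) := by group
        _ = 1 := h1
        _ = g⁻¹ * 1 * g := by group
    · right
      apply key
      calc g⁻¹ * (x * x) * g = (g⁻¹ * x * g) * (g⁻¹ * x * g) := by group
        _ = z := h1
        _ = g⁻¹ * (g * z * g⁻¹) * g := by group

end Cfsg.Agent.Helper8.XS
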