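import Mathlib
import Cfsg.Agent.Lib.Helper8.XSDefs
import Cfsg.Agent.Lib.Helper8.XSCONJ
import Cfsg.Agent.Lib.Helper4.XSKEY
import Cfsg.Agent.Lib.Helper19.XSBASIC
import Cfsg.Agent.Lib.Helper15.ExtremalConj

/-! S3299 piece XS-FUSE: every involution of `E ∖ K` is conjugate to `z`. -/

set_option autoImplicit false

namespace Cfsg.Agent.Helper8.XS

universe u

theorem fuse_mem_map_conj {G : Type u} [Group G] (E : Subgroup G) (g x : G) :
    x ∈ E.map (MulAut.conj g).toMonoidHom ↔ g⁻¹ * x * g ∈ E := by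
  constructor
  · rintro ⟨e, he, rfl⟩
    simpa [MulAut.conj_apply, mul_assoc] using he
  · intro h
    refine ⟨g⁻¹ * x * g, h, ?_⟩
    simp [MulAut.conj_apply, mul_assoc]

theorem fuse_mem_cent {G : Type u} [Group G] (x y : G) :
    x ∈ Subgroup.centralizer ({y} : Set G) ↔ y * x = x * y := by
  rw [Subgroup.mem_centralizer_iff]
  constructor
  · intro h; exact h y rfl
  · intro h w hw
    rw [Set.mem_singleton_iff] at hw
    subst hw
    exact h

theorem xs_fuse {G : Type u} [Group G] [Finite G] {z : G} {E K : Subgroup G} {S : Sylow 2 G} (c : Ctx z E K S)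
    (u : G) (hu : u ∈ E) (huK : u ∉ K) (huu : u * u = 1) : ∃ g : G, g * u * g⁻¹ = z := by
  obtain ⟨hzK, -, -, ⟨hN, hcyc⟩, hV⟩ := xs_basic c
  have hzz := c.xs.hzz
  have hu1 : u ≠ 1 := fun h => huK (h ▸ K.one_mem)
  have huz : u ≠ z := fun h => huK (h ▸ hzK)
  have hord : orderOf u = 2 := orderOf_eq_prime (by rw [pow_two]; exact huu) hu1
  have huS : u ∈ (S : Subgroup G) := c.hES hu
  have huT : u ∉ (S : Subgroup G) ⊓ K := fun h => huK h.2
  obtain ⟨g, hgT, -, hmap⟩ := Cfsg.Agent.Helper15.exists_extremal_conj' S ((S : Subgroup G) ⊓ K) inf_le_left hN hcyc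
    u hord huS huT (fun A _ f hA => hV A f hA u)
  -- `v = g u g⁻¹`, `t = g z g⁻¹`
  have hzcu : z ∈ (S : Subgroup G) ⊓ Subgroup.centralizer {u} := by
    refine Subgroup.mem_inf.mpr ⟨c.hES c.xs.hzE, ?_⟩
    rw [fuse_mem_cent]
    exact c.xs.hcen u hu
  have htS : g * z * g⁻¹ ∈ (S : Subgroup G) := by
    have h0 : (MulAut.conj g).toMonoidHom z ∈ (S : Subgroup G) ⊓ Subgroup.centralizer {g * u * g⁻¹} :=
      hmap ⟨z, hzcu, rfl⟩
    have h1 := (Subgroup.mem_inf.mp h0).1
    simpa [MulAut.conj_apply] using h1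
  -- `z` commutes with `t`
  have hcomm_of_S : ∀ s ∈ (S : Subgroup G), s * z = z * s := by
    intro s hs
    have := c.hSH hs
    rw [fuse_mem_cent] at this
    exact this.symm
  by_cases htz : g * z * g⁻¹ = z
  · -- then `g ∈ H`, so `u = g⁻¹ v g ∈ K`
    exfalso
    have hgH : g ∈ Subgroup.centralizer ({z} : Set G) := by
      rw [fuse_mem_cent]
      have : g * z = z * g := by
        calc g * z = g * z * g⁻¹ * g := by group
          _ = z * g := by rw [htz]
      exact this.symm
    have hginv : g⁻¹ ∈ Subgroup.centralizer ({z} : Set G) := Subgroup.inv_mem _ hgH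
    have := c.hKn g⁻¹ hginv (g * u * g⁻¹) hgT.2
    apply huK
    simpa [mul_assoc] using this
  · -- main case
    set t := g * z * g⁻¹ with ht
    set v := g * u * g⁻¹ with hv
    set Et := E.map (MulAut.conj g).toMonoidHom with hEt
    have hxs : XSp Et t := xsp_conj c.xs g
    have hcentt : Subgroup.centralizer (Et : Set G) ≤ Et := by
      intro x hx
      rw [hEt, fuse_mem_map_conj]
      apply c.hcent
      rw [Subgroup.mem_centralizer_iff]
      intro e he
      have he' : g * e * g⁻¹ ∈ Et := by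
        rw [hEt, fuse_mem_map_conj]
        simpa [mul_assoc] using he
      rw [Subgroup.mem_centralizer_iff] at hx
      have := hx (g * e * g⁻¹) he'
      calc e * (g⁻¹ * x * g) = g⁻¹ * ((g * e * g⁻¹) * x) * g := by group
        _ = g⁻¹ * (x * (g * e * g⁻¹)) * g := by rw [this]
        _ = g⁻¹ * x * g * e := by group
    have hvEt : v ∈ Et := by
      rw [hEt, fuse_mem_map_conj, hv]
      simpa [mul_assoc] using hu
    have hvv : v * v = 1 := by
      rw [hv]
      calc g * u * g⁻¹ * (g * u * g⁻¹) = g * (u * u) * g⁻¹ := by group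
        _ = 1 := by rw [huu]; group
    -- `u` is noncentral in `E`
    have hunc : ∃ y ∈ E, u * y ≠ y * u := by
      by_contra hcon
      push Not at hcon
      rcases c.xs.hcenter u hu hcon with h | h
      · exact hu1 h
      · exact huz h
    have hvnc : ∃ y ∈ Et, v * y ≠ y * v := by
      obtain ⟨y, hy, hne⟩ := hunc
      refine ⟨g * y * g⁻¹, ?_, ?_⟩
      · rw [hEt, fuse_mem_map_conj]
        simpa [mul_assoc] using hy
      · intro h
        apply hne
        have h2 : g * (u * y) * g⁻¹ = g * (y * u) * g⁻¹ := by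
          calc g * (u * y) * g⁻¹ = v * (g * y * g⁻¹) := by rw [hv]; group
            _ = (g * y * g⁻¹) * v := h
            _ = g * (y * u) * g⁻¹ := by rw [hv]; group
        exact mul_left_cancel (mul_right_cancel h2)
    -- `z` normalizes `Et`
    have hzt : z * t = t * z := (hcomm_of_S t htS).symm
    have hznorm : ∀ e ∈ Et, z * e * z⁻¹ ∈ Et := by
      intro e he
      rw [hEt, fuse_mem_map_conj] at he ⊢
      -- `g⁻¹ z g ∈ H`
      have hH : g⁻¹ * z * g ∈ Subgroup.centralizer ({z} : Set G) := by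
        rw [fuse_mem_cent]
        have h1 : g * (z * (g⁻¹ * z * g)) * g⁻¹ = g * ((g⁻¹ * z * g) * z) * g⁻¹ := by
          calc g * (z * (g⁻¹ * z * g)) * g⁻¹ = (g * z * g⁻¹) * z := by group
            _ = z * (g * z * g⁻¹) := hzt.symm
            _ = g * ((g⁻¹ * z * g) * z) * g⁻¹ := by group
        exact mul_left_cancel (mul_right_cancel h1)
      have := c.hEn _ hH _ he
      have h2 : g⁻¹ * (z * e * z⁻¹) * g = g⁻¹ * z * g * (g⁻¹ * e * g) * (g⁻¹ * z * g)⁻¹ := by group
      rw [h2]
      exact this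
    -- `z` centralizes `C_{Et}(v)`
    have hzc : ∀ f ∈ Et, f * v = v * f → z * f = f * z := by
      intro f hf hfv
      rw [hEt, fuse_mem_map_conj] at hf
      have hf0 : g⁻¹ * f * g ∈ (S : Subgroup G) ⊓ Subgroup.centralizer {u} := by
        refine Subgroup.mem_inf.mpr ⟨c.hES hf, ?_⟩
        rw [fuse_mem_cent]
        have h1 : g * (u * (g⁻¹ * f * g)) * g⁻¹ = g * ((g⁻¹ * f * g) * u) * g⁻¹ := by
          calc g * (u * (g⁻¹ * f * g)) * g⁻¹ = v * f := by rw [hv]; group
            _ = f * v := hfv.symm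
            _ = g * ((g⁻¹ * f * g) * u) * g⁻¹ := by rw [hv]; group
        exact mul_left_cancel (mul_right_cancel h1)
      have hfS : f ∈ (S : Subgroup G) := by
        have h0 : (MulAut.conj g).toMonoidHom (g⁻¹ * f * g) ∈
            (S : Subgroup G) ⊓ Subgroup.centralizer {g * u * g⁻¹} := hmap ⟨g⁻¹ * f * g, hf0, rfl⟩
        have h2 : (MulAut.conj g).toMonoidHom (g⁻¹ * f * g) = f := by
          simp [MulAut.conj_apply, mul_assoc]
        rw [h2] at h0
        exact (Subgroup.mem_inf.mp h0).1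
      exact (hcomm_of_S f hfS).symm
    have hz1 : z ≠ 1 := c.xs.hz1
    rcases xs_key hxs hcentt v hvEt hvv hvnc z hznorm hzc with h | h | h | h
    · exact absurd h hz1
    · exact ⟨g, h.symm⟩
    · exact absurd h.symm htz
    · -- `z = v * t`; conjugate `v` by `y⁻¹`
      obtain ⟨y, hy, hne⟩ := hvnc
      have hvy : v * y = t * (y * v) := by
        rcases hxs.hcomm v hvEt y hy with h1 | h1
        · exact absurd h1 hne
        · exact h1
      have htv : t * v = v * t := (hxs.hcen v hvEt).symm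
      have hty : t * y = y * t := (hxs.hcen y hy).symm
      refine ⟨y⁻¹ * g, ?_⟩
      have h3 : y⁻¹ * g * u * (y⁻¹ * g)⁻¹ = y⁻¹ * v * y := by rw [hv]; group
      rw [h3, h]
      calc y⁻¹ * v * y = y⁻¹ * (v * y) := by group
        _ = y⁻¹ * (t * (y * v)) := by rw [hvy]
        _ = y⁻¹ * (t * y) * v := by group
        _ = y⁻¹ * (y * t) * v := by rw [hty]
        _ = t * v := by group
        _ = v * t := htv

end Cfsg.Agent.Helper8.XS
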