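import Mathlib
import Cfsg.Agent.Lib.Helper8.XSDefs
import Cfsg.Agent.Lib.Helper19.XSBASIC

/-! S3299 piece XS-NORM: a 2-element `a ∈ C_G(u) ∖ C_G(z)` normalizing `Q = C_S(u)`. -/

set_option autoImplicit false

namespace Cfsg.Agent.Helper8.XS

theorem norm_mem_cent {G : Type*} [Group G] (x y : G) :
    x ∈ Subgroup.centralizer ({y} : Set G) ↔ y * x = x * y := by
  rw [Subgroup.mem_centralizer_iff]
  constructor
  · intro h; exact h y rfl
  · intro h w hw
    rw [Set.mem_singleton_iff] at hw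
    subst hw
    exact h

theorem xs_norm {G : Type*} [Group G] [Finite G] {z : G} {E K : Subgroup G} {S : Sylow 2 G} (c : Ctx z E K S)
    (u : G) (hu : u ∈ E) (huK : u ∉ K) (huu : u * u = 1)
    (hsyl : ∀ R : Subgroup G, IsPGroup 2 R → (S : Subgroup G) ⊓ Subgroup.centralizer {u} ≤ R →
        R ≤ Subgroup.centralizer {z} ⊓ Subgroup.centralizer {u} → R ≤ S)
    (hconj : ∃ g : G, g * u * g⁻¹ = z) :
    ∃ a : G, a * u = u * a ∧ a * z ≠ z * a ∧
      ∀ q : G, q ∈ (S : Subgroup G) ⊓ Subgroup.centralizer {u} ↔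
        a * q * a⁻¹ ∈ (S : Subgroup G) ⊓ Subgroup.centralizer {u} := by
  classical
  have : Fact (Nat.Prime 2) := ⟨Nat.prime_two⟩
  obtain ⟨g, hg⟩ := hconj
  set Cu : Subgroup G := Subgroup.centralizer {u} with hCu
  set Q : Subgroup G := (S : Subgroup G) ⊓ Cu with hQ
  have hcomm_of_S : ∀ s ∈ (S : Subgroup G), s * z = z * s := by
    intro s hs
    have := c.hSH hs
    rw [norm_mem_cent] at this
    exact this.symm
  -- `u ∉ Z(S)`, so `Q ≠ S`
  have hzK : z ∈ K := (xs_basic c).1
  have hu1 : u ≠ 1 := fun h => huK (h ▸ K.one_mem)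
  have huz : u ≠ z := fun h => huK (h ▸ hzK)
  have hQS : Q ≤ (S : Subgroup G) := inf_le_left
  have hQne : Q ≠ (S : Subgroup G) := by
    intro h
    have hSC : (S : Subgroup G) ≤ Cu := by rw [← h]; exact inf_le_right
    have : ∀ s ∈ (S : Subgroup G), u * s = s * u := by
      intro s hs
      have := hSC hs
      rw [hCu, norm_mem_cent] at this
      exact this
    rcases c.hZS u (c.hES hu) this with h1 | h1
    · exact hu1 h1
    · exact huz h1
  have hQlt : Nat.card Q < Nat.card (S : Subgroup G) := by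
    have h1 : Nat.card Q ≤ Nat.card (S : Subgroup G) := Nat.le_of_dvd Nat.card_pos (Subgroup.card_dvd_of_le hQS)
    have h2 : Nat.card Q ≠ Nat.card (S : Subgroup G) := by
      intro h
      exact hQne (Subgroup.eq_of_le_of_card_ge hQS h.ge)
    omega
  -- a conjugate of `S` inside `Cu`
  set P' : Subgroup G := (S : Subgroup G).map (MulAut.conj g⁻¹).toMonoidHom with hP'
  have hP'Cu : P' ≤ Cu := by
    rintro _ ⟨s, hs, rfl⟩
    rw [hCu, norm_mem_cent]
    have h1 := hcomm_of_S s hs
    simp only [MulEquiv.coe_toMonoidHom, MulAut.conj_apply, inv_inv]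
    have : z = g * u * g⁻¹ := hg.symm
    rw [this] at h1
    have h2 : g⁻¹ * (s * (g * u * g⁻¹)) * g = g⁻¹ * (g * u * g⁻¹ * s) * g := by rw [h1]
    calc u * (g⁻¹ * s * g) = g⁻¹ * (g * u * g⁻¹ * s) * g := by group
      _ = g⁻¹ * (s * (g * u * g⁻¹)) * g := h2.symm
      _ = g⁻¹ * s * g * u := by group
  have hP'card : Nat.card P' = Nat.card (S : Subgroup G) := by
    rw [hP']
    exact Nat.card_congr ((S : Subgroup G).equivMapOfInjective _ (MulAut.conj g⁻¹).injective).symm.toEquiv
  -- Sylow subgroup of `Cu` over `Q`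
  have hQp : IsPGroup 2 (Q.subgroupOf Cu) := (S.isPGroup'.to_le hQS).comap_subtype
  obtain ⟨R₀, hR₀⟩ := hQp.exists_le_sylow
  set R : Subgroup G := (R₀ : Subgroup Cu).map Cu.subtype with hR
  have hRCu : R ≤ Cu := by rw [hR]; exact Subgroup.map_subtype_le _
  have hRp : IsPGroup 2 R := by rw [hR]; exact R₀.isPGroup'.map _
  have hQR : Q ≤ R := by
    intro q hq
    have hqCu : q ∈ Cu := hq.2
    exact ⟨⟨q, hqCu⟩, hR₀ (by rw [Subgroup.mem_subgroupOf]; exact hq), rfl⟩
  have hRcard : Nat.card R = Nat.card R₀ := by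
    rw [hR]
    exact Nat.card_congr ((R₀ : Subgroup Cu).equivMapOfInjective _ Cu.subtype_injective).symm.toEquiv
  have hScard : Nat.card (S : Subgroup G) ≤ Nat.card R := by
    obtain ⟨k, hk⟩ := IsPGroup.iff_card.mp S.isPGroup'
    have hdvd : 2 ^ k ∣ Nat.card Cu := by
      rw [← hk, ← hP'card]
      have : Nat.card (P'.subgroupOf Cu) = Nat.card P' :=
        Nat.card_congr (Subgroup.subgroupOfEquivOfLe hP'Cu).toEquiv
      rw [← this]
      exact Subgroup.card_subgroup_dvd_card _
    have := R₀.pow_dvd_card_of_pow_dvd_card hdvd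
    rw [hRcard, hk]
    exact Nat.le_of_dvd Nat.card_pos this
  have hQRne : Q ≠ R := by
    intro h
    rw [h] at hQlt
    omega
  -- normalizer condition inside the 2-group `R`
  have : Group.IsNilpotent R := hRp.isNilpotent
  have hNC := Group.normalizerCondition_of_isNilpotent (G := R)
  have hQ'lt : Q.subgroupOf R < ⊤ := by
    rw [lt_top_iff_ne_top]
    intro h
    apply hQRne
    apply le_antisymm hQR
    intro r hr
    have : (⟨r, hr⟩ : R) ∈ Q.subgroupOf R := by rw [h]; trivial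
    rw [Subgroup.mem_subgroupOf] at this
    exact this
  have hlt := hNC _ hQ'lt
  obtain ⟨a', ha'N, ha'Q⟩ := SetLike.exists_of_lt hlt
  refine ⟨(a' : G), ?_, ?_, ?_⟩
  · have := hRCu a'.2
    rw [hCu, norm_mem_cent] at this
    exact this.symm
  · intro haz
    -- then `Q ⊔ ⟨a⟩` is a 2-subgroup of `C_H(u)` containing `Q`
    set R' : Subgroup G := Q ⊔ Subgroup.zpowers (a' : G) with hR'
    have hR'R : R' ≤ R := sup_le hQR (by rw [Subgroup.zpowers_le]; exact a'.2)
    have hR'p : IsPGroup 2 R' := hRp.to_le hR'R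
    have hR'C : R' ≤ Subgroup.centralizer {z} ⊓ Subgroup.centralizer {u} := by
      refine sup_le ?_ ?_
      · intro q hq
        exact Subgroup.mem_inf.mpr ⟨c.hSH (Subgroup.mem_inf.mp hq).1, (Subgroup.mem_inf.mp hq).2⟩
      · rw [Subgroup.zpowers_le]
        refine Subgroup.mem_inf.mpr ⟨?_, hRCu a'.2⟩
        rw [norm_mem_cent]
        exact haz.symm
    have := hsyl R' hR'p le_sup_left hR'C
    have haS : (a' : G) ∈ (S : Subgroup G) := this (le_sup_right (a := Q) (Subgroup.mem_zpowers _))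
    apply ha'Q
    rw [Subgroup.mem_subgroupOf]
    exact ⟨haS, hRCu a'.2⟩
  · intro q
    rw [Subgroup.mem_normalizer_iff] at ha'N
    constructor
    · intro hq
      have := (ha'N ⟨q, hQR hq⟩).mp (by rw [Subgroup.mem_subgroupOf]; exact hq)
      rw [Subgroup.mem_subgroupOf] at this
      simpa using this
    · intro hq
      have hqR : q ∈ R := by
        have h1 : (a' : G)⁻¹ * ((a' : G) * q * (a' : G)⁻¹) * (a' : G) ∈ R :=
          R.mul_mem (R.mul_mem (R.inv_mem a'.2) (hQR hq)) a'.2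
        have h2 : (a' : G)⁻¹ * ((a' : G) * q * (a' : G)⁻¹) * (a' : G) = q := by group
        rwa [h2] at h1
      have := (ha'N ⟨q, hqR⟩).mpr (by rw [Subgroup.mem_subgroupOf]; simpa using hq)
      rw [Subgroup.mem_subgroupOf] at this
      exact this

end Cfsg.Agent.Helper8.XS
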