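import Mathlib
import Cfsg.Agent.Lib.Helper8.XSDefs
import Cfsg.Agent.Lib.Helper19.XSOF
import Cfsg.Agent.Lib.Helper9.PCoreSub

/-! S3299 piece XS-SETUP: the working context from the hypotheses of S3299. -/

set_option autoImplicit false

namespace Cfsg.Agent.Helper8.XS

theorem setup_mem_cent {G : Type*} [Group G] (x y : G) :
    x ∈ Subgroup.centralizer ({y} : Set G) ↔ y * x = x * y := by
  rw [Subgroup.mem_centralizer_iff]
  constructor
  · intro h; exact h y rfl
  · intro h w hw
    rw [Set.mem_singleton_iff] at hw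
    subst hw
    exact h

theorem xs_setup {G : Type*} [Group G] [Finite G] (hres : Cfsg.pResidual 2 G = ⊤) (z : G) (hz : orderOf z = 2)
    (E : Subgroup G) (hE : E = (Cfsg.pCore 2 ↥(Subgroup.centralizer ({z} : Set G))).map (Subgroup.centralizer ({z} : Set G)).subtype)
    (hext : Cfsg.IsExtraspecial 2 ↥E) (hcent : Subgroup.centralizer (E : Set G) ≤ E) (n : ℕ) (hn : 2 ≤ n) (hcard : Nat.card ↥E = 2 ^ (2 * n + 1))
    (K : Subgroup G) (hKH : K ≤ Subgroup.centralizer ({z} : Set G))
    (hKn : ∀ h ∈ Subgroup.centralizer ({z} : Set G), K.map (MulAut.conj h).toMonoidHom = K)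
    (hKi : K.relIndex (Subgroup.centralizer ({z} : Set G)) = 2) (hEK : ¬ E ≤ K) :
    ∃ S : Sylow 2 G, Ctx z E K S := by
  classical
  have : Fact (Nat.Prime 2) := ⟨Nat.prime_two⟩
  set H : Subgroup G := Subgroup.centralizer ({z} : Set G) with hH
  have hzH : z ∈ H := (setup_mem_cent z z).mpr rfl
  -- `E ≤ H`, `E` normal in `H`, `E` a 2-group
  have hEH : E ≤ H := by rw [hE]; exact Subgroup.map_subtype_le _
  have hchar : (Cfsg.pCore 2 ↥H).Characteristic := Cfsg.Agent.Helper9.pCore_characteristic 2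
  have hnorm : (Cfsg.pCore 2 ↥H).Normal := inferInstance
  have hEn : ∀ h ∈ H, ∀ e ∈ E, h * e * h⁻¹ ∈ E := by
    intro h hh e he
    rw [hE] at he ⊢
    obtain ⟨e', he', rfl⟩ := he
    refine ⟨⟨h, hh⟩ * e' * ⟨h, hh⟩⁻¹, hnorm.conj_mem e' he' ⟨h, hh⟩, ?_⟩
    simp
  have hEp : IsPGroup 2 E := by
    rw [hE]; exact (Cfsg.Agent.Helper9.pCore_isPGroup' 2 ↥H).map _
  -- `z ∈ E`
  have hzE : z ∈ E := by
    rw [hE]
    set z' : ↥H := ⟨z, hzH⟩ with hz'
    have hzc : ∀ h : ↥H, h * z' = z' * h := by
      intro h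
      apply Subtype.ext
      have h1 : z * (h : G) = (h : G) * z := (setup_mem_cent (h : G) z).mp h.2
      simpa using h1.symm
    have hN : (Subgroup.zpowers z').Normal := by
      constructor
      intro x hx h
      rw [Subgroup.mem_zpowers_iff] at hx ⊢
      obtain ⟨k, rfl⟩ := hx
      refine ⟨k, ?_⟩
      have hcomm : Commute h z' := hzc h
      have : h * z' ^ k * h⁻¹ = z' ^ k := by
        rw [(hcomm.zpow_right k).eq]; group
      exact this.symm
    have hP : IsPGroup 2 (Subgroup.zpowers z') := by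
      have hord : orderOf z' = 2 := by
        rw [← hz]
        exact (Subgroup.orderOf_coe z').symm
      rw [IsPGroup.iff_card]
      exact ⟨1, by rw [Nat.card_zpowers, hord, pow_one]⟩
    have := Cfsg.Agent.Helper9.le_pCore' hN hP (Subgroup.mem_zpowers z')
    exact ⟨z', this, rfl⟩
  have hcenE : ∀ x ∈ E, x * z = z * x := by
    intro x hx
    exact ((setup_mem_cent x z).mp (hEH hx)).symm
  have hxs : XSp E z := xsp_of E hext z hzE hz hcenE
  -- Sylow subgroup over `E`
  obtain ⟨S, hES⟩ := hEp.exists_le_sylow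
  -- centre of `S`
  have hZS : ∀ w ∈ (S : Subgroup G), (∀ s ∈ (S : Subgroup G), w * s = s * w) → w = 1 ∨ w = z := by
    intro w hw hwc
    have hwE : w ∈ E := by
      apply hcent
      rw [Subgroup.mem_centralizer_iff]
      intro e he
      exact (hwc e (hES he)).symm
    exact hxs.hcenter w hwE (fun x hx => hwc x (hES hx))
  have hSH : (S : Subgroup G) ≤ H := by
    -- the centre of `S` is nontrivial, so contains `z`
    have hSne : Nontrivial (S : Subgroup G) := by
      refine ⟨⟨⟨z, hES hzE⟩, 1, ?_⟩⟩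
      intro h
      exact hxs.hz1 (congrArg Subtype.val h)
    have hcn := IsPGroup.center_nontrivial S.isPGroup'
    obtain ⟨w, hw⟩ := exists_ne (1 : Subgroup.center (S : Subgroup G))
    have hw1 : ((w : (S : Subgroup G)) : G) ≠ 1 := by
      intro h
      apply hw
      apply Subtype.ext
      apply Subtype.ext
      simpa using h
    have hwc : ∀ s ∈ (S : Subgroup G), ((w : (S : Subgroup G)) : G) * s = s * ((w : (S : Subgroup G)) : G) := by
      intro s hs
      have := Subgroup.mem_center_iff.mp w.2 ⟨s, hs⟩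
      have := congrArg Subtype.val this
      simpa using this.symm
    rcases hZS _ (w : (S : Subgroup G)).2 hwc with h | h
    · exact absurd h hw1
    · intro s hs
      apply (setup_mem_cent s z).mpr
      rw [← h]
      exact hwc s hs
  have h32 : 32 ≤ Nat.card E := by
    rw [hcard]
    calc 32 = 2 ^ 5 := by norm_num
      _ ≤ 2 ^ (2 * n + 1) := Nat.pow_le_pow_right (by norm_num) (by omega)
  have hKn' : ∀ h ∈ H, ∀ k ∈ K, h * k * h⁻¹ ∈ K := by
    intro h hh k hk
    have := hKn h hh
    rw [← this]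
    exact ⟨k, hk, by simp [MulAut.conj_apply]⟩
  exact ⟨S, ⟨hz, hres, hxs, hEn, hcent, h32, hES, hSH, hZS, hKH, hKn', hKi, hEK⟩⟩

end Cfsg.Agent.Helper8.XS
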