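import Mathlib
import Cfsg.Agent.Lib.Helper8.XSDefs
import Cfsg.Agent.Lib.Helper8.XSSETUP
import Cfsg.Agent.Lib.Helper8.XSCHOOSE
import Cfsg.Agent.Lib.Helper8.XSFUSE
import Cfsg.Agent.Lib.Helper8.XSNORM
import Cfsg.Agent.Lib.Helper8.XSFINAL

/-! S3299 assembly: `E = O_2(C(z))` large extraspecial lies in every normal subgroup of index 2 of `C(z)`. -/

set_option autoImplicit false

namespace Cfsg.Agent.Helper8.XS

/-- S3299: `E = O_2(C(z))` large extraspecial lies in every normal subgroup of index 2 of `C(z)`. -/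
theorem main {G : Type*} [Group G] [Finite G] (hres : Cfsg.pResidual 2 G = ⊤) (z : G) (hz : orderOf z = 2)
    (E : Subgroup G) (hE : E = (Cfsg.pCore 2 ↥(Subgroup.centralizer ({z} : Set G))).map (Subgroup.centralizer ({z} : Set G)).subtype)
    (hext : Cfsg.IsExtraspecial 2 ↥E) (hcent : Subgroup.centralizer (E : Set G) ≤ E) (n : ℕ) (hn : 2 ≤ n) (hcard : Nat.card ↥E = 2 ^ (2 * n + 1))
    (K : Subgroup G) (hKH : K ≤ Subgroup.centralizer ({z} : Set G))
    (hKn : ∀ h ∈ Subgroup.centralizer ({z} : Set G), K.map (MulAut.conj h).toMonoidHom = K)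
    (hKi : K.relIndex (Subgroup.centralizer ({z} : Set G)) = 2) : E ≤ K := by
  by_contra hEK
  obtain ⟨S, c⟩ := xs_setup hres z hz E hE hext hcent n hn hcard K hKH hKn hKi hEK
  obtain ⟨u, hu, huK, huu, hsyl⟩ := xs_choose c
  have hconj := xs_fuse c u hu huK huu
  obtain ⟨a, hau, haz, haQ⟩ := xs_norm c u hu huK huu hsyl hconj
  exact xs_final c u hu huK huu a hau haz haQ

end Cfsg.Agent.Helper8.XS
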